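import Mathlib.RingTheory.Flat.EquationalCriterion
import Mathlib.RingTheory.Flat.Tensor
import Mathlib.RingTheory.Filtration
import Mathlib.RingTheory.LocalRing.Module
import Mathlib.RingTheory.Ideal.Maps
import Mathlib.RingTheory.LocalRing.RingHom.Basic

/-!
# EGA 0_III 10.2.4 style lemma

`R → S` local homomorphism of local rings, `S` Noetherian, `N` a finite `S`-module, `M` a flat
`R`-module, `u : N →ₗ[R] M` with `u⁻¹(𝔪M) ⊆ 𝔪N`.  Then `u⁻¹(IM) ⊆ IN` for every ideal `I` of `R`;
in particular `u` is injective and its cokernel is flat.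
-/

set_option autoImplicit false

namespace Groth.Agent.H2

open TensorProduct

section core

variable {R : Type*} [CommRing R] [IsLocalRing R]
variable {M N : Type*} [AddCommGroup M] [Module R M] [AddCommGroup N] [Module R N]

omit [IsLocalRing R] in
lemma map_mem_smul_top (u : N →ₗ[R] M) (B : Ideal R) {x : N}
    (hx : x ∈ B • (⊤ : Submodule R N)) : u x ∈ B • (⊤ : Submodule R M) := by
  have := Submodule.mem_map_of_mem (f := u) hx
  rw [Submodule.map_smul''] at this
  exact Submodule.smul_mono le_rfl le_top this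

lemma star [Module.Flat R M] (u : N →ₗ[R] M)
    (hu : ∀ y, u y ∈ IsLocalRing.maximalIdeal R • (⊤ : Submodule R M) →
      y ∈ IsLocalRing.maximalIdeal R • (⊤ : Submodule R N))
    (I : Ideal R) (n : ℕ) {ι : Type*} [DecidableEq ι] (a : ι → R)
    (ha : ∀ i, a i ∈ IsLocalRing.maximalIdeal R ^ n) :
    ∀ (k : ℕ) (s : Finset ι), s.card = k → ∀ y : ι → N,
      u (∑ i ∈ s, a i • y i) ∈ (I ⊔ IsLocalRing.maximalIdeal R ^ (n+1)) • (⊤ : Submodule R M) →
      ∑ i ∈ s, a i • y i ∈ (I ⊔ IsLocalRing.maximalIdeal R ^ (n+1)) • (⊤ : Submodule R N) := by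
  intro k
  induction k using Nat.strong_induction_on with
  | _ k ih =>
  intro s hs y hy
  by_cases hA : ∃ j ∈ s, ∃ c : ι → R,
      a j - ∑ i ∈ s.erase j, c i * a i ∈ I ⊔ IsLocalRing.maximalIdeal R ^ (n+1)
  · obtain ⟨j, hj, c, hc⟩ := hA
    have hdecomp : ∑ i ∈ s, a i • y i = ∑ i ∈ s.erase j, a i • (y i + c i • y j) +
        (a j - ∑ i ∈ s.erase j, c i * a i) • y j := by
      rw [← Finset.add_sum_erase s _ hj]
      simp only [smul_add, Finset.sum_add_distrib, sub_smul, Finset.sum_smul, smul_smul]
      have : ∑ x ∈ s.erase j, (a x * c x) • y j = ∑ x ∈ s.erase j, (c x * a x) • y j :=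
        Finset.sum_congr rfl fun x _ => by rw [mul_comm]
      rw [this]; abel
    have hlast : (a j - ∑ i ∈ s.erase j, c i * a i) • y j ∈
        (I ⊔ IsLocalRing.maximalIdeal R ^ (n+1)) • (⊤ : Submodule R N) :=
      Submodule.smul_mem_smul hc Submodule.mem_top
    have hpos : 0 < s.card := Finset.card_pos.mpr ⟨j, hj⟩
    have hcard : (s.erase j).card < k := by
      rw [Finset.card_erase_of_mem hj, ← hs]; omega
    have hu' : u (∑ i ∈ s.erase j, a i • (y i + c i • y j)) ∈
        (I ⊔ IsLocalRing.maximalIdeal R ^ (n+1)) • (⊤ : Submodule R M) := by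
      have : ∑ i ∈ s.erase j, a i • (y i + c i • y j) =
          ∑ i ∈ s, a i • y i - (a j - ∑ i ∈ s.erase j, c i * a i) • y j := by
        rw [hdecomp]; abel
      rw [this, map_sub]
      exact Submodule.sub_mem _ hy (map_mem_smul_top u _ hlast)
    have := ih _ hcard (s.erase j) rfl (fun i => y i + c i • y j) hu'
    rw [hdecomp]
    exact Submodule.add_mem _ this hlast
  · push Not at hA
    have hli : ∀ c : ι → R, ∑ i ∈ s, c i * a i ∈ I ⊔ IsLocalRing.maximalIdeal R ^ (n+1) →
        ∀ j ∈ s, c j ∈ IsLocalRing.maximalIdeal R := by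
      intro c hc j hj
      by_contra hcj
      have hunit : IsUnit (c j) := by
        by_contra h; exact hcj ((IsLocalRing.mem_maximalIdeal _).mpr h)
      obtain ⟨d, hd⟩ := hunit.exists_left_inv
      apply hA j hj (fun i => -(d * c i))
      have : a j - ∑ i ∈ s.erase j, -(d * c i) * a i = d * ∑ i ∈ s, c i * a i := by
        rw [← Finset.add_sum_erase s _ hj, mul_add, Finset.mul_sum, ← mul_assoc, hd, one_mul]
        simp only [neg_mul, Finset.sum_neg_distrib, sub_neg_eq_add, mul_assoc]
      rw [this]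
      exact Ideal.mul_mem_left _ d hc
    have htop : (⊤ : Submodule R M) = Submodule.span R (Set.range (id : M → M)) := by
      rw [Set.range_id, Submodule.span_univ]
    have hy' := hy
    rw [htop] at hy'
    obtain ⟨β, hβ, hβsum⟩ := (Submodule.mem_ideal_smul_span_iff_exists_sum _ id _).mp hy'
    have hrel : ∑ i' : s ⊕ β.support,
        (Sum.elim (fun i : s => a i) (fun w : β.support => -β w) i') •
          (Sum.elim (fun i : s => u (y i)) (fun w : β.support => (w : M)) i') = 0 := by
      rw [Fintype.sum_sum_type]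
      simp only [Sum.elim_inl, Sum.elim_inr]
      rw [Finset.sum_coe_sort s (fun i => a i • u (y i)),
        Finset.sum_coe_sort β.support (fun w => -β w • w)]
      simp only [neg_smul, Finset.sum_neg_distrib]
      have h1 : ∑ i ∈ s, a i • u (y i) = u (∑ i ∈ s, a i • y i) := by simp [map_sum]
      have h2 : ∑ w ∈ β.support, β w • w = u (∑ i ∈ s, a i • y i) := by
        rw [← hβsum]; rfl
      rw [h1, h2, add_neg_cancel]
    obtain ⟨κ, α, z, hz, hα⟩ := Module.Flat.isTrivialRelation_of_sum_smul_eq_zero hrel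
    have hαm : ∀ (j : Fin κ) (i : s), α (Sum.inl i) j ∈ IsLocalRing.maximalIdeal R := by
      intro j i
      have hsum : ∑ i ∈ s, (fun i => if h : i ∈ s then α (Sum.inl ⟨i, h⟩) j else 0) i * a i ∈
          I ⊔ IsLocalRing.maximalIdeal R ^ (n+1) := by
        rw [← Finset.sum_coe_sort s]
        have hj := hα j
        rw [Fintype.sum_sum_type] at hj
        simp only [Sum.elim_inl, Sum.elim_inr] at hj
        have e1 : ∑ x : s, (if h : (x : ι) ∈ s then α (Sum.inl ⟨x, h⟩) j else 0) * a x =
            ∑ x : s, a x * α (Sum.inl x) j :=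
          Finset.sum_congr rfl fun x _ => by rw [dif_pos x.2, mul_comm]
        have e2 : ∑ x : s, a x * α (Sum.inl x) j = ∑ w : β.support, β w * α (Sum.inr w) j := by
          rw [eq_neg_of_add_eq_zero_left hj]
          simp [Finset.sum_neg_distrib, neg_mul]
        rw [e1, e2]
        exact Submodule.sum_mem _ fun w _ => Ideal.mul_mem_right _ _ (hβ w)
      have := hli _ hsum i i.2
      simpa [dif_pos i.2] using this
    refine Submodule.sum_mem _ fun i hi => ?_
    have huy : u (y i) ∈ IsLocalRing.maximalIdeal R • (⊤ : Submodule R M) := by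
      have := hz (Sum.inl ⟨i, hi⟩)
      simp only [Sum.elim_inl] at this
      rw [this]
      exact Submodule.sum_mem _ fun j _ =>
        Submodule.smul_mem_smul (hαm j ⟨i, hi⟩) Submodule.mem_top
    have hyi := hu _ huy
    have : a i • y i ∈ (IsLocalRing.maximalIdeal R ^ n * IsLocalRing.maximalIdeal R) •
        (⊤ : Submodule R N) := by
      rw [Submodule.mul_smul]; exact Submodule.smul_mem_smul (ha i) hyi
    rw [← pow_succ] at this
    exact Submodule.smul_mono_left le_sup_right this

lemma stepP [Module.Flat R M] (u : N →ₗ[R] M)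
    (hu : ∀ y, u y ∈ IsLocalRing.maximalIdeal R • (⊤ : Submodule R M) →
      y ∈ IsLocalRing.maximalIdeal R • (⊤ : Submodule R N))
    (I : Ideal R) : ∀ n : ℕ, ∀ x : N,
      u x ∈ (I ⊔ IsLocalRing.maximalIdeal R ^ n) • (⊤ : Submodule R M) →
      x ∈ (I ⊔ IsLocalRing.maximalIdeal R ^ n) • (⊤ : Submodule R N) := by
  classical
  intro n
  induction n with
  | zero => intro x _; simp [Ideal.one_eq_top]
  | succ n ih =>
    intro x hx
    have hx' : u x ∈ (I ⊔ IsLocalRing.maximalIdeal R ^ n) • (⊤ : Submodule R M) :=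
      Submodule.smul_mono_left (sup_le_sup_left (Ideal.pow_le_pow_right n.le_succ) I) hx
    have h1 := ih x hx'
    rw [Submodule.sup_smul] at h1
    obtain ⟨y, hy, z, hz, rfl⟩ := Submodule.mem_sup.mp h1
    have htop : (⊤ : Submodule R N) = Submodule.span R (Set.range (id : N → N)) := by
      rw [Set.range_id, Submodule.span_univ]
    rw [htop] at hz
    obtain ⟨γ, hγ, hγsum⟩ := (Submodule.mem_ideal_smul_span_iff_exists_sum _ id _).mp hz
    have hz' : z = ∑ i ∈ γ.support, γ i • (id i : N) := hγsum.symm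
    have hyB : y ∈ (I ⊔ IsLocalRing.maximalIdeal R ^ (n+1)) • (⊤ : Submodule R N) :=
      Submodule.smul_mono_left le_sup_left hy
    have huz : u (∑ i ∈ γ.support, γ i • (id i : N)) ∈
        (I ⊔ IsLocalRing.maximalIdeal R ^ (n+1)) • (⊤ : Submodule R M) := by
      rw [← hz']
      have : u z = u (y + z) - u y := by rw [map_add]; abel
      rw [this]
      exact Submodule.sub_mem _ hx (map_mem_smul_top u _ hyB)
    have := star u hu I n (fun i => γ i) hγ _ γ.support rfl id huz
    rw [hz']
    exact Submodule.add_mem _ hyB this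

end core

section krull

variable {R N : Type*} [CommRing R] [IsLocalRing R] [AddCommGroup N] [Module R N]

lemma krull (S : Type*) [CommRing S] [IsLocalRing S] [IsNoetherianRing S] [Algebra R S]
    [IsLocalHom (algebraMap R S)] [Module S N] [IsScalarTower R S N] [Module.Finite S N]
    (I : Ideal R) (x : N)
    (hx : ∀ n : ℕ, x ∈ (I ⊔ IsLocalRing.maximalIdeal R ^ n) • (⊤ : Submodule R N)) :
    x ∈ I • (⊤ : Submodule R N) := by
  have hmS : (IsLocalRing.maximalIdeal R).map (algebraMap R S) ≤ IsLocalRing.maximalIdeal S :=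
    ((IsLocalRing.local_hom_TFAE (algebraMap R S)).out 0 2).mp ‹IsLocalHom (algebraMap R S)›
  have key : ∀ n : ℕ, (I.map (algebraMap R S) • (⊤ : Submodule S N)).mkQ x ∈
      IsLocalRing.maximalIdeal S ^ n •
        (⊤ : Submodule S (N ⧸ (I.map (algebraMap R S) • (⊤ : Submodule S N)))) := by
    intro n
    have h1 : x ∈ ((I ⊔ IsLocalRing.maximalIdeal R ^ n).map (algebraMap R S)) •
        (⊤ : Submodule S N) := by
      have := Ideal.smul_restrictScalars (I ⊔ IsLocalRing.maximalIdeal R ^ n)
        (⊤ : Submodule S N)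
      rw [Submodule.restrictScalars_top] at this
      have h2 := hx n
      rw [← this] at h2
      exact h2
    rw [Ideal.map_sup, Ideal.map_pow, Submodule.sup_smul] at h1
    obtain ⟨y, hy, z, hz, rfl⟩ := Submodule.mem_sup.mp h1
    have hy0 : (I.map (algebraMap R S) • (⊤ : Submodule S N)).mkQ y = 0 := by
      simpa using hy
    rw [map_add, hy0, zero_add]
    have hz' : z ∈ IsLocalRing.maximalIdeal S ^ n • (⊤ : Submodule S N) :=
      Submodule.smul_mono_left (Ideal.pow_right_mono hmS n) hz
    have := Submodule.mem_map_of_mem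
      (f := (I.map (algebraMap R S) • (⊤ : Submodule S N)).mkQ) hz'
    rw [Submodule.map_smul'', Submodule.map_top, Submodule.range_mkQ] at this
    exact this
  have hbot := Ideal.iInf_pow_smul_eq_bot_of_isLocalRing
    (M := N ⧸ (I.map (algebraMap R S) • (⊤ : Submodule S N))) (IsLocalRing.maximalIdeal S)
    (IsLocalRing.maximalIdeal.isMaximal S).ne_top
  have hmem : (I.map (algebraMap R S) • (⊤ : Submodule S N)).mkQ x ∈
      (⨅ i : ℕ, IsLocalRing.maximalIdeal S ^ i • ⊤ :
        Submodule S (N ⧸ (I.map (algebraMap R S) • (⊤ : Submodule S N)))) :=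
    (Submodule.mem_iInf _).mpr key
  rw [hbot, Submodule.mem_bot] at hmem
  have hxN₀ : x ∈ I.map (algebraMap R S) • (⊤ : Submodule S N) := by simpa using hmem
  have h3 := Ideal.smul_restrictScalars I (⊤ : Submodule S N)
  rw [Submodule.restrictScalars_top] at h3
  rw [← h3]
  exact hxN₀

variable {M : Type*} [AddCommGroup M] [Module R M] [Module.Flat R M]

/-- Key lemma: `u⁻¹(IM) ⊆ IN` for every ideal `I`. -/
lemma lemmaA (S : Type*) [CommRing S] [IsLocalRing S] [IsNoetherianRing S] [Algebra R S]
    [IsLocalHom (algebraMap R S)] [Module S N] [IsScalarTower R S N] [Module.Finite S N]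
    (u : N →ₗ[R] M)
    (hu : ∀ y, u y ∈ IsLocalRing.maximalIdeal R • (⊤ : Submodule R M) →
      y ∈ IsLocalRing.maximalIdeal R • (⊤ : Submodule R N))
    (I : Ideal R) (x : N) (hx : u x ∈ I • (⊤ : Submodule R M)) :
    x ∈ I • (⊤ : Submodule R N) :=
  krull S I x fun n => stepP u hu I n x (Submodule.smul_mono_left le_sup_left hx)

omit [IsLocalRing R] [Module.Flat R M] in
lemma rTensor_quot_injective (u : N →ₗ[R] M) (I : Ideal R)
    (hA : ∀ x, u x ∈ I • (⊤ : Submodule R M) → x ∈ I • (⊤ : Submodule R N)) :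
    Function.Injective (u.rTensor (R ⧸ I)) := by
  rw [injective_iff_map_eq_zero]
  intro t ht
  obtain ⟨y, hy⟩ := TensorProduct.mk_surjective R N (R ⧸ I) Ideal.Quotient.mk_surjective
    (TensorProduct.comm R N (R ⧸ I) t)
  have ht' : t = y ⊗ₜ[R] (1 : R ⧸ I) := by
    apply (TensorProduct.comm R N (R ⧸ I)).injective
    rw [← hy]; simp
  subst ht'
  have h1 : (1 : R ⧸ I) ⊗ₜ[R] u y = 0 := by
    have := congrArg (TensorProduct.comm R M (R ⧸ I)) ht
    simpa using this
  have h2 : u y ∈ I • (⊤ : Submodule R M) := by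
    rw [← LinearMap.ker_tensorProductMk, LinearMap.mem_ker]; exact h1
  have h3 := hA y h2
  rw [← LinearMap.ker_tensorProductMk, LinearMap.mem_ker] at h3
  have := congrArg (TensorProduct.comm R (R ⧸ I) N) h3
  simpa using this

/-- `u` is injective and its cokernel is flat. -/
theorem injective_and_flat_coker (S : Type*) [CommRing S] [IsLocalRing S] [IsNoetherianRing S]
    [Algebra R S] [IsLocalHom (algebraMap R S)] [Module S N] [IsScalarTower R S N]
    [Module.Finite S N] (u : N →ₗ[R] M)
    (hu : ∀ y, u y ∈ IsLocalRing.maximalIdeal R • (⊤ : Submodule R M) →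
      y ∈ IsLocalRing.maximalIdeal R • (⊤ : Submodule R N)) :
    Function.Injective u ∧ Module.Flat R (M ⧸ LinearMap.range u) := by
  have hA := fun I x hx => lemmaA S u hu I x hx
  have hinj : Function.Injective u := by
    rw [← LinearMap.ker_eq_bot, LinearMap.ker_eq_bot']
    intro x hx
    have := hA ⊥ x (by rw [hx]; exact Submodule.zero_mem _)
    rwa [Submodule.bot_smul, Submodule.mem_bot] at this
  refine ⟨hinj, ?_⟩
  rw [Module.Flat.iff_lTensor_injective']
  intro I
  refine lTensor_injective_of_exact_of_exact_of_rTensor_injective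
    (f₁ := u) (f₂ := (LinearMap.range u).mkQ) (g₁ := Submodule.subtype I)
    (g₂ := Submodule.mkQ I) (LinearMap.exact_map_mkQ_range u) (Submodule.mkQ_surjective _)
    (LinearMap.exact_subtype_mkQ I) (Submodule.mkQ_surjective I)
    (rTensor_quot_injective u I (hA I))
    (Module.Flat.lTensor_preserves_injective_linearMap _ Subtype.val_injective)

end krull

end Groth.Agent.H2
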