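import Mathlib.RingTheory.Flat.Stability
import Mathlib.RingTheory.Flat.Tensor
import Mathlib.RingTheory.LocalRing.Module
import Mathlib.RingTheory.Filtration
import Mathlib.RingTheory.TensorProduct.Finite
import Mathlib.Algebra.Module.Torsion.Basic
import Groth.Agent.H2.FlatLocal

/-!
# Local criterion of flatness (Tor-free formulation)

Fix a presentation `K →ι F →π M → 0` of an `R`-module `M` with `F` flat.  "`Tor₁(N, M) = 0`" is
expressed as injectivity of `ι.lTensor N : N ⊗ K → N ⊗ F`.
-/

set_option autoImplicit false

universe u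

namespace Groth.Agent.H2

open TensorProduct Function

section BaseChangeLemmas

variable {R : Type*} [CommRing R] {A : Type*} [CommRing A] [Algebra R A]

open TensorProduct.AlgebraTensorModule in
lemma rTensor_injective_of_flat_baseChange
    {L G : Type*} [AddCommGroup L] [Module R L] [Module A L] [IsScalarTower R A L]
    [AddCommGroup G] [Module R G] [Module A G] [IsScalarTower R A G]
    (M : Type*) [AddCommGroup M] [Module R M] [Module.Flat A (A ⊗[R] M)]
    (j : L →ₗ[A] G) (hj : Injective j) :
    Injective ((j.restrictScalars R).rTensor M) := by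
  have hsq : ∀ t : L ⊗[A] (A ⊗[R] M),
      (j.restrictScalars R).rTensor M (cancelBaseChange R A A L M t) =
        cancelBaseChange R A A G M (j.rTensor (A ⊗[R] M) t) := by
    intro t
    induction t using TensorProduct.induction_on with
    | zero => simp
    | tmul l y =>
      induction y using TensorProduct.induction_on with
      | zero => simp
      | tmul a m => simp
      | add y z hy hz => simp only [TensorProduct.tmul_add, map_add, hy, hz]
    | add x y hx hy => simp only [map_add, hx, hy]
  have h1 := Module.Flat.rTensor_preserves_injective_linearMap (M := A ⊗[R] M) j hj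
  intro x y hxy
  obtain ⟨x', rfl⟩ := (cancelBaseChange R A A L M).surjective x
  obtain ⟨y', rfl⟩ := (cancelBaseChange R A A L M).surjective y
  rw [hsq, hsq] at hxy
  exact congrArg _ (h1 ((cancelBaseChange R A A G M).injective hxy))

open TensorProduct.AlgebraTensorModule in
lemma lTensor_injective_of_flat_of_baseChange_injective
    (G : Type*) [AddCommGroup G] [Module R G] [Module A G] [IsScalarTower R A G]
    [Module.Flat A G]
    {K F : Type*} [AddCommGroup K] [Module R K] [AddCommGroup F] [Module R F]
    (ι : K →ₗ[R] F) (hι : Injective (ι.lTensor A)) :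
    Injective (ι.lTensor G) := by
  rw [← coe_lTensor (A := A), ← EquivLike.injective_comp (cancelBaseChange R A A G K),
    ← LinearEquiv.coe_coe, ← LinearMap.coe_comp, lTensor_comp_cancelBaseChange,
    LinearMap.coe_comp, LinearEquiv.coe_coe, EquivLike.comp_injective]
  apply Module.Flat.lTensor_preserves_injective_linearMap
  exact hι

open TensorProduct.AlgebraTensorModule in
lemma baseChange_lTensor_injective
    (G : Type*) [AddCommGroup G] [Module R G] [Module A G] [IsScalarTower R A G]
    {K F : Type*} [AddCommGroup K] [Module R K] [AddCommGroup F] [Module R F]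
    (ι : K →ₗ[R] F) (h : Injective (ι.lTensor G)) :
    Injective ((ι.baseChange A).lTensor G) := by
  have hsq : ∀ t : G ⊗[A] (A ⊗[R] K),
      cancelBaseChange R A A G F ((ι.baseChange A).lTensor G t) =
        ι.lTensor G (cancelBaseChange R A A G K t) := by
    intro t
    induction t using TensorProduct.induction_on with
    | zero => simp
    | tmul g y =>
      induction y using TensorProduct.induction_on with
      | zero => simp
      | tmul a k => simp
      | add y z hy hz => simp only [TensorProduct.tmul_add, map_add, hy, hz]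
    | add x y hx hy => simp only [map_add, hx, hy]
  intro x y hxy
  apply (cancelBaseChange R A A G K).injective
  apply h
  rw [← hsq, ← hsq, hxy]

end BaseChangeLemmas

section Tor

variable {R : Type u} [CommRing R] {M K F : Type u} [AddCommGroup M] [Module R M]
  [AddCommGroup K] [Module R K] [AddCommGroup F] [Module R F] [Module.Flat R F]
variable (ι : K →ₗ[R] F) (π : F →ₗ[R] M)

/-- Half-exactness of "`Tor₁(-, M) = 0`". -/
lemma T_of_exact {N' N N'' : Type*} [AddCommGroup N'] [Module R N'] [AddCommGroup N]
    [Module R N] [AddCommGroup N''] [Module R N'']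
    (α : N' →ₗ[R] N) (β : N →ₗ[R] N'') (hα : Injective α) (hex : Function.Exact α β)
    (hβ : Surjective β) (h' : Injective (ι.lTensor N')) (h'' : Injective (ι.lTensor N'')) :
    Injective (ι.lTensor N) := by
  rw [injective_iff_map_eq_zero]
  intro x hx
  have h1 : ι.lTensor N'' (β.rTensor K x) = 0 := by
    have : ι.lTensor N'' (β.rTensor K x) = β.rTensor F (ι.lTensor N x) := by
      rw [← LinearMap.comp_apply, ← LinearMap.comp_apply, LinearMap.lTensor_comp_rTensor,
        LinearMap.rTensor_comp_lTensor]
    rw [this, hx, map_zero]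
  have h2 : β.rTensor K x = 0 := (injective_iff_map_eq_zero _).mp h'' _ h1
  obtain ⟨x', rfl⟩ := (rTensor_exact K hex hβ x).mp h2
  have h3 : α.rTensor F (ι.lTensor N' x') = 0 := by
    have : α.rTensor F (ι.lTensor N' x') = ι.lTensor N (α.rTensor K x') := by
      rw [← LinearMap.comp_apply, ← LinearMap.comp_apply, LinearMap.rTensor_comp_lTensor,
        LinearMap.lTensor_comp_rTensor]
    rw [this, hx]
  have h4 : ι.lTensor N' x' = 0 :=
    (injective_iff_map_eq_zero _).mp
      (Module.Flat.rTensor_preserves_injective_linearMap α hα) _ h3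
  rw [(injective_iff_map_eq_zero _).mp h' _ h4, map_zero]

variable {ι π}

/-- Step 1: vanishing for modules over `R ⧸ I`. -/
lemma T_of_module_quotient (hex : Function.Exact ι π) (hπ : Surjective π)
    (I : Ideal R) [Module.Flat (R ⧸ I) ((R ⧸ I) ⊗[R] M)]
    (hI : Injective (ι.lTensor (R ⧸ I)))
    (N : Type u) [AddCommGroup N] [Module R N] [Module (R ⧸ I) N] [IsScalarTower R (R ⧸ I) N] :
    Injective (ι.lTensor N) := by
  obtain ⟨p, hp⟩ : ∃ p : (N →₀ R ⧸ I) →ₗ[R ⧸ I] N, Surjective p :=
    ⟨Finsupp.linearCombination (R ⧸ I) id, fun n => ⟨Finsupp.single n 1, by simp⟩⟩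
  have hfex : Function.Exact ((LinearMap.ker p).subtype.restrictScalars R)
      (p.restrictScalars R) := fun y => LinearMap.exact_subtype_ker_map p y
  have hfs : Surjective (p.restrictScalars R) := hp
  have hfinj := rTensor_injective_of_flat_baseChange (R := R) (A := R ⧸ I)
    (L := LinearMap.ker p) (G := N →₀ R ⧸ I) M
    (LinearMap.ker p).subtype (Submodule.injective_subtype (LinearMap.ker p))
  have hginj : Injective (ι.lTensor (N →₀ R ⧸ I)) :=
    lTensor_injective_of_flat_of_baseChange_injective (N →₀ R ⧸ I) ι hI
  refine lTensor_injective_of_exact_of_exact_of_rTensor_injective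
    (M₁ := ↥(LinearMap.ker p)) (M₂ := N →₀ R ⧸ I) (M₃ := N) (N₁ := K) (N₂ := F) (N₃ := M)
    (f₁ := (LinearMap.ker p).subtype.restrictScalars R) (f₂ := p.restrictScalars R)
    (g₁ := ι) (g₂ := π) ?_ ?_ ?_ ?_ ?_ ?_
  · exact hfex
  · exact hfs
  · exact hex
  · exact hπ
  · exact hfinj
  · exact hginj

lemma T_of_isTorsionBySet (hex : Function.Exact ι π) (hπ : Surjective π)
    (I : Ideal R) [Module.Flat (R ⧸ I) ((R ⧸ I) ⊗[R] M)]
    (hI : Injective (ι.lTensor (R ⧸ I)))
    (N : Type u) [AddCommGroup N] [Module R N] (hN : Module.IsTorsionBySet R N I) :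
    Injective (ι.lTensor N) := by
  let _ := hN.module
  have : IsScalarTower R (R ⧸ I) N := hN.isScalarTower
  exact T_of_module_quotient hex hπ I hI N

/-- Step 2: vanishing for modules killed by a power of `I`. -/
lemma T_of_pow_smul_eq_zero (hex : Function.Exact ι π) (hπ : Surjective π)
    (I : Ideal R) [Module.Flat (R ⧸ I) ((R ⧸ I) ⊗[R] M)]
    (hI : Injective (ι.lTensor (R ⧸ I))) :
    ∀ n : ℕ, ∀ (Q : Type u) [AddCommGroup Q] [Module R Q],
      (∀ a ∈ I ^ n, ∀ q : Q, a • q = 0) → Injective (ι.lTensor Q) := by
  intro n
  induction n with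
  | zero =>
    intro Q _ _ hQ
    have hQ0 : ∀ q : Q, q = 0 := fun q => by
      rw [← one_smul R q]; exact hQ 1 (by simp) q
    have hall : ∀ x : Q ⊗[R] K, x = 0 := by
      intro x
      induction x using TensorProduct.induction_on with
      | zero => rfl
      | tmul q k => rw [hQ0 q, TensorProduct.zero_tmul]
      | add x y hx hy => rw [hx, hy, add_zero]
    intro x y _
    rw [hall x, hall y]
  | succ n ih =>
    intro Q _ _ hQ
    refine T_of_exact ι (Submodule.subtype (I • (⊤ : Submodule R Q)))
      (Submodule.mkQ (I • (⊤ : Submodule R Q))) Subtype.val_injective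
      (LinearMap.exact_subtype_mkQ _) (Submodule.mkQ_surjective _) ?_ ?_
    · apply ih
      rintro a ha ⟨q, hq⟩
      apply Subtype.ext
      show a • q = 0
      refine Submodule.smul_induction_on (p := fun q => a • q = 0) hq
        (fun r hr q' _ => ?_) (fun x y hx hy => ?_)
      · show a • r • q' = 0
        rw [smul_smul]
        exact hQ _ (by rw [pow_succ]; exact Ideal.mul_mem_mul ha hr) _
      · have hx' : a • x = 0 := hx
        have hy' : a • y = 0 := hy
        show a • (x + y) = 0
        rw [smul_add, hx', hy', add_zero]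
    · exact T_of_isTorsionBySet hex hπ I hI (Q ⧸ (I • (⊤ : Submodule R Q)))
        (Module.isTorsionBySet_quotient_ideal_smul Q I)

/-- Lemma D: if `Tor₁(A' ⧸ P, M) = 0` then `M ⊗ P → M ⊗ A'` is injective. -/
lemma lTensor_subtype_injective_of_T (hex : Function.Exact ι π) (hπ : Surjective π)
    {A' : Type*} [AddCommGroup A'] [Module R A'] (P : Submodule R A')
    (hT : Injective (ι.lTensor (A' ⧸ P))) :
    Injective (P.subtype.lTensor M) := by
  have hfinj : Injective (ι.rTensor (A' ⧸ P)) :=
    (LinearMap.lTensor_inj_iff_rTensor_inj (A' ⧸ P) ι).mp hT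
  have hginj : Injective (P.subtype.lTensor F) :=
    Module.Flat.lTensor_preserves_injective_linearMap (M := F) P.subtype
      (Submodule.injective_subtype P)
  exact lTensor_injective_of_exact_of_exact_of_rTensor_injective hex hπ
    (LinearMap.exact_subtype_mkQ P) (Submodule.mkQ_surjective P) hfinj hginj

end Tor

end Groth.Agent.H2
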