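import Mathlib.RingTheory.Flat.FaithfullyFlat.Basic
import Mathlib.RingTheory.Nakayama
import Groth.Agent.H2.LocalCriterion

/-!
# Local criterion of flatness: main theorem, and the fibrewise criterion
-/

set_option autoImplicit false

universe u

namespace Groth.Agent.H2

open TensorProduct Function

section Main

variable {R S M : Type u} [CommRing R] [CommRing S] [IsLocalRing R] [IsLocalRing S]
  [IsNoetherianRing R] [IsNoetherianRing S] [Algebra R S] [IsLocalHom (algebraMap R S)]
  [AddCommGroup M] [Module R M] [Module S M] [IsScalarTower R S M] [Module.Finite S M]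

open TensorProduct.AlgebraTensorModule in
omit [IsLocalRing R] [IsLocalRing S] [IsNoetherianRing S] [IsLocalHom (algebraMap R S)] in
lemma finite_tensor_ideal (𝔞 : Ideal R) : Module.Finite S (M ⊗[R] 𝔞) :=
  Module.Finite.equiv (cancelBaseChange R S S M 𝔞)

include S in
set_option maxHeartbeats 400000 in
/-- The local criterion of flatness, for a given presentation of `M`. -/
theorem flat_of_local_criterion_aux {K : Type u} [AddCommGroup K] [Module R K]
    (ι : K →ₗ[R] (M →₀ R)) (π : (M →₀ R) →ₗ[R] M) (hex : Function.Exact ι π)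
    (hπ : Surjective π) (hι : Injective ι) (I : Ideal R) (hI : I ≠ ⊤)
    (h1 : Injective (LinearMap.rTensor M (Submodule.subtype I)))
    [Module.Flat (R ⧸ I) ((R ⧸ I) ⊗[R] M)] : Module.Flat R M := by
  classical
  have hTI : Injective (ι.lTensor (R ⧸ I)) := by
    have hginj : Injective (ι.lTensor R) :=
      Module.Flat.lTensor_preserves_injective_linearMap (M := R) ι hι
    have h2 := lTensor_injective_of_exact_of_exact_of_rTensor_injective
      (LinearMap.exact_subtype_mkQ I) (Submodule.mkQ_surjective I) hex hπ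
    have h3 := h2 h1
    exact h3 hginj
  have hT := T_of_pow_smul_eq_zero hex hπ I hTI
  rw [Module.Flat.iff_lTensor_injective']
  intro 𝔞
  obtain ⟨c, hc⟩ := Ideal.exists_pow_inf_eq_pow_smul I (𝔞 : Submodule R R)
  have : Module.Finite S (M ⊗[R] 𝔞) := finite_tensor_ideal 𝔞
  have hIm : I ≤ IsLocalRing.maximalIdeal R := IsLocalRing.le_maximalIdeal hI
  -- elements coming from `M ⊗ (𝔞 ⊓ I ^ (k + c))` lie in `I ^ k • ⊤`
  have hgen : ∀ (k : ℕ) (w : M ⊗[R] ↥(𝔞 ⊓ I ^ (k + c))),
      LinearMap.lTensor M (Submodule.inclusion (inf_le_left : 𝔞 ⊓ I ^ (k + c) ≤ 𝔞)) w ∈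
        I ^ k • (⊤ : Submodule R (M ⊗[R] 𝔞)) := by
    intro k w
    induction w using TensorProduct.induction_on with
    | zero => rw [map_zero]; exact Submodule.zero_mem _
    | tmul m a =>
      rw [LinearMap.lTensor_tmul]
      have ha : ((Submodule.inclusion (inf_le_left : 𝔞 ⊓ I ^ (k + c) ≤ 𝔞) a : 𝔞) : R) ∈
          I ^ k • (𝔞 : Submodule R R) := by
        have h2 := hc (k + c) (by omega)
        have ha' : (a : R) ∈ I ^ (k + c) • (⊤ : Submodule R R) ⊓ 𝔞 := by
          refine Submodule.mem_inf.mpr ⟨?_, (Submodule.mem_inf.mp a.2).1⟩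
          have h3 : ((a : R) • (1 : R)) ∈ I ^ (k + c) • (⊤ : Submodule R R) :=
            Submodule.smul_mem_smul (Submodule.mem_inf.mp a.2).2 Submodule.mem_top
          have h4 : (a : R) • (1 : R) = (a : R) := by rw [smul_eq_mul, mul_one]
          rwa [h4] at h3
        rw [h2, Nat.add_sub_cancel] at ha'
        exact Submodule.smul_mono le_rfl inf_le_right ha'
      have ha2 : Submodule.inclusion (inf_le_left : 𝔞 ⊓ I ^ (k + c) ≤ 𝔞) a ∈
          I ^ k • (⊤ : Submodule R 𝔞) := by
        have h5 : I ^ k • (𝔞 : Submodule R R) =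
            (I ^ k • (⊤ : Submodule R 𝔞)).map (Submodule.subtype 𝔞) := by
          rw [Submodule.map_smul'', Submodule.map_top, Submodule.range_subtype]
        rw [h5] at ha
        obtain ⟨a'', ha'', heq⟩ := Submodule.mem_map.mp ha
        have : a'' = Submodule.inclusion (inf_le_left : 𝔞 ⊓ I ^ (k + c) ≤ 𝔞) a :=
          Subtype.ext heq
        rwa [← this]
      exact map_mem_smul_top ((TensorProduct.mk R M 𝔞) m) _ ha2
    | add y z hy hz => rw [map_add]; exact Submodule.add_mem _ hy hz
  rw [injective_iff_map_eq_zero]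
  intro x hx
  have hstep : ∀ n : ℕ, x ∈ LinearMap.range
      (LinearMap.lTensor M (Submodule.inclusion (inf_le_left : 𝔞 ⊓ I ^ n ≤ 𝔞))) := by
    intro n
    obtain ⟨P, ρ, hρ, hcomm⟩ : ∃ (P : Submodule R (R ⧸ I ^ n)) (ρ : 𝔞 →ₗ[R] P),
        Surjective ρ ∧ P.subtype ∘ₗ ρ = (Submodule.mkQ (I ^ n)) ∘ₗ Submodule.subtype 𝔞 :=
      ⟨LinearMap.range ((Submodule.mkQ (I ^ n)) ∘ₗ Submodule.subtype 𝔞),
        LinearMap.rangeRestrict ((Submodule.mkQ (I ^ n)) ∘ₗ Submodule.subtype 𝔞),
        LinearMap.surjective_rangeRestrict _, LinearMap.ext (fun a => rfl)⟩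
    have hQ : ∀ a ∈ I ^ n, ∀ y : (R ⧸ I ^ n) ⧸ P, a • y = 0 := by
      intro a ha y
      obtain ⟨y, rfl⟩ := Submodule.mkQ_surjective P y
      obtain ⟨r, rfl⟩ := Submodule.mkQ_surjective (I ^ n) y
      have h3 : a • P.mkQ ((I ^ n).mkQ r) = P.mkQ ((I ^ n).mkQ (a • r)) := by
        rw [map_smul, map_smul]
      have h4 : (I ^ n).mkQ (a • r) = 0 := by
        rw [Submodule.mkQ_apply, Submodule.Quotient.mk_eq_zero]
        show a * r ∈ I ^ n
        exact Ideal.mul_mem_right _ _ ha
      rw [h3, h4, map_zero]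
    have hθ : Injective (P.subtype.lTensor M) :=
      lTensor_subtype_injective_of_T hex hπ P (hT n _ hQ)
    have hκρ : Function.Exact (Submodule.inclusion (inf_le_left : 𝔞 ⊓ I ^ n ≤ 𝔞)) ρ := by
      intro a
      have h1 : ((ρ a : P) : R ⧸ I ^ n) = (I ^ n).mkQ (a : R) := LinearMap.congr_fun hcomm a
      have key : ρ a = 0 ↔ (a : R) ∈ I ^ n := by
        constructor
        · intro h
          have h2 : (I ^ n).mkQ (a : R) = 0 := h1.symm.trans (congrArg Subtype.val h)
          rwa [Submodule.mkQ_apply, Submodule.Quotient.mk_eq_zero] at h2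
        · intro h
          apply Subtype.ext
          rw [h1, Submodule.mkQ_apply]
          exact (Submodule.Quotient.mk_eq_zero (I ^ n)).mpr h
      rw [key]
      constructor
      · intro h
        exact ⟨⟨(a : R), Submodule.mem_inf.mpr ⟨a.2, h⟩⟩, Subtype.ext rfl⟩
      · rintro ⟨b, rfl⟩
        exact (Submodule.mem_inf.mp b.2).2
    have h0 : (ρ.lTensor M) x = 0 := by
      apply hθ
      rw [map_zero, ← LinearMap.comp_apply, ← LinearMap.lTensor_comp, hcomm,
        LinearMap.lTensor_comp, LinearMap.comp_apply, hx, map_zero]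
    exact (lTensor_exact M hκρ hρ x).mp h0
  have hx0 : x ∈ (⊥ : Ideal R) • (⊤ : Submodule R (M ⊗[R] 𝔞)) := by
    refine krull S ⊥ x (fun k => ?_)
    refine Submodule.smul_mono_left (le_trans (Ideal.pow_right_mono hIm k) le_sup_right) ?_
    obtain ⟨w, hw⟩ := hstep (k + c)
    rw [← hw]
    exact hgen k w
  rwa [Submodule.bot_smul, Submodule.mem_bot] at hx0

include S in
set_option maxHeartbeats 400000 in
/-- The local criterion of flatness. -/
theorem flat_of_local_criterion (I : Ideal R) (hI : I ≠ ⊤)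
    (h1 : Injective (LinearMap.rTensor M (Submodule.subtype I)))
    [Module.Flat (R ⧸ I) ((R ⧸ I) ⊗[R] M)] : Module.Flat R M := by
  obtain ⟨π, hπ⟩ : ∃ π : (M →₀ R) →ₗ[R] M, Surjective π :=
    ⟨Finsupp.linearCombination R id, fun m => ⟨Finsupp.single m 1, by simp⟩⟩
  exact flat_of_local_criterion_aux (S := S) (K := ↥(LinearMap.ker π)) (LinearMap.ker π).subtype π
    (LinearMap.exact_subtype_ker_map π) hπ (Submodule.injective_subtype _) I hI h1

end Main

section Fibre

set_option maxHeartbeats 400000 in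
open TensorProduct.AlgebraTensorModule in
/-- If `M` is an `S`-module flat over `R`, then for every ideal `𝔞` of `R` the map
`𝔞S ⊗[S] M → S ⊗[S] M` is injective. -/
lemma rTensor_subtype_map_injective {R S M : Type*} [CommRing R] [CommRing S] [Algebra R S]
    [AddCommGroup M] [Module R M] [Module S M] [IsScalarTower R S M] [Module.Flat R M]
    (𝔞 : Ideal R) :
    Injective (LinearMap.rTensor M (Submodule.subtype (𝔞.map (algebraMap R S)))) := by
  refine (LinearMap.lTensor_inj_iff_rTensor_inj _ _).mp ?_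
  obtain ⟨g, hg_apply, hinj⟩ : ∃ g : S ⊗[R] 𝔞 →ₗ[S] S,
      (∀ (s : S) (a : 𝔞), g (s ⊗ₜ a) = (a : R) • s) ∧ Injective (g.lTensor M) := by
    refine ⟨(AlgebraTensorModule.rid R S S).toLinearMap ∘ₗ (𝔞.subtype.baseChange S),
      fun s a => by simp, ?_⟩
    have h1 : Injective ((𝔞.subtype.baseChange S).lTensor M) :=
      baseChange_lTensor_injective M 𝔞.subtype
        (Module.Flat.lTensor_preserves_injective_linearMap (M := M) 𝔞.subtype
          (Submodule.injective_subtype 𝔞))
    have h2 : Injective ((AlgebraTensorModule.rid R S S).toLinearMap.lTensor M) :=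
      (LinearEquiv.lTensor M (AlgebraTensorModule.rid R S S)).injective
    rw [LinearMap.lTensor_comp, LinearMap.coe_comp]
    exact h2.comp h1
  have hgJ : ∀ t, g t ∈ 𝔞.map (algebraMap R S) := by
    intro t
    induction t using TensorProduct.induction_on with
    | zero => rw [map_zero]; exact Submodule.zero_mem _
    | tmul s a =>
      rw [hg_apply, Algebra.smul_def]
      exact Ideal.mul_mem_right _ _ (Ideal.mem_map_of_mem _ a.2)
    | add x y hx hy => rw [map_add]; exact Submodule.add_mem _ hx hy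
  have hsurj : Surjective (g.codRestrict (𝔞.map (algebraMap R S)) hgJ) := by
    rintro ⟨j, hj⟩
    have hle : 𝔞.map (algebraMap R S) ≤ LinearMap.range g := by
      refine Ideal.map_le_iff_le_comap.mpr (fun a ha => ?_)
      show algebraMap R S a ∈ LinearMap.range g
      refine ⟨(1 : S) ⊗ₜ[R] (⟨a, ha⟩ : 𝔞), ?_⟩
      rw [hg_apply, Algebra.smul_def, mul_one]
    obtain ⟨t, ht⟩ := hle hj
    exact ⟨t, Subtype.ext ht⟩
  have hcomp : (Submodule.subtype (𝔞.map (algebraMap R S))).lTensor M ∘ₗ
      ((g.codRestrict (𝔞.map (algebraMap R S)) hgJ).lTensor M) = g.lTensor M := by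
    rw [← LinearMap.lTensor_comp, LinearMap.subtype_comp_codRestrict]
  have hs : Surjective ((g.codRestrict (𝔞.map (algebraMap R S)) hgJ).lTensor M) :=
    LinearMap.lTensor_surjective M hsurj
  intro x y hxy
  obtain ⟨x', rfl⟩ := hs x
  obtain ⟨y', rfl⟩ := hs y
  have h3 : g.lTensor M x' = g.lTensor M y' := by
    rw [← hcomp]; exact hxy
  rw [hinj h3]

/-- Descent of flatness along a faithfully flat module: if `M` is faithfully flat over `S` and flat
over `R`, then `S` is flat over `R`. -/
lemma flat_of_faithfullyFlat_module {R S M : Type*} [CommRing R] [CommRing S] [Algebra R S]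
    [AddCommGroup M] [Module R M] [Module S M] [IsScalarTower R S M] [Module.Flat R M]
    [Module.FaithfullyFlat S M] : Module.Flat R S := by
  rw [Module.Flat.iff_lTensor_injective']
  intro 𝔞
  have h1 : Injective ((𝔞.subtype.baseChange S).lTensor M) :=
    baseChange_lTensor_injective M 𝔞.subtype
      (Module.Flat.lTensor_preserves_injective_linearMap (M := M) 𝔞.subtype
        (Submodule.injective_subtype 𝔞))
  have h2 : Injective (𝔞.subtype.baseChange S) :=
    (Module.FaithfullyFlat.lTensor_injective_iff_injective S M _).mp h1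
  exact h2

/-- A nonzero finite module over a local ring `S'`, viewed over a local ring `S` through a local
homomorphism and flat there, is faithfully flat over `S`. -/
lemma faithfullyFlat_of_finite_of_isLocalHom {S S' M : Type*} [CommRing S] [CommRing S']
    [IsLocalRing S] [IsLocalRing S'] [Algebra S S'] [IsLocalHom (algebraMap S S')]
    [AddCommGroup M] [Module S' M] [Module S M] [IsScalarTower S S' M] [Module.Finite S' M]
    [Nontrivial M] [Module.Flat S M] : Module.FaithfullyFlat S M := by
  rw [Module.FaithfullyFlat.iff_flat_and_proper_ideal]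
  refine ⟨inferInstance, fun I hI htop => ?_⟩
  have hI𝔪 : I ≤ IsLocalRing.maximalIdeal S := IsLocalRing.le_maximalIdeal hI
  have h3 : IsLocalRing.maximalIdeal S ≤
      (IsLocalRing.maximalIdeal S').comap (algebraMap S S') :=
    ((IsLocalRing.local_hom_TFAE (algebraMap S S')).out 0 3).mp ‹IsLocalHom (algebraMap S S')›
  have hmap : ∀ r ∈ I, algebraMap S S' r ∈ IsLocalRing.maximalIdeal S' :=
    fun r hr => h3 (hI𝔪 hr)
  have hall : ∀ m : M, m ∈ IsLocalRing.maximalIdeal S' • (⊤ : Submodule S' M) := by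
    intro m
    have hm : m ∈ I • (⊤ : Submodule S M) := by rw [htop]; exact Submodule.mem_top
    refine Submodule.smul_induction_on
      (p := fun m => m ∈ IsLocalRing.maximalIdeal S' • (⊤ : Submodule S' M)) hm
      (fun r hr n _ => ?_) (fun x y hx hy => Submodule.add_mem _ hx hy)
    show r • n ∈ IsLocalRing.maximalIdeal S' • (⊤ : Submodule S' M)
    rw [← algebraMap_smul S' r n]
    exact Submodule.smul_mem_smul (hmap r hr) Submodule.mem_top
  obtain ⟨m, hm0⟩ := exists_ne (0 : M)
  have hbot : (⊤ : Submodule S' M) = ⊥ :=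
    Submodule.eq_bot_of_le_smul_of_le_jacobson_bot (IsLocalRing.maximalIdeal S') ⊤
      (Module.Finite.fg_top (R := S') (M := M)) (fun m _ => hall m)
      (IsLocalRing.jacobson_eq_maximalIdeal ⊥ bot_ne_top).ge
  have hm : m ∈ (⊤ : Submodule S' M) := Submodule.mem_top
  rw [hbot] at hm
  exact hm0 ((Submodule.mem_bot S').mp hm)

end Fibre

end Groth.Agent.H2
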