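import Mathlib
import Groth.Agent.H11.GRAtDefs
import Groth.Agent.H10.DevX

set_option autoImplicit false
universe u
open TensorProduct IsLocalRing
open Groth.Agent.H11.GRAtDefs

namespace Groth.Agent.H2.GRAtN3

attribute [local instance] Algebra.TensorProduct.rightAlgebra

/-- Key algebraic statement: if `s * c ^ k ∈ pC` with `s ∉ q` then `u' * c ∈ pC` for some
`u' ∉ q`, when the fibre is geometrically reduced at `q`. -/
theorem exists_mul_mem_of_pow {R C : Type u} [CommRing R] [CommRing C] [Algebra R C]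
    (q : Ideal C) [q.IsPrime] (hGR : GRAt R q) (c s : C) (k : ℕ) (hs : s ∉ q)
    (hsc : s * c ^ k ∈ (q.comap (algebraMap R C)).map (algebraMap R C)) :
    ∃ u' : C, u' ∉ q ∧ u' * c ∈ (q.comap (algebraMap R C)).map (algebraMap R C) := by
  set p : Ideal R := q.comap (algebraMap R C) with hp
  haveI : p.IsPrime := Ideal.comap_isPrime _ _
  -- the fibre
  obtain ⟨n, hnprime, -, hnq⟩ := Groth.Agent.H10.DevX.exists_prime_tensor_liesOver R p.ResidueField C
    (⊥ : Ideal p.ResidueField) q (by
      rw [← RingHom.ker_eq_comap_bot, Ideal.ker_algebraMap_residueField])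
  haveI := hnprime
  have hnq' : n.comap (algebraMap C (p.Fiber C)) = q := hnq
  -- elements of `pC` die in the fibre
  have hI0 : ∀ y ∈ p.map (algebraMap R C), ((1 : p.ResidueField) ⊗ₜ[R] y : p.Fiber C) = 0 := by
    intro y hy
    have hle : p.map (algebraMap R C) ≤
        RingHom.ker (Algebra.TensorProduct.includeRight : C →ₐ[R] p.Fiber C).toRingHom := by
      rw [Ideal.map_le_iff_le_comap]
      intro r hr
      rw [Ideal.mem_comap, RingHom.mem_ker]
      change (Algebra.TensorProduct.includeRight : C →ₐ[R] p.Fiber C) (algebraMap R C r) = 0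
      rw [AlgHom.commutes, Algebra.TensorProduct.algebraMap_apply,
        Ideal.algebraMap_residueField_eq_zero.mpr hr, zero_tmul]
    exact hle hy
  -- nilpotent element
  have hnil : IsNilpotent ((1 : p.ResidueField) ⊗ₜ[R] (s * c) : p.Fiber C) := by
    refine ⟨k + 1, ?_⟩
    rw [Algebra.TensorProduct.tmul_pow, one_pow]
    apply hI0
    have : (s * c) ^ (k + 1) = (s ^ k * c) * (s * c ^ k) := by ring
    rw [this]
    exact Ideal.mul_mem_left _ _ hsc
  obtain ⟨u, hun, hu0⟩ := hGR p.ResidueField (p.Fiber C) n hnq' _ hnil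
  -- clear denominators
  obtain ⟨r, hr, x, hrx⟩ := Ideal.Fiber.exists_smul_eq_one_tmul p u
  have hrn : algebraMap R (p.Fiber C) r ∉ n := by
    intro h
    apply hr
    have : algebraMap R C r ∈ q := by
      rw [← hnq', Ideal.mem_comap, ← IsScalarTower.algebraMap_apply]
      exact h
    exact this
  have hxn : ((1 : p.ResidueField) ⊗ₜ[R] x : p.Fiber C) ∉ n := by
    rw [← hrx, Algebra.smul_def]
    exact fun h => (hnprime.mem_or_mem h).elim hrn hun
  have hxq : x ∉ q := by
    intro h
    apply hxn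
    have : algebraMap C (p.Fiber C) x ∈ n := by
      rw [← Ideal.mem_comap, hnq']
      exact h
    exact this
  have hx0 : ((1 : p.ResidueField) ⊗ₜ[R] (x * (s * c)) : p.Fiber C) = 0 := by
    have : ((1 : p.ResidueField) ⊗ₜ[R] (x * (s * c)) : p.Fiber C) =
        ((1 : p.ResidueField) ⊗ₜ[R] x) * ((1 : p.ResidueField) ⊗ₜ[R] (s * c)) := by
      rw [Algebra.TensorProduct.tmul_mul_tmul, one_mul]
    rw [this, ← hrx, smul_mul_assoc, hu0, smul_zero]
  -- zero detection in the fibre
  have hz : ∃ t : R, t ∉ p ∧ t • (x * (s * c)) ∈ p.map (algebraMap R C) := by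
    have e := Ideal.Fiber.algEquivAux₁ (S := C) p
    have h1 : e ((1 : p.ResidueField) ⊗ₜ[R] (x * (s * c))) = 0 := by rw [hx0, map_zero]
    have h2 : ((1 : p.ResidueField) ⊗ₜ[R] (x * (s * c)) : p.Fiber C) =
        algebraMap C (p.Fiber C) (x * (s * c)) := rfl
    rw [h2, AlgEquiv.commutes, IsScalarTower.algebraMap_apply C
      (Localization (Algebra.algebraMapSubmonoid C p.primeCompl)), Ideal.Quotient.algebraMap_eq,
      Ideal.Quotient.eq_zero_iff_mem,
      IsLocalization.algebraMap_mem_map_algebraMap_iff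
        (Algebra.algebraMapSubmonoid C p.primeCompl)] at h1
    obtain ⟨m, ⟨t, ht, rfl⟩, hm⟩ := h1
    exact ⟨t, ht, by rwa [Algebra.smul_def]⟩
  obtain ⟨t, ht, htx⟩ := hz
  refine ⟨algebraMap R C t * x * s, ?_, ?_⟩
  · intro h
    rcases Ideal.IsPrime.mem_or_mem ‹q.IsPrime› h with h1 | h1
    · rcases Ideal.IsPrime.mem_or_mem ‹q.IsPrime› h1 with h2 | h2
      · exact ht h2
      · exact hxq h2
    · exact hs h1
  · rw [Algebra.smul_def] at htx
    convert htx using 1
    ring

/-- (N3) the closed fibre is reduced at `q`, read inside the local ring `B = C_q`. -/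
theorem isRadical_map_maximalIdeal_of_grAt {R C : Type u} [CommRing R] [CommRing C] [Algebra R C]
    (q : Ideal C) [q.IsPrime] (hGR : GRAt R q)
    (A₀ B : Type u) [CommRing A₀] [Algebra R A₀] [IsLocalRing A₀]
    [IsLocalization.AtPrime A₀ (q.comap (algebraMap R C))]
    [CommRing B] [Algebra C B] [IsLocalization.AtPrime B q] [Algebra R B] [IsScalarTower R C B]
    [Algebra A₀ B] [IsScalarTower R A₀ B] :
    (Ideal.map (algebraMap A₀ B) (IsLocalRing.maximalIdeal A₀)).IsRadical := by
  have h1 : Ideal.map (algebraMap A₀ B) (maximalIdeal A₀) =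
      ((q.comap (algebraMap R C)).map (algebraMap R C)).map (algebraMap C B) := by
    rw [← IsLocalization.AtPrime.map_eq_maximalIdeal (q.comap (algebraMap R C)) A₀,
      Ideal.map_map, Ideal.map_map, ← IsScalarTower.algebraMap_eq, ← IsScalarTower.algebraMap_eq]
  rw [h1]
  intro b hb
  obtain ⟨k, hk⟩ := hb
  obtain ⟨c, t, rfl⟩ := IsLocalization.exists_mk'_eq q.primeCompl b
  rw [← IsLocalization.mk'_pow, IsLocalization.mk'_mem_map_algebraMap_iff q.primeCompl] at hk
  obtain ⟨s, hs, hsc⟩ := hk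
  obtain ⟨u', hu', hu'c⟩ := exists_mul_mem_of_pow q hGR c s k hs hsc
  rw [IsLocalization.mk'_mem_map_algebraMap_iff q.primeCompl]
  exact ⟨u', hu', hu'c⟩

end Groth.Agent.H2.GRAtN3
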