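import Mathlib
import Groth.Agent.H11.GRAtDefs
import Groth.Agent.H67.DvrRed
import Groth.Agent.H2.GRAt_N3

set_option autoImplicit false
universe u
open TensorProduct IsLocalRing
open Groth.Agent.H11.GRAtDefs

namespace Groth.Agent.H2.GRAtN1

/-- Geometric reducedness of the fibre at a prime is stable under base change. -/
theorem grAt_baseChange {R C V E : Type u} [CommRing R] [CommRing C] [Algebra R C]
    (q : Ideal C) [q.IsPrime] (hGR : GRAt R q)
    [CommRing V] [Algebra R V]
    [CommRing E] [Algebra C E] [Algebra V E] [Algebra R E] [IsScalarTower R C E]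
    [IsScalarTower R V E] [Algebra.IsPushout R C V E] (n : Ideal E) [n.IsPrime]
    (hn1 : n.comap (algebraMap C E) = q) : GRAt V n := by
  intro K _ _ E' _ _ _ _ _ _ _ n' _ hn' a ha
  letI : Algebra R K := ((algebraMap V K).comp (algebraMap R V)).toAlgebra
  letI : Algebra C E' := ((algebraMap E E').comp (algebraMap C E)).toAlgebra
  letI : Algebra R E' := ((algebraMap E E').comp (algebraMap R E)).toAlgebra
  haveI : IsScalarTower R V K := IsScalarTower.of_algebraMap_eq' rfl
  haveI : IsScalarTower C E E' := IsScalarTower.of_algebraMap_eq' rfl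
  haveI : IsScalarTower R E E' := IsScalarTower.of_algebraMap_eq' rfl
  haveI : IsScalarTower R C E' := IsScalarTower.of_algebraMap_eq' (by
    change (algebraMap E E').comp (algebraMap R E) =
      ((algebraMap E E').comp (algebraMap C E)).comp (algebraMap R C)
    rw [RingHom.comp_assoc, ← IsScalarTower.algebraMap_eq R C E])
  haveI : IsScalarTower R V E' := IsScalarTower.of_algebraMap_eq' (by
    change (algebraMap E E').comp (algebraMap R E) = (algebraMap V E').comp (algebraMap R V)
    rw [IsScalarTower.algebraMap_eq V E E', RingHom.comp_assoc,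
      ← IsScalarTower.algebraMap_eq R V E])
  haveI : IsScalarTower R K E' := IsScalarTower.of_algebraMap_eq' (by
    change (algebraMap E E').comp (algebraMap R E) =
      (algebraMap K E').comp ((algebraMap V K).comp (algebraMap R V))
    rw [← RingHom.comp_assoc, ← IsScalarTower.algebraMap_eq V K E',
      IsScalarTower.algebraMap_eq V E E', RingHom.comp_assoc,
      ← IsScalarTower.algebraMap_eq R V E])
  haveI h1 : Algebra.IsPushout R V C E := Algebra.IsPushout.symm inferInstance
  haveI h2 : Algebra.IsPushout V K E E' := Algebra.IsPushout.symm inferInstance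
  haveI h3 : Algebra.IsPushout R K C E' := (Algebra.IsPushout.comp_iff R V C E (T := K) (T' := E')).mpr h2
  haveI h4 : Algebra.IsPushout R C K E' := Algebra.IsPushout.symm h3
  refine hGR K E' n' ?_ a ha
  rw [← hn1, ← hn', Ideal.comap_comap]
  rfl

/-- (N1) after base change to a DVR the local rings over `q` and the closed point are reduced. -/
theorem nilpotent_of_grAt_dvr {R C V E : Type u} [CommRing R] [CommRing C] [Algebra R C]
    [Algebra.FiniteType R C] [Module.Flat R C] (q : Ideal C) [q.IsPrime] (hGR : GRAt R q)
    [CommRing V] [IsDomain V] [IsDiscreteValuationRing V] [Algebra R V]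
    [CommRing E] [Algebra C E] [Algebra V E] [Algebra R E] [IsScalarTower R C E]
    [IsScalarTower R V E] [Algebra.IsPushout R C V E] (n : Ideal E) [n.IsPrime]
    (hn1 : n.comap (algebraMap C E) = q) (hn2 : n.comap (algebraMap V E) = maximalIdeal V) :
    ∀ a : E, IsNilpotent a → ∃ u : E, u ∉ n ∧ u * a = 0 := by
  have hGRV : GRAt V n := grAt_baseChange q hGR n hn1
  haveI hpo : Algebra.IsPushout R V C E := Algebra.IsPushout.symm inferInstance
  -- `E` is of finite type and flat over `V`
  haveI hft : Algebra.FiniteType V E :=
    Algebra.FiniteType.equiv (inferInstance : Algebra.FiniteType V (V ⊗[R] C))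
      (Algebra.IsPushout.equiv R V C E)
  haveI hfl : Module.Flat V E :=
    Module.Flat.isBaseChange (R := R) (S := V) (M := C) (N := E) hpo.out
  haveI : IsNoetherianRing E := Algebra.FiniteType.isNoetherianRing V E
  haveI : IsNoetherianRing (Localization.AtPrime n) :=
    IsLocalization.isNoetherianRing n.primeCompl _ inferInstance
  haveI : Module.Flat E (Localization.AtPrime n) := IsLocalization.flat _ n.primeCompl
  haveI : Module.Flat V (Localization.AtPrime n) := Module.Flat.trans V E _
  -- local homomorphism
  haveI hloc : IsLocalHom (algebraMap V (Localization.AtPrime n)) := by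
    constructor
    intro v hv
    by_contra hvu
    have hvm : v ∈ maximalIdeal V := (IsLocalRing.mem_maximalIdeal v).mpr hvu
    rw [← hn2, Ideal.mem_comap] at hvm
    have : algebraMap E (Localization.AtPrime n) (algebraMap V E v) ∈
        maximalIdeal (Localization.AtPrime n) :=
      (IsLocalization.AtPrime.to_map_mem_maximal_iff (Localization.AtPrime n) n _).mpr hvm
    rw [← IsScalarTower.algebraMap_apply] at this
    exact ((IsLocalRing.mem_maximalIdeal _).mp this) hv
  -- radicality
  have hrad : (Ideal.map (algebraMap V (Localization.AtPrime n)) (maximalIdeal V)).IsRadical := by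
    have h1 : Ideal.map (algebraMap V (Localization.AtPrime n)) (maximalIdeal V) =
        ((n.comap (algebraMap V E)).map (algebraMap V E)).map
          (algebraMap E (Localization.AtPrime n)) := by
      rw [hn2, Ideal.map_map, ← IsScalarTower.algebraMap_eq]
    rw [h1]
    intro b hb
    obtain ⟨k, hk⟩ := hb
    obtain ⟨c, t, rfl⟩ := IsLocalization.exists_mk'_eq n.primeCompl b
    rw [← IsLocalization.mk'_pow, IsLocalization.mk'_mem_map_algebraMap_iff n.primeCompl] at hk
    obtain ⟨s, hs, hsc⟩ := hk
    obtain ⟨u', hu', hu'c⟩ := Groth.Agent.H2.GRAtN3.exists_mul_mem_of_pow n hGRV c s k hs hsc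
    rw [IsLocalization.mk'_mem_map_algebraMap_iff n.primeCompl]
    exact ⟨u', hu', hu'c⟩
  haveI hred : IsReduced (Localization.AtPrime n) :=
    Groth.Agent.H67.DvrRed.isReduced_of_flat_dvr (algebraMap V (Localization.AtPrime n))
      (RingHom.flat_algebraMap_iff.mpr inferInstance) hrad
  intro a ha
  have h0 : algebraMap E (Localization.AtPrime n) a = 0 := (ha.map _).eq_zero
  obtain ⟨m, hm⟩ := (IsLocalization.map_eq_zero_iff n.primeCompl _ a).mp h0
  exact ⟨m, m.2, hm⟩

end Groth.Agent.H2.GRAtN1
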