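import Groth.Prelude.Def_Wider
import Mathlib.RingTheory.Length
import Mathlib.RingTheory.FiniteLength
import Mathlib.RingTheory.SimpleModule.Basic
import Mathlib.RingTheory.Nakayama

/-!
# Matlis duality, part 1: finite length modules

`R` a local ring, `f : k → E` an injective hull of the residue field.
-/

set_option autoImplicit false

universe u

namespace Groth.Agent.H2.Matlis

open Function

variable {R : Type u} [CommRing R] [IsLocalRing R] {E : Type u} [AddCommGroup E] [Module R E]
  {f : IsLocalRing.ResidueField R →ₗ[R] E}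

omit [IsLocalRing R] in
lemma unit_smul_cancel {G : Type*} [AddCommGroup G] [Module R G] {r : R} (hr : IsUnit r) {x : G}
    (h : r • x = 0) : x = 0 := by
  obtain ⟨u, rfl⟩ := hr
  have : x = (↑u⁻¹ : R) • ((u : R) • x) := by rw [smul_smul, Units.inv_mul, one_smul]
  rw [this, h, smul_zero]

lemma mem_maximalIdeal_of_not_isUnit {r : R} (h : ¬ IsUnit r) : r ∈ IsLocalRing.maximalIdeal R :=
  (IsLocalRing.mem_maximalIdeal r).mpr (mem_nonunits_iff.mpr h)

lemma smul_f (f : IsLocalRing.ResidueField R →ₗ[R] E) (r : R) (t : IsLocalRing.ResidueField R) :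
    r • f t = f (IsLocalRing.residue R r * t) := by
  rw [← map_smul, Algebra.smul_def, IsLocalRing.ResidueField.algebraMap_eq]

lemma maximalIdeal_smul_f (f : IsLocalRing.ResidueField R →ₗ[R] E) {a : R}
    (ha : a ∈ IsLocalRing.maximalIdeal R) (t : IsLocalRing.ResidueField R) : a • f t = 0 := by
  rw [smul_f, (IsLocalRing.residue_eq_zero_iff a).mpr ha, zero_mul, map_zero]

/-- The socle of `E` is the image of `k`. -/
lemma socle (hf : InjHull.IsInjectiveHull f) (e : E)
    (he : ∀ a ∈ IsLocalRing.maximalIdeal R, a • e = 0) : e ∈ LinearMap.range f := by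
  by_cases he0 : e = 0
  · rw [he0]; exact Submodule.zero_mem _
  have hN : Submodule.span R {e} ≠ ⊥ := by
    rw [Ne, Submodule.span_singleton_eq_bot]; exact he0
  obtain ⟨y, hy, hy0⟩ := (Submodule.ne_bot_iff _).mp (hf.essential _ hN)
  obtain ⟨hyN, hyr⟩ := Submodule.mem_inf.mp hy
  obtain ⟨r, rfl⟩ := Submodule.mem_span_singleton.mp hyN
  have hr : IsUnit r := by
    by_contra hnu
    exact hy0 (he r (mem_maximalIdeal_of_not_isUnit hnu))
  obtain ⟨u, rfl⟩ := hr
  have : e = (↑u⁻¹ : R) • ((u : R) • e) := by rw [smul_smul, Units.inv_mul, one_smul]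
  rw [this]
  exact Submodule.smul_mem _ _ hyr

/-- `E` is a cogenerator. -/
lemma cogen (hf : InjHull.IsInjectiveHull f) (G : Type u) [AddCommGroup G] [Module R G] (x : G)
    (hx : x ≠ 0) : ∃ φ : G →ₗ[R] E, φ x ≠ 0 := by
  have := hf.isInjective
  obtain ⟨t, ht⟩ : ∃ t : R →ₗ[R] G, ∀ r, t r = r • x :=
    ⟨LinearMap.toSpanSingleton R G x, fun r => rfl⟩
  obtain ⟨g, hg⟩ : ∃ g : R →ₗ[R] E, ∀ r, g r = f (IsLocalRing.residue R r) :=
    ⟨f ∘ₗ (Algebra.linearMap R (IsLocalRing.ResidueField R)), fun r => rfl⟩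
  have hker : LinearMap.ker t ≤ LinearMap.ker g := by
    intro r hr
    have hr' : r • x = 0 := by rw [← ht]; exact hr
    have hrm : r ∈ IsLocalRing.maximalIdeal R := by
      by_contra hnm
      have hu : IsUnit r := by
        by_contra hnu; exact hnm (mem_maximalIdeal_of_not_isUnit hnu)
      exact hx (unit_smul_cancel hu hr')
    rw [LinearMap.mem_ker, hg, (IsLocalRing.residue_eq_zero_iff r).mpr hrm, map_zero]
  obtain ⟨ι, hι⟩ : ∃ ι : (R ⧸ LinearMap.ker t) →ₗ[R] G, ∀ r, ι (Submodule.Quotient.mk r) = t r :=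
    ⟨(LinearMap.ker t).liftQ t le_rfl, fun r => rfl⟩
  have hιinj : Injective ι := by
    rw [injective_iff_map_eq_zero]
    intro q hq
    obtain ⟨r, rfl⟩ := Submodule.Quotient.mk_surjective _ q
    rw [hι] at hq
    exact (Submodule.Quotient.mk_eq_zero _).mpr hq
  obtain ⟨g', hg'⟩ : ∃ g' : (R ⧸ LinearMap.ker t) →ₗ[R] E,
      ∀ r, g' (Submodule.Quotient.mk r) = g r :=
    ⟨(LinearMap.ker t).liftQ g hker, fun r => rfl⟩
  obtain ⟨φ, hφ⟩ := Module.Injective.extension_property R E _ G ι hιinj g'
  refine ⟨φ, ?_⟩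
  have h1 : φ x = f 1 := by
    have h2 : ι (Submodule.Quotient.mk 1) = x := by rw [hι, ht, one_smul]
    have h3 := LinearMap.congr_fun hφ (Submodule.Quotient.mk 1)
    rw [LinearMap.comp_apply, h2, hg', hg, map_one] at h3
    exact h3
  rw [h1]
  intro h0
  exact one_ne_zero (hf.injective (h0.trans (map_zero f).symm))

/-- The dual of a simple module is simple. -/
lemma simple_dual (hf : InjHull.IsInjectiveHull f) (S : Type u) [AddCommGroup S] [Module R S]
    [IsSimpleModule R S] : IsSimpleModule R (S →ₗ[R] E) := by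
  rw [isSimpleModule_iff_toSpanSingleton_surjective]
  have := IsSimpleModule.nontrivial R S
  obtain ⟨s₀, hs₀⟩ := exists_ne (0 : S)
  have hgen : ∀ s : S, ∃ r : R, s = r • s₀ := fun s => by
    obtain ⟨r, hr⟩ := IsSimpleModule.toSpanSingleton_surjective R hs₀ s
    exact ⟨r, hr.symm⟩
  obtain ⟨I, hI, ⟨e⟩⟩ := (isSimpleModule_iff_quot_maximal (R := R) (M := S)).mp inferInstance
  have hI' : I = IsLocalRing.maximalIdeal R := IsLocalRing.eq_maximalIdeal hI
  subst hI'
  have hmS : ∀ a ∈ IsLocalRing.maximalIdeal R, ∀ s : S, a • s = 0 := by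
    intro a ha s
    apply e.injective
    rw [map_smul, map_zero]
    obtain ⟨r, hr⟩ := Submodule.Quotient.mk_surjective _ (e s)
    rw [← hr, ← Submodule.Quotient.mk_smul, Submodule.Quotient.mk_eq_zero]
    show a * r ∈ IsLocalRing.maximalIdeal R
    exact Ideal.mul_mem_right _ _ ha
  have hsoc : ∀ ψ : S →ₗ[R] E, ψ s₀ ∈ LinearMap.range f := fun ψ =>
    socle hf _ (fun a ha => by rw [← map_smul, hmS a ha, map_zero])
  refine ⟨?_, fun φ hφ φ' => ?_⟩
  · obtain ⟨ψ, hψ⟩ := cogen hf S s₀ hs₀
    exact ⟨⟨ψ, 0, fun h => hψ (by rw [h]; rfl)⟩⟩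
  · obtain ⟨c₁, hc₁⟩ := hsoc φ
    obtain ⟨c₂, hc₂⟩ := hsoc φ'
    have hc₁0 : c₁ ≠ 0 := by
      rintro rfl
      apply hφ
      ext s
      obtain ⟨r, rfl⟩ := hgen s
      rw [LinearMap.zero_apply, map_smul, ← hc₁, map_zero, smul_zero]
    obtain ⟨r, hr⟩ := IsLocalRing.residue_surjective (R := R) (c₂ * c₁⁻¹)
    refine ⟨r, ?_⟩
    show r • φ = φ'
    have key : r • f c₁ = f c₂ := by
      rw [smul_f, hr, mul_assoc, inv_mul_cancel₀ hc₁0, mul_one]
    ext s
    obtain ⟨r', rfl⟩ := hgen s
    rw [LinearMap.smul_apply, map_smul, map_smul, ← hc₁, ← hc₂, smul_comm, key]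

/-- `Hom(-, E)` preserves length of finite length modules. -/
theorem length_dual (hf : InjHull.IsInjectiveHull f) (M : Type u) [AddCommGroup M] [Module R M]
    (hM : IsFiniteLength R M) : Module.length R (M →ₗ[R] E) = Module.length R M := by
  have := hf.isInjective
  induction hM with
  | of_subsingleton =>
    rename_i M _ _ _
    have : Subsingleton (M →ₗ[R] E) :=
      ⟨fun a b => LinearMap.ext fun m => by rw [Subsingleton.elim m 0, map_zero, map_zero]⟩
    rw [Module.length_eq_zero, Module.length_eq_zero]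
  | of_simple_quotient hN ih =>
    rename_i M _ _ N _
    obtain ⟨α, hα⟩ : ∃ α : ((M ⧸ N) →ₗ[R] E) →ₗ[R] (M →ₗ[R] E), ∀ g, α g = g ∘ₗ N.mkQ :=
      ⟨LinearMap.lcomp R E N.mkQ, fun g => rfl⟩
    obtain ⟨β, hβ⟩ : ∃ β : (M →ₗ[R] E) →ₗ[R] (N →ₗ[R] E), ∀ g, β g = g ∘ₗ N.subtype :=
      ⟨LinearMap.lcomp R E N.subtype, fun g => rfl⟩
    have hαinj : Injective α := by
      intro g g' h
      rw [hα, hα] at h
      ext q
      exact LinearMap.congr_fun h q
    have hβsurj : Surjective β := by
      intro g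
      obtain ⟨h, hh⟩ := Module.Injective.extension_property R E N M N.subtype
        N.injective_subtype g
      exact ⟨h, by rw [hβ, hh]⟩
    have hex : Function.Exact α β := by
      intro φ
      constructor
      · intro h
        rw [hβ] at h
        have hle : N ≤ LinearMap.ker φ := fun n hn => by
          have := LinearMap.congr_fun h ⟨n, hn⟩
          exact this
        exact ⟨N.liftQ φ hle, by rw [hα, Submodule.liftQ_mkQ]⟩
      · rintro ⟨g, rfl⟩
        rw [hα, hβ]
        ext n
        show g (N.mkQ (n : M)) = 0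
        rw [Submodule.mkQ_apply, (Submodule.Quotient.mk_eq_zero N).mpr n.2, map_zero]
    have h1 := Module.length_eq_add_of_exact α β hαinj hβsurj hex
    have h2 := Module.length_eq_add_of_exact N.subtype N.mkQ N.injective_subtype
      N.mkQ_surjective (LinearMap.exact_subtype_mkQ N)
    have := simple_dual hf (M ⧸ N)
    rw [h1, h2, ih, Module.length_eq_one R ((M ⧸ N) →ₗ[R] E), Module.length_eq_one R (M ⧸ N),
      add_comm]

/-- The evaluation map into the double dual is injective (for any module). -/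
lemma applyₗ_injective (hf : InjHull.IsInjectiveHull f) (G : Type u) [AddCommGroup G]
    [Module R G] :
    Injective (LinearMap.applyₗ : G →ₗ[R] (G →ₗ[R] E) →ₗ[R] E) := by
  rw [injective_iff_map_eq_zero]
  intro x hx
  by_contra hx0
  obtain ⟨φ, hφ⟩ := cogen hf G x hx0
  exact hφ (LinearMap.congr_fun hx φ)

omit [IsLocalRing R] in
/-- An injective map between modules of the same finite length is surjective. -/
lemma surjective_of_injective_of_length_eq {M N : Type u} [AddCommGroup M] [Module R M]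
    [AddCommGroup N] [Module R N] (g : M →ₗ[R] N) (hg : Injective g)
    (hfin : Module.length R M ≠ ⊤) (hlen : Module.length R N = Module.length R M) :
    Surjective g := by
  have h3 := Module.length_eq_add_of_exact g (LinearMap.range g).mkQ hg
    (Submodule.mkQ_surjective _) (LinearMap.exact_map_mkQ_range g)
  rw [hlen] at h3
  have hQ : Module.length R (N ⧸ LinearMap.range g) = 0 := by
    have h4 : Module.length R M + 0 = Module.length R M + Module.length R (N ⧸ LinearMap.range g) := by
      rw [add_zero]; exact h3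
    exact (ENat.add_right_injective_of_ne_top hfin h4).symm
  rw [Module.length_eq_zero_iff, Submodule.Quotient.subsingleton_iff] at hQ
  exact LinearMap.range_eq_top.mp hQ

/-- For finite length modules the evaluation map into the double dual is bijective. -/
theorem applyₗ_bijective (hf : InjHull.IsInjectiveHull f) (M : Type u) [AddCommGroup M]
    [Module R M] (hM : IsFiniteLength R M) :
    Bijective (LinearMap.applyₗ : M →ₗ[R] (M →ₗ[R] E) →ₗ[R] E) := by
  refine ⟨applyₗ_injective hf M, ?_⟩
  have hfin : Module.length R M ≠ ⊤ := Module.length_ne_top_iff.mpr hM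
  have hD : IsFiniteLength R (M →ₗ[R] E) := by
    rw [← Module.length_ne_top_iff, length_dual hf M hM]; exact hfin
  have hlen : Module.length R ((M →ₗ[R] E) →ₗ[R] E) = Module.length R M := by
    rw [length_dual hf _ hD, length_dual hf M hM]
  exact surjective_of_injective_of_length_eq _ (applyₗ_injective hf M) hfin hlen

/-- In a power torsion module every nonzero element has a nonzero multiple in the socle. -/
lemma exists_smul_ne_zero_killed {M : Type*} [AddCommGroup M] [Module R M]
    (hM : LocCoh.IsPowerTorsion (IsLocalRing.maximalIdeal R) M) (x : M) (hx0 : x ≠ 0) :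
    ∃ a : R, a • x ≠ 0 ∧ ∀ c ∈ IsLocalRing.maximalIdeal R, c • a • x = 0 := by
  classical
  have hex := hM x
  obtain ⟨j, hj, hjmin⟩ : ∃ j, (∀ a ∈ IsLocalRing.maximalIdeal R ^ j, a • x = 0) ∧
      ∀ j' < j, ¬ ∀ a ∈ IsLocalRing.maximalIdeal R ^ j', a • x = 0 :=
    ⟨Nat.find hex, Nat.find_spec hex, fun j' hj' => Nat.find_min hex hj'⟩
  have hj0 : j ≠ 0 := by
    intro h0
    apply hx0
    have := hj 1 (by rw [h0, pow_zero, Ideal.one_eq_top]; trivial)
    simpa using this
  obtain ⟨j', hj'⟩ := Nat.exists_eq_succ_of_ne_zero hj0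
  have hmin := hjmin j' (by omega)
  push Not at hmin
  obtain ⟨a, ha, hax⟩ := hmin
  refine ⟨a, hax, fun c hc => ?_⟩
  rw [smul_smul]
  apply hj
  rw [hj', pow_succ']
  exact Ideal.mul_mem_mul hc ha

instance : IsSimpleModule R (IsLocalRing.ResidueField R) :=
  isSimpleModule_iff_quot_maximal.mpr
    ⟨IsLocalRing.maximalIdeal R, inferInstance, ⟨LinearEquiv.refl R _⟩⟩

/-- Characterisation of the injective hull of the residue field (the converse direction). -/
theorem isInjectiveHull_of_simple_dual (hinj : Module.Injective R E)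
    (hpt : LocCoh.IsPowerTorsion (IsLocalRing.maximalIdeal R) E)
    (hsimple : IsSimpleModule R (IsLocalRing.ResidueField R →ₗ[R] E)) :
    ∃ f : IsLocalRing.ResidueField R →ₗ[R] E, InjHull.IsInjectiveHull f := by
  have := IsSimpleModule.nontrivial R (IsLocalRing.ResidueField R →ₗ[R] E)
  obtain ⟨f, hf0⟩ := exists_ne (0 : IsLocalRing.ResidueField R →ₗ[R] E)
  have hfinj : Injective f := by
    rw [← LinearMap.ker_eq_bot]
    rcases eq_bot_or_eq_top (LinearMap.ker f) with h | h
    · exact h
    · exact absurd (LinearMap.ker_eq_top.mp h) hf0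
  refine ⟨f, ⟨⟨hfinj, fun N hN => ?_⟩, hinj⟩⟩
  obtain ⟨x, hxN, hx0⟩ := (Submodule.ne_bot_iff _).mp hN
  obtain ⟨a, hax, hkill⟩ := exists_smul_ne_zero_killed hpt x hx0
  -- the map `k → E` sending `1` to `a • x`
  have hle : IsLocalRing.maximalIdeal R ≤ LinearMap.ker (LinearMap.toSpanSingleton R E (a • x)) :=
    fun c hc => hkill c hc
  obtain ⟨g, hg⟩ : ∃ g : IsLocalRing.ResidueField R →ₗ[R] E, g 1 = a • x :=
    ⟨(IsLocalRing.maximalIdeal R).liftQ (LinearMap.toSpanSingleton R E (a • x)) hle,
      by show (1 : R) • (a • x) = a • x; rw [one_smul]⟩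
  obtain ⟨r, hr⟩ := IsSimpleModule.toSpanSingleton_surjective R hf0 g
  have hr' : r • f = g := hr
  rw [Ne, Submodule.eq_bot_iff]
  intro hbot
  apply hax
  apply hbot
  refine Submodule.mem_inf.mpr ⟨N.smul_mem a hxN, ?_⟩
  rw [← hg, ← hr', LinearMap.smul_apply, ← map_smul]
  exact ⟨_, rfl⟩

end Groth.Agent.H2.Matlis
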