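import Mathlib
import Groth.Agent.H95.ZClosStalk
import Groth.Agent.H8.QCohStalk
import Groth.Agent.H8.StructureCoh
import Groth.Agent.H26.DepthQuot
import Groth.Prelude.Def_Coh

/-!
# Connected components and Hartogs-type extension of functions (helper2)

* `isOpen_connectedComponent_of_noetherian`, `locallyConnectedSpace_of_isLocallyNoetherian`
* `isPreconnected_inf`: if restriction `Γ(V) → Γ(V ∩ U)` is bijective for all `V`, then `C ∩ U` is
  preconnected for every preconnected open `C`; `inf_ne_bot`: `U` is dense.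
* `depth_structureModule_stalk`: the stalk of the structure module has the depth of the local ring.
-/

set_option autoImplicit false
set_option linter.style.haveILetI false
universe u
open TopologicalSpace AlgebraicGeometry CategoryTheory Opposite Topology

namespace Groth.Agent.H2.ConnComp

section topology


theorem isOpen_connectedComponent_of_noetherian {α : Type*} [TopologicalSpace α]
    [NoetherianSpace α] (x : α) : IsOpen (connectedComponent x) := by
  rw [← isClosed_compl_iff]
  have hfin := NoetherianSpace.finite_irreducibleComponents (α := α)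
  have h : (connectedComponent x)ᶜ =
      ⋃₀ {Z ∈ irreducibleComponents α | ¬ Z ⊆ connectedComponent x} := by
    ext y
    constructor
    · intro hy
      exact ⟨irreducibleComponent y, ⟨irreducibleComponent_mem_irreducibleComponents y,
        fun h => hy (h mem_irreducibleComponent)⟩, mem_irreducibleComponent⟩
    · rintro ⟨Z, ⟨hZ, hZx⟩, hyZ⟩ hy
      apply hZx
      have hZpre : IsPreconnected Z := hZ.1.isConnected.isPreconnected
      have h1 := hZpre.subset_connectedComponent hyZ
      rwa [← connectedComponent_eq hy] at h1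
  rw [h, Set.sUnion_eq_biUnion]
  have hfin' : {Z ∈ irreducibleComponents α | ¬ Z ⊆ connectedComponent x}.Finite :=
    hfin.subset (fun Z hZ => hZ.1)
  exact hfin'.isClosed_biUnion
    (fun Z hZ => isClosed_of_mem_irreducibleComponents Z hZ.1)

theorem locallyConnectedSpace_of_isLocallyNoetherian (X : Scheme.{u}) [IsLocallyNoetherian X] :
    LocallyConnectedSpace X := by
  rw [locallyConnectedSpace_iff_connected_subsets]
  intro x N hN
  obtain ⟨O, hON, hO, hxO⟩ := mem_nhds_iff.1 hN
  obtain ⟨W, hW, hxW, hWO⟩ := exists_isAffineOpen_mem_and_subset (x := x) (U := ⟨O, hO⟩) hxO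
  haveI : NoetherianSpace W :=
    Groth.Agent.H95.ZClos.noetherianSpace_of_isCompact hW.isCompact
  let C : Set W := connectedComponent (⟨x, hxW⟩ : W)
  have hCo : IsOpen C := isOpen_connectedComponent_of_noetherian _
  refine ⟨Subtype.val '' C, ?_, ?_, ?_⟩
  · refine IsOpen.mem_nhds (W.2.isOpenMap_subtype_val _ hCo) ⟨⟨x, hxW⟩, mem_connectedComponent, rfl⟩
  · exact isPreconnected_connectedComponent.image _ continuous_subtype_val.continuousOn
  · rintro _ ⟨y, -, rfl⟩
    exact hON (hWO y.2)


end topology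

section glue


variable {X : Scheme.{u}} (U : X.Opens)
  (H : ∀ V : X.Opens, Function.Bijective (X.presheaf.map (homOfLE (inf_le_left : V ⊓ U ≤ V)).op).hom)

include H in
theorem bij_of_eq (V T : X.Opens) (hT : T = V ⊓ U) (hle : T ≤ V) :
    Function.Bijective (X.presheaf.map (homOfLE hle).op).hom := by
  subst hT
  exact H V

include H in
theorem inf_ne_bot (V : X.Opens) (hV : V ≠ ⊥) : V ⊓ U ≠ ⊥ := by
  intro h
  apply hV
  have hsub : Subsingleton Γ(X, V ⊓ U) := by rw [h]; infer_instance
  have h10 : (1 : Γ(X, V)) = 0 := (H V).1 (Subsingleton.elim _ _)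
  rw [← X.basicOpen_of_isUnit (isUnit_one : IsUnit (1 : Γ(X, V))), h10, X.basicOpen_zero]

include H in
theorem isPreconnected_inf (C : X.Opens) (hC : _root_.IsPreconnected (C : Set X)) :
    _root_.IsPreconnected ((C ⊓ U : X.Opens) : Set X) := by
  intro u v hu hv hsub hnu hnv
  by_contra hempty
  rw [Set.not_nonempty_iff_eq_empty] at hempty
  let W1 : X.Opens := C ⊓ U ⊓ ⟨u, hu⟩
  let W2 : X.Opens := C ⊓ U ⊓ ⟨v, hv⟩
  have hW12 : W1 ⊓ W2 = ⊥ := by
    apply Opens.ext
    rw [Opens.coe_bot, ← hempty]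
    ext x
    simp only [W1, W2, Opens.coe_inf, Opens.coe_mk, Set.mem_inter_iff]
    tauto
  have hT : W1 ⊔ W2 = C ⊓ U := by
    apply Opens.ext
    ext x
    simp only [W1, W2, Opens.coe_sup, Opens.coe_inf, Opens.coe_mk, Set.mem_union,
      Set.mem_inter_iff]
    constructor
    · rintro (⟨h, -⟩ | ⟨h, -⟩) <;> exact h
    · intro h
      rcases hsub h with hx | hx
      · exact Or.inl ⟨h, hx⟩
      · exact Or.inr ⟨h, hx⟩
  have hle : W1 ⊔ W2 ≤ C := by rw [hT]; exact inf_le_left
  have hbij := bij_of_eq U H C (W1 ⊔ W2) hT hle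
  have hcompat : (X.presheaf.map (homOfLE inf_le_left : W1 ⊓ W2 ⟶ W1).op).hom 1 =
      (X.presheaf.map (homOfLE inf_le_right : W1 ⊓ W2 ⟶ W2).op).hom 0 := by
    haveI : Subsingleton Γ(X, W1 ⊓ W2) := by rw [hW12]; infer_instance
    exact Subsingleton.elim _ _
  let e : Γ(X, W1 ⊔ W2) := (X.sheaf.objSupIsoProdEqLocus W1 W2).inv
    ⟨((1 : Γ(X, W1)), (0 : Γ(X, W2))), hcompat⟩
  have he1 : (X.presheaf.map (homOfLE (le_sup_left : W1 ≤ W1 ⊔ W2)).op).hom e = 1 :=
    X.sheaf.objSupIsoProdEqLocus_inv_fst W1 W2 _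
  have he2 : (X.presheaf.map (homOfLE (le_sup_right : W2 ≤ W1 ⊔ W2)).op).hom e = 0 :=
    X.sheaf.objSupIsoProdEqLocus_inv_snd W1 W2 _
  obtain ⟨ε, hε⟩ := hbij.2 e
  have hidem : ε * (1 - ε) = 0 := by
    apply hbij.1
    rw [map_mul, map_sub, map_one, map_zero, hε]
    refine X.sheaf.eq_of_locally_eq₂ (homOfLE le_sup_left) (homOfLE le_sup_right) le_rfl _ _ ?_ ?_
    · show (X.presheaf.map (homOfLE (le_sup_left : W1 ≤ W1 ⊔ W2)).op).hom (e * (1 - e)) =
        (X.presheaf.map (homOfLE (le_sup_left : W1 ≤ W1 ⊔ W2)).op).hom 0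
      rw [map_mul, map_sub, map_one, map_zero, he1, sub_self, mul_zero]
    · show (X.presheaf.map (homOfLE (le_sup_right : W2 ≤ W1 ⊔ W2)).op).hom (e * (1 - e)) =
        (X.presheaf.map (homOfLE (le_sup_right : W2 ≤ W1 ⊔ W2)).op).hom 0
      rw [map_mul, map_sub, map_one, map_zero, he2, zero_mul]
  -- restrictions of ε
  have hε1 : (X.presheaf.map (homOfLE (le_sup_left.trans hle : W1 ≤ C)).op).hom ε = 1 := by
    rw [← he1, ← hε, ← CommRingCat.comp_apply, ← Functor.map_comp]
    rfl
  have hε2 : (X.presheaf.map (homOfLE (le_sup_right.trans hle : W2 ≤ C)).op).hom ε = 0 := by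
    rw [← he2, ← hε, ← CommRingCat.comp_apply, ← Functor.map_comp]
    rfl
  have hD12 : X.basicOpen ε ⊓ X.basicOpen (1 - ε) = ⊥ := by
    rw [← X.basicOpen_mul, hidem, X.basicOpen_zero]
  have hW1D : W1 ≤ X.basicOpen ε := by
    have h := X.basicOpen_res ε (homOfLE (le_sup_left.trans hle : W1 ≤ C)).op
    have h' : X.basicOpen ((X.presheaf.map (homOfLE (le_sup_left.trans hle : W1 ≤ C)).op).hom ε) =
        W1 := by
      rw [hε1]; exact X.basicOpen_of_isUnit isUnit_one
    rw [← h', h]
    exact inf_le_right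
  have hW2D : W2 ≤ X.basicOpen (1 - ε) := by
    have h := X.basicOpen_res (1 - ε) (homOfLE (le_sup_right.trans hle : W2 ≤ C)).op
    have h' : X.basicOpen ((X.presheaf.map (homOfLE (le_sup_right.trans hle : W2 ≤ C)).op).hom
        (1 - ε)) = W2 := by
      rw [map_sub, map_one, hε2, sub_zero]; exact X.basicOpen_of_isUnit isUnit_one
    rw [← h', h]
    exact inf_le_right
  have hcov : (C : Set X) ⊆ (X.basicOpen ε : Set X) ∪ (X.basicOpen (1 - ε) : Set X) := by
    intro x hx
    rcases IsLocalRing.isUnit_or_isUnit_one_sub_self (X.presheaf.germ C x hx ε) with h | h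
    · exact Or.inl ((X.mem_basicOpen ε x hx).2 h)
    · refine Or.inr ((X.mem_basicOpen (1 - ε) x hx).2 ?_)
      rwa [map_sub, map_one]
  obtain ⟨x1, hx1, hx1u⟩ := hnu
  obtain ⟨x2, hx2, hx2v⟩ := hnv
  have hn1 : ((C : Set X) ∩ (X.basicOpen ε : Set X)).Nonempty :=
    ⟨x1, hx1.1, hW1D ⟨hx1, hx1u⟩⟩
  have hn2 : ((C : Set X) ∩ (X.basicOpen (1 - ε) : Set X)).Nonempty :=
    ⟨x2, hx2.1, hW2D ⟨hx2, hx2v⟩⟩
  obtain ⟨z, -, hz1, hz2⟩ := hC _ _ (X.basicOpen ε).2 (X.basicOpen (1 - ε)).2 hcov hn1 hn2
  have : z ∈ (X.basicOpen ε ⊓ X.basicOpen (1 - ε) : X.Opens) := ⟨hz1, hz2⟩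
  rw [hD12] at this
  exact this


end glue

section bridge


variable (X : Scheme.{u})

/-- view a function as a section of the structure module -/
def toO (V : X.Opens) (r : Γ(X, V)) : Γ(Coh.structureModule X, V) := r

theorem toO_smul (V : X.Opens) (r s : Γ(X, V)) : r • toO X V s = toO X V (r * s) := rfl

theorem toO_map {V W : X.Opens} (i : W ⟶ V) (r : Γ(X, V)) :
    (Coh.structureModule X).presheaf.map i.op (toO X V r) = toO X W (X.presheaf.map i.op r) := rfl

theorem toO_surjective (V : X.Opens) (m : Γ(Coh.structureModule X, V)) : ∃ r, toO X V r = m :=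
  ⟨m, rfl⟩

theorem toO_eq_zero (V : X.Opens) (r : Γ(X, V)) (h : toO X V r = 0) : r = 0 := h

/-- the germ of the unit section -/
noncomputable def oneGerm (x : X) : (Coh.structureModule X).presheaf.stalk x :=
  (Coh.structureModule X).presheaf.germ ⊤ x trivial (toO X ⊤ 1)

/-- `O_{X,x} → (O_X)_x`, `r ↦ r • 1` -/
noncomputable def L (x : X) :
    X.presheaf.stalk x →ₗ[X.presheaf.stalk x] (Coh.structureModule X).presheaf.stalk x :=
  LinearMap.toSpanSingleton _ _ (oneGerm X x)

theorem L_germ (x : X) (V : X.Opens) (hx : x ∈ V) (r : Γ(X, V)) :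
    L X x (X.presheaf.germ V x hx r) =
      (Coh.structureModule X).presheaf.germ V x hx (toO X V r) := by
  have h1 : oneGerm X x = (Coh.structureModule X).presheaf.germ V x hx (toO X V 1) := by
    unfold oneGerm
    rw [← TopCat.Presheaf.germ_res_apply (Coh.structureModule X).presheaf (homOfLE le_top) x hx,
      toO_map, map_one]
  show X.presheaf.germ V x hx r • oneGerm X x = _
  rw [h1, ← Groth.Agent.H8.germ_smul, toO_smul, mul_one]

theorem L_bijective (x : X) : Function.Bijective (L X x) := by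
  constructor
  · rw [injective_iff_map_eq_zero]
    intro ρ hρ
    obtain ⟨V, hxV, r, rfl⟩ := TopCat.Presheaf.exists_germ_eq X.presheaf ρ
    rw [L_germ] at hρ
    have h0 : (Coh.structureModule X).presheaf.germ V x hxV (toO X V r) =
        (Coh.structureModule X).presheaf.germ V x hxV 0 := by rw [hρ, map_zero]
    obtain ⟨W, hxW, iU, _, hW⟩ := TopCat.Presheaf.germ_eq (Coh.structureModule X).presheaf x
      hxV hxV _ _ h0
    rw [map_zero, toO_map] at hW
    have h2 := toO_eq_zero X W _ hW
    rw [← TopCat.Presheaf.germ_res_apply X.presheaf iU x hxW, h2, map_zero]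
  · intro t
    obtain ⟨V, hxV, m, rfl⟩ := TopCat.Presheaf.exists_germ_eq (Coh.structureModule X).presheaf t
    obtain ⟨r, rfl⟩ := toO_surjective X V m
    exact ⟨X.presheaf.germ V x hxV r, L_germ X x V hxV r⟩

theorem depth_structureModule_stalk (x : X) :
    LocCoh.depth (X.presheaf.stalk x) ((Coh.structureModule X).presheaf.stalk x) =
      LocCoh.depth (X.presheaf.stalk x) (X.presheaf.stalk x) :=
  (Groth.Agent.H26.DepthQuot.idealDepth_congr _
    (LinearEquiv.ofBijective (L X x) (L_bijective X x))).symm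


end bridge

end Groth.Agent.H2.ConnComp
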