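import Mathlib

/-! (E1a) for helper13's S1291 squad. -/

set_option autoImplicit false
universe u
open TensorProduct

namespace Groth.Agent.H2.FZ

/-- (E1a) without the flatness hypothesis: `Ch ⊗[A] Ch` is the localization of `Ch ⊗[A] C` at
`1 ⊗ h`. -/
theorem exists_pow_mul_eq_zero_of_map_eq_zero' {A C : Type u} [CommRing A] [CommRing C] [Algebra A C]
    (h : C) (z : Localization.Away h ⊗[A] C)
    (hz : Algebra.TensorProduct.map (AlgHom.id (Localization.Away h) (Localization.Away h))
      (IsScalarTower.toAlgHom A C (Localization.Away h)) z = 0) :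
    ∃ n : ℕ, ((1 : Localization.Away h) ⊗ₜ[A] h) ^ n * z = 0 := by
  letI alg : Algebra (Localization.Away h ⊗[A] C) (Localization.Away h ⊗[A] Localization.Away h) :=
    (Algebra.TensorProduct.map (AlgHom.id (Localization.Away h) (Localization.Away h))
      (IsScalarTower.toAlgHom A C (Localization.Away h))).toRingHom.toAlgebra
  haveI : IsScalarTower (Localization.Away h) (Localization.Away h ⊗[A] C)
      (Localization.Away h ⊗[A] Localization.Away h) := by
    refine ⟨fun x y w => ?_⟩
    rw [Algebra.smul_def y w, Algebra.smul_def (x • y) w, RingHom.algebraMap_toAlgebra]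
    change (Algebra.TensorProduct.map (AlgHom.id (Localization.Away h) (Localization.Away h))
      (IsScalarTower.toAlgHom A C (Localization.Away h))) (x • y) * w = x •
      ((Algebra.TensorProduct.map (AlgHom.id (Localization.Away h) (Localization.Away h))
      (IsScalarTower.toAlgHom A C (Localization.Away h))) y * w)
    rw [map_smul, smul_mul_assoc]
  have hloc := IsLocalization.tensorProduct_tensorProduct_right A (Localization.Away h)
    (Submonoid.powers h) (Localization.Away h) (by
      ext c
      simp [RingHom.algebraMap_toAlgebra])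
  have hz' : algebraMap (Localization.Away h ⊗[A] C)
      (Localization.Away h ⊗[A] Localization.Away h) z = 0 := hz
  obtain ⟨⟨m, hmem⟩, hm⟩ := (IsLocalization.map_eq_zero_iff
    ((Submonoid.powers h).map (Algebra.TensorProduct.includeRight (R := A)
      (A := Localization.Away h))) _ z).mp hz'
  obtain ⟨_, ⟨n, rfl⟩, rfl⟩ := hmem
  refine ⟨n, ?_⟩
  simpa [Algebra.TensorProduct.tmul_pow] using hm

/-- (E1a) -/
theorem exists_pow_mul_eq_zero_of_map_eq_zero {A C : Type u} [CommRing A] [CommRing C] [Algebra A C]
    (h : C) [Module.Flat A (Localization.Away h)] (z : Localization.Away h ⊗[A] C)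
    (hz : Algebra.TensorProduct.map (AlgHom.id (Localization.Away h) (Localization.Away h))
      (IsScalarTower.toAlgHom A C (Localization.Away h)) z = 0) :
    ∃ n : ℕ, ((1 : Localization.Away h) ⊗ₜ[A] h) ^ n * z = 0 :=
  exists_pow_mul_eq_zero_of_map_eq_zero' h z hz

end Groth.Agent.H2.FZ
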