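import Mathlib
import Groth.Agent.H2.FZ_E1a

/-! (E1) for helper13's S1291 squad: the separability element after localization. -/

set_option autoImplicit false
universe u
open TensorProduct

namespace Groth.Agent.H2.FZ

/-- (E1) -/
theorem exists_sep_elem {A C : Type u} [CommRing A] [CommRing C] [Algebra A C] [Module.Finite A C]
    (h : C) [Algebra.Etale A (Localization.Away h)] :
    ∃ e : Localization.Away h ⊗[A] C,
      Algebra.TensorProduct.lift (AlgHom.id (Localization.Away h) (Localization.Away h))
        (IsScalarTower.toAlgHom A C (Localization.Away h)) (fun _ _ => Commute.all _ _) e = 1 ∧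
      ∀ c : C, ((1 : Localization.Away h) ⊗ₜ[A] c) * e =
        (algebraMap C (Localization.Away h) c ⊗ₜ[A] (1 : C)) * e := by
  classical
  -- notation
  let φ := Algebra.TensorProduct.map (AlgHom.id (Localization.Away h) (Localization.Away h))
      (IsScalarTower.toAlgHom A C (Localization.Away h))
  let μ := Algebra.TensorProduct.lift (AlgHom.id (Localization.Away h) (Localization.Away h))
        (IsScalarTower.toAlgHom A C (Localization.Away h)) (fun _ _ => Commute.all _ _)
  have hμφ : ∀ t, Algebra.TensorProduct.lmul' A (φ t) = μ t := by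
    intro t
    induction t using TensorProduct.induction_on with
    | zero => simp
    | tmul x c => simp [φ, μ]
    | add x y hx hy => rw [map_add, map_add, map_add, hx, hy]
  -- the localization structure
  letI alg : Algebra (Localization.Away h ⊗[A] C) (Localization.Away h ⊗[A] Localization.Away h) :=
    φ.toRingHom.toAlgebra
  haveI : IsScalarTower (Localization.Away h) (Localization.Away h ⊗[A] C)
      (Localization.Away h ⊗[A] Localization.Away h) := by
    refine ⟨fun x y w => ?_⟩
    rw [Algebra.smul_def y w, Algebra.smul_def (x • y) w, RingHom.algebraMap_toAlgebra]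
    change φ (x • y) * w = x • (φ y * w)
    rw [map_smul, smul_mul_assoc]
  have hloc := IsLocalization.tensorProduct_tensorProduct_right A (Localization.Away h)
    (Submonoid.powers h) (Localization.Away h) (by
      ext c
      simp [RingHom.algebraMap_toAlgebra, φ])
  -- (1) the separability idempotent of `Ch / A`
  have hunr : Algebra.FormallyUnramified A (Localization.Away h) := inferInstance
  obtain ⟨ε, hε1, hε2⟩ := Algebra.FormallyUnramified.iff_exists_tensorProduct.mp hunr
  -- (2) clear denominators
  obtain ⟨⟨e₀, ⟨s, hs⟩⟩, he₀⟩ := IsLocalization.surj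
    ((Submonoid.powers h).map (Algebra.TensorProduct.includeRight (R := A)
      (A := Localization.Away h))) ε
  obtain ⟨_, ⟨m, rfl⟩, rfl⟩ := hs
  have he₀' : ε * φ (((1 : Localization.Away h) ⊗ₜ[A] h) ^ m) = φ e₀ := by
    have h1 : ((1 : Localization.Away h) ⊗ₜ[A] h) ^ m = (1 : Localization.Away h) ⊗ₜ[A] (h ^ m) := by
      simp [Algebra.TensorProduct.tmul_pow]
    rw [h1]
    exact he₀
  have hφ1h : φ ((1 : Localization.Away h) ⊗ₜ[A] h) =
      (1 : Localization.Away h) ⊗ₜ[A] (algebraMap C (Localization.Away h) h) := by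
    simp [φ]
  have hμ1h : μ ((1 : Localization.Away h) ⊗ₜ[A] h) = algebraMap C (Localization.Away h) h := by
    simp [μ]
  have hμe₀ : μ e₀ = (algebraMap C (Localization.Away h) h) ^ m := by
    rw [← hμφ, ← he₀', map_mul, hε2, one_mul, hμφ, map_pow, hμ1h]
  have hkill0 : ∀ c : C, φ (((1 : Localization.Away h) ⊗ₜ[A] c -
      algebraMap C (Localization.Away h) c ⊗ₜ[A] (1 : C)) * e₀) = 0 := by
    intro c
    rw [map_mul, ← he₀', ← mul_assoc]
    have : φ ((1 : Localization.Away h) ⊗ₜ[A] c -
        algebraMap C (Localization.Away h) c ⊗ₜ[A] (1 : C)) =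
        (1 : Localization.Away h) ⊗ₜ[A] (algebraMap C (Localization.Away h) c) -
          (algebraMap C (Localization.Away h) c) ⊗ₜ[A] (1 : Localization.Away h) := by
      simp [φ]
    rw [this, hε1, zero_mul]
  -- (3) a uniform exponent
  have hex : ∀ c : C, ∃ n : ℕ, ((1 : Localization.Away h) ⊗ₜ[A] h) ^ n *
      (((1 : Localization.Away h) ⊗ₜ[A] c -
      algebraMap C (Localization.Away h) c ⊗ₜ[A] (1 : C)) * e₀) = 0 :=
    fun c => exists_pow_mul_eq_zero_of_map_eq_zero' h _ (hkill0 c)
  obtain ⟨r, gen, hgen⟩ := Module.Finite.exists_fin (R := A) (M := C)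
  choose nn hnn using hex
  let n := Finset.univ.sup (fun k : Fin r => nn (gen k))
  have hunif : ∀ c : C, ((1 : Localization.Away h) ⊗ₜ[A] h) ^ n *
      (((1 : Localization.Away h) ⊗ₜ[A] c -
      algebraMap C (Localization.Away h) c ⊗ₜ[A] (1 : C)) * e₀) = 0 := by
    intro c
    have hc : c ∈ Submodule.span A (Set.range gen) := by rw [hgen]; trivial
    induction hc using Submodule.span_induction with
    | mem x hx =>
      obtain ⟨k, rfl⟩ := hx
      have hle : nn (gen k) ≤ n := Finset.le_sup (f := fun k : Fin r => nn (gen k)) (Finset.mem_univ k)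
      obtain ⟨d, hd⟩ := Nat.exists_eq_add_of_le hle
      rw [hd, add_comm, pow_add, mul_assoc, hnn, mul_zero]
    | zero => simp
    | add x y _ _ hx hy =>
      rw [map_add, TensorProduct.tmul_add, TensorProduct.add_tmul, add_sub_add_comm, add_mul,
        mul_add, hx, hy, add_zero]
    | smul a x _ hx =>
      have : ((1 : Localization.Away h) ⊗ₜ[A] (a • x) -
          algebraMap C (Localization.Away h) (a • x) ⊗ₜ[A] (1 : C)) =
          a • ((1 : Localization.Away h) ⊗ₜ[A] x -
          algebraMap C (Localization.Away h) x ⊗ₜ[A] (1 : C)) := by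
        have e1 : algebraMap C (Localization.Away h) (a • x) =
            a • algebraMap C (Localization.Away h) x := by
          rw [Algebra.smul_def, map_mul, ← IsScalarTower.algebraMap_apply, ← Algebra.smul_def]
        rw [smul_sub, TensorProduct.tmul_smul, e1, ← TensorProduct.smul_tmul']
      rw [this, smul_mul_assoc, mul_smul_comm, hx, smul_zero]
  -- (4) normalise
  have hu : IsUnit ((algebraMap C (Localization.Away h) h) ^ (n + m)) :=
    (IsLocalization.Away.algebraMap_isUnit h).pow _
  obtain ⟨v, hv⟩ := hu.exists_left_inv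
  refine ⟨(v ⊗ₜ[A] (1 : C)) * (((1 : Localization.Away h) ⊗ₜ[A] h) ^ n * e₀), ?_, ?_⟩
  · change μ _ = 1
    rw [map_mul, map_mul, map_pow, hμ1h, hμe₀, ← pow_add]
    have : μ (v ⊗ₜ[A] (1 : C)) = v := by simp [μ]
    rw [this, hv]
  · intro c
    have h0 := hunif c
    rw [sub_mul, mul_sub, sub_eq_zero] at h0
    calc ((1 : Localization.Away h) ⊗ₜ[A] c) * ((v ⊗ₜ[A] (1 : C)) *
          (((1 : Localization.Away h) ⊗ₜ[A] h) ^ n * e₀))
        = (v ⊗ₜ[A] (1 : C)) * (((1 : Localization.Away h) ⊗ₜ[A] h) ^ n *
            (((1 : Localization.Away h) ⊗ₜ[A] c) * e₀)) := by ring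
      _ = (v ⊗ₜ[A] (1 : C)) * (((1 : Localization.Away h) ⊗ₜ[A] h) ^ n *
            ((algebraMap C (Localization.Away h) c ⊗ₜ[A] (1 : C)) * e₀)) := by rw [h0]
      _ = _ := by ring

end Groth.Agent.H2.FZ
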