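import Mathlib
import Groth.Agent.H63.LocTensor
import Groth.Agent.H63.StalkBaseChange
import Groth.Agent.H25.StalkBC

/-!
# Length of the local rings of `κ ⊗[k] Ω` (`Ω` algebraically closed) = inseparable degree
-/

set_option autoImplicit false
set_option linter.style.haveILetI false
universe u
open TensorProduct IsLocalRing

namespace Groth.Agent.H2.InsepLen

/-- The length of a ring over itself is invariant under ring isomorphisms. -/
theorem length_self_eq_of_ringEquiv {R R' : Type*} [CommRing R] [CommRing R'] (e : R ≃+* R') :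
    Module.length R R = Module.length R' R' := by
  letI : Algebra R R' := e.toRingHom.toAlgebra
  have h1 : Module.length R R' = Module.length R' R' :=
    Module.length_eq_of_surjective (S := R) (R := R') (M := R') e.surjective
  let f : R ≃ₗ[R] R' :=
    { e with
      map_smul' := by
        intro r x
        simp [Algebra.smul_def, RingHom.algebraMap_toAlgebra] }
  rw [← h1, f.length_eq]

theorem length_localization_eq_of_ringEquiv {R R' : Type*} [CommRing R] [CommRing R']
    (e : R ≃+* R') (Q' : Ideal R') [Q'.IsPrime] (Q : Ideal R) [Q.IsPrime]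
    (hQ : Q = Q'.comap e.toRingHom) :
    Module.length (Localization.AtPrime Q) (Localization.AtPrime Q) =
      Module.length (Localization.AtPrime Q') (Localization.AtPrime Q') := by
  subst hQ
  exact length_self_eq_of_ringEquiv
    (IsLocalization.ringEquivOfRingEquiv (M := (Q'.comap e.toRingHom).primeCompl)
      (T := Q'.primeCompl)
      (Localization.AtPrime (Q'.comap e.toRingHom)) (Localization.AtPrime Q') e
      (Groth.Agent.H63.StalkBaseChange.primeCompl_map_ringEquiv e Q'))

/-- A local ring `Φ`, finite free over a local ring `Λ` isomorphic to an algebraically closed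
field, has length (over itself) equal to its rank over `Λ`. -/
theorem length_self_of_algClosed_base (Ω Λ Φ : Type u) [Field Ω] [IsAlgClosed Ω] [CommRing Λ]
    [IsLocalRing Λ] (f : Ω ≃+* Λ) [CommRing Φ] [IsLocalRing Φ] [Algebra Λ Φ] [Module.Free Λ Φ]
    [Module.Finite Λ Φ] :
    Module.length Φ Φ = Module.finrank Λ Φ := by
  have hΛ : IsField Λ := f.symm.toMulEquiv.isField (Field.toIsField Ω)
  haveI : IsLocalHom (algebraMap Λ Φ) := by
    constructor
    intro a ha
    have ha0 : a ≠ 0 := by
      rintro rfl
      rw [map_zero] at ha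
      exact not_isUnit_zero ha
    obtain ⟨b, hb⟩ := hΛ.mul_inv_cancel ha0
    exact IsUnit.of_mul_eq_one b hb
  have h1 := IsLocalRing.length_restrictScalars Λ Φ Φ
  have h2 := Module.length_of_free_of_finite Λ Φ
  have h3 : Module.length Λ Λ = 1 := by
    rw [← length_self_eq_of_ringEquiv f, Module.length_eq_finrank, Module.finrank_self]
    simp
  have hm : maximalIdeal Λ = ⊥ := (IsLocalRing.isField_iff_maximalIdeal_eq.mp hΛ)
  have hres : Function.Bijective (residue Λ) := by
    refine ⟨?_, residue_surjective⟩
    rw [injective_iff_map_eq_zero]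
    intro a ha
    have : a ∈ maximalIdeal Λ := (residue_eq_zero_iff a).mp ha
    rw [hm] at this
    exact this
  let g : Ω ≃+* ResidueField Λ := f.trans (RingEquiv.ofBijective (residue Λ) hres)
  haveI : IsAlgClosed (ResidueField Λ) := IsAlgClosed.of_ringEquiv Ω _ g
  have hbij : Function.Bijective (algebraMap (ResidueField Λ) (ResidueField Φ)) :=
    IsAlgClosed.algebraMap_bijective_of_isIntegral
  have h4 : Module.length (ResidueField Λ) (ResidueField Φ) = 1 := by
    rw [Module.length_eq_finrank]
    have : Module.finrank (ResidueField Λ) (ResidueField Φ) = 1 := by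
      rw [← (LinearEquiv.ofBijective (Algebra.linearMap (ResidueField Λ) (ResidueField Φ))
        hbij).finrank_eq, Module.finrank_self]
    rw [this]
    simp
  rw [h2, h3, h4, mul_one, mul_one] at h1
  exact h1.symm

/-- For `F/k` finite separable and `Ω` algebraically closed, the local rings of `F ⊗[k] Ω` are
copies of `Ω`. -/
theorem exists_ringEquiv_localization_sep (k F Ω : Type u) [Field k] [Field F] [Field Ω]
    [Algebra k F] [Algebra k Ω] [FiniteDimensional k F] [Algebra.IsSeparable k F] [IsAlgClosed Ω]
    (q : Ideal (F ⊗[k] Ω)) [q.IsPrime] : Nonempty (Ω ≃+* Localization.AtPrime q) := by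
  let c : Ω ⊗[k] F ≃+* F ⊗[k] Ω := (Algebra.TensorProduct.comm k Ω F).toRingEquiv
  let q' : Ideal (Ω ⊗[k] F) := q.comap c.toRingHom
  haveI : q'.IsPrime := Ideal.comap_isPrime _ _
  let g : Localization.AtPrime q' ≃+* Localization.AtPrime q :=
    IsLocalization.ringEquivOfRingEquiv (M := q'.primeCompl) (T := q.primeCompl)
      (Localization.AtPrime q') (Localization.AtPrime q) c
      (Groth.Agent.H63.StalkBaseChange.primeCompl_map_ringEquiv c q)
  haveI : Algebra.FormallyUnramified k F := Algebra.FormallyUnramified.of_isSeparable k F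
  haveI : Algebra.FormallyUnramified Ω (Ω ⊗[k] F) := inferInstance
  haveI : Algebra.FormallyUnramified (Ω ⊗[k] F) (Localization.AtPrime q') :=
    Algebra.FormallyUnramified.of_isLocalization q'.primeCompl
  haveI : Algebra.FormallyUnramified Ω (Localization.AtPrime q') :=
    Algebra.FormallyUnramified.comp Ω (Ω ⊗[k] F) _
  haveI : Algebra.EssFiniteType Ω (Localization.AtPrime q') :=
    Algebra.EssFiniteType.comp Ω (Ω ⊗[k] F) _
  have bij := Algebra.FormallyUnramified.bijective_of_isAlgClosed_of_isLocalRing Ω
    (Localization.AtPrime q')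
  exact ⟨(RingEquiv.ofBijective (algebraMap Ω (Localization.AtPrime q')) bij).trans g⟩

/-- Key lemma, with an abstract intermediate field `F` (`F/k` separable, `κ/F` purely
inseparable). -/
theorem length_localization_tensor_aux (k F κ Ω : Type u) [Field k] [Field F] [Field κ] [Field Ω]
    [Algebra k F] [Algebra F κ] [Algebra k κ] [IsScalarTower k F κ]
    [Algebra k Ω] [FiniteDimensional k κ] [FiniteDimensional k F] [FiniteDimensional F κ]
    [Algebra.IsSeparable k F] [IsPurelyInseparable F κ] [IsAlgClosed Ω]
    (Q : Ideal (κ ⊗[k] Ω)) [Q.IsPrime] :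
    Module.length (Localization.AtPrime Q) (Localization.AtPrime Q) = Module.finrank F κ := by
  classical
  let e0 : κ ⊗[F] (F ⊗[k] Ω) ≃ₐ[F] κ ⊗[k] Ω := Algebra.TensorProduct.cancelBaseChange k F F κ Ω
  let Q1 : Ideal (κ ⊗[F] (F ⊗[k] Ω)) := Q.comap e0.toRingEquiv.toRingHom
  haveI : Q1.IsPrime := Ideal.comap_isPrime _ _
  have hL1 := length_localization_eq_of_ringEquiv e0.toRingEquiv Q Q1 rfl
  let q : Ideal (F ⊗[k] Ω) := Q1.comap
    (Algebra.TensorProduct.includeRight : (F ⊗[k] Ω) →ₐ[F] κ ⊗[F] (F ⊗[k] Ω)).toRingHom
  haveI : q.IsPrime := Ideal.comap_isPrime _ _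
  obtain ⟨Q', hQ', hQ'm, ⟨e1⟩⟩ :=
    Groth.Agent.H63.LocTensor.exists_prime_ringEquiv_localization_tensor F κ (F ⊗[k] Ω) Q1 q rfl
      (Localization.AtPrime q)
  haveI := hQ'
  obtain ⟨e2⟩ := Groth.Agent.H25.StalkBC.nonempty_ringEquiv_localization_of_purelyInseparable F κ
    (Localization.AtPrime q) Q' (by
      intro a ha
      apply hQ'm
      rw [Localization.AtPrime.map_eq_maximalIdeal]
      exact ha)
  obtain ⟨f⟩ := exists_ringEquiv_localization_sep k F Ω q
  let e3 : (Localization.AtPrime q) ⊗[F] κ ≃+* κ ⊗[F] (Localization.AtPrime q) :=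
    (Algebra.TensorProduct.comm F (Localization.AtPrime q) κ).toRingEquiv
  let E : (Localization.AtPrime q) ⊗[F] κ ≃+* Localization.AtPrime Q1 := (e3.trans e2).trans e1
  haveI : IsLocalRing ((Localization.AtPrime q) ⊗[F] κ) := E.symm.isLocalRing
  have hfin := length_self_of_algClosed_base Ω (Localization.AtPrime q)
    ((Localization.AtPrime q) ⊗[F] κ) f
  have hE : Module.length ((Localization.AtPrime q) ⊗[F] κ) ((Localization.AtPrime q) ⊗[F] κ) =
      Module.length (Localization.AtPrime Q1) (Localization.AtPrime Q1) :=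
    length_self_eq_of_ringEquiv (R := (Localization.AtPrime q) ⊗[F] κ)
      (R' := Localization.AtPrime Q1) E
  rw [← hL1, ← hE, hfin, Module.finrank_baseChange]

/-- **Key lemma.** For a finite field extension `κ/k` and an algebraically closed field `Ω`
over `k`, every local ring of `κ ⊗[k] Ω` has length `[κ : k]_i`. -/
theorem length_localization_tensor (k κ Ω : Type u) [Field k] [Field κ] [Field Ω] [Algebra k κ]
    [Algebra k Ω] [FiniteDimensional k κ] [IsAlgClosed Ω] (Q : Ideal (κ ⊗[k] Ω)) [Q.IsPrime] :
    Module.length (Localization.AtPrime Q) (Localization.AtPrime Q) =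
      Field.finInsepDegree k κ := by
  haveI : IsPurelyInseparable (separableClosure k κ) κ := separableClosure.isPurelyInseparable k κ
  haveI : Algebra.IsSeparable k (separableClosure k κ) := separableClosure.isSeparable k κ
  exact length_localization_tensor_aux k (separableClosure k κ) κ Ω Q

end Groth.Agent.H2.InsepLen
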