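import Mathlib
import Groth.Agent.H2.InsepLen

/-!
# Ramification index of primes of `R0 ⊗[k] Ω` over `R0` = inseparable degree of the residue field
-/

set_option autoImplicit false
set_option linter.style.haveILetI false
universe u
open TensorProduct IsLocalRing

namespace Groth.Agent.H2.RamFibre

open Groth.Agent.H2.InsepLen

local notation "rr" => Ideal.comap Algebra.TensorProduct.includeRight

theorem ramificationIdx_fiber (k Ω R0 : Type u) [Field k] [Field Ω] [IsAlgClosed Ω] [Algebra k Ω]
    [CommRing R0] [Algebra k R0] (p : Ideal R0) [p.IsPrime] [Module.Finite k p.ResidueField]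
    (qt : Ideal (p.Fiber (R0 ⊗[k] Ω))) [qt.IsPrime] :
    (qt.comap (Algebra.TensorProduct.includeRight :
      (R0 ⊗[k] Ω) →ₐ[R0] p.Fiber (R0 ⊗[k] Ω))).ramificationIdx R0 =
      Field.finInsepDegree k p.ResidueField := by
  classical
  let := Localization.AtPrime.algebraOfLiesOver p (qt.comap (Algebra.TensorProduct.includeRight :
      (R0 ⊗[k] Ω) →ₐ[R0] p.Fiber (R0 ⊗[k] Ω)))
  rw [Ideal.ramificationIdx_eq p (qt.comap (Algebra.TensorProduct.includeRight :
      (R0 ⊗[k] Ω) →ₐ[R0] p.Fiber (R0 ⊗[k] Ω)))]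
  have h1 : Module.length (Localization.AtPrime (rr qt))
      (Localization.AtPrime (rr qt) ⧸ p.map (algebraMap R0 (Localization.AtPrime (rr qt)))) =
      Module.length (Localization.AtPrime (rr qt) ⧸ p.map (algebraMap R0 (Localization.AtPrime (rr qt))))
      (Localization.AtPrime (rr qt) ⧸ p.map (algebraMap R0 (Localization.AtPrime (rr qt)))) :=
    Module.length_eq_of_surjective Ideal.Quotient.mk_surjective
  let φ := Ideal.Fiber.localizationAlgEquivQuotient p qt
  let φ' : Localization.AtPrime qt ≃+* (Localization.AtPrime (rr qt) ⧸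
      p.map (algebraMap R0 (Localization.AtPrime (rr qt)))) := φ.toRingEquiv
  have h2 := length_self_eq_of_ringEquiv (R := Localization.AtPrime qt)
    (R' := (Localization.AtPrime (rr qt) ⧸ p.map (algebraMap R0 (Localization.AtPrime (rr qt))))) φ'
  let e1 : p.ResidueField ⊗[R0] (R0 ⊗[k] Ω) ≃ₐ[R0] p.ResidueField ⊗[k] Ω :=
    Algebra.TensorProduct.cancelBaseChange k R0 R0 p.ResidueField Ω
  let Q : Ideal (p.ResidueField ⊗[k] Ω) := qt.comap e1.symm.toRingEquiv.toRingHom
  haveI : Q.IsPrime := Ideal.comap_isPrime _ _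
  have h3 := length_localization_eq_of_ringEquiv e1.symm.toRingEquiv qt Q rfl
  have h4 := length_localization_tensor k p.ResidueField Ω Q
  rw [h1, ← h2, ← h3, h4]
  simp

/-- **Main algebraic theorem.** -/
theorem ramificationIdx_tensor (k Ω R0 : Type u) [Field k] [Field Ω] [IsAlgClosed Ω] [Algebra k Ω]
    [CommRing R0] [Algebra k R0] (p : Ideal R0) [p.IsPrime] [Module.Finite k p.ResidueField]
    (r : Ideal (R0 ⊗[k] Ω)) [hrp : r.IsPrime] (hr : r.comap (algebraMap R0 (R0 ⊗[k] Ω)) = p) :
    r.ramificationIdx R0 = Field.finInsepDegree k p.ResidueField := by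
  classical
  let P : PrimeSpectrum R0 := ⟨p, inferInstance⟩
  let x : (PrimeSpectrum.comap (algebraMap R0 (R0 ⊗[k] Ω)) ⁻¹' {P}) :=
    ⟨⟨r, hrp⟩, by
      simp only [Set.mem_preimage, Set.mem_singleton_iff]
      ext1
      exact hr⟩
  let y := PrimeSpectrum.preimageEquivFiber R0 (R0 ⊗[k] Ω) P x
  have hy : (PrimeSpectrum.preimageEquivFiber R0 (R0 ⊗[k] Ω) P).symm y = x :=
    Equiv.symm_apply_apply _ x
  have hy' : Ideal.comap (Algebra.TensorProduct.includeRight :
      (R0 ⊗[k] Ω) →ₐ[R0] p.Fiber (R0 ⊗[k] Ω)) y.asIdeal = r := by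
    have := congrArg (fun z => z.1.asIdeal) hy
    exact this
  haveI : y.asIdeal.IsPrime := y.2
  have := ramificationIdx_fiber k Ω R0 p y.asIdeal
  rw [hy'] at this
  exact this

theorem length_quotient_eq_of_ringEquiv {R₁ R₂ : Type*} [CommRing R₁] [CommRing R₂]
    (ψ : R₂ ≃+* R₁) (I₂ : Ideal R₂) (I₁ : Ideal R₁) (h : I₁ = I₂.map (ψ : R₂ →+* R₁)) :
    Module.length R₂ (R₂ ⧸ I₂) = Module.length R₁ (R₁ ⧸ I₁) := by
  have h1 : Module.length R₂ (R₂ ⧸ I₂) = Module.length (R₂ ⧸ I₂) (R₂ ⧸ I₂) :=
    Module.length_eq_of_surjective Ideal.Quotient.mk_surjective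
  have h2 : Module.length R₁ (R₁ ⧸ I₁) = Module.length (R₁ ⧸ I₁) (R₁ ⧸ I₁) :=
    Module.length_eq_of_surjective Ideal.Quotient.mk_surjective
  rw [h1, h2]
  exact Groth.Agent.H2.InsepLen.length_self_eq_of_ringEquiv (Ideal.quotientEquiv I₂ I₁ ψ h)

theorem hom_eq_aux {R0 S0 A B R₁ R₂ : Type*} [CommRing R0] [CommRing S0] [CommRing A]
    [CommRing B] [CommRing R₁] [CommRing R₂] [Algebra R0 S0] [Algebra R0 A] [Algebra S0 B]
    [Algebra A B] [Algebra R0 B] [IsScalarTower R0 A B] [IsScalarTower R0 S0 B]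
    [Algebra B R₁] [Algebra A R₁] [IsScalarTower A B R₁] [Algebra S0 R₁] [IsScalarTower S0 B R₁]
    [Algebra S0 R₂] [Algebra R0 R₂] [IsScalarTower R0 S0 R₂] (ψ : R₂ ≃ₐ[S0] R₁) :
    (algebraMap A R₁).comp (algebraMap R0 A) =
      ((ψ.toRingEquiv : R₂ →+* R₁)).comp (algebraMap R0 R₂) := by
  ext x
  simp only [RingHom.comp_apply]
  rw [IsScalarTower.algebraMap_apply A B R₁, ← IsScalarTower.algebraMap_apply R0 A B,
    IsScalarTower.algebraMap_apply R0 S0 B, ← IsScalarTower.algebraMap_apply S0 B R₁,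
    IsScalarTower.algebraMap_apply R0 S0 R₂]
  exact (ψ.commutes _).symm

/-- Ramification indices can be computed after localizing source and target. -/
theorem ramificationIdx_maximalIdeal_eq {R0 S0 A B : Type*} [CommRing R0] [CommRing S0]
    [Algebra R0 S0] (p : Ideal R0) [p.IsPrime] (r : Ideal S0) [r.IsPrime]
    (hrp : r.comap (algebraMap R0 S0) = p)
    [CommRing A] [Algebra R0 A] [IsLocalization.AtPrime A p]
    [CommRing B] [Algebra S0 B] [IsLocalization.AtPrime B r]
    [Algebra A B] [Algebra R0 B] [IsScalarTower R0 A B] [IsScalarTower R0 S0 B]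
    [IsLocalRing A] [IsLocalRing B] :
    (maximalIdeal B).ramificationIdx A = r.ramificationIdx R0 := by
  haveI : r.LiesOver p := ⟨hrp.symm⟩
  have hmA : maximalIdeal A = p.map (algebraMap R0 A) :=
    (IsLocalization.AtPrime.map_eq_maximalIdeal p A).symm
  have hmB : maximalIdeal B = r.map (algebraMap S0 B) :=
    (IsLocalization.AtPrime.map_eq_maximalIdeal r B).symm
  have hunder : (maximalIdeal B).comap (algebraMap A B) = maximalIdeal A := by
    apply le_antisymm
    · exact IsLocalRing.le_maximalIdeal (Ideal.IsPrime.ne_top inferInstance)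
    · rw [hmA, Ideal.map_le_iff_le_comap]
      intro x hx
      rw [Ideal.mem_comap, Ideal.mem_comap, ← IsScalarTower.algebraMap_apply,
        IsScalarTower.algebraMap_apply R0 S0 B, hmB]
      apply Ideal.mem_map_of_mem
      rw [← hrp] at hx
      exact hx
  haveI : (maximalIdeal B).LiesOver (maximalIdeal A) := ⟨hunder.symm⟩
  rw [Ideal.ramificationIdx_eq (maximalIdeal A) (maximalIdeal B), Ideal.ramificationIdx_eq p r]
  have hloc : IsLocalization.AtPrime (Localization.AtPrime (maximalIdeal B)) r := by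
    have h := IsLocalization.isLocalization_isLocalization_atPrime_isLocalization r.primeCompl
      (Localization.AtPrime (maximalIdeal B)) (maximalIdeal B)
    have h2 : (maximalIdeal B).comap (algebraMap S0 B) = r :=
      IsLocalization.AtPrime.under_maximalIdeal B r
    convert h using 2
    exact h2.symm
  let ψ : Localization.AtPrime r ≃ₐ[S0] Localization.AtPrime (maximalIdeal B) :=
    IsLocalization.algEquiv r.primeCompl _ _
  have hI : (maximalIdeal A).map (algebraMap A (Localization.AtPrime (maximalIdeal B))) =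
      (p.map (algebraMap R0 (Localization.AtPrime r))).map
        (ψ.toRingEquiv : Localization.AtPrime r →+* Localization.AtPrime (maximalIdeal B)) := by
    rw [hmA, Ideal.map_map, Ideal.map_map, hom_eq_aux (R0 := R0) (S0 := S0) (A := A) (B := B) ψ]
  rw [length_quotient_eq_of_ringEquiv ψ.toRingEquiv _ _ hI]

end Groth.Agent.H2.RamFibre
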