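import Mathlib

/-!
# Artinian modules: Melkersson's criterion and secondary decomposition (surjective elements)
-/

set_option autoImplicit false
universe u v

namespace Groth.Agent.H2.ArtinSec

variable {R : Type u} [CommRing R] {V : Type v} [AddCommGroup V] [Module R V]

/-- multiplication by `x` -/
noncomputable abbrev μ (x : R) : V →ₗ[R] V := LinearMap.lsmul R V x

omit [AddCommGroup V] [Module R V] in
lemma pow_split {k l : ℕ} (h : k ≤ l) (x : R) : x ^ l = x ^ k * x ^ (l - k) := by
  rw [← pow_add, Nat.add_sub_cancel' h]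

/-- a sum-irreducible submodule of an Artinian module is secondary -/
theorem secondary_of_supIrred [IsArtinian R V] (W : Submodule R V) (hW : SupIrred W) (x : R) :
    W.map (μ x) = W ∨ ∃ k : ℕ, ∀ w ∈ W, x ^ k • w = 0 := by
  have hmem : ∀ (k : ℕ) (w : V), w ∈ W → x ^ k • w ∈ W := fun k w hw => W.smul_mem _ hw
  let f : ℕ →o (Submodule R V)ᵒᵈ :=
    ⟨fun k => OrderDual.toDual (W.map (μ (x ^ k))), by
      intro k l hkl
      show W.map (μ (x ^ l)) ≤ W.map (μ (x ^ k))
      rintro _ ⟨w, hw, rfl⟩
      refine ⟨x ^ (l - k) • w, hmem _ w hw, ?_⟩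
      show x ^ k • x ^ (l - k) • w = x ^ l • w
      rw [smul_smul, ← pow_split hkl]⟩
  obtain ⟨n, hn⟩ := IsArtinian.monotone_stabilizes f
  have h1 : W.map (μ (x ^ (n + 1))) = W.map (μ (x ^ (2 * (n + 1)))) := by
    have e1 : f n = f (n + 1) := hn (n + 1) (Nat.le_succ n)
    have e2 : f n = f (2 * (n + 1)) := hn (2 * (n + 1)) (by omega)
    exact OrderDual.toDual_inj.1 (e1.symm.trans e2)
  have hsup : W.map (μ (x ^ (n + 1))) ⊔ (W ⊓ LinearMap.ker (μ (x ^ (n + 1)))) = W := by
    apply le_antisymm
    · refine sup_le ?_ inf_le_left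
      rintro _ ⟨w, hw, rfl⟩
      exact hmem _ w hw
    · intro w hw
      have hw1 : x ^ (n + 1) • w ∈ W.map (μ (x ^ (2 * (n + 1)))) := by
        rw [← h1]
        exact ⟨w, hw, rfl⟩
      obtain ⟨w', hw', hw'e⟩ := hw1
      have hw'e' : x ^ (2 * (n + 1)) • w' = x ^ (n + 1) • w := hw'e
      have hdec : w = x ^ (n + 1) • w' + (w - x ^ (n + 1) • w') := by abel
      rw [hdec]
      refine Submodule.add_mem_sup ⟨w', hw', rfl⟩ ⟨W.sub_mem hw (hmem _ w' hw'), ?_⟩
      show x ^ (n + 1) • (w - x ^ (n + 1) • w') = 0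
      rw [smul_sub, smul_smul, ← pow_add, ← two_mul, hw'e', sub_self]
  rcases hW.2 hsup with h | h
  · left
    apply le_antisymm
    · rintro _ ⟨w, hw, rfl⟩
      exact W.smul_mem _ hw
    · intro w hw
      rw [← h] at hw
      obtain ⟨w0, hw0, rfl⟩ := hw
      refine ⟨x ^ n • w0, hmem _ w0 hw0, ?_⟩
      show x • x ^ n • w0 = x ^ (n + 1) • w0
      rw [smul_smul, pow_succ']
  · right
    refine ⟨n + 1, fun w hw => ?_⟩
    rw [← h] at hw
    exact LinearMap.mem_ker.1 hw.2

section Melkersson

variable (x : R)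

/-- the auxiliary submodules `x^k (0 :_L x^{k+1})` -/
noncomputable def aux (k : ℕ) (L : Submodule R V) : Submodule R V :=
  (L ⊓ LinearMap.ker (μ (x ^ (k + 1)))).map (μ (x ^ k))

lemma mem_aux {k : ℕ} {L : Submodule R V} {y : V} :
    y ∈ aux x k L ↔ ∃ v ∈ L, x ^ (k + 1) • v = 0 ∧ x ^ k • v = y := by
  constructor
  · rintro ⟨v, ⟨hv, hk⟩, rfl⟩
    exact ⟨v, hv, LinearMap.mem_ker.1 hk, rfl⟩
  · rintro ⟨v, hv, hk, rfl⟩
    exact ⟨v, ⟨hv, LinearMap.mem_ker.2 hk⟩, rfl⟩

lemma aux_le_ker (k : ℕ) (L : Submodule R V) : aux x k L ≤ LinearMap.ker (μ x) := by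
  intro y hy
  obtain ⟨v, -, hk, rfl⟩ := (mem_aux x).1 hy
  rw [LinearMap.mem_ker]
  show x • x ^ k • v = 0
  rw [smul_smul, ← pow_succ', hk]

lemma aux_mono (k : ℕ) {L L' : Submodule R V} (h : L ≤ L') : aux x k L ≤ aux x k L' := by
  intro y hy
  obtain ⟨v, hv, hk, rfl⟩ := (mem_aux x).1 hy
  exact (mem_aux x).2 ⟨v, h hv, hk, rfl⟩

lemma aux_succ_le (k : ℕ) (L : Submodule R V) : aux x (k + 1) L ≤ aux x k L := by
  intro y hy
  obtain ⟨v, hv, hk, rfl⟩ := (mem_aux x).1 hy
  refine (mem_aux x).2 ⟨x • v, L.smul_mem _ hv, ?_, ?_⟩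
  · rw [smul_smul, ← pow_succ, hk]
  · rw [smul_smul, ← pow_succ]

lemma aux_anti {k k' : ℕ} (h : k ≤ k') (L : Submodule R V) : aux x k' L ≤ aux x k L := by
  induction h with
  | refl => exact le_rfl
  | step _ ih => exact (aux_succ_le x _ L).trans ih

lemma le_of_aux_le (hx : ∀ v : V, ∃ k : ℕ, x ^ k • v = 0) {L L' : Submodule R V} (h : L ≤ L')
    (ha : ∀ k, aux x k L' ≤ aux x k L) : L' ≤ L := by
  have key : ∀ (k : ℕ) (v : V), v ∈ L' → x ^ k • v = 0 → v ∈ L := by
    intro k
    induction k with
    | zero =>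
      intro v _ hv0
      rw [pow_zero, one_smul] at hv0
      rw [hv0]
      exact L.zero_mem
    | succ k ih =>
      intro v hv hvk
      have h1 : x ^ k • v ∈ aux x k L := ha k ((mem_aux x).2 ⟨v, hv, hvk, rfl⟩)
      obtain ⟨u, hu, -, hue⟩ := (mem_aux x).1 h1
      have h2 : v - u ∈ L := ih (v - u) (L'.sub_mem hv (h hu)) (by rw [smul_sub, hue, sub_self])
      have : v = (v - u) + u := by abel
      rw [this]
      exact L.add_mem h2 hu
  intro v hv
  obtain ⟨k, hk⟩ := hx v
  exact key k v hv hk

/-- antitone sequences below an Artinian submodule stabilize -/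
lemma stab (K : Submodule R V) [IsArtinian R K] (g : ℕ → Submodule R V) (hg : Antitone g)
    (hK : ∀ j, g j ≤ K) : ∃ n, ∀ m, n ≤ m → g n = g m := by
  let f : ℕ →o (Submodule R K)ᵒᵈ :=
    ⟨fun j => OrderDual.toDual ((g j).comap K.subtype), fun i j hij =>
      Submodule.comap_mono (hg hij)⟩
  obtain ⟨n, hn⟩ := IsArtinian.monotone_stabilizes f
  refine ⟨n, fun m hm => ?_⟩
  have h1 : (g n).comap K.subtype = (g m).comap K.subtype := OrderDual.toDual_inj.1 (hn m hm)
  have h2 := congrArg (Submodule.map K.subtype) h1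
  rw [Submodule.map_comap_subtype, Submodule.map_comap_subtype, inf_eq_right.2 (hK n),
    inf_eq_right.2 (hK m)] at h2
  exact h2

/-- **Melkersson's criterion**: an `x`-power torsion module whose `x`-torsion is Artinian is
Artinian. -/
theorem isArtinian_of_isArtinian_ker (hx : ∀ v : V, ∃ k : ℕ, x ^ k • v = 0)
    [hA : IsArtinian R (LinearMap.ker (μ x : V →ₗ[R] V))] : IsArtinian R V := by
  classical
  rw [← monotone_stabilizes_iff_artinian]
  intro f
  let L : ℕ → Submodule R V := fun j => OrderDual.ofDual (f j)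
  have hL : Antitone L := fun i j hij => f.monotone hij
  -- diagonal
  have hdiag : Antitone fun j => aux x j (L j) := fun i j hij =>
    (aux_anti x hij (L j)).trans (aux_mono x i (hL hij))
  obtain ⟨n0, hn0⟩ := stab (LinearMap.ker (μ x : V →ₗ[R] V)) _ hdiag
    (fun j => aux_le_ker x j (L j))
  have hconst : ∀ k j, n0 ≤ k → n0 ≤ j → aux x k (L j) = aux x n0 (L n0) := by
    intro k j hk hj
    apply le_antisymm
    · exact (aux_anti x hk (L j)).trans (aux_mono x n0 (hL hj))
    · have h1 := hn0 (max k j) (le_trans hk (le_max_left k j))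
      have h1' : aux x n0 (L n0) = aux x (max k j) (L (max k j)) := h1
      rw [h1']
      exact (aux_anti x (le_max_left k j) _).trans (aux_mono x k (hL (le_max_right k j)))
  have hk : ∀ k : ℕ, ∃ n, ∀ m, n ≤ m → aux x k (L n) = aux x k (L m) := fun k =>
    stab (LinearMap.ker (μ x : V →ₗ[R] V)) (fun j => aux x k (L j))
      (fun i j hij => aux_mono x k (hL hij)) (fun j => aux_le_ker x k (L j))
  choose nk hnk using hk
  let J := max n0 ((Finset.range n0).sup nk)
  refine ⟨J, fun j hj => ?_⟩
  have hJ0 : n0 ≤ J := le_max_left _ _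
  have hall : ∀ k, aux x k (L J) = aux x k (L j) := by
    intro k
    by_cases hkn : n0 ≤ k
    · rw [hconst k J hkn hJ0, hconst k j hkn (hJ0.trans hj)]
    · have hkr : k ∈ Finset.range n0 := Finset.mem_range.2 (not_le.1 hkn)
      have hnkJ : nk k ≤ J := (Finset.le_sup hkr).trans (le_max_right _ _)
      rw [← hnk k J hnkJ, ← hnk k j (hnkJ.trans hj)]
  have h1 : L J ≤ L j := le_of_aux_le x hx (hL hj) (fun k => (hall k).le)
  have h2 : L J = L j := le_antisymm h1 (hL hj)
  exact OrderDual.ofDual_inj.1 h2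

end Melkersson

section Avoid

open IsLocalRing

/-- the ideal of elements acting nilpotently on `W` -/
noncomputable def nilIdeal (W : Submodule R V) : Ideal R := (Module.annihilator R W).radical

lemma mem_nilIdeal {W : Submodule R V} {x : R} :
    x ∈ nilIdeal W ↔ ∃ k : ℕ, ∀ w ∈ W, x ^ k • w = 0 := by
  unfold nilIdeal
  show (∃ k : ℕ, x ^ k ∈ Module.annihilator R W) ↔ _
  refine exists_congr fun k => ?_
  rw [Module.mem_annihilator]
  constructor
  · intro h w hw
    exact congrArg Subtype.val (h ⟨w, hw⟩)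
  · intro h w
    exact Subtype.ext (h w.1 w.2)

/-- `x` acts surjectively on `W` -/
def Surj (x : R) (W : Submodule R V) : Prop := ∀ w ∈ W, ∃ w' ∈ W, x • w' = w

lemma surj_of_map_eq {x : R} {W : Submodule R V} (h : W.map (μ x) = W) : Surj x W := by
  intro w hw
  rw [← h] at hw
  obtain ⟨w', hw', rfl⟩ := hw
  exact ⟨w', hw', rfl⟩

lemma Surj.mul {x y : R} {W : Submodule R V} (hx : Surj x W) (hy : Surj y W) : Surj (x * y) W := by
  intro w hw
  obtain ⟨w1, hw1, rfl⟩ := hx w hw
  obtain ⟨w2, hw2, rfl⟩ := hy w1 hw1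
  exact ⟨w2, hw2, by rw [mul_smul]⟩

lemma Surj.pow {x : R} {W : Submodule R V} (hx : Surj x W) (k : ℕ) : Surj (x ^ k) W := by
  induction k with
  | zero => intro w hw; exact ⟨w, hw, by rw [pow_zero, one_smul]⟩
  | succ k ih => rw [pow_succ]; exact ih.mul hx

lemma nilIdeal_isPrime [IsArtinian R V] (W : Submodule R V) (hW : SupIrred W) :
    (nilIdeal W).IsPrime := by
  have hne : W ≠ ⊥ := fun h => hW.1 (h ▸ isMin_bot)
  have hkill : ∀ x : R, Surj x W → x ∉ nilIdeal W := by
    intro x hx hmem
    obtain ⟨k, hk⟩ := mem_nilIdeal.1 hmem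
    apply hne
    rw [eq_bot_iff]
    intro w hw
    obtain ⟨w', hw', rfl⟩ := hx.pow k w hw
    rw [hk w' hw']
    exact Submodule.zero_mem _
  refine ⟨?_, ?_⟩
  · intro htop
    have h1 : (1 : R) ∈ nilIdeal W := htop ▸ Submodule.mem_top
    exact hkill 1 (fun w hw => ⟨w, hw, one_smul _ _⟩) h1
  · intro a b hab
    by_contra hcon
    push Not at hcon
    obtain ⟨ha, hb⟩ := hcon
    have sa := surj_of_map_eq
      ((secondary_of_supIrred W hW a).resolve_right (fun h => ha (mem_nilIdeal.2 h)))
    have sb := surj_of_map_eq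
      ((secondary_of_supIrred W hW b).resolve_right (fun h => hb (mem_nilIdeal.2 h)))
    exact hkill _ (sa.mul sb) hab

/-- in an Artinian module `V = 𝔪 V` over a Noetherian local domain which is not a field, some
nonzero element of the maximal ideal acts surjectively -/
theorem exists_smul_surjective [IsLocalRing R] [IsNoetherianRing R] [IsDomain R] [IsArtinian R V]
    (hm : maximalIdeal R ≠ ⊥)
    (hV : (maximalIdeal R) • (⊤ : Submodule R V) = ⊤) :
    ∃ x ∈ maximalIdeal R, x ≠ 0 ∧ Function.Surjective (fun v : V => x • v) := by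
  classical
  have hpow : ∀ K : ℕ, (maximalIdeal R) ^ K • (⊤ : Submodule R V) = ⊤ := by
    intro K
    induction K with
    | zero => rw [pow_zero, Ideal.one_eq_top, Submodule.top_smul]
    | succ K ihK => rw [pow_succ, Submodule.mul_smul, hV, ihK]
  have key : ∀ (c : ℕ) (s : Finset (Submodule R V)), s.card = c → s.sup id = ⊤ →
      (∀ b ∈ s, SupIrred b) →
      ∃ x ∈ maximalIdeal R, x ≠ 0 ∧ Function.Surjective (fun v : V => x • v) := by
    intro c
    induction c using Nat.strong_induction_on with
    | _ c ih =>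
      intro s hc hs hirr
      by_contra hcon0
      have hcon : ∀ x ∈ maximalIdeal R, x ≠ 0 → ¬ Function.Surjective (fun v : V => x • v) :=
        fun x hx hx0 hsx => hcon0 ⟨x, hx, hx0, hsx⟩
      let f : Submodule R V → Ideal R := fun W => if W = ⊥ then ⊥ else nilIdeal W
      have hfbot : f ⊥ = ⊥ := if_pos rfl
      have hf : ∀ b ∈ s, f b = nilIdeal b := fun b hb =>
        if_neg (fun (h : b = ⊥) => (hirr b hb).1 (by rw [h]; exact isMin_bot))
      have hcover : ((maximalIdeal R : Ideal R) : Set R) ⊆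
          f ⊥ ∪ f ⊥ ∪ ⋃ b ∈ (s : Set (Submodule R V)), f b := by
        intro x hx
        by_cases hx0 : x = 0
        · left; left
          rw [hfbot, hx0]
          exact Submodule.zero_mem _
        · right
          by_contra hnot
          apply hcon x hx hx0
          have hall : ∀ b ∈ s, b.map (μ x) = b := by
            intro b hb
            by_contra hne
            apply hnot
            have hxb : x ∈ nilIdeal b :=
              mem_nilIdeal.2 ((secondary_of_supIrred b (hirr b hb) x).resolve_left hne)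
            refine Set.mem_biUnion (Finset.mem_coe.2 hb) ?_
            rw [hf b hb]
            exact hxb
          have htop : (⊤ : Submodule R V).map (μ x) = ⊤ := by
            rw [← hs, Finset.sup_eq_iSup, Submodule.map_iSup]
            simp_rw [Submodule.map_iSup]
            exact iSup_congr fun b => iSup_congr fun hb => hall b hb
          intro v
          have hv : v ∈ (⊤ : Submodule R V).map (μ x) := by rw [htop]; exact Submodule.mem_top
          obtain ⟨v', -, hv'⟩ := hv
          exact ⟨v', hv'⟩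
      rw [Ideal.subset_union_prime' (fun b hb => by
        rw [hf b hb]; exact nilIdeal_isPrime b (hirr b hb))] at hcover
      have hbot : ¬ maximalIdeal R ≤ f ⊥ := by
        rw [hfbot]
        exact fun h => hm (le_bot_iff.1 h)
      rcases hcover with h | h | ⟨b, hb, hle⟩
      · exact hbot h
      · exact hbot h
      · rw [hf b hb] at hle
        obtain ⟨K, hK⟩ := Ideal.exists_pow_le_of_le_radical_of_fg hle
          (IsNoetherian.noetherian (maximalIdeal R))
        have hVK : (maximalIdeal R) ^ K • (⊤ : Submodule R V) = ⊤ := hpow K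
        have hsplit : s.sup id = b ⊔ (s.erase b).sup id := by
          conv_lhs => rw [← Finset.insert_erase hb]
          rw [Finset.sup_insert]
          rfl
        have hN : (s.erase b).sup id = (⊤ : Submodule R V) := by
          rw [eq_top_iff, ← hVK, ← hs, hsplit, Submodule.smul_sup]
          refine sup_le ?_ Submodule.smul_le_right
          rw [Submodule.smul_le]
          intro r hr n hn
          have h0 := Module.mem_annihilator.1 (hK hr) ⟨n, hn⟩
          have h0' : r • n = 0 := congrArg Subtype.val h0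
          rw [h0']
          exact Submodule.zero_mem _
        have hcard : (s.erase b).card < c := by
          rw [Finset.card_erase_of_mem hb, hc]
          have : 0 < s.card := Finset.card_pos.2 ⟨b, hb⟩
          omega
        exact hcon0 (ih _ hcard (s.erase b) rfl hN
          (fun b' hb' => hirr b' (Finset.mem_of_mem_erase hb')))
  obtain ⟨s, hs, hirr⟩ := exists_supIrred_decomposition (⊤ : Submodule R V)
  exact key s.card s rfl hs (fun b hb => hirr hb)

end Avoid

end Groth.Agent.H2.ArtinSec
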