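import Groth.Agent.H2.Matlis6
import Mathlib.RingTheory.Artinian.Ring
import Mathlib.RingTheory.Nakayama

/-!
# Matlis duality, part 7: the hull of the residue field of a finite local algebra
-/

set_option autoImplicit false

universe u

namespace Groth.Agent.H2.Matlis

open Function IsLocalRing CategoryTheory

section Coext

variable (A B : Type u) [CommRing A] [CommRing B] [Algebra A B] (E : Type u) [AddCommGroup E]
  [Module A E]

/-- `Hom_A(B, E)` as a `B`-module. -/
noncomputable abbrev CoE : ModuleCat B :=
  (ModuleCat.coextendScalars (algebraMap A B)).obj (ModuleCat.of A E)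

variable {A B E}

lemma CoE.smul_apply (g : CoE A B E) (b s : B) : (b • g) s = g (s * b) := rfl

lemma CoE.add_apply (g g' : CoE A B E) (s : B) : (g + g') s = g s + g' s := rfl

lemma CoE.ext' {g g' : CoE A B E} (h : ∀ s : B, g s = g' s) : g = g' :=
  ModuleCat.CoextendScalars.ext (LinearMap.ext h)

lemma CoE.map_algebraMap_mul (g : CoE A B E) (a : A) (s : B) :
    g (algebraMap A B a * s) = a • g s :=
  (ModuleCat.CoextendScalars.equiv (algebraMap A B) (ModuleCat.of A E) g).map_smul a s

lemma CoE.map_add' (g : CoE A B E) (s t : B) : g (s + t) = g s + g t :=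
  (ModuleCat.CoextendScalars.equiv (algebraMap A B) (ModuleCat.of A E) g).map_add s t

lemma CoE.map_zero' (g : CoE A B E) : g (0 : B) = 0 :=
  (ModuleCat.CoextendScalars.equiv (algebraMap A B) (ModuleCat.of A E) g).map_zero

lemma CoE.map_smul' (g : CoE A B E) (a : A) (s : B) : g (a • s) = a • g s := by
  rw [Algebra.smul_def]
  exact CoE.map_algebraMap_mul g a s

/-- Constructor for elements of `Hom_A(B, E)`. -/
noncomputable def CoE.mk' (l : B → E) (hadd : ∀ s t, l (s + t) = l s + l t)
    (hsmul : ∀ (a : A) (s : B), l (algebraMap A B a * s) = a • l s) : CoE A B E :=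
  (ModuleCat.CoextendScalars.equiv (algebraMap A B) (ModuleCat.of A E)).symm
    { toFun := l
      map_add' := hadd
      map_smul' := fun a s => hsmul a s }

lemma CoE.mk'_apply (l : B → E) (hadd : ∀ s t, l (s + t) = l s + l t)
    (hsmul : ∀ (a : A) (s : B), l (algebraMap A B a * s) = a • l s) (s : B) :
    (CoE.mk' l hadd hsmul) s = l s := rfl

end Coext

section FiniteLocal

variable {A B : Type u} [CommRing A] [IsLocalRing A] [IsNoetherianRing A] [CommRing B]
  [IsLocalRing B] [IsNoetherianRing B] [Algebra A B] [Module.Finite A B]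

omit [IsNoetherianRing A] [IsNoetherianRing B] in
/-- A finite algebra map between local rings is local. -/
lemma algebraMap_mem_maximalIdeal_of_finite {a : A} (ha : a ∈ maximalIdeal A) :
    algebraMap A B a ∈ maximalIdeal B := by
  by_contra h
  have hu : IsUnit (algebraMap A B a) := by
    by_contra hnu
    exact h ((IsLocalRing.mem_maximalIdeal _).mpr hnu)
  obtain ⟨u, hu⟩ := hu
  have hle : (⊤ : Submodule A B) ≤ maximalIdeal A • (⊤ : Submodule A B) := by
    intro b _
    have hb : b = a • ((↑u⁻¹ : B) * b) := by
      rw [Algebra.smul_def, ← hu, ← mul_assoc, Units.mul_inv, one_mul]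
    rw [hb]
    exact Submodule.smul_mem_smul ha Submodule.mem_top
  have htop := Submodule.eq_bot_of_le_smul_of_le_jacobson_bot (maximalIdeal A)
    (⊤ : Submodule A B) Module.Finite.fg_top hle (IsLocalRing.maximalIdeal_le_jacobson ⊥)
  have h1 : (1 : B) ∈ (⊥ : Submodule A B) := htop ▸ Submodule.mem_top
  exact one_ne_zero ((Submodule.mem_bot A).mp h1)

omit [IsNoetherianRing B] [IsLocalRing B] [Module.Finite A B] [CommRing B] [Algebra A B] in
/-- A finite module killed by a power of the maximal ideal has finite length. -/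
lemma isFiniteLength_of_finite_of_pow_smul (X : Type u) [AddCommGroup X] [Module A X]
    [Module.Finite A X] (n : ℕ) (h : ∀ a ∈ maximalIdeal A ^ n, ∀ x : X, a • x = 0) :
    IsFiniteLength A X := by
  rw [isFiniteLength_iff_isNoetherian_isArtinian]
  refine ⟨inferInstance, (isArtinian_iff X).mpr ⟨fun x => ⟨n, fun a ha => h a ha x⟩, ?_⟩⟩
  exact Module.Finite.of_restrictScalars_finite A _ _

/-- Some power of the maximal ideal of `B` lies in `𝔪_Aⁿ B`. -/
lemma exists_pow_le_map_pow (n : ℕ) :
    ∃ N : ℕ, maximalIdeal B ^ N ≤ (maximalIdeal A ^ n).map (algebraMap A B) := by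
  set J := (maximalIdeal A ^ n).map (algebraMap A B) with hJ
  have hkill : ∀ a ∈ maximalIdeal A ^ n, ∀ x : B ⧸ J, a • x = 0 := by
    intro a ha x
    obtain ⟨b, rfl⟩ := Ideal.Quotient.mk_surjective x
    rw [Algebra.smul_def, IsScalarTower.algebraMap_apply A B (B ⧸ J),
      Ideal.Quotient.algebraMap_eq, ← map_mul, Ideal.Quotient.eq_zero_iff_mem]
    exact Ideal.mul_mem_right _ _ (Ideal.mem_map_of_mem _ ha)
  have hfinC : Module.Finite A (B ⧸ J) :=
    Module.Finite.of_surjective (Ideal.Quotient.mkₐ A J).toLinearMap
      (Ideal.Quotient.mkₐ_surjective A J)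
  have hflC : IsFiniteLength A (B ⧸ J) := isFiniteLength_of_finite_of_pow_smul _ n hkill
  have hArtA : IsArtinian A (B ⧸ J) := (isFiniteLength_iff_isNoetherian_isArtinian.mp hflC).2
  have hArt : IsArtinianRing (B ⧸ J) := isArtinian_of_tower A hArtA
  obtain ⟨N, hN⟩ := IsArtinianRing.isNilpotent_jacobson_bot (R := B ⧸ J)
  refine ⟨N, ?_⟩
  have hle : (maximalIdeal B).map (Ideal.Quotient.mk J) ≤ Ideal.jacobson ⊥ := by
    refine le_sInf fun M hM => ?_
    rw [Ideal.map_le_iff_le_comap]
    have hMmax : M.IsMaximal := hM.2
    have hcm : (M.comap (Ideal.Quotient.mk J)).IsMaximal :=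
      Ideal.comap_isMaximal_of_surjective _ Ideal.Quotient.mk_surjective
    rw [IsLocalRing.eq_maximalIdeal hcm]
  have h2 : (maximalIdeal B ^ N).map (Ideal.Quotient.mk J) = ⊥ := by
    rw [Ideal.map_pow, eq_bot_iff, ← Ideal.zero_eq_bot, ← hN]
    exact Ideal.pow_right_mono hle N
  intro x hx
  have h3 := Ideal.mem_map_of_mem (Ideal.Quotient.mk J) hx
  rw [h2, Ideal.mem_bot, Ideal.Quotient.eq_zero_iff_mem] at h3
  exact h3

variable {E : Type u} [AddCommGroup E] [Module A E]

/-- `Hom_A(B, E)` is power torsion over `B` when `E` is power torsion over `A`. -/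
theorem isPowerTorsion_coext (hpt : LocCoh.IsPowerTorsion (maximalIdeal A) E) :
    LocCoh.IsPowerTorsion (maximalIdeal B) (CoE A B E) := by
  classical
  intro g
  obtain ⟨r, b, hb⟩ := Module.Finite.exists_fin (R := A) (M := B)
  choose m hm using fun i => hpt (g (b i))
  have key : ∀ s : B, ∀ a ∈ maximalIdeal A ^ (Finset.univ.sup m), a • g s = 0 := by
    intro s
    have hs : s ∈ Submodule.span A (Set.range b) := hb ▸ Submodule.mem_top
    induction hs using Submodule.span_induction with
    | mem y hy =>
      obtain ⟨i, rfl⟩ := hy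
      intro a ha
      exact hm i a (Ideal.pow_le_pow_right (Finset.le_sup (Finset.mem_univ i)) ha)
    | zero =>
      intro a _
      rw [CoE.map_zero', smul_zero]
    | add y z _ _ hy hz =>
      intro a ha
      rw [CoE.map_add', smul_add, hy a ha, hz a ha, add_zero]
    | smul c y _ hy =>
      intro a ha
      rw [CoE.map_smul', smul_comm, hy a ha, smul_zero]
  obtain ⟨N, hN⟩ := exists_pow_le_map_pow (A := A) (B := B) (Finset.univ.sup m)
  have key2 : ∀ c : B, c ∈ Submodule.span B
      (algebraMap A B '' ((maximalIdeal A ^ (Finset.univ.sup m) : Ideal A) : Set A)) →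
      c • g = 0 := by
    intro c hc
    induction hc using Submodule.span_induction with
    | mem y hy =>
      obtain ⟨a, ha, rfl⟩ := hy
      refine CoE.ext' fun s => ?_
      rw [CoE.smul_apply, mul_comm, CoE.map_algebraMap_mul, key s a ha]
      rfl
    | zero => exact zero_smul _ _
    | add y z _ _ hy hz => rw [add_smul, hy, hz, add_zero]
    | smul d y _ hy => rw [smul_eq_mul, mul_smul, hy, smul_zero]
  exact ⟨N, fun c hc => key2 c (hN hc)⟩

variable {f : ResidueField A →ₗ[A] E}

/-- `Hom_A(B, E)` is an injective hull of the residue field of `B`. -/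
theorem exists_isInjectiveHull_coext (hf : InjHull.IsInjectiveHull f) :
    ∃ g : ResidueField B →ₗ[B] (CoE A B E), InjHull.IsInjectiveHull g := by
  classical
  have hEinj := hf.isInjective
  have hHinj : Module.Injective B (CoE A B E) := injective_coextendScalars (algebraMap A B) E
  have hpt := isPowerTorsion_coext (A := A) (B := B) (Groth.Agent.S0311.result A E f hf)
  apply isInjectiveHull_of_simple_dual hHinj hpt
  -- the evaluation attached to a homomorphism
  let ev : (ResidueField B →ₗ[B] (CoE A B E)) → ResidueField B → E :=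
    fun φ x => (φ x : CoE A B E) (1 : B)
  have hev_add : ∀ φ x y, ev φ (x + y) = ev φ x + ev φ y := fun φ x y => by
    show (φ (x + y) : CoE A B E) (1 : B) = _
    rw [map_add]
    rfl
  have hev_mul : ∀ φ (b : B) x, ev φ (residue B b * x) = (φ x : CoE A B E) b :=
    fun φ b x => by
      have h1 : residue B b * x = b • x := by
        rw [Algebra.smul_def, IsLocalRing.ResidueField.algebraMap_eq]
      show (φ (residue B b * x) : CoE A B E) (1 : B) = _
      rw [h1, map_smul, CoE.smul_apply, one_mul]
  have hev_inj : ∀ φ ψ, (∀ x, ev φ x = ev ψ x) → φ = ψ := fun φ ψ h => by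
    refine LinearMap.ext fun x => CoE.ext' fun b => ?_
    rw [← hev_mul φ b x, ← hev_mul ψ b x, h]
  have hev_smul : ∀ (c : B) φ x, ev (c • φ) x = ev φ (residue B c * x) := fun c φ x => by
    rw [hev_mul]
    show (c • (φ x : CoE A B E)) (1 : B) = _
    rw [CoE.smul_apply, one_mul]
  have hsmul_def : ∀ (a : A) (y : ResidueField B),
      a • y = residue B (algebraMap A B a) * y := fun a y => by
    rw [Algebra.smul_def]
    rfl
  have hev_A : ∀ φ (a : A) x, ev φ (a • x) = a • ev φ x :=
    fun φ a x => by
      rw [hsmul_def, hev_mul]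
      have := CoE.map_algebraMap_mul (φ x : CoE A B E) a 1
      rw [mul_one] at this
      exact this
  let evL : (ResidueField B →ₗ[B] (CoE A B E)) → (ResidueField B →ₗ[A] E) := fun φ =>
    { toFun := fun x => ev φ x
      map_add' := fun x y => hev_add φ x y
      map_smul' := fun a x => hev_A φ a x }
  have hevL : ∀ φ x, evL φ x = ev φ x := fun φ x => rfl
  -- the residue field of `B` has finite length over `A`
  have hfinK : Module.Finite A (ResidueField B) :=
    Module.Finite.of_surjective ((Algebra.linearMap B (ResidueField B)).restrictScalars A)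
      IsLocalRing.residue_surjective
  have hflK : IsFiniteLength A (ResidueField B) := by
    refine isFiniteLength_of_finite_of_pow_smul _ 1 (fun a ha y => ?_)
    rw [pow_one] at ha
    rw [hsmul_def, (IsLocalRing.residue_eq_zero_iff _).mpr
      (algebraMap_mem_maximalIdeal_of_finite ha), zero_mul]
  rw [isSimpleModule_iff_toSpanSingleton_surjective]
  constructor
  · -- nontriviality
    obtain ⟨l, hl⟩ := cogen hf (ResidueField B) 1 one_ne_zero
    let g : CoE A B E := CoE.mk' (fun b => l (residue B b))
      (fun s t => by rw [map_add, map_add])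
      (fun a s => by rw [map_mul, ← hsmul_def, map_smul])
    have hg0 : ∀ c ∈ maximalIdeal B, ∀ s : B, (c • g) s = 0 := by
      intro c hc s
      rw [CoE.smul_apply]
      show l (residue B (s * c)) = 0
      rw [(IsLocalRing.residue_eq_zero_iff _).mpr (Ideal.mul_mem_left _ s hc), map_zero]
    have hkill : ∀ c ∈ maximalIdeal B, c • g = 0 := fun c hc => CoE.ext' fun s => hg0 c hc s
    let φ₀ : ResidueField B →ₗ[B] (CoE A B E) :=
      (maximalIdeal B).liftQ (LinearMap.toSpanSingleton B (CoE A B E) g)
        (fun c hc => hkill c hc)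
    refine ⟨⟨φ₀, 0, fun h0 => hl ?_⟩⟩
    have h1 : φ₀ (residue B 1) = (1 : B) • g := rfl
    have h2 : (1 : B) • g = 0 := h1.symm.trans (LinearMap.congr_fun h0 _)
    rw [one_smul] at h2
    have h3 : g (1 : B) = l (residue B 1) := rfl
    rw [h2, map_one] at h3
    exact h3.symm
  · -- every nonzero element generates
    intro φ hφ χ
    let T : ResidueField B →ₗ[A] (ResidueField B →ₗ[A] E) :=
      { toFun := fun y =>
          { toFun := fun x => evL φ (y * x)
            map_add' := fun x x' => by rw [mul_add, map_add]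
            map_smul' := fun a x => by rw [mul_smul_comm, map_smul]; rfl }
        map_add' := fun y y' => by
          refine LinearMap.ext fun x => ?_
          show evL φ ((y + y') * x) = evL φ (y * x) + evL φ (y' * x)
          rw [add_mul, map_add]
        map_smul' := fun a y => by
          refine LinearMap.ext fun x => ?_
          show evL φ ((a • y) * x) = a • evL φ (y * x)
          rw [smul_mul_assoc, map_smul] }
    have hT : ∀ y x, T y x = evL φ (y * x) := fun y x => rfl
    have hTinj : Injective T := by
      rw [injective_iff_map_eq_zero]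
      intro y hy
      by_contra hy0
      apply hφ
      apply hev_inj
      intro x
      have h1 := LinearMap.congr_fun hy (y⁻¹ * x)
      rw [hT, ← mul_assoc, mul_inv_cancel₀ hy0, one_mul] at h1
      rw [← hevL, h1]
      rfl
    have hTsurj : Surjective T :=
      surjective_of_injective_of_length_eq T hTinj (Module.length_ne_top_iff.mpr hflK)
        (length_dual hf _ hflK)
    obtain ⟨y, hy⟩ := hTsurj (evL χ)
    obtain ⟨c, rfl⟩ := IsLocalRing.residue_surjective y
    refine ⟨c, ?_⟩
    show c • φ = χ
    apply hev_inj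
    intro x
    rw [hev_smul]
    exact LinearMap.congr_fun hy x

end FiniteLocal

end Groth.Agent.H2.Matlis
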