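import Mathlib
import Groth.Agent.H2.ArtinSec
import Groth.Agent.H2.Matlis7
import Groth.Agent.H58.LCMod
import Groth.Agent.H58.LCTors
import Groth.Agent.H58.LCCd

/-!
# Local cohomology of a finitely generated module over a Noetherian local ring
with support in the maximal ideal is Artinian.
-/

set_option autoImplicit false
universe u

namespace Groth.Agent.H2.LCArtin

open Groth.Agent.H58.LC IsLocalRing Groth.Agent.H2.ArtinSec

variable {R : Type u} [CommRing R] [IsNoetherianRing R] [IsLocalRing R]

/-- a finitely generated module with no `𝔪`-torsion has a regular element in `𝔪` -/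
lemma exists_regular (M : Type u) [AddCommGroup M] [Module R M] [Module.Finite R M]
    (hM : DRing.torsionSub (maximalIdeal R) M = ⊥) :
    ∃ x ∈ maximalIdeal R, IsSMulRegular M x := by
  have hsub : Subsingleton ((R ⧸ maximalIdeal R) →ₗ[R] M) := by
    have hz : ∀ h : (R ⧸ maximalIdeal R) →ₗ[R] M, h = 0 := by
      intro h
      have hv : h 1 ∈ DRing.torsionSub (maximalIdeal R) M := by
        refine ⟨1, fun a ha => ?_⟩
        rw [pow_one] at ha
        rw [← map_smul]
        have : a • (1 : R ⧸ maximalIdeal R) = 0 := by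
          rw [Algebra.smul_def, mul_one, Ideal.Quotient.algebraMap_eq,
            Ideal.Quotient.eq_zero_iff_mem]
          exact ha
        rw [this, map_zero]
      rw [hM, Submodule.mem_bot] at hv
      refine LinearMap.ext fun q => ?_
      obtain ⟨r, rfl⟩ := Ideal.Quotient.mk_surjective q
      have : (Ideal.Quotient.mk (maximalIdeal R) r) = r • (1 : R ⧸ maximalIdeal R) := by
        rw [Algebra.smul_def, mul_one, Ideal.Quotient.algebraMap_eq]
      rw [this, map_smul, hv, smul_zero, LinearMap.zero_apply]
    exact ⟨fun f g => (hz f).trans (hz g).symm⟩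
  obtain ⟨r, hr, hreg⟩ := (IsSMulRegular.subsingleton_linearMap_iff (R := R) (M := M)
    (N := R ⧸ maximalIdeal R)).1 hsub
  rw [Ideal.annihilator_quotient] at hr
  exact ⟨r, hr, hreg⟩

/-- a finitely generated power-torsion module is killed by a single power -/
lemma exists_pow_kill (T : Type u) [AddCommGroup T] [Module R T] [Module.Finite R T]
    (hT : LocCoh.IsPowerTorsion (maximalIdeal R) T) :
    ∃ n : ℕ, ∀ a ∈ maximalIdeal R ^ n, ∀ x : T, a • x = 0 := by
  classical
  obtain ⟨S, hS⟩ := (Module.finite_def (R := R) (M := T)).1 inferInstance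
  choose nf hnf using hT
  refine ⟨S.sup nf, fun a ha x => ?_⟩
  have hx : x ∈ Submodule.span R (S : Set T) := by rw [hS]; exact Submodule.mem_top
  induction hx using Submodule.span_induction with
  | mem y hy => exact hnf y a (Ideal.pow_le_pow_right (Finset.le_sup hy) ha)
  | zero => exact smul_zero a
  | add y z _ _ hy hz => rw [smul_add, hy, hz, add_zero]
  | smul c y _ hy => rw [smul_comm, hy, smul_zero]

/-- **Artinianness** of `H^i_𝔪(M)` for finitely generated `M` -/
theorem isArtinian_H : ∀ (i : ℕ) (M : Type u) [AddCommGroup M] [Module R M] [Module.Finite R M],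
    IsArtinian R (LocCoh.H (maximalIdeal R) i M) := by
  intro i
  induction i with
  | zero =>
    intro M _ _ _
    have e := H0equiv (maximalIdeal R) M
    have hnoeth : IsNoetherian R M := isNoetherian_of_isNoetherianRing_of_finite R M
    have hfin : Module.Finite R (DRing.torsionSub (maximalIdeal R) M) := inferInstance
    obtain ⟨n, hn⟩ := exists_pow_kill (DRing.torsionSub (maximalIdeal R) M)
      (isPowerTorsion_torsionSub (maximalIdeal R) M)
    have hfl := Groth.Agent.H2.Matlis.isFiniteLength_of_finite_of_pow_smul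
      (DRing.torsionSub (maximalIdeal R) M) n hn
    have hart : IsArtinian R (DRing.torsionSub (maximalIdeal R) M) :=
      (isFiniteLength_iff_isNoetherian_isArtinian.mp hfl).2
    exact isArtinian_of_linearEquiv e.symm
  | succ i ih =>
    intro M _ _ _
    have hbij := Hmap_mkQ_torsionSub_bijective (maximalIdeal R) M (i + 1) (Nat.succ_pos i)
    let e := LinearEquiv.ofBijective _ hbij
    suffices hsuff : IsArtinian R (LocCoh.H (maximalIdeal R) (i + 1)
        (M ⧸ DRing.torsionSub (maximalIdeal R) M)) from isArtinian_of_linearEquiv e.symm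
    have hT0 := torsionSub_quot_torsionSub (maximalIdeal R) M
    obtain ⟨x, hxm, hreg⟩ := exists_regular (M ⧸ DRing.torsionSub (maximalIdeal R) M) hT0
    have hφinj : Function.Injective
        (LinearMap.lsmul R (M ⧸ DRing.torsionSub (maximalIdeal R) M) x) := hreg
    obtain ⟨δ, -, -, e3, -⟩ := les_mod (maximalIdeal R)
      (LinearMap.lsmul R (M ⧸ DRing.torsionSub (maximalIdeal R) M) x)
      (LinearMap.range (LinearMap.lsmul R (M ⧸ DRing.torsionSub (maximalIdeal R) M) x)).mkQ
      hφinj (Submodule.mkQ_surjective _) (LinearMap.exact_map_mkQ_range _) i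
    have hφ : Hmap (maximalIdeal R) (i + 1)
        (LinearMap.lsmul R (M ⧸ DRing.torsionSub (maximalIdeal R) M) x) =
        (μ x : LocCoh.H (maximalIdeal R) (i + 1) (M ⧸ DRing.torsionSub (maximalIdeal R) M) →ₗ[R] _) := by
      have h1 : LinearMap.lsmul R (M ⧸ DRing.torsionSub (maximalIdeal R) M) x =
          x • LinearMap.id := by
        ext v; rfl
      rw [h1, Hmap_smul, Hmap_id]
      ext v; rfl
    have hA : IsArtinian R (LocCoh.H (maximalIdeal R) i
        ((M ⧸ DRing.torsionSub (maximalIdeal R) M) ⧸
          LinearMap.range (LinearMap.lsmul R (M ⧸ DRing.torsionSub (maximalIdeal R) M) x))) :=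
      ih _
    have hker : IsArtinian R (LinearMap.ker (μ x :
        LocCoh.H (maximalIdeal R) (i + 1) (M ⧸ DRing.torsionSub (maximalIdeal R) M) →ₗ[R] _)) := by
      have hk : LinearMap.ker (μ x : LocCoh.H (maximalIdeal R) (i + 1)
          (M ⧸ DRing.torsionSub (maximalIdeal R) M) →ₗ[R] _) = LinearMap.range δ := by
        ext y
        rw [LinearMap.mem_ker, LinearMap.mem_range, ← hφ]
        exact e3 y
      rw [hk]
      infer_instance
    have htors : ∀ y : LocCoh.H (maximalIdeal R) (i + 1)
        (M ⧸ DRing.torsionSub (maximalIdeal R) M), ∃ k : ℕ, x ^ k • y = 0 := by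
      intro y
      obtain ⟨k, hk⟩ := isPowerTorsion_H (maximalIdeal R) (i + 1) y
      exact ⟨k, hk _ (Ideal.pow_mem_pow hxm k)⟩
    exact isArtinian_of_isArtinian_ker x htors

end Groth.Agent.H2.LCArtin
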