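import Mathlib

/-!
# Eilenberg–Watts for right exact additive functors on finitely generated modules
over a Noetherian ring, in the language of linear maps.
-/

set_option autoImplicit false

universe u

namespace Groth.Agent.H2.Watts

open TensorProduct Function

variable {R : Type u} [CommRing R]

/-- a right exact `R`-linear functor on modules, presented with linear maps -/
structure RFun (R : Type u) [CommRing R] where
  obj : ModuleCat.{u} R → ModuleCat.{u} R
  map : ∀ {X Y : ModuleCat.{u} R}, (X →ₗ[R] Y) → (obj X →ₗ[R] obj Y)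
  map_id : ∀ X : ModuleCat.{u} R, map (LinearMap.id : X →ₗ[R] X) = LinearMap.id
  map_comp : ∀ {X Y Z : ModuleCat.{u} R} (g : Y →ₗ[R] Z) (f : X →ₗ[R] Y),
    map (g ∘ₗ f) = map g ∘ₗ map f
  map_add : ∀ {X Y : ModuleCat.{u} R} (f g : X →ₗ[R] Y), map (f + g) = map f + map g
  map_smul : ∀ {X Y : ModuleCat.{u} R} (a : R) (f : X →ₗ[R] Y), map (a • f) = a • map f
  exact : ∀ {X Y Z : ModuleCat.{u} R} (f : X →ₗ[R] Y) (g : Y →ₗ[R] Z), Function.Exact f g →
    Function.Surjective g → Function.Exact (map f) (map g) ∧ Function.Surjective (map g)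

variable (F : RFun R)

/-- the linear version of `map` -/
noncomputable def RFun.mapₗ {X Y : ModuleCat.{u} R} :
    (X →ₗ[R] Y) →ₗ[R] (F.obj X →ₗ[R] F.obj Y) where
  toFun := F.map
  map_add' := F.map_add
  map_smul' a f := by rw [RingHom.id_apply]; exact F.map_smul a f

theorem RFun.mapₗ_apply {X Y : ModuleCat.{u} R} (f : X →ₗ[R] Y) : F.mapₗ f = F.map f := rfl

theorem RFun.map_sum {X Y : ModuleCat.{u} R} {ι : Type*} (s : Finset ι) (f : ι → (X →ₗ[R] Y)) :
    F.map (∑ i ∈ s, f i) = ∑ i ∈ s, F.map (f i) := by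
  rw [← RFun.mapₗ_apply, _root_.map_sum]
  rfl

theorem RFun.map_comp_apply {X Y Z : ModuleCat.{u} R} (g : Y →ₗ[R] Z) (f : X →ₗ[R] Y)
    (t : F.obj X) : F.map g (F.map f t) = F.map (g ∘ₗ f) t := by
  rw [F.map_comp]; rfl

/-- the map `R → X` sending `1` to `x` -/
noncomputable def ρ (X : ModuleCat.{u} R) : X →ₗ[R] ((ModuleCat.of R R) →ₗ[R] X) :=
  (LinearMap.ringLmapEquivSelf R R X).symm.toLinearMap

theorem ρ_one (X : ModuleCat.{u} R) (x : X) : ρ X x (1 : R) = x := by
  simp [ρ]

theorem eq_ρ (X : ModuleCat.{u} R) (g : (ModuleCat.of R R) →ₗ[R] X) (x : X) (h : g (1 : R) = x) :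
    g = ρ X x := by
  apply LinearMap.ext_ring
  rw [ρ_one]
  exact h

/-- the comparison map `X ⊗ F(R) → F(X)` -/
noncomputable def τ (X : ModuleCat.{u} R) :
    (X ⊗[R] F.obj (ModuleCat.of R R)) →ₗ[R] F.obj X :=
  TensorProduct.lift (F.mapₗ ∘ₗ ρ X)

theorem τ_tmul (X : ModuleCat.{u} R) (x : X) (t : F.obj (ModuleCat.of R R)) :
    τ F X (x ⊗ₜ t) = F.map (ρ X x) t := rfl

theorem τ_nat {X Y : ModuleCat.{u} R} (f : X →ₗ[R] Y) (w : X ⊗[R] F.obj (ModuleCat.of R R)) :
    F.map f (τ F X w) = τ F Y (LinearMap.rTensor _ f w) := by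
  induction w using TensorProduct.induction_on with
  | zero => simp
  | tmul x t =>
    rw [LinearMap.rTensor_tmul, τ_tmul, τ_tmul, RFun.map_comp_apply]
    congr 2
    exact eq_ρ Y _ _ (by rw [LinearMap.comp_apply, ρ_one])
  | add w₁ w₂ h₁ h₂ => rw [map_add, map_add, h₁, h₂, map_add, map_add]

theorem τ_free_bijective (q : ℕ) : Bijective (τ F (ModuleCat.of R (Fin q → R))) := by
  classical
  have hsum : ∑ i : Fin q, ((LinearMap.single R (fun _ : Fin q => R) i :
      (ModuleCat.of R R) →ₗ[R] (ModuleCat.of R (Fin q → R))) ∘ₗ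
      (LinearMap.proj i : (ModuleCat.of R (Fin q → R)) →ₗ[R] (ModuleCat.of R R))) =
      LinearMap.id := by
    refine LinearMap.ext fun v => ?_
    rw [LinearMap.sum_apply]
    exact Finset.univ_sum_single v
  have hinn : ∀ i : Fin q, (LinearMap.single R (fun _ : Fin q => R) i :
      (ModuleCat.of R R) →ₗ[R] (ModuleCat.of R (Fin q → R))) =
      ρ (ModuleCat.of R (Fin q → R)) (Pi.single i (1 : R)) := by
    intro i
    apply LinearMap.ext_ring
    rw [ρ_one]
    rfl
  let lam : F.obj (ModuleCat.of R (Fin q → R)) →ₗ[R]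
      ((ModuleCat.of R (Fin q → R)) ⊗[R] F.obj (ModuleCat.of R R)) :=
    ∑ i : Fin q, (TensorProduct.mk R (ModuleCat.of R (Fin q → R)) (F.obj (ModuleCat.of R R))
      (Pi.single i (1 : R))) ∘ₗ
        F.map (LinearMap.proj i : (ModuleCat.of R (Fin q → R)) →ₗ[R] (ModuleCat.of R R))
  have hlam : ∀ y, lam y = ∑ i : Fin q, (Pi.single i (1 : R) : Fin q → R) ⊗ₜ[R]
      F.map (LinearMap.proj i : (ModuleCat.of R (Fin q → R)) →ₗ[R] (ModuleCat.of R R)) y := by
    intro y
    simp only [lam, LinearMap.sum_apply, LinearMap.comp_apply, TensorProduct.mk_apply]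
  rw [Function.bijective_iff_has_inverse]
  refine ⟨lam, ?_, ?_⟩
  · intro w
    induction w using TensorProduct.induction_on with
    | zero => simp
    | tmul v t =>
      rw [hlam]
      have h1 : ∀ i : Fin q, F.map (LinearMap.proj i :
          (ModuleCat.of R (Fin q → R)) →ₗ[R] (ModuleCat.of R R))
          (τ F (ModuleCat.of R (Fin q → R)) (v ⊗ₜ t)) = (v i) • t := by
        intro i
        rw [τ_tmul, RFun.map_comp_apply]
        have : ((LinearMap.proj i : (ModuleCat.of R (Fin q → R)) →ₗ[R] (ModuleCat.of R R)) ∘ₗ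
            ρ (ModuleCat.of R (Fin q → R)) v) = (v i) • (LinearMap.id : (ModuleCat.of R R) →ₗ[R]
              (ModuleCat.of R R)) := by
          apply LinearMap.ext_ring
          rw [LinearMap.comp_apply, ρ_one]
          simp
        rw [this, F.map_smul, F.map_id]
        rfl
      simp only [h1]
      have h2 : ∀ i : Fin q, (Pi.single i (1 : R) : Fin q → R) ⊗ₜ[R] ((v i) • t) =
          (Pi.single i (v i) : Fin q → R) ⊗ₜ[R] t := by
        intro i
        rw [← TensorProduct.smul_tmul]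
        congr 1
        ext j
        simp [Pi.single_apply]
      simp only [h2]
      rw [← TensorProduct.sum_tmul]
      congr 1
      exact Finset.univ_sum_single v
    | add w₁ w₂ h₁ h₂ => rw [map_add, map_add, h₁, h₂]
  · intro y
    rw [hlam, _root_.map_sum]
    have h1 : F.map (X := ModuleCat.of R (Fin q → R)) (Y := ModuleCat.of R (Fin q → R))
      (∑ i : Fin q, ((LinearMap.single R (fun _ : Fin q => R) i :
      (ModuleCat.of R R) →ₗ[R] (ModuleCat.of R (Fin q → R))) ∘ₗ
      (LinearMap.proj i : (ModuleCat.of R (Fin q → R)) →ₗ[R] (ModuleCat.of R R)))) =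
        LinearMap.id := by rw [hsum, F.map_id]
    rw [RFun.map_sum] at h1
    have h2 := LinearMap.congr_fun h1 y
    rw [LinearMap.sum_apply, LinearMap.id_apply] at h2
    conv_rhs => rw [← h2]
    refine Finset.sum_congr rfl fun i _ => ?_
    rw [τ_tmul, RFun.map_comp_apply, ← hinn]

theorem τ_bijective_of_presentation {p q : ℕ} (M : ModuleCat.{u} R)
    (φ : (ModuleCat.of R (Fin p → R)) →ₗ[R] (ModuleCat.of R (Fin q → R)))
    (π : (ModuleCat.of R (Fin q → R)) →ₗ[R] M) (hex : Function.Exact φ π) (hπ : Surjective π) :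
    Bijective (τ F M) := by
  have hF := F.exact φ π hex hπ
  have hT := rTensor_exact (F.obj (ModuleCat.of R R)) hex hπ
  have hTs := LinearMap.rTensor_surjective (F.obj (ModuleCat.of R R)) hπ
  have hp := τ_free_bijective F p
  have hq := τ_free_bijective F q
  constructor
  · rw [injective_iff_map_eq_zero]
    intro x hx
    obtain ⟨w, rfl⟩ := hTs x
    have h1 : F.map π (τ F (ModuleCat.of R (Fin q → R)) w) = 0 := by
      rw [τ_nat]; exact hx
    obtain ⟨y'', hy''⟩ := (hF.1 _).mp h1
    obtain ⟨w'', rfl⟩ := hp.2 y''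
    rw [τ_nat] at hy''
    have h2 := hq.1 hy''
    rw [← h2]
    exact (hT _).mpr ⟨w'', rfl⟩
  · intro y
    obtain ⟨y', rfl⟩ := hF.2 y
    obtain ⟨w, rfl⟩ := hq.2 y'
    exact ⟨LinearMap.rTensor _ π w, (τ_nat F π w).symm⟩

theorem exists_presentation [IsNoetherianRing R] (M : Type u) [AddCommGroup M] [Module R M]
    [Module.Finite R M] : ∃ (p q : ℕ) (φ : (Fin p → R) →ₗ[R] (Fin q → R))
      (π : (Fin q → R) →ₗ[R] M), Function.Exact φ π ∧ Surjective π := by
  obtain ⟨q, π, hπ⟩ := Module.Finite.exists_fin' R M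
  have hfg : (LinearMap.ker π).FG := IsNoetherian.noetherian _
  have hfin : Module.Finite R (LinearMap.ker π) := Module.Finite.iff_fg.mpr hfg
  obtain ⟨p, φ0, hφ0⟩ := Module.Finite.exists_fin' R (LinearMap.ker π)
  refine ⟨p, q, (LinearMap.ker π).subtype ∘ₗ φ0, π, ?_, hπ⟩
  intro v
  constructor
  · intro hv
    obtain ⟨w, hw⟩ := hφ0 ⟨v, hv⟩
    exact ⟨w, by rw [LinearMap.comp_apply, hw]; rfl⟩
  · rintro ⟨w, rfl⟩
    exact (φ0 w).2

theorem τ_bijective [IsNoetherianRing R] (M : ModuleCat.{u} R) [Module.Finite R M] :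
    Bijective (τ F M) := by
  obtain ⟨p, q, φ, π, hex, hπ⟩ := exists_presentation (R := R) M
  exact τ_bijective_of_presentation F M φ π hex hπ

section HomHom

variable (K E : Type u) [AddCommGroup K] [Module R K] [AddCommGroup E] [Module R E]

theorem exists_factor' {A B C : Type u} [AddCommGroup A] [Module R A] [AddCommGroup B] [Module R B]
    [AddCommGroup C] [Module R C] (π : A →ₗ[R] B) (hπ : Surjective π) (φ : A →ₗ[R] C)
    (h : LinearMap.ker π ≤ LinearMap.ker φ) : ∃ χ : B →ₗ[R] C, χ ∘ₗ π = φ := by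
  refine ⟨((LinearMap.ker π).liftQ φ h) ∘ₗ (π.quotKerEquivOfSurjective hπ).symm.toLinearMap, ?_⟩
  refine LinearMap.ext fun m => ?_
  show (LinearMap.ker π).liftQ φ h ((π.quotKerEquivOfSurjective hπ).symm (π m)) = φ m
  rw [LinearMap.quotKerEquivOfSurjective_symm_apply]
  rfl

/-- `Hom(-, K)` is left exact -/
theorem lcomp_exact {X Y Z : Type u} [AddCommGroup X] [Module R X] [AddCommGroup Y] [Module R Y]
    [AddCommGroup Z] [Module R Z] (f : X →ₗ[R] Y) (g : Y →ₗ[R] Z) (hex : Function.Exact f g)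
    (hg : Surjective g) :
    Function.Exact (LinearMap.lcomp R K g) (LinearMap.lcomp R K f) ∧
      Injective (LinearMap.lcomp R K g) := by
  constructor
  · intro h
    constructor
    · intro hh
      have hker : LinearMap.ker g ≤ LinearMap.ker h := by
        intro y hy
        obtain ⟨x, rfl⟩ := (hex y).mp hy
        exact LinearMap.congr_fun hh x
      obtain ⟨h', hh'⟩ := exists_factor' g hg h hker
      exact ⟨h', hh'⟩
    · rintro ⟨h', rfl⟩
      refine LinearMap.ext fun x => ?_
      show h' (g (f x)) = 0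
      rw [hex.apply_apply_eq_zero, map_zero]
  · intro h₁ h₂ h
    refine LinearMap.ext fun z => ?_
    obtain ⟨y, rfl⟩ := hg z
    exact LinearMap.congr_fun h y

variable [Module.Injective R E]

/-- `Hom(-, E)` is exact for injective `E` -/
theorem lcomp_injective_exact {A B C : Type u} [AddCommGroup A] [Module R A] [AddCommGroup B]
    [Module R B] [AddCommGroup C] [Module R C] (b : A →ₗ[R] B) (a : B →ₗ[R] C)
    (hex : Function.Exact b a) :
    Function.Exact (LinearMap.lcomp R E a) (LinearMap.lcomp R E b) := by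
  intro ξ
  constructor
  · intro hξ
    have hker : LinearMap.ker a.rangeRestrict ≤ LinearMap.ker ξ := by
      intro y hy
      have hy' : a y = 0 := by
        have := congrArg Subtype.val (LinearMap.mem_ker.mp hy)
        exact this
      obtain ⟨x, rfl⟩ := (hex y).mp hy'
      exact LinearMap.congr_fun hξ x
    obtain ⟨ξ₀, hξ₀⟩ := exists_factor' a.rangeRestrict a.surjective_rangeRestrict ξ hker
    obtain ⟨ξ', hξ'⟩ := Module.Injective.extension_property R E _ _ (LinearMap.range a).subtype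
      (Submodule.injective_subtype _) ξ₀
    refine ⟨ξ', ?_⟩
    refine LinearMap.ext fun y => ?_
    show ξ' (a y) = ξ y
    rw [← hξ₀, ← hξ']
    rfl
  · rintro ⟨ξ', rfl⟩
    refine LinearMap.ext fun x => ?_
    show ξ' (a (b x)) = 0
    rw [hex.apply_apply_eq_zero, map_zero]

theorem lcomp_injective_surjective {A B : Type u} [AddCommGroup A] [Module R A] [AddCommGroup B]
    [Module R B] (b : A →ₗ[R] B) (hb : Injective b) : Surjective (LinearMap.lcomp R E b) := by
  intro ζ
  obtain ⟨ζ', hζ'⟩ := Module.Injective.extension_property R E _ _ b hb ζ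
  exact ⟨ζ', hζ'⟩

/-- the functor `X ↦ Hom(Hom(X, K), E)` -/
noncomputable def homHom : RFun R where
  obj X := ModuleCat.of R ((X →ₗ[R] K) →ₗ[R] E)
  map f := LinearMap.lcomp R E (LinearMap.lcomp R K f)
  map_id X := by
    refine LinearMap.ext fun ξ => LinearMap.ext fun h => ?_
    rfl
  map_comp g f := by
    refine LinearMap.ext fun ξ => LinearMap.ext fun h => ?_
    rfl
  map_add f g := by
    refine LinearMap.ext fun ξ => LinearMap.ext fun h => ?_
    show ξ (h ∘ₗ (f + g)) = ξ (h ∘ₗ f) + ξ (h ∘ₗ g)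
    rw [LinearMap.comp_add, map_add]
  map_smul a f := by
    refine LinearMap.ext fun ξ => LinearMap.ext fun h => ?_
    show ξ (h ∘ₗ (a • f)) = a • ξ (h ∘ₗ f)
    rw [LinearMap.comp_smul, map_smul]
  exact f g hex hg := by
    obtain ⟨h1, h2⟩ := lcomp_exact K f g hex hg
    exact ⟨lcomp_injective_exact E _ _ h1, lcomp_injective_surjective E _ h2⟩

end HomHom

end Groth.Agent.H2.Watts
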