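import Mathlib
import Groth.Agent.H2.ArtinSec
import Groth.Agent.H2.LCArtin
import Groth.Agent.H2.Watts
import Groth.Agent.H58.LCMod
import Groth.Agent.H58.LCTors
import Groth.Agent.H58.LCCd
import Groth.Agent.H58.LCIndep
import Groth.Agent.S7698

/-!
# Grothendieck's non-vanishing theorem for local cohomology
-/

set_option autoImplicit false
universe u

namespace Groth.Agent.H2.LCNonvanish

open Groth.Agent.H58.LC IsLocalRing Groth.Agent.H2.ArtinSec

section dims

variable (R : Type u) [CommRing R]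

/-- a prime of maximal coheight -/
lemma exists_prime_dim_eq (n : ℕ) (hn : ringKrullDim R = n) :
    ∃ p : Ideal R, p.IsPrime ∧ ringKrullDim (R ⧸ p) = n := by
  obtain ⟨l, hl⟩ := (Order.le_krullDim_iff (α := PrimeSpectrum R) (n := n)).1 (le_of_eq hn.symm)
  refine ⟨l.head.asIdeal, l.head.isPrime, le_antisymm ?_ ?_⟩
  · rw [← hn]
    exact ringKrullDim_quotient_le _
  · rw [ringKrullDim_quotient]
    let l' : LTSeries (PrimeSpectrum.zeroLocus (R := R) (l.head.asIdeal : Set R)) :=
      { length := l.length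
        toFun := fun i => ⟨l i, by
          rw [PrimeSpectrum.mem_zeroLocus]
          exact l.head_le i⟩
        step := fun i => l.step i }
    have h1 := Order.LTSeries.length_le_krullDim l'
    have h2 : l'.length = n := hl
    rw [h2] at h1
    exact h1

end dims

section Quot

variable {R : Type u} [CommRing R] [IsLocalRing R] [IsNoetherianRing R] (J : Ideal R)
  [IsLocalRing (R ⧸ J)]

lemma map_maximalIdeal :
    (maximalIdeal R).map (algebraMap R (R ⧸ J)) = maximalIdeal (R ⧸ J) := by
  have hsurj : Function.Surjective (algebraMap R (R ⧸ J)) := Ideal.Quotient.mk_surjective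
  have hJ : J ≤ maximalIdeal R := by
    apply IsLocalRing.le_maximalIdeal
    intro h
    have : Subsingleton (R ⧸ J) := Ideal.Quotient.subsingleton_iff.2 h
    exact not_subsingleton (R ⧸ J) this
  rcases Ideal.map_eq_top_or_isMaximal_of_surjective (algebraMap R (R ⧸ J)) hsurj
    (maximalIdeal.isMaximal R) with h | h
  · exfalso
    have h1 : (1 : R ⧸ J) ∈ (maximalIdeal R).map (algebraMap R (R ⧸ J)) := by
      rw [h]; exact Submodule.mem_top
    obtain ⟨a, ha, ha1⟩ := (Ideal.mem_map_iff_of_surjective _ hsurj).1 h1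
    have h2 : (1 : R) - a ∈ J := by
      rw [← Ideal.Quotient.eq]
      exact ha1.symm
    have h3 : (1 : R) ∈ maximalIdeal R := by
      have := (maximalIdeal R).add_mem (hJ h2) ha
      rwa [sub_add_cancel] at this
    exact (maximalIdeal.isMaximal R).ne_top ((Ideal.eq_top_iff_one _).2 h3)
  · exact IsLocalRing.eq_maximalIdeal h

/-- independence of base for the maximal ideal of a quotient -/
lemma semiEq_quot (i : ℕ) (M' : Type u) [AddCommGroup M'] [Module (R ⧸ J) M'] [Module R M']
    [IsScalarTower R (R ⧸ J) M'] :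
    ∃ φ : LocCoh.H (maximalIdeal (R ⧸ J)) i M' ≃+ LocCoh.H (maximalIdeal R) i M',
      ∀ (r : R) (x : LocCoh.H (maximalIdeal (R ⧸ J)) i M'),
        φ (algebraMap R (R ⧸ J) r • x) = r • φ x := by
  have h := semiEq_H R (R ⧸ J) (maximalIdeal R) i M'
  rw [map_maximalIdeal J] at h
  exact h

end Quot

section main

open TensorProduct

lemma dim_cancel (a : WithBot ℕ∞) (n : ℕ) (h : a + 1 = ((n + 1 : ℕ) : WithBot ℕ∞)) :
    a = (n : WithBot ℕ∞) := by
  induction a using WithBot.recBotCoe with
  | bot =>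
    exfalso
    rw [WithBot.bot_add] at h
    exact WithBot.bot_ne_coe h
  | coe b =>
    have h' : ((b + 1 : ℕ∞) : WithBot ℕ∞) = (((n + 1 : ℕ) : ℕ∞) : WithBot ℕ∞) := by
      rw [WithBot.coe_add, WithBot.coe_one]; exact h
    have h2 : b + 1 = ((n + 1 : ℕ) : ℕ∞) := WithBot.coe_inj.1 h'
    have h3 : b = (n : ℕ∞) := by
      rw [Nat.cast_add, Nat.cast_one] at h2
      exact ENat.add_left_injective_of_ne_top ENat.one_ne_top h2
    rw [h3]; rfl

section general

variable {R : Type u} [CommRing R] (I : Ideal R) (i : ℕ)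

theorem Hmap_surjective_of_subsingleton
    {N P : Type u} [AddCommGroup N] [Module R N] [AddCommGroup P] [Module R P]
    (g : N →ₗ[R] P) (hg : Function.Surjective g)
    (h : Subsingleton (LocCoh.H I (i + 1) (LinearMap.ker g))) :
    Function.Surjective (Hmap I i g) := by
  obtain ⟨δ, -, h2, -, -⟩ := les_mod I (LinearMap.ker g).subtype g (Submodule.injective_subtype _) hg
    (LinearMap.exact_subtype_ker_map g) i
  intro y
  exact (h2 y).mp (Subsingleton.elim _ _)

theorem Hmap_exact_of_vanishing {X Y Z : Type u} [AddCommGroup X] [Module R X] [AddCommGroup Y]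
    [Module R Y] [AddCommGroup Z] [Module R Z]
    (f : X →ₗ[R] Y) (g : Y →ₗ[R] Z) (hex : Function.Exact f g) (hg : Function.Surjective g)
    (hvan : ∀ N : Submodule R X, Subsingleton (LocCoh.H I (i + 1) N)) :
    Function.Exact (Hmap I i f) (Hmap I i g) := by
  obtain ⟨δ, h1, -, -, -⟩ := les_mod I (LinearMap.ker g).subtype g (Submodule.injective_subtype _) hg
    (LinearMap.exact_subtype_ker_map g) i
  have hfk : ∀ x, f x ∈ LinearMap.ker g := fun x => hex.apply_apply_eq_zero x
  let f' : X →ₗ[R] LinearMap.ker g := f.codRestrict _ hfk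
  have hf' : Function.Surjective f' := by
    rintro ⟨y, hy⟩
    obtain ⟨x, rfl⟩ := (hex y).mp hy
    exact ⟨x, rfl⟩
  have hcomp : f = (LinearMap.ker g).subtype ∘ₗ f' := rfl
  have hs := Hmap_surjective_of_subsingleton I i f' hf' (hvan _)
  intro y
  constructor
  · intro hy
    obtain ⟨z, rfl⟩ := (h1 y).mp hy
    obtain ⟨x, rfl⟩ := hs z
    exact ⟨x, by rw [hcomp, Hmap_comp_apply]⟩
  · rintro ⟨x, rfl⟩
    rw [hcomp, Hmap_comp_apply]
    exact (h1 _).mpr ⟨_, rfl⟩

lemma Hmap_lsmul (M : Type u) [AddCommGroup M] [Module R M] (x : R) :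
    Hmap I i (LinearMap.lsmul R M x) = (μ x : LocCoh.H I i M →ₗ[R] LocCoh.H I i M) := by
  have h1 : LinearMap.lsmul R M x = x • LinearMap.id := by
    ext v; rfl
  rw [h1, Hmap_smul, Hmap_id]
  ext v; rfl

lemma Hmap_sum {M N : Type u} [AddCommGroup M] [Module R M] [AddCommGroup N] [Module R N]
    {ι : Type*} (s : Finset ι) (f : ι → (M →ₗ[R] N)) :
    Hmap I i (∑ j ∈ s, f j) = ∑ j ∈ s, Hmap I i (f j) := by
  classical
  induction s using Finset.induction_on with
  | empty => rw [Finset.sum_empty, Finset.sum_empty, Hmap_zero]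
  | insert a s ha ih => rw [Finset.sum_insert ha, Finset.sum_insert ha, Hmap_add, ih]

end general

variable (R : Type u) [CommRing R] [IsLocalRing R] [IsNoetherianRing R]

theorem nontrivial_H_zero (h0 : ringKrullDim R = ((0 : ℕ) : WithBot ℕ∞)) :
    Nontrivial (LocCoh.H (maximalIdeal R) 0 R) := by
  have hart : IsArtinianRing R :=
    isArtinianRing_iff_krullDimLE_zero.2 (Ring.krullDimLE_iff.2 (le_of_eq h0))
  obtain ⟨k, hk⟩ := (isArtinianRing_iff_isNilpotent_maximalIdeal R).1 hart
  have h1 : (1 : R) ∈ DRing.torsionSub (maximalIdeal R) R := by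
    refine ⟨k, fun a ha => ?_⟩
    rw [hk] at ha
    rw [(Submodule.mem_bot R).1 ha, zero_smul]
  by_contra hcon
  rw [not_nontrivial_iff_subsingleton] at hcon
  have h2 := (subsingleton_H0_iff (maximalIdeal R) R).1 hcon
  rw [h2, Submodule.mem_bot] at h1
  exact one_ne_zero h1

theorem subsingleton_H_top_of_self (n : ℕ) (hn : ringKrullDim R = n)
    (h : Subsingleton (LocCoh.H (maximalIdeal R) n R)) (M : Type u) [AddCommGroup M] [Module R M]
    [Module.Finite R M] : Subsingleton (LocCoh.H (maximalIdeal R) n M) := by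
  have hcd := Groth.Agent.S7698.cdLE_maximalIdeal R n hn
  have hfinM : Module.Finite R (ModuleCat.of R M) := inferInstanceAs (Module.Finite R M)
  have b1 := Groth.Agent.H2.Watts.τ_bijective
    (Groth.Agent.S7698.Hfun (maximalIdeal R) n hcd) (ModuleCat.of R M)
  have hs0 : Subsingleton ((Groth.Agent.S7698.Hfun (maximalIdeal R) n hcd).obj
      (ModuleCat.of R R)) := h
  have hs : Subsingleton ((ModuleCat.of R M) ⊗[R]
      ((Groth.Agent.S7698.Hfun (maximalIdeal R) n hcd).obj (ModuleCat.of R R))) := by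
    have hz : ∀ w : (ModuleCat.of R M) ⊗[R]
        ((Groth.Agent.S7698.Hfun (maximalIdeal R) n hcd).obj (ModuleCat.of R R)), w = 0 := by
      intro w
      induction w using TensorProduct.induction_on with
      | zero => rfl
      | tmul x t => rw [Subsingleton.elim t 0, TensorProduct.tmul_zero]
      | add w₁ w₂ h₁ h₂ => rw [h₁, h₂, add_zero]
    exact ⟨fun a b => (hz a).trans (hz b).symm⟩
  exact b1.2.subsingleton

end main

section domain

variable (D : Type u) [CommRing D] [IsDomain D] [IsLocalRing D] [IsNoetherianRing D] (n : ℕ)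

theorem not_surjective_smul
    (hdim : ringKrullDim D = ((n + 1 : ℕ) : WithBot ℕ∞))
    (IH : ∀ (R : Type u) [CommRing R] [IsLocalRing R] [IsNoetherianRing R],
      ringKrullDim R = (n : WithBot ℕ∞) → Nontrivial (LocCoh.H (maximalIdeal R) n R))
    (hT : Subsingleton (LocCoh.H (maximalIdeal D) (n + 1) D))
    (x : D) (hx : x ∈ maximalIdeal D) (hx0 : x ≠ 0) :
    ¬ Function.Surjective (fun v : LocCoh.H (maximalIdeal D) n D => x • v) := by
  intro hsurj
  have hne : Ideal.span {x} ≠ (⊤ : Ideal D) := by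
    intro h
    have hle : Ideal.span {x} ≤ maximalIdeal D := (Ideal.span_singleton_le_iff_mem _).2 hx
    rw [h] at hle
    exact (maximalIdeal.isMaximal D).ne_top (top_le_iff.1 hle)
  have hnt : Nontrivial (D ⧸ Ideal.span {x}) := Ideal.Quotient.nontrivial_iff.2 hne
  have hloc : IsLocalRing (D ⧸ Ideal.span {x}) :=
    IsLocalRing.of_surjective' (Ideal.Quotient.mk _) Ideal.Quotient.mk_surjective
  have hreg : IsSMulRegular D x := by
    intro a b hab
    exact mul_left_cancel₀ hx0 hab
  have hdim' : ringKrullDim (D ⧸ Ideal.span {x}) = (n : WithBot ℕ∞) := by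
    have h := ringKrullDim_quotient_span_singleton_succ_eq_ringKrullDim hreg hx
    rw [hdim] at h
    exact dim_cancel _ n h
  have hnv := IH (D ⧸ Ideal.span {x}) hdim'
  obtain ⟨φ, -⟩ := semiEq_quot (Ideal.span {x}) n (D ⧸ Ideal.span {x})
  have hnv' : Nontrivial (LocCoh.H (maximalIdeal D) n (D ⧸ Ideal.span {x})) :=
    φ.symm.toEquiv.nontrivial
  have hexact : Function.Exact (LinearMap.lsmul D D x)
      (Submodule.mkQ (Ideal.span {x} : Submodule D D)) := by
    intro y
    rw [Submodule.mkQ_apply, Submodule.Quotient.mk_eq_zero, Ideal.mem_span_singleton']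
    constructor
    · rintro ⟨a, ha⟩
      exact ⟨a, by rw [← ha]; exact mul_comm x a⟩
    · rintro ⟨a, ha⟩
      exact ⟨a, by rw [← ha]; exact mul_comm a x⟩
  obtain ⟨δ, e1, e2, -, -⟩ := les_mod (maximalIdeal D) (LinearMap.lsmul D D x)
    (Submodule.mkQ (Ideal.span {x} : Submodule D D)) hreg (Submodule.mkQ_surjective _) hexact n
  have hall : ∀ y : LocCoh.H (maximalIdeal D) n (D ⧸ Ideal.span {x}), y = 0 := by
    intro y
    obtain ⟨v, rfl⟩ := (e2 y).1 (Subsingleton.elim _ _)
    obtain ⟨v', rfl⟩ := hsurj v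
    have h3 : x • v' = Hmap (maximalIdeal D) n (LinearMap.lsmul D D x) v' := by
      rw [Hmap_lsmul]; rfl
    show Hmap (maximalIdeal D) n (Submodule.mkQ (Ideal.span {x} : Submodule D D)) (x • v') = 0
    rw [h3]
    exact e1.apply_apply_eq_zero v'
  obtain ⟨a, b, hab⟩ := hnv'.exists_pair_ne
  exact hab ((hall a).trans (hall b).symm)

theorem smul_top_eq_top
    (hdim : ringKrullDim D = ((n + 1 : ℕ) : WithBot ℕ∞)) (hm : maximalIdeal D ≠ ⊥)
    (hT : Subsingleton (LocCoh.H (maximalIdeal D) (n + 1) D)) :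
    (maximalIdeal D) • (⊤ : Submodule D (LocCoh.H (maximalIdeal D) n D)) = ⊤ := by
  rcases Nat.eq_zero_or_pos n with h0 | hpos
  · subst h0
    have hsub : Subsingleton (LocCoh.H (maximalIdeal D) 0 D) := by
      rw [subsingleton_H0_iff, eq_bot_iff]
      rintro a ⟨k, hk⟩
      obtain ⟨x, hxm, hx0⟩ := Submodule.exists_mem_ne_zero_of_ne_bot hm
      have h1 := hk (x ^ k) (Ideal.pow_mem_pow hxm k)
      rw [smul_eq_mul, mul_eq_zero] at h1
      rcases h1 with h | h
      · exact absurd h (pow_ne_zero k hx0)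
      · exact (Submodule.mem_bot D).2 h
    exact Subsingleton.elim _ _
  · classical
    obtain ⟨S, hS⟩ := IsNoetherian.noetherian (maximalIdeal D)
    have hSm : ∀ i : S, (i : D) ∈ maximalIdeal D := fun i => by
      rw [← hS]; exact Submodule.subset_span i.2
    let ψ : (S → D) →ₗ[D] D := Fintype.linearCombination D (fun i : S => (i : D))
    have hψ : ψ = ∑ i : S, (i : D) • (LinearMap.proj i : (S → D) →ₗ[D] D) := by
      refine LinearMap.ext fun a => ?_
      rw [Fintype.linearCombination_apply, LinearMap.sum_apply]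
      refine Finset.sum_congr rfl fun i _ => ?_
      rw [LinearMap.smul_apply, LinearMap.proj_apply, smul_eq_mul, smul_eq_mul, mul_comm]
    have hrange : LinearMap.range ψ = maximalIdeal D := by
      rw [Fintype.range_linearCombination, Subtype.range_coe_subtype]
      exact hS
    have hex : Function.Exact ψ (Submodule.mkQ (maximalIdeal D : Submodule D D)) := by
      rw [LinearMap.exact_iff, Submodule.ker_mkQ, hrange]
    have hvan : ∀ N : Submodule D (S → D),
        Subsingleton (LocCoh.H (maximalIdeal D) (n + 1) N) := fun N =>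
      subsingleton_H_top_of_self D (n + 1) hdim hT N
    have hE := Hmap_exact_of_vanishing (maximalIdeal D) n ψ
      (Submodule.mkQ (maximalIdeal D : Submodule D D)) hex (Submodule.mkQ_surjective _) hvan
    have hk : Subsingleton (LocCoh.H (maximalIdeal D) n (D ⧸ (maximalIdeal D : Submodule D D))) := by
      refine subsingleton_H_of_isPowerTorsion' (maximalIdeal D) _ (fun q => ⟨1, fun a ha => ?_⟩)
        n hpos
      rw [pow_one] at ha
      obtain ⟨r, rfl⟩ := Submodule.Quotient.mk_surjective _ q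
      rw [← Submodule.Quotient.mk_smul, Submodule.Quotient.mk_eq_zero, smul_eq_mul]
      exact Ideal.mul_mem_right _ _ ha
    rw [eq_top_iff]
    intro v _
    obtain ⟨u, rfl⟩ := (hE v).1 (Subsingleton.elim _ _)
    rw [hψ, Hmap_sum, LinearMap.sum_apply]
    refine Submodule.sum_mem _ fun i _ => ?_
    rw [Hmap_smul, LinearMap.smul_apply]
    exact Submodule.smul_mem_smul (hSm i) Submodule.mem_top

theorem nontrivial_dom
    (hdim : ringKrullDim D = ((n + 1 : ℕ) : WithBot ℕ∞))
    (IH : ∀ (R : Type u) [CommRing R] [IsLocalRing R] [IsNoetherianRing R],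
      ringKrullDim R = (n : WithBot ℕ∞) → Nontrivial (LocCoh.H (maximalIdeal R) n R)) :
    Nontrivial (LocCoh.H (maximalIdeal D) (n + 1) D) := by
  by_contra hcon
  rw [not_nontrivial_iff_subsingleton] at hcon
  have hm : maximalIdeal D ≠ ⊥ := by
    intro h
    have hf : IsField D := IsLocalRing.isField_iff_maximalIdeal_eq.2 h
    have h0 : ringKrullDim D = 0 := ringKrullDim_eq_zero_of_isField hf
    rw [h0] at hdim
    have h1 : ((0 : ℕ) : WithBot ℕ∞) = ((n + 1 : ℕ) : WithBot ℕ∞) := by
      rw [Nat.cast_zero]; exact hdim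
    have h2 := Nat.cast_injective (R := WithBot ℕ∞) h1
    omega
  have hart := Groth.Agent.H2.LCArtin.isArtinian_H (R := D) n D
  have hV := smul_top_eq_top D n hdim hm hcon
  obtain ⟨x, hxm, hx0, hsx⟩ := exists_smul_surjective hm hV
  exact not_surjective_smul D n hdim IH hcon x hxm hx0 hsx

end domain

/-- **Grothendieck's non-vanishing theorem** for the ring itself. -/
theorem nontrivial_H_top : ∀ (n : ℕ) (R : Type u) [CommRing R] [IsLocalRing R] [IsNoetherianRing R],
    ringKrullDim R = (n : WithBot ℕ∞) → Nontrivial (LocCoh.H (maximalIdeal R) n R) := by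
  intro n
  induction n with
  | zero =>
    intro R _ _ _ h
    exact nontrivial_H_zero R h
  | succ n IH =>
    intro R _ _ _ hdim
    by_contra hcon
    rw [not_nontrivial_iff_subsingleton] at hcon
    obtain ⟨p, hp, hpdim⟩ := exists_prime_dim_eq R (n + 1) hdim
    have hdom : IsDomain (R ⧸ p) := Ideal.Quotient.isDomain p
    have hloc : IsLocalRing (R ⧸ p) :=
      IsLocalRing.of_surjective' (Ideal.Quotient.mk p) Ideal.Quotient.mk_surjective
    have h1 : Subsingleton (LocCoh.H (maximalIdeal R) (n + 1) (R ⧸ p)) :=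
      subsingleton_H_top_of_self R (n + 1) hdim hcon (R ⧸ p)
    obtain ⟨φ, -⟩ := semiEq_quot p (n + 1) (R ⧸ p)
    have h2 : Subsingleton (LocCoh.H (maximalIdeal (R ⧸ p)) (n + 1) (R ⧸ p)) :=
      φ.toEquiv.subsingleton
    exact (not_nontrivial_iff_subsingleton.2 h2) (nontrivial_dom (R ⧸ p) n hpdim IH)

end Groth.Agent.H2.LCNonvanish
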