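import Mathlib

/-! (D1) for helper15's S9298 squad: determinant trick. -/

set_option autoImplicit false
universe u
open Polynomial

namespace Groth.Agent.H2.ALG

/-- (D1) determinant trick -/
theorem exists_kill {P : Type u} [CommRing P] [IsNoetherianRing P] (J : Ideal P) (τ : P) (c : ℕ)
    (h : Ideal.span {τ ^ c} * J ≤ J ^ 2) :
    ∃ (M : ℕ) (j : P), j ∈ J ∧ ∀ x ∈ J, (τ ^ M - j) * x = 0 := by
  classical
  have hfin : Module.Finite P J := Module.Finite.of_fg (IsNoetherian.noetherian J)
  let f : Module.End P J := algebraMap P (Module.End P J) (τ ^ c)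
  have hrange : LinearMap.range f ≤ J • (⊤ : Submodule P J) := by
    rintro _ ⟨x, rfl⟩
    have h1 : τ ^ c * (x : P) ∈ J • J := by
      have : τ ^ c * (x : P) ∈ Ideal.span {τ ^ c} * J :=
        Ideal.mul_mem_mul (Ideal.mem_span_singleton_self _) x.2
      have h2 := h this
      rwa [pow_two] at h2
    have h3 : J • J = Submodule.map J.subtype (J • (⊤ : Submodule P J)) := by
      rw [Submodule.map_smul'', Submodule.map_top, Submodule.range_subtype]
    rw [h3] at h1
    obtain ⟨y, hy, hyx⟩ := h1
    have : y = f x := by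
      apply Subtype.ext
      change J.subtype y = _
      rw [hyx, show f x = (τ ^ c) • x from Module.algebraMap_end_apply _ _ _ _ _]
      rfl
    rw [← this]
    exact hy
  obtain ⟨p, hmonic, -, hcoeff, hp⟩ :=
    LinearMap.exists_monic_and_natDegree_eq_and_coeff_mem_pow_and_aeval_eq_zero P f J hrange
  have hev : ∀ x : J, (p.eval (τ ^ c)) * (x : P) = 0 := by
    intro x
    have h1 : Polynomial.aeval f p x = 0 := by rw [hp]; rfl
    rw [show f = algebraMap P (Module.End P J) (τ ^ c) from rfl,
      Polynomial.aeval_algebraMap_apply, Module.algebraMap_end_apply] at h1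
    have h2 := congrArg (Subtype.val) h1
    simpa [Polynomial.coe_aeval_eq_eval] using h2
  refine ⟨c * p.natDegree, -(∑ i ∈ Finset.range p.natDegree, p.coeff i * (τ ^ c) ^ i), ?_, ?_⟩
  · apply J.neg_mem
    apply J.sum_mem
    intro i hi
    apply J.mul_mem_right
    have hi' : p.natDegree - i ≠ 0 := by
      have := Finset.mem_range.mp hi
      omega
    exact Ideal.pow_le_self hi' (hcoeff i)
  · intro x hx
    have := hev ⟨x, hx⟩
    rw [Polynomial.eval_eq_sum_range, Finset.sum_range_succ, hmonic.coeff_natDegree, one_mul,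
      ← pow_mul] at this
    rw [sub_neg_eq_add, add_comm]
    exact this

end Groth.Agent.H2.ALG
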