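import Mathlib

/-! (D3) for helper15's S9298 squad: a complete ring with the right truncations IS the completion. -/

set_option autoImplicit false
universe u

namespace Groth.Agent.H2.ALG

open AdicCompletion in
/-- (D3) -/
theorem adicCompletion_equiv_of_levelwise {T T' : Type u} [CommRing T] [CommRing T']
    (K : Ideal T) (hK : K.FG) (ι : T →+* T') [IsAdicComplete (K.map ι) T']
    (hlev : ∀ n : ℕ, Function.Bijective
      (Ideal.quotientMap ((K ^ n).map ι) ι Ideal.le_comap_map)) :
    ∃ e : AdicCompletion K T ≃+* T', ∀ x : T, e (algebraMap T (AdicCompletion K T) x) = ι x := by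
  classical
  -- the levelwise maps with target `T' ⧸ (K.map ι) ^ n`
  have hle : ∀ n : ℕ, K ^ n ≤ Ideal.comap ι ((K.map ι) ^ n) := by
    intro n
    rw [← Ideal.map_pow]
    exact Ideal.le_comap_map
  have hbij : ∀ n : ℕ, Function.Bijective (Ideal.quotientMap ((K.map ι) ^ n) ι (hle n)) := by
    intro n
    have key : ∀ (J : Ideal T') (hJ : J = (K ^ n).map ι) (h : K ^ n ≤ Ideal.comap ι J),
        Function.Bijective (Ideal.quotientMap J ι h) := by
      intro J hJ h
      subst hJ
      exact hlev n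
    exact key _ (Ideal.map_pow ι K n).symm _
  let g : ∀ n : ℕ, T ⧸ K ^ n →+* T' ⧸ (K.map ι) ^ n := fun n =>
    Ideal.quotientMap ((K.map ι) ^ n) ι (hle n)
  have hg : ∀ n t, g n (Ideal.Quotient.mk (K ^ n) t) = Ideal.Quotient.mk ((K.map ι) ^ n) (ι t) :=
    fun n t => Ideal.quotientMap_mk
  let eq : ∀ n : ℕ, T ⧸ K ^ n ≃+* T' ⧸ (K.map ι) ^ n := fun n => RingEquiv.ofBijective (g n) (hbij n)
  have heq : ∀ n x, eq n x = g n x := fun n x => rfl
  -- separatedness of `T'`
  have hsep : ∀ y z : T', (∀ n, Ideal.Quotient.mk ((K.map ι) ^ n) y =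
      Ideal.Quotient.mk ((K.map ι) ^ n) z) → y = z := by
    intro y z h
    apply (AdicCompletion.ofAlgEquiv (K.map ι)).injective
    apply AdicCompletion.ext_evalₐ
    intro n
    rw [AdicCompletion.ofAlgEquiv_apply, AdicCompletion.ofAlgEquiv_apply, AdicCompletion.evalₐ_of,
      AdicCompletion.evalₐ_of]
    exact h n
  -- the map `F : AdicCompletion K T → T'`
  let f : ∀ n : ℕ, AdicCompletion K T →+* T' ⧸ (K.map ι) ^ n := fun n =>
    (g n).comp (AdicCompletion.evalₐ K n : AdicCompletion K T →+* T ⧸ K ^ n)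
  have hf : ∀ {m n : ℕ} (hmn : m ≤ n),
      (Ideal.Quotient.factorPow (K.map ι) hmn).comp (f n) = f m := by
    intro m n hmn
    ext x
    obtain ⟨s, rfl⟩ := AdicCompletion.mk_surjective K T x
    simp only [f, RingHom.comp_apply, RingHom.coe_coe, AdicCompletion.evalₐ_mk, hg]
    have h1 := congrArg (g m) (AdicCompletion.Ideal.mk_eq_mk K hmn s)
    rw [hg, hg] at h1
    rw [← h1]
    rfl
  let F : AdicCompletion K T →+* T' := IsAdicComplete.liftRingHom (K.map ι) f hf
  have hF : ∀ n x, Ideal.Quotient.mk ((K.map ι) ^ n) (F x) = g n (AdicCompletion.evalₐ K n x) :=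
    fun n x => IsAdicComplete.mk_liftRingHom (K.map ι) f hf n x
  -- the map `G : T' → AdicCompletion K T`
  let γ : ∀ n : ℕ, T' →+* T ⧸ K ^ n := fun n =>
    ((eq n).symm : T' ⧸ (K.map ι) ^ n →+* T ⧸ K ^ n).comp (Ideal.Quotient.mk ((K.map ι) ^ n))
  have hγ : ∀ {m n : ℕ} (hmn : m ≤ n),
      (Ideal.Quotient.factorPow K hmn).comp (γ n) = γ m := by
    intro m n hmn
    ext t'
    simp only [γ, RingHom.comp_apply, RingHom.coe_coe]
    apply (eq m).injective
    rw [RingEquiv.apply_symm_apply]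
    obtain ⟨t, ht⟩ := Ideal.Quotient.mk_surjective ((eq n).symm (Ideal.Quotient.mk _ t'))
    rw [← ht]
    have h1 : Ideal.Quotient.mk ((K.map ι) ^ n) (ι t) = Ideal.Quotient.mk ((K.map ι) ^ n) t' := by
      rw [← hg, ← heq, ht, RingEquiv.apply_symm_apply]
    have h2 : Ideal.Quotient.factorPow K hmn (Ideal.Quotient.mk (K ^ n) t) =
        Ideal.Quotient.mk (K ^ m) t := rfl
    rw [h2, heq, hg]
    have h3 := congrArg (Ideal.Quotient.factorPow (K.map ι) hmn) h1
    exact h3
  let G : T' →+* AdicCompletion K T := AdicCompletion.liftRingHom K γ hγ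
  have hG : ∀ n t', AdicCompletion.evalₐ K n (G t') = (eq n).symm (Ideal.Quotient.mk _ t') :=
    fun n t' => AdicCompletion.evalₐ_liftRingHom K γ hγ n t'
  have hFG : ∀ t', F (G t') = t' := by
    intro t'
    apply hsep
    intro n
    rw [hF, hG, ← heq, RingEquiv.apply_symm_apply]
  have hinj : Function.Injective F := by
    intro x y hxy
    apply AdicCompletion.ext_evalₐ
    intro n
    apply (hbij n).1
    change g n _ = g n _
    rw [← hF, ← hF, hxy]
  have hbijF : Function.Bijective F := ⟨hinj, fun t' => ⟨G t', hFG t'⟩⟩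
  refine ⟨RingEquiv.ofBijective F hbijF, ?_⟩
  intro x
  change F _ = _
  apply hsep
  intro n
  rw [hF]
  have : algebraMap T (AdicCompletion K T) x = AdicCompletion.of K T x := rfl
  rw [this, AdicCompletion.evalₐ_of, hg]

end Groth.Agent.H2.ALG
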