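import Mathlib
import Groth.Prelude.Def_Wider
import Groth.Prelude.Def_W4bk5brsh16IT
import Groth.Agent.H58.TildeSec
import Groth.Agent.H58.DT8
import Groth.Agent.H58.LCDT

/-!
# Sections of `M~` over `Spec R ∖ V(a)` are the ideal transform `D_a(M)` (Deligne's formula)
-/

set_option autoImplicit false
universe u
open AlgebraicGeometry CategoryTheory Opposite TopologicalSpace
open Groth.Agent.H58 Groth.Agent.H58.TS

namespace Groth.Agent.H2.SecDT

variable {R : Type u} [CommRing R] (M : Type u) [AddCommGroup M] [Module R M] (a : Ideal R)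

/-- `f` acts injectively on sections over opens inside `D(f)` -/
theorem smul_injective_of_le {W : (Spec (CommRingCat.of R)).Opens} {f : R}
    (hW : W ≤ PrimeSpectrum.basicOpen f) (k : ℕ) (y z : sec M W) (h : f ^ k • y = f ^ k • z) :
    y = z := by
  have hreg : IsSMulRegular (sec M W) f :=
    Scheme.Modules.isSMulRegular_of_le_basicOpen
      (M := tilde (R := CommRingCat.of R) (ModuleCat.of R M)) hW
  exact (hreg.pow k) h

variable {M a}

/-- the local section `h(f^n)/f^n` over `D(f)` -/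
noncomputable def loc {n : ℕ} (h : ↥(a ^ n) →ₗ[R] M) (f : R) (hf : f ∈ a) :
    sec M (PrimeSpectrum.basicOpen f) :=
  IsLocalizedModule.mk' (toSec M (PrimeSpectrum.basicOpen f)) (h ⟨f ^ n, Ideal.pow_mem_pow hf n⟩)
    (⟨f ^ n, n, rfl⟩ : Submonoid.powers f)

theorem smul_loc {n : ℕ} (h : ↥(a ^ n) →ₗ[R] M) (f : R) (hf : f ∈ a) :
    f ^ n • loc h f hf =
      toSec M (PrimeSpectrum.basicOpen f) (h ⟨f ^ n, Ideal.pow_mem_pow hf n⟩) :=
  IsLocalizedModule.mk'_cancel' (toSec M (PrimeSpectrum.basicOpen f)) _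
    (⟨f ^ n, n, rfl⟩ : Submonoid.powers f)

/-- restriction of a local section satisfies the expected equation -/
theorem smul_res_loc {n : ℕ} (h : ↥(a ^ n) →ₗ[R] M) (f : R) (hf : f ∈ a)
    {W : (Spec (CommRingCat.of R)).Opens} (hW : W ≤ PrimeSpectrum.basicOpen f) :
    f ^ n • res M hW (loc h f hf) = toSec M W (h ⟨f ^ n, Ideal.pow_mem_pow hf n⟩) := by
  rw [← map_smul, smul_loc]
  exact res_toSec M hW _

theorem res_loc_eq {n : ℕ} (h : ↥(a ^ n) →ₗ[R] M) (f g : R) (hf : f ∈ a) (hg : g ∈ a)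
    {W : (Spec (CommRingCat.of R)).Opens} (hWf : W ≤ PrimeSpectrum.basicOpen f)
    (hWg : W ≤ PrimeSpectrum.basicOpen g) :
    res M hWf (loc h f hf) = res M hWg (loc h g hg) := by
  apply smul_injective_of_le M hWf n
  apply smul_injective_of_le M hWg n
  rw [smul_res_loc, smul_comm, smul_res_loc, ← map_smul, ← map_smul, ← map_smul, ← map_smul]
  congr 2
  exact Subtype.ext (by simp [mul_comm])

/-- the glued section -/
theorem exists_glue {n : ℕ} (h : ↥(a ^ n) →ₗ[R] M) :
    ∃ s : sec M (LocCoh.puncturedOpen R a), ∀ (f : R) (hf : f ∈ a),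
      res M (basicOpen_le_punctured a hf) s = loc h f hf := by
  have hcover : LocCoh.puncturedOpen R a ≤ ⨆ f : ↥a, PrimeSpectrum.basicOpen f.1 := by
    intro p hp
    obtain ⟨f, hf, hpf⟩ := exists_basicOpen_of_mem_punctured a hp
    exact Opens.mem_iSup.2 ⟨⟨f, hf⟩, hpf⟩
  obtain ⟨s, hs, -⟩ := TopCat.Sheaf.existsUnique_gluing' (sh M)
    (fun f : ↥a => PrimeSpectrum.basicOpen f.1) (LocCoh.puncturedOpen R a)
    (fun f => homOfLE (basicOpen_le_punctured a f.2)) hcover
    (fun f => loc h f.1 f.2)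
    (fun f g => res_loc_eq h f.1 g.1 f.2 g.2 inf_le_left inf_le_right)
  exact ⟨s, fun f hf => hs ⟨f, hf⟩⟩

theorem smul_glue {n : ℕ} (h : ↥(a ^ n) →ₗ[R] M) (s : sec M (LocCoh.puncturedOpen R a))
    (hs : ∀ (f : R) (hf : f ∈ a), res M (basicOpen_le_punctured a hf) s = loc h f hf)
    (r : R) (hr : r ∈ a ^ n) :
    r • s = toSec M (LocCoh.puncturedOpen R a) (h ⟨r, hr⟩) := by
  apply sec_ext
  intro x hx
  obtain ⟨f, hf, hxf⟩ := exists_basicOpen_of_mem_punctured a hx
  refine ⟨_, basicOpen_le_punctured a hf, hxf, ?_⟩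
  rw [map_smul, hs f hf]
  refine Eq.trans ?_ (res_toSec M (basicOpen_le_punctured a hf) _).symm
  apply smul_injective_of_le M (le_refl _) n
  have hM : r • h ⟨f ^ n, Ideal.pow_mem_pow hf n⟩ = f ^ n • h ⟨r, hr⟩ := by
    rw [← map_smul, ← map_smul]
    congr 1
    exact Subtype.ext (by simp [mul_comm])
  rw [smul_comm, smul_loc, ← map_smul, hM, map_smul]

variable (M a)

theorem sec_eq_zero_of_pow_smul (s : sec M (LocCoh.puncturedOpen R a)) (k : ℕ)
    (h : ∀ r ∈ a ^ k, r • s = 0) : s = 0 := by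
  have h1 : s ∈ ⨆ n : ℕ, LocCoh.torsionBy (a ^ n) (sec M (LocCoh.puncturedOpen R a)) := by
    refine Submodule.mem_iSup_of_mem k ?_
    rw [Submodule.mem_torsionBySet_iff]
    rintro ⟨r, hr⟩
    exact h r hr
  rw [torsion_sec_eq_bot] at h1
  exact h1

variable [IsNoetherianRing R]

theorem ker_toSec_le :
    LinearMap.ker (toSec M (LocCoh.puncturedOpen R a)) ≤ DRing.torsionSub a M := by
  intro m hm
  have h1 : ∀ f ∈ a, ∃ k : ℕ, f ^ k • m = 0 := by
    intro f hf
    rw [← toSec_basicOpen_eq_zero_iff]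
    refine Eq.trans (res_toSec M (basicOpen_le_punctured a hf) m).symm ?_
    rw [LinearMap.mem_ker.1 hm, map_zero]
  exact exists_pow_smul_eq_zero a (IsNoetherian.noetherian a) m h1

/-- the comparison map `Γ(U, M~) → D_a(M)` -/
noncomputable def ψ : sec M (LocCoh.puncturedOpen R a) →ₗ[R] LocCoh.DT a M :=
  factor a (toSec M (LocCoh.puncturedOpen R a)) (ker_toSec_le M a) (coker_toSec_torsion M a)
    LinearMap.id

theorem ψ_toSec (m : M) : ψ M a (toSec M (LocCoh.puncturedOpen R a) m) = LocCoh.toDT a M m :=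
  LinearMap.congr_fun (factor_comp a (toSec M (LocCoh.puncturedOpen R a)) (ker_toSec_le M a)
    (coker_toSec_torsion M a) LinearMap.id) m

theorem ψ_injective : Function.Injective (ψ M a) := by
  rw [injective_iff_map_eq_zero]
  intro s hs
  obtain ⟨n, hn⟩ := exists_pow_smul_mem_range M a s
  refine sec_eq_zero_of_pow_smul M a s n (fun r hr => ?_)
  obtain ⟨m, hm⟩ := hn r hr
  have h1 : LocCoh.toDT a M m = 0 := by
    rw [← ψ_toSec, hm, map_smul, hs, smul_zero]
  have h2 : m ∈ DRing.torsionSub a M := by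
    rw [← ker_toDT]; exact h1
  obtain ⟨k, hk⟩ := h2
  rw [← hm]
  refine sec_eq_zero_of_pow_smul M a _ k (fun r' hr' => ?_)
  rw [← map_smul, hk r' hr', map_zero]

theorem ψ_surjective : Function.Surjective (ψ M a) := by
  intro y
  obtain ⟨n, h, rfl⟩ := Groth.Agent.H58.exists_rep a M y
  obtain ⟨s, hs⟩ := exists_glue h
  refine ⟨s, ?_⟩
  rw [← sub_eq_zero]
  have hmem : ψ M a s - mk a M n h ∈ DRing.torsionSub a (LocCoh.DT a M) := by
    refine ⟨n, fun r hr => ?_⟩
    rw [smul_sub, ← map_smul, smul_glue h s hs r hr, ψ_toSec, smul_mk a h r hr, sub_self]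
  rw [torsionSub_DT_eq_bot] at hmem
  exact hmem

/-- **Deligne's formula** `Γ(Spec R ∖ V(a), M~) ≃ D_a(M)` -/
noncomputable def secEquiv : sec M (LocCoh.puncturedOpen R a) ≃ₗ[R] LocCoh.DT a M :=
  LinearEquiv.ofBijective (ψ M a) ⟨ψ_injective M a, ψ_surjective M a⟩

theorem finite_sec_iff [Module.Finite R M] :
    Module.Finite R (sec M (LocCoh.puncturedOpen R a)) ↔ Module.Finite R (LocCoh.H a 1 M) := by
  constructor
  · intro h
    haveI : Module.Finite R (LocCoh.DT a M) := Module.Finite.equiv (secEquiv M a)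
    exact Module.Finite.of_surjective (Groth.Agent.H58.LC.ΦL a M)
      (Groth.Agent.H58.LC.ΦL_surjective a M)
  · intro h
    have hex : Function.Exact (LocCoh.toDT a M) (Groth.Agent.H58.LC.ΦL a M) :=
      LinearMap.exact_iff.2 (Groth.Agent.H58.LC.ker_ΦL a M)
    haveI : Module.Finite R (LocCoh.DT a M) := by
      refine Module.finite_def.2 (Submodule.fg_of_fg_map_of_fg_inf_ker
        (Groth.Agent.H58.LC.ΦL a M) ?_ ?_)
      · exact IsNoetherian.noetherian _
      · rw [top_inf_eq, hex.linearMap_ker_eq, LinearMap.range_eq_map]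
        exact (Module.Finite.fg_top).map _
    exact Module.Finite.equiv (secEquiv M a).symm

end Groth.Agent.H2.SecDT
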