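import Mathlib
import Groth.Prelude.Def_Wider
import Groth.Agent.H2.SecDT
import Groth.Agent.S11629

/-!
# Affineness of the punctured open `Spec A ∖ V(I)` vs. `1 ∈ I • D_I(A)` vs. `cd(A, I) ≤ 1`
-/

set_option autoImplicit false
universe u
open AlgebraicGeometry CategoryTheory Opposite TopologicalSpace
open Groth.Agent.H58 Groth.Agent.H58.TS

namespace Groth.Agent.H2.AffPunct

variable (A : Type u) [CommRing A] (U : (Spec (CommRingCat.of A)).Opens)

-- toSec 1 = 1
theorem toSec_one : (show Γ(Spec (CommRingCat.of A), U) from toSec A U 1) = 1 := by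
  show (StructureSheaf.toOpenₗ A A U 1 : Γ(Spec (CommRingCat.of A), U)) = 1
  exact (StructureSheaf.toOpenₗ_eq_const U (1 : A)).trans (StructureSheaf.const_self _ _ _)

/-- restriction of a global function -/
noncomputable def ρ : A →+* Γ(Spec (CommRingCat.of A), U) :=
  ((Spec (CommRingCat.of A)).presheaf.map U.leTop.op).hom.comp
    (Scheme.ΓSpecIso (CommRingCat.of A)).inv.hom

-- smul is multiplication
theorem smul_eq (a : A) (x : sec A U) :
    (show Γ(Spec (CommRingCat.of A), U) from (a • x : sec A U)) =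
      ρ A U a * (show Γ(Spec (CommRingCat.of A), U) from x) := by
  rfl

theorem basicOpen_ρ (a : A) :
    (Spec (CommRingCat.of A)).basicOpen (ρ A U a) =
      U ⊓ (Spec (CommRingCat.of A)).basicOpen ((Scheme.ΓSpecIso (CommRingCat.of A)).inv a) := by
  unfold ρ
  rw [RingHom.comp_apply]
  erw [Scheme.basicOpen_res]

variable (I : Ideal A)

theorem mem_span_of_mem_smul (x : sec A (LocCoh.puncturedOpen A I))
    (hx : x ∈ I • (⊤ : Submodule A (sec A (LocCoh.puncturedOpen A I)))) :
    (show Γ(Spec (CommRingCat.of A), LocCoh.puncturedOpen A I) from x) ∈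
      Ideal.span (ρ A (LocCoh.puncturedOpen A I) '' (I : Set A)) := by
  refine Submodule.smul_induction_on
    (p := fun x : sec A (LocCoh.puncturedOpen A I) =>
      (show Γ(Spec (CommRingCat.of A), LocCoh.puncturedOpen A I) from x) ∈
      Ideal.span (ρ A (LocCoh.puncturedOpen A I) '' (I : Set A))) hx ?_ ?_
  · intro a ha y _
    rw [smul_eq]
    exact Ideal.mul_mem_right _ _ (Ideal.subset_span ⟨a, ha, rfl⟩)
  · intro y z hy hz
    exact Ideal.add_mem _ hy hz

theorem isAffineOpen_punctured [IsNoetherianRing A]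
    (h : LocCoh.toDT I A 1 ∈ I • (⊤ : Submodule A (LocCoh.DT I A))) :
    IsAffineOpen (LocCoh.puncturedOpen A I) := by
  refine isAffineOpen_of_isAffineOpen_basicOpen (LocCoh.puncturedOpen A I)
    (ρ A (LocCoh.puncturedOpen A I) '' (I : Set A)) ?_ ?_
  · rw [Ideal.eq_top_iff_one, ← toSec_one]
    apply mem_span_of_mem_smul
    have h1 : (Groth.Agent.H2.SecDT.secEquiv A I).symm (LocCoh.toDT I A 1) =
        toSec A (LocCoh.puncturedOpen A I) 1 := by
      rw [LinearEquiv.symm_apply_eq]
      exact (Groth.Agent.H2.SecDT.ψ_toSec A I 1).symm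
    rw [← h1]
    have h2 := Submodule.mem_map_of_mem (f := (Groth.Agent.H2.SecDT.secEquiv A I).symm.toLinearMap) h
    rw [Submodule.map_smul''] at h2
    exact Submodule.smul_mono le_rfl le_top h2
  · rintro _ ⟨a, ha, rfl⟩
    have hle : (Spec (CommRingCat.of A)).basicOpen
        ((Scheme.ΓSpecIso (CommRingCat.of A)).inv a) ≤ LocCoh.puncturedOpen A I := by
      rw [basicOpen_eq_of_affine]
      exact basicOpen_le_punctured I ha
    rw [basicOpen_ρ, inf_eq_right.2 hle]
    exact (isAffineOpen_top (Spec (CommRingCat.of A))).basicOpen _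

theorem mem_smul_of_mem_span (y : Γ(Spec (CommRingCat.of A), LocCoh.puncturedOpen A I))
    (hy : y ∈ Ideal.span (ρ A (LocCoh.puncturedOpen A I) '' (I : Set A))) :
    (show sec A (LocCoh.puncturedOpen A I) from y) ∈
      I • (⊤ : Submodule A (sec A (LocCoh.puncturedOpen A I))) := by
  refine Submodule.span_induction
    (p := fun (y : Γ(Spec (CommRingCat.of A), LocCoh.puncturedOpen A I)) _ =>
      (show sec A (LocCoh.puncturedOpen A I) from y) ∈
        I • (⊤ : Submodule A (sec A (LocCoh.puncturedOpen A I)))) ?_ ?_ ?_ ?_ hy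
  · rintro _ ⟨a, ha, rfl⟩
    have h1 : (show sec A (LocCoh.puncturedOpen A I) from ρ A (LocCoh.puncturedOpen A I) a) =
        a • (show sec A (LocCoh.puncturedOpen A I) from
          (1 : Γ(Spec (CommRingCat.of A), LocCoh.puncturedOpen A I))) :=
      (mul_one (ρ A (LocCoh.puncturedOpen A I) a)).symm
    rw [h1]
    exact Submodule.smul_mem_smul ha trivial
  · exact Submodule.zero_mem _
  · intro y z _ _ hy hz
    exact Submodule.add_mem _ hy hz
  · intro x y _ hy
    refine Submodule.smul_induction_on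
      (p := fun z : sec A (LocCoh.puncturedOpen A I) =>
        (show sec A (LocCoh.puncturedOpen A I) from
          (x * (show Γ(Spec (CommRingCat.of A), LocCoh.puncturedOpen A I) from z))) ∈
          I • (⊤ : Submodule A (sec A (LocCoh.puncturedOpen A I)))) hy ?_ ?_
    · intro a ha z _
      have h1 : (show sec A (LocCoh.puncturedOpen A I) from
          (x * (show Γ(Spec (CommRingCat.of A), LocCoh.puncturedOpen A I) from (a • z)))) =
          a • (show sec A (LocCoh.puncturedOpen A I) from
            (x * (show Γ(Spec (CommRingCat.of A), LocCoh.puncturedOpen A I) from z))) :=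
        mul_left_comm x (ρ A (LocCoh.puncturedOpen A I) a) _
      rw [h1]
      exact Submodule.smul_mem_smul ha trivial
    · intro z w hz hw
      have h1 : (show sec A (LocCoh.puncturedOpen A I) from
          (x * (show Γ(Spec (CommRingCat.of A), LocCoh.puncturedOpen A I) from (z + w)))) =
          (show sec A (LocCoh.puncturedOpen A I) from
            (x * (show Γ(Spec (CommRingCat.of A), LocCoh.puncturedOpen A I) from z))) +
          (show sec A (LocCoh.puncturedOpen A I) from
            (x * (show Γ(Spec (CommRingCat.of A), LocCoh.puncturedOpen A I) from w))) :=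
        mul_add x _ _
      rw [h1]
      exact Submodule.add_mem _ hz hw

theorem toDT_one_mem_of_isAffineOpen [IsNoetherianRing A]
    (hU : IsAffineOpen (LocCoh.puncturedOpen A I)) :
    LocCoh.toDT I A 1 ∈ I • (⊤ : Submodule A (LocCoh.DT I A)) := by
  have hspan : Ideal.span (ρ A (LocCoh.puncturedOpen A I) '' (I : Set A)) = ⊤ := by
    rw [← hU.self_le_iSup_basicOpen_iff]
    intro p hp
    obtain ⟨f, hf, hpf⟩ := exists_basicOpen_of_mem_punctured I hp
    refine Opens.mem_iSup.2 ⟨⟨_, f, hf, rfl⟩, ?_⟩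
    rw [basicOpen_ρ, basicOpen_eq_of_affine]
    exact ⟨hp, hpf⟩
  have h1 := mem_smul_of_mem_span A I 1 (by rw [hspan]; trivial)
  have h2 : (show sec A (LocCoh.puncturedOpen A I) from
      (1 : Γ(Spec (CommRingCat.of A), LocCoh.puncturedOpen A I))) =
      toSec A (LocCoh.puncturedOpen A I) 1 := (toSec_one A _).symm
  rw [h2] at h1
  have h3 := Submodule.mem_map_of_mem (f := Groth.Agent.H2.SecDT.ψ A I) h1
  rw [Submodule.map_smul'', Groth.Agent.H2.SecDT.ψ_toSec] at h3
  exact Submodule.smul_mono le_rfl le_top h3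


/-- `1 ∈ I • D_I(A)` forces `I • D_I(A) = D_I(A)` (as `D_I(A) ≅ Γ(U, O)` is a ring). -/
theorem smul_top_eq_top_of_toDT_one_mem [IsNoetherianRing A]
    (h : LocCoh.toDT I A 1 ∈ I • (⊤ : Submodule A (LocCoh.DT I A))) :
    I • (⊤ : Submodule A (LocCoh.DT I A)) = ⊤ := by
  -- transport to sections
  have h1 : (Groth.Agent.H2.SecDT.secEquiv A I).symm (LocCoh.toDT I A 1) =
      toSec A (LocCoh.puncturedOpen A I) 1 := by
    rw [LinearEquiv.symm_apply_eq]
    exact (Groth.Agent.H2.SecDT.ψ_toSec A I 1).symm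
  have h2 := Submodule.mem_map_of_mem
    (f := (Groth.Agent.H2.SecDT.secEquiv A I).symm.toLinearMap) h
  rw [Submodule.map_smul''] at h2
  have h3 : toSec A (LocCoh.puncturedOpen A I) 1 ∈
      I • (⊤ : Submodule A (sec A (LocCoh.puncturedOpen A I))) := by
    rw [← h1]
    exact Submodule.smul_mono le_rfl le_top h2
  have h4 := mem_span_of_mem_smul A I _ h3
  rw [toSec_one, ← Ideal.eq_top_iff_one] at h4
  rw [eq_top_iff]
  intro z _
  have h5 := mem_smul_of_mem_span A I ((Groth.Agent.H2.SecDT.secEquiv A I).symm z)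
    (by rw [h4]; trivial)
  have h6 := Submodule.mem_map_of_mem
    (f := (Groth.Agent.H2.SecDT.secEquiv A I).toLinearMap) h5
  rw [Submodule.map_smul''] at h6
  have h7 : (Groth.Agent.H2.SecDT.secEquiv A I).toLinearMap
      ((Groth.Agent.H2.SecDT.secEquiv A I).symm z) = z :=
    (Groth.Agent.H2.SecDT.secEquiv A I).apply_symm_apply z
  rw [h7] at h6
  exact Submodule.smul_mono le_rfl le_top h6

/-- `Spec A ∖ V(I)` is affine iff `cd(A, I) ≤ 1` (Noetherian `A`). -/
theorem isAffineOpen_punctured_iff_cdLE_one [IsNoetherianRing A] :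
    IsAffineOpen (LocCoh.puncturedOpen A I) ↔ LocCoh.CdLE A I 1 := by
  constructor
  · intro hU
    have h1 := toDT_one_mem_of_isAffineOpen A I hU
    have h2 := smul_top_eq_top_of_toDT_one_mem A I h1
    exact (Groth.Agent.S11628.result A I).1 ((Groth.Agent.S11629.result A I).2 h2)
  · intro h
    have h2 := (Groth.Agent.S11629.result A I).1 ((Groth.Agent.S11628.result A I).2 h)
    exact isAffineOpen_punctured A I (by rw [h2]; trivial)

end Groth.Agent.H2.AffPunct
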