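import Mathlib
import Groth.Prelude.Def_GrTwist
import Groth.Prelude.Def_GrMod3

/-! (A5) for helper88's S4406 squad. -/

set_option autoImplicit false
universe u
open CategoryTheory CategoryTheory.Limits AlgebraicGeometry Opposite TopologicalSpace TensorProduct
open scoped HomogeneousIdeal

namespace Groth.Agent.H2.BCTw

section BC

variable {R R' A B : Type u} [CommRing R'] [CommRing R] [Algebra R' R]
    [CommRing B] [Algebra R' B] (ℬ : ℕ → Submodule R' B) [GradedAlgebra ℬ]
    [CommRing A] [Algebra R A] [Algebra R' A] [IsScalarTower R' R A] (𝒜 : ℕ → Submodule R A)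
    [GradedAlgebra 𝒜]
    [Algebra B A] [IsScalarTower R' B A] [Algebra.IsPushout R' R B A]
    (φ : ℬ →+*ᵍ 𝒜) (hφA : ∀ b : B, φ b = algebraMap B A b)
    (hφ : HomogeneousIdeal.irrelevant 𝒜 ≤ (HomogeneousIdeal.irrelevant ℬ).map φ) (n : ℤ)

include hφA in
/-- (A5) a relation in `A = R ⊗ B` among elements of degree `m` is a relation in `R ⊗ ℬ m`. -/
theorem sum_tmul_eq_zero (m : ℕ) (l : ℕ) (r : Fin l → R) (b : Fin l → ℬ m)
    (h : ∑ j, r j • φ (b j : B) = 0) : ∑ j, r j ⊗ₜ[R'] b j = (0 : R ⊗[R'] ℬ m) := by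
  classical
  -- the relation in `R ⊗ B`
  have h1 : ∑ j, r j ⊗ₜ[R'] (b j : B) = (0 : R ⊗[R'] B) := by
    apply (Algebra.IsPushout.equiv R' R B A).injective
    rw [map_sum, map_zero, ← h]
    refine Finset.sum_congr rfl fun j _ => ?_
    rw [Algebra.IsPushout.equiv_tmul, hφA, Algebra.smul_def]
  -- the retraction `B → ℬ m`
  let p : B →ₗ[R'] ℬ m := (DirectSum.component R' ℕ (fun i => ℬ i) m).comp
    (DirectSum.decomposeLinearEquiv ℬ).toLinearMap
  have hp : ∀ x : ℬ m, p (x : B) = x := by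
    intro x
    simp only [p, LinearMap.comp_apply, LinearEquiv.coe_coe,
      DirectSum.decomposeLinearEquiv_apply, DirectSum.decompose_coe]
    exact DirectSum.component.lof_self (R := R') (ι := ℕ) (M := fun i => ℬ i) m x
  have h2 := congrArg (LinearMap.lTensor R p) h1
  rw [map_sum, map_zero] at h2
  rw [← h2]
  refine Finset.sum_congr rfl fun j _ => ?_
  rw [LinearMap.lTensor_tmul, hp]

end BC

end Groth.Agent.H2.BCTw
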