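import Mathlib
import Groth.Prelude.Def_GrTwist
import Groth.Prelude.Def_GrMod3
import Groth.Agent.H41.GrModQCoh
import Groth.Agent.H88.BCTwDefs
import Groth.Agent.H44.BCTw_A1

/-! (SURJ) for helper88 (S4406): every section of `O_𝒜(n)` over `Φ⁻¹ D₊(f) = D₊(φ f)` is a finite sum
`∑ c_j • comap (x_j)` with `x_j` sections of `O_ℬ(n)` over `D₊(f)`. -/

set_option autoImplicit false
universe u
open CategoryTheory CategoryTheory.Limits AlgebraicGeometry Opposite TopologicalSpace TensorProduct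
open scoped HomogeneousIdeal
open Groth.Agent.H88.BCTw

namespace Groth.Agent.H2.BCTw_SURJ

section Gen

variable {A σ : Type u} [CommRing A] [SetLike σ A] [AddSubgroupClass σ A] (𝒜 : ℕ → σ) [GradedRing 𝒜]

/-- The section of the structure sheaf over any open defined by a degree-zero element. -/
noncomputable def zeroSect (U : (Proj 𝒜).Opens) (a : 𝒜 0) : Γ(Proj 𝒜, U) :=
  (⟨fun _ => HomogeneousLocalization.fromZeroRingHom 𝒜 _ a,
    fun x => ⟨U, x.2, 𝟙 _, 0, a, ⟨1, SetLike.GradedOne.one_mem⟩,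
      fun y h => y.1.isPrime.ne_top ((Ideal.eq_top_iff_one _).mpr h), fun _ => rfl⟩⟩ :
    GrTwist.O (𝒜 := 𝒜) (op U))

theorem rval_zeroSect (U : (Proj 𝒜).Opens) (a : 𝒜 0) (x : U) :
    (Groth.Agent.H41.GrModQCoh.rval 𝒜 (zeroSect 𝒜 U a) x).val =
      algebraMap A (GrTwist.Loc 𝒜 x.1) (a : A) := by
  show Localization.mk (a : A) _ = _
  exact Localization.mk_one_eq_algebraMap _

variable (n : ℤ)

theorem twSect_ext {W : (Proj 𝒜).Opens} (s t : Γ(GrTwist.twist 𝒜 n, W))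
    (h : ∀ x : W, GrTwist.val s x = GrTwist.val t x) : s = t :=
  Subtype.ext (funext fun x => Subtype.ext (h x))

theorem twVal_smul {W : (Proj 𝒜).Opens} (r : Γ(Proj 𝒜, W)) (s : Γ(GrTwist.twist 𝒜 n, W)) (x : W) :
    GrTwist.val (r • s) x = (Groth.Agent.H41.GrModQCoh.rval 𝒜 r x).val * GrTwist.val s x :=
  GrTwist.coe_smul_val n x.1 _ _

/-- Evaluation of a section at a point, as an additive map. -/
noncomputable def twValHom {W : (Proj 𝒜).Opens} (y : W) :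
    Γ(GrTwist.twist 𝒜 n, W) →+ GrTwist.Loc 𝒜 y.1 where
  toFun s := GrTwist.val s y
  map_zero' := rfl
  map_add' _ _ := rfl

theorem twVal_sum {W : (Proj 𝒜).Opens} {ι : Type*} (s : Finset ι)
    (g : ι → Γ(GrTwist.twist 𝒜 n, W)) (y : W) :
    GrTwist.val (∑ j ∈ s, g j) y = ∑ j ∈ s, GrTwist.val (g j) y :=
  map_sum (twValHom 𝒜 n y) g s

end Gen

section BC

variable {R R' A B : Type u} [CommRing R'] [CommRing R] [Algebra R' R]
    [CommRing B] [Algebra R' B] (ℬ : ℕ → Submodule R' B) [GradedAlgebra ℬ]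
    [CommRing A] [Algebra R A] [Algebra R' A] [IsScalarTower R' R A] (𝒜 : ℕ → Submodule R A)
    [GradedAlgebra 𝒜]
    [Algebra B A] [IsScalarTower R' B A] [Algebra.IsPushout R' R B A]
    (φ : ℬ →+*ᵍ 𝒜) (hφA : ∀ b : B, φ b = algebraMap B A b)
    (hφ : HomogeneousIdeal.irrelevant 𝒜 ≤ (HomogeneousIdeal.irrelevant ℬ).map φ) (n : ℤ)

open Groth.Agent.H41.GrModQCoh in
include hφA in
/-- (SURJ) -/
theorem exists_sum_eq (d : ℕ) (hd : 0 < d) (f : B) (hf : f ∈ ℬ d)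
    (t : Γ(GrTwist.twist 𝒜 n, Proj.map φ hφ ⁻¹ᵁ Proj.basicOpen ℬ f)) :
    ∃ (l : ℕ) (c : Fin l → Γ(Proj 𝒜, Proj.map φ hφ ⁻¹ᵁ Proj.basicOpen ℬ f))
      (x : Fin l → Γ(GrTwist.twist ℬ n, Proj.basicOpen ℬ f)),
      t = ∑ j, c j • pushSec (Proj.map φ hφ) (GrTwist.twist 𝒜 n) (Proj.basicOpen ℬ f)
        ((GrTwist.comap φ hφ n).app (Proj.basicOpen ℬ f) (x j)) := by
  have hφf : φ f ∈ 𝒜 d := φ.map_mem hf
  obtain ⟨k, i, a, hi, ht⟩ :=
    Groth.Agent.H41.GrModSections.sections_eq_fraction 𝒜 𝒜 n hd hφf t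
  obtain ⟨l, r, b, hb, hab⟩ := Groth.Agent.H44.BCTw_A1.exists_sum_smul_eq ℬ 𝒜 φ hφA i a.1 a.2
  have hfk : ∀ x : Proj.basicOpen ℬ f, (f ^ k) ∉ x.1.asHomogeneousIdeal := fun x h =>
    (ProjectiveSpectrum.mem_basicOpen ℬ f x.1).mp x.2 (x.1.isPrime.mem_of_pow_mem k h)
  have hij : (i : ℤ) = ((k • d : ℕ) : ℤ) + n := by
    rw [hi]; simp only [smul_eq_mul]; push_cast; ring
  refine ⟨l, fun j => zeroSect 𝒜 _ ⟨algebraMap R A (r j), SetLike.algebraMap_mem_graded 𝒜 (r j)⟩,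
    fun j => fracSect ℬ ℬ n (Proj.basicOpen ℬ f) hij ⟨b j, hb j⟩
      ⟨f ^ k, SetLike.pow_mem_graded k hf⟩ hfk, ?_⟩
  refine twSect_ext 𝒜 n _ _ fun y => ?_
  haveI hyP : (y.1 : ProjectiveSpectrum 𝒜).asHomogeneousIdeal.toIdeal.IsPrime := y.1.isPrime
  have hyf : (φ f) ^ k ∈ (y.1 : ProjectiveSpectrum 𝒜).asHomogeneousIdeal.toIdeal.primeCompl := fun h =>
    (ProjectiveSpectrum.mem_basicOpen 𝒜 (φ f) y.1).mp y.2 (y.1.isPrime.mem_of_pow_mem k h)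
  have h1 : GrTwist.val (𝒜 := 𝒜) t y = Localization.mk (a : A) ⟨φ f ^ k, hyf⟩ := ht ⟨y.1, y.2⟩
  rw [twVal_sum, h1]
  have h2 : ∀ j : Fin l, GrTwist.val (𝒜 := 𝒜)
      ((zeroSect 𝒜 (Proj.map φ hφ ⁻¹ᵁ Proj.basicOpen ℬ f)
        ⟨algebraMap R A (r j), SetLike.algebraMap_mem_graded 𝒜 (r j)⟩) •
        pushSec (Proj.map φ hφ) (GrTwist.twist 𝒜 n) (Proj.basicOpen ℬ f)
        ((GrTwist.comap φ hφ n).app (Proj.basicOpen ℬ f)
          (fracSect ℬ ℬ n (Proj.basicOpen ℬ f) hij ⟨b j, hb j⟩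
            ⟨f ^ k, SetLike.pow_mem_graded k hf⟩ hfk))) y =
      Localization.mk (algebraMap R A (r j) * φ (b j)) ⟨φ f ^ k, hyf⟩ := by
    intro j
    rw [twVal_smul, rval_zeroSect]
    have h3 : GrTwist.val (𝒜 := 𝒜)
        (pushSec (Proj.map φ hφ) (GrTwist.twist 𝒜 n) (Proj.basicOpen ℬ f)
        ((GrTwist.comap φ hφ n).app (Proj.basicOpen ℬ f)
          (fracSect ℬ ℬ n (Proj.basicOpen ℬ f) hij ⟨b j, hb j⟩
            ⟨f ^ k, SetLike.pow_mem_graded k hf⟩ hfk))) y =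
        Localization.mk (φ (b j)) ⟨φ f ^ k, hyf⟩ := by
      refine (GrTwist.locMap_mk φ hφ y.1 (b j)
        ⟨f ^ k, hfk ⟨ProjectiveSpectrum.comap φ hφ y.1, y.2⟩⟩).trans ?_
      congr 1
      exact Subtype.ext (map_pow φ f k)
    rw [h3, ← Localization.mk_one_eq_algebraMap, Localization.mk_mul]
    congr 1
    exact Subtype.ext (one_mul _)
  rw [Finset.sum_congr rfl fun j _ => h2 j, ← Localization.mk_sum]
  congr 1
  rw [hab]
  exact Finset.sum_congr rfl fun j _ => Algebra.smul_def _ _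

end BC

end Groth.Agent.H2.BCTw_SURJ
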