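import Mathlib
import Groth.Prelude.Def_DRing4

set_option autoImplicit false
universe u
open CategoryTheory CategoryTheory.Limits HomologicalComplex CochainComplex
open CochainComplex.HomComplex
attribute [local instance] HasDerivedCategory.standard

namespace Groth.Agent.H2.BD_LIN

variable {A : Type u} [CommRing A]

lemma equivHomShift_symm_smul (X J : DRing.Cx A) (i : ℤ) (a : A) (z : Cocycle X J i) :
    Cocycle.equivHomShift.symm (a • z) = a • Cocycle.equivHomShift.symm z := by
  rw [Cocycle.equivHomShift_symm_apply, Cocycle.equivHomShift_symm_apply]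
  ext p : 1
  rw [Cocycle.homOf_f, HomologicalComplex.smul_f_apply, Cocycle.homOf_f, Cocycle.rightShift_coe,
    Cocycle.rightShift_coe, Cocycle.coe_smul, Cochain.rightShift_smul, Cochain.smul_v]

/-- cocycles to morphisms in the derived category -/
noncomputable def toD (X J : DRing.Cx A) (i : ℤ) :
    Cocycle X J i →ₗ[A] (DerivedCategory.Q.obj X ⟶ (DerivedCategory.Q.obj J)⟦i⟧) where
  toFun z := DerivedCategory.Q.map (Cocycle.equivHomShift.symm z) ≫
    (DerivedCategory.Q.commShiftIso i).hom.app J
  map_add' z z' := by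
    rw [map_add, Functor.map_add, Preadditive.add_comp]
  map_smul' a z := by
    rw [equivHomShift_symm_smul, Functor.map_smul, Linear.smul_comp]
    rfl

lemma toD_eq_zero_iff (X J : DRing.Cx A) [J.IsKInjective] (i : ℤ) (z : Cocycle X J i) :
    toD X J i z = 0 ↔ z ∈ coboundaries X J i := by
  rw [← CohomologyClass.toHom_mk_eq_zero_iff, CohomologyClass.toHom_mk]
  have e : DerivedCategory.Q.map (Cocycle.equivHomShift.symm z) =
      DerivedCategory.Qh.map ((HomotopyCategory.quotient _ _).map (Cocycle.equivHomShift.symm z)) :=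
    rfl
  constructor
  · intro h
    have h1 : DerivedCategory.Q.map (Cocycle.equivHomShift.symm z) = 0 :=
      (cancel_mono ((DerivedCategory.Q.commShiftIso i).hom.app J)).mp (by rw [zero_comp]; exact h)
    rw [e] at h1
    exact (CochainComplex.IsKInjective.Qh_map_bijective _ (J⟦i⟧)).1
      (h1.trans (DerivedCategory.Qh.map_zero _ _).symm)
  · intro h
    show DerivedCategory.Q.map (Cocycle.equivHomShift.symm z) ≫ _ = 0
    rw [e, h, Functor.map_zero]
    exact zero_comp

lemma delta_of_mem_ker (X J : DRing.Cx A) (i : ℤ)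
    (z : LinearMap.ker ((DRing.homCx X J).sc i).g.hom) :
    δ i (i + 1) (z.1 : Cochain X J i) = 0 := by
  have h := z.2
  rw [LinearMap.mem_ker] at h
  have e : (ComplexShape.up ℤ).next i = i + 1 := CochainComplex.next ℤ i
  change δ i ((ComplexShape.up ℤ).next i) (z.1 : Cochain X J i) = 0 at h
  rwa [e] at h

/-- cycles of the Hom complex as cocycles -/
noncomputable def kerToCocycle (X J : DRing.Cx A) (i : ℤ) :
    LinearMap.ker ((DRing.homCx X J).sc i).g.hom →ₗ[A] Cocycle X J i where
  toFun z := Cocycle.mk (z.1 : Cochain X J i) (i + 1) rfl (delta_of_mem_ker X J i z)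
  map_add' _ _ := Subtype.ext rfl
  map_smul' _ _ := Subtype.ext rfl

theorem exists_injective_linearMap_homology (X J : DRing.Cx A) [J.IsKInjective] (i : ℤ) :
    ∃ f : ((DRing.homCx X J).homology i) →ₗ[A]
      (DerivedCategory.Q.obj X ⟶ (DerivedCategory.Q.obj J)⟦i⟧), Function.Injective f := by
  set S := (DRing.homCx X J).sc i with hS
  let ψ : LinearMap.ker S.g.hom →ₗ[A] (DerivedCategory.Q.obj X ⟶ (DerivedCategory.Q.obj J)⟦i⟧) :=
    (toD X J i).comp (kerToCocycle X J i)
  have hprev : (ComplexShape.up ℤ).prev i + 1 = i := by rw [CochainComplex.prev]; omega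
  have hker : LinearMap.range S.moduleCatToCycles = LinearMap.ker ψ := by
    ext z
    rw [LinearMap.mem_ker]
    show _ ↔ toD X J i (kerToCocycle X J i z) = 0
    rw [toD_eq_zero_iff]
    constructor
    · rintro ⟨w, rfl⟩
      exact ⟨(ComplexShape.up ℤ).prev i, hprev, (w : Cochain X J ((ComplexShape.up ℤ).prev i)), rfl⟩
    · rintro ⟨m, hm, β, hβ⟩
      obtain rfl : m = (ComplexShape.up ℤ).prev i := by omega
      refine ⟨(β : Cochain X J ((ComplexShape.up ℤ).prev i)), Subtype.ext ?_⟩
      exact hβ
  refine ⟨(Submodule.liftQ _ ψ (le_of_eq hker)).comp S.moduleCatHomologyIso.hom.hom, ?_⟩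
  have h1 : Function.Injective (Submodule.liftQ _ ψ (le_of_eq hker)) := by
    rw [← LinearMap.ker_eq_bot]
    exact Submodule.ker_liftQ_eq_bot' _ _ hker
  have h2 : Function.Injective S.moduleCatHomologyIso.hom.hom :=
    (ConcreteCategory.bijective_of_isIso S.moduleCatHomologyIso.hom).1
  intro a b hab
  exact h2 (h1 hab)

end Groth.Agent.H2.BD_LIN
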