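import Mathlib
import Groth.Agent.H2.LCNonvanish
import Groth.Agent.H2.Matlis1
import Groth.Agent.S7698

/-!
# Canonical modules via top local cohomology: basic tools
-/

set_option autoImplicit false
universe u

namespace Groth.Agent.H2.CanonMod

open Groth.Agent.H58.LC IsLocalRing Groth.Agent.H2.LCNonvanish

section dimlemmas

lemma exists_nat_eq (a : WithBot ℕ∞) (n : ℕ) (h : a ≤ (n : WithBot ℕ∞)) (hb : a ≠ ⊥) :
    ∃ d : ℕ, a = (d : WithBot ℕ∞) ∧ d ≤ n := by
  induction a using WithBot.recBotCoe with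
  | bot => exact absurd rfl hb
  | coe b =>
    have h1 : b ≤ (n : ℕ∞) := by
      have : ((b : ℕ∞) : WithBot ℕ∞) ≤ (((n : ℕ) : ℕ∞) : WithBot ℕ∞) := h
      exact WithBot.coe_le_coe.1 this
    obtain ⟨d, rfl⟩ := ENat.ne_top_iff_exists.1 (ne_top_of_le_ne_top (ENat.coe_ne_top n) h1)
    exact ⟨d, rfl, by exact_mod_cast h1⟩

variable {R : Type u} [CommRing R]

/-- strict inclusion of primes drops the dimension of the quotient -/
lemma dim_quot_succ_le {p q : Ideal R} [p.IsPrime] (hpq : p ≤ q) (hne : p ≠ q) :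
    ringKrullDim (R ⧸ q) + 1 ≤ ringKrullDim (R ⧸ p) := by
  obtain ⟨x, hxq, hxp⟩ : ∃ x ∈ q, x ∉ p := by
    by_contra hcon
    push Not at hcon
    exact hne (le_antisymm hpq hcon)
  refine ringKrullDim_succ_le_of_surjective (Ideal.Quotient.factor hpq)
    (Ideal.Quotient.factor_surjective hpq) (r := Ideal.Quotient.mk p x) ?_ ?_
  · rw [mem_nonZeroDivisors_iff_ne_zero]
    intro h
    exact hxp (Ideal.Quotient.eq_zero_iff_mem.1 h)
  · rw [Ideal.Quotient.factor_mk]
    exact Ideal.Quotient.eq_zero_iff_mem.2 hxq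

end dimlemmas

section tools

variable (R : Type u) [CommRing R] [IsNoetherianRing R] [IsLocalRing R]

/-- vanishing above the dimension of the support ring -/
theorem subsingleton_H_of_dim_lt (J : Ideal R) (hJ : J ≠ ⊤) (d : ℕ)
    (hd : ringKrullDim (R ⧸ J) = (d : WithBot ℕ∞))
    (M' : Type u) [AddCommGroup M'] [Module (R ⧸ J) M'] [Module R M'] [IsScalarTower R (R ⧸ J) M']
    (i : ℕ) (hi : d < i) : Subsingleton (LocCoh.H (maximalIdeal R) i M') := by
  have hnt : Nontrivial (R ⧸ J) := Ideal.Quotient.nontrivial_iff.2 hJ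
  have hloc : IsLocalRing (R ⧸ J) :=
    IsLocalRing.of_surjective' (Ideal.Quotient.mk J) Ideal.Quotient.mk_surjective
  have hcd := Groth.Agent.S7698.cdLE_maximalIdeal (R ⧸ J) d hd
  have h1 : Subsingleton (LocCoh.H (maximalIdeal (R ⧸ J)) i M') := hcd M' i hi
  obtain ⟨φ, -⟩ := semiEq_quot J i M'
  exact φ.symm.toEquiv.subsingleton

/-- non-vanishing for `R/p` as an `R`-module -/
theorem nontrivial_H_quot (J : Ideal R) (hJ : J ≠ ⊤) (d : ℕ)
    (hd : ringKrullDim (R ⧸ J) = (d : WithBot ℕ∞)) :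
    Nontrivial (LocCoh.H (maximalIdeal R) d (R ⧸ J)) := by
  have hnt : Nontrivial (R ⧸ J) := Ideal.Quotient.nontrivial_iff.2 hJ
  have hloc : IsLocalRing (R ⧸ J) :=
    IsLocalRing.of_surjective' (Ideal.Quotient.mk J) Ideal.Quotient.mk_surjective
  have h1 := nontrivial_H_top d (R ⧸ J) hd
  obtain ⟨φ, -⟩ := semiEq_quot J d (R ⧸ J)
  exact φ.symm.toEquiv.nontrivial

variable {R}
variable (n : ℕ) (hn : ringKrullDim R = n) {E : Type u} [AddCommGroup E] [Module R E]
  {f : IsLocalRing.ResidueField R →ₗ[R] E} (hf : InjHull.IsInjectiveHull f)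
  (K : Type u) [AddCommGroup K] [Module R K] [Module.Finite R K]
  (eK : (K →ₗ[R] E) ≃ₗ[R] LocCoh.H (IsLocalRing.maximalIdeal R) n R)

include hn hf eK in
/-- `Hom(M, K) = 0 ↔ H^n_𝔪(M) = 0` -/
theorem subsingleton_hom_iff (M : Type u) [AddCommGroup M] [Module R M] [Module.Finite R M] :
    Subsingleton (M →ₗ[R] K) ↔ Subsingleton (LocCoh.H (maximalIdeal R) n M) := by
  obtain ⟨e⟩ := Groth.Agent.S7698.result R n hn E f hf K eK M
  constructor
  · intro h
    have : Subsingleton ((M →ₗ[R] K) →ₗ[R] E) :=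
      ⟨fun a b => LinearMap.ext fun x => by rw [Subsingleton.elim x 0, map_zero, map_zero]⟩
    exact e.toEquiv.subsingleton
  · intro h
    have h1 : Subsingleton ((M →ₗ[R] K) →ₗ[R] E) := e.symm.toEquiv.subsingleton
    refine ⟨fun a b => ?_⟩
    by_contra hab
    have hne : a - b ≠ 0 := sub_ne_zero.2 hab
    obtain ⟨φ, hφ⟩ := Groth.Agent.H2.Matlis.cogen hf (M →ₗ[R] K) (a - b) hne
    exact hφ (by rw [Subsingleton.elim φ 0, LinearMap.zero_apply])

include hn hf eK in
/-- the canonical module is nonzero -/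
theorem nontrivial_K : Nontrivial K := by
  have h1 := nontrivial_H_top n R hn
  have h2 : Nontrivial (K →ₗ[R] E) := eK.toEquiv.nontrivial
  by_contra hcon
  rw [not_nontrivial_iff_subsingleton] at hcon
  obtain ⟨a, b, hab⟩ := h2.exists_pair_ne
  exact hab (LinearMap.ext fun x => by rw [Subsingleton.elim x 0, map_zero, map_zero])

end tools

end Groth.Agent.H2.CanonMod
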