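import Mathlib
import Groth.Agent.H2.CanonMod

/-!
# Non-vanishing of top local cohomology of a finitely generated module
-/

set_option autoImplicit false
universe u

namespace Groth.Agent.H2.LCNonvanishMod

open Groth.Agent.H58.LC IsLocalRing Groth.Agent.H2.LCNonvanish Groth.Agent.H2.CanonMod

section vanishing

variable (A : Type u) [CommRing A] [IsNoetherianRing A] [IsLocalRing A]

/-- vanishing above the dimension of `A/J` for modules killed by `J` -/
theorem subsingleton_H_of_killed_ideal (J : Ideal A) (N : Type u) [AddCommGroup N] [Module A N]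
    (hN : ∀ r ∈ J, ∀ x : N, r • x = 0) (d : ℕ) (hd : ringKrullDim (A ⧸ J) ≤ (d : WithBot ℕ∞))
    (i : ℕ) (hi : d < i) : Subsingleton (LocCoh.H (maximalIdeal A) i N) := by
  by_cases hJ : J = ⊤
  · have hs : Subsingleton N := by
      refine ⟨fun x y => ?_⟩
      have h1 := hN 1 (hJ ▸ Submodule.mem_top) x
      have h2 := hN 1 (hJ ▸ Submodule.mem_top) y
      rw [one_smul] at h1 h2
      rw [h1, h2]
    exact subsingleton_H_of_subsingleton _ i
  · have hnt : Nontrivial (A ⧸ J) := Ideal.Quotient.nontrivial_iff.2 hJ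
    have hbot : ringKrullDim (A ⧸ J) ≠ ⊥ := by
      intro h
      have h0 := ringKrullDim_nonneg_of_nontrivial (R := A ⧸ J)
      rw [h] at h0
      exact absurd h0 (by simp)
    obtain ⟨d', hd', hdd⟩ := exists_nat_eq _ d hd hbot
    have htor : Module.IsTorsionBySet A N (J : Set A) := fun x a => hN a.1 a.2 x
    letI := htor.module
    haveI : IsScalarTower A (A ⧸ J) N := htor.isScalarTower
    exact subsingleton_H_of_dim_lt A J hJ d' hd' N i (lt_of_le_of_lt hdd hi)

/-- variant with a strict dimension drop -/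
theorem subsingleton_H_of_killed_ideal' (J : Ideal A) (N : Type u) [AddCommGroup N] [Module A N]
    (hN : ∀ r ∈ J, ∀ x : N, r • x = 0) (n : ℕ)
    (hd : ringKrullDim (A ⧸ J) + 1 ≤ (n : WithBot ℕ∞)) :
    Subsingleton (LocCoh.H (maximalIdeal A) n N) := by
  by_cases hJ : J = ⊤
  · have hs : Subsingleton N := by
      refine ⟨fun x y => ?_⟩
      have h1 := hN 1 (hJ ▸ Submodule.mem_top) x
      have h2 := hN 1 (hJ ▸ Submodule.mem_top) y
      rw [one_smul] at h1 h2
      rw [h1, h2]
    exact subsingleton_H_of_subsingleton _ n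
  · have hnt : Nontrivial (A ⧸ J) := Ideal.Quotient.nontrivial_iff.2 hJ
    have hbot : ringKrullDim (A ⧸ J) ≠ ⊥ := by
      intro h
      have h0 := ringKrullDim_nonneg_of_nontrivial (R := A ⧸ J)
      rw [h] at h0
      exact absurd h0 (by simp)
    have hle : ringKrullDim (A ⧸ J) ≤ (n : WithBot ℕ∞) :=
      le_trans (le_add_of_nonneg_right zero_le_one) hd
    obtain ⟨d', hd', -⟩ := exists_nat_eq _ n hle hbot
    rw [hd'] at hd
    have h4 : ((d' + 1 : ℕ) : WithBot ℕ∞) ≤ ((n : ℕ) : WithBot ℕ∞) := by
      rw [Nat.cast_add, Nat.cast_one]; exact hd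
    have h5 : d' + 1 ≤ n := Nat.cast_le.1 h4
    exact subsingleton_H_of_killed_ideal A J N hN d' (le_of_eq hd') n (by omega)

/-- a prime over `J` of maximal coheight -/
lemma exists_prime_ge_dim_eq (J : Ideal A) (n : ℕ) (hn : ringKrullDim (A ⧸ J) = n) :
    ∃ p : Ideal A, p.IsPrime ∧ J ≤ p ∧ ringKrullDim (A ⧸ p) = n := by
  have hn' := hn
  rw [ringKrullDim_quotient] at hn'
  obtain ⟨l, hl⟩ := (Order.le_krullDim_iff
    (α := PrimeSpectrum.zeroLocus (R := A) (J : Set A)) (n := n)).1 (le_of_eq hn'.symm)
  have hJp : J ≤ l.head.1.asIdeal := (PrimeSpectrum.mem_zeroLocus _ _).1 l.head.2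
  refine ⟨l.head.1.asIdeal, l.head.1.isPrime, hJp, le_antisymm ?_ ?_⟩
  · rw [← hn]
    exact ringKrullDim_le_of_surjective (Ideal.Quotient.factor hJp)
      (Ideal.Quotient.factor_surjective hJp)
  · rw [ringKrullDim_quotient]
    let l' : LTSeries (PrimeSpectrum.zeroLocus (R := A) (l.head.1.asIdeal : Set A)) :=
      { length := l.length
        toFun := fun i => ⟨(l i).1, by
          rw [PrimeSpectrum.mem_zeroLocus]
          exact l.head_le i⟩
        step := fun i => l.step i }
    have h1 := Order.LTSeries.length_le_krullDim l'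
    have h2 : l'.length = n := hl
    rw [h2] at h1
    exact h1

end vanishing

section mapToDomain

variable {A : Type u} [CommRing A]

/-- a finitely generated module killed by the prime `p` and not killed by any `s ∉ p` maps
nontrivially to `A/p` -/
theorem exists_map_ne_zero (p : Ideal A) [hp : p.IsPrime] :
    ∀ (r : ℕ) (N : Type u) [AddCommGroup N] [Module A N] (S : Finset N), S.card ≤ r →
      Submodule.span A (S : Set N) = ⊤ → (∀ a ∈ p, ∀ v : N, a • v = 0) →
      (∀ s : A, s ∉ p → ∃ v : N, s • v ≠ 0) → ∃ g : N →ₗ[A] (A ⧸ p), g ≠ 0 := by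
  classical
  intro r
  induction r with
  | zero =>
    intro N _ _ S hS hspan _ hnt
    exfalso
    have hS0 : S = ∅ := Finset.card_eq_zero.1 (Nat.le_zero.1 hS)
    rw [hS0, Finset.coe_empty, Submodule.span_empty] at hspan
    obtain ⟨v, hv⟩ := hnt 1 (fun h => hp.ne_top ((Ideal.eq_top_iff_one _).2 h))
    have hv0 : v ∈ (⊥ : Submodule A N) := hspan ▸ Submodule.mem_top
    rw [Submodule.mem_bot] at hv0
    exact hv (by rw [hv0, smul_zero])
  | succ r ih =>
    intro N _ _ S hS hspan hkill hnt
    rcases S.eq_empty_or_nonempty with hS0 | ⟨v₁, hv₁⟩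
    · exfalso
      rw [hS0, Finset.coe_empty, Submodule.span_empty] at hspan
      obtain ⟨v, hv⟩ := hnt 1 (fun h => hp.ne_top ((Ideal.eq_top_iff_one _).2 h))
      have hv0 : v ∈ (⊥ : Submodule A N) := hspan ▸ Submodule.mem_top
      rw [Submodule.mem_bot] at hv0
      exact hv (by rw [hv0, smul_zero])
    · -- the quotient by the first generator
      let P : Submodule A N := Submodule.span A {v₁}
      by_cases hcase : ∀ s : A, s ∉ p → ∃ w : N ⧸ P, s • w ≠ 0
      · -- induct
        let S' : Finset (N ⧸ P) := (S.erase v₁).image P.mkQ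
        have hS' : S'.card ≤ r := by
          calc S'.card ≤ (S.erase v₁).card := Finset.card_image_le
            _ = S.card - 1 := Finset.card_erase_of_mem hv₁
            _ ≤ r := by omega
        have hspan' : Submodule.span A (S' : Set (N ⧸ P)) = ⊤ := by
          rw [eq_top_iff]
          rintro w -
          obtain ⟨v, rfl⟩ := P.mkQ_surjective w
          have hv : v ∈ Submodule.span A (S : Set N) := hspan ▸ Submodule.mem_top
          induction hv using Submodule.span_induction with
          | mem y hy =>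
            by_cases hy1 : y = v₁
            · have : P.mkQ y = 0 := by
                rw [hy1, Submodule.mkQ_apply, Submodule.Quotient.mk_eq_zero]
                exact Submodule.mem_span_singleton_self v₁
              rw [this]
              exact Submodule.zero_mem _
            · apply Submodule.subset_span
              exact Finset.mem_coe.2 (Finset.mem_image.2
                ⟨y, Finset.mem_erase.2 ⟨hy1, Finset.mem_coe.1 hy⟩, rfl⟩)
          | zero => rw [map_zero]; exact Submodule.zero_mem _
          | add y z _ _ hy hz => rw [map_add]; exact Submodule.add_mem _ hy hz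
          | smul c y _ hy => rw [map_smul]; exact Submodule.smul_mem _ c hy
        have hkill' : ∀ a ∈ p, ∀ w : N ⧸ P, a • w = 0 := by
          intro a ha w
          obtain ⟨v, rfl⟩ := P.mkQ_surjective w
          rw [← map_smul, hkill a ha v, map_zero]
        obtain ⟨g', hg'⟩ := ih (N ⧸ P) S' hS' hspan' hkill' hcase
        refine ⟨g' ∘ₗ P.mkQ, fun h => hg' ?_⟩
        refine LinearMap.ext fun w => ?_
        obtain ⟨v, rfl⟩ := P.mkQ_surjective w
        exact LinearMap.congr_fun h v
      · -- the quotient is killed by some `s ∉ p`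
        push Not at hcase
        obtain ⟨s, hsp, hs⟩ := hcase
        have hsP : ∀ v : N, s • v ∈ P := by
          intro v
          have := hs (P.mkQ v)
          rw [← map_smul, Submodule.mkQ_apply, Submodule.Quotient.mk_eq_zero] at this
          exact this
        -- `ψ : A/p → N`, `c ↦ c v₁`
        have hle : p ≤ LinearMap.ker (LinearMap.toSpanSingleton A N v₁) := by
          intro a ha
          rw [LinearMap.mem_ker, LinearMap.toSpanSingleton_apply]
          exact hkill a ha v₁
        let ψ : (A ⧸ p) →ₗ[A] N := Submodule.liftQ p (LinearMap.toSpanSingleton A N v₁) hle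
        have hψ : ∀ a : A, ψ (Submodule.Quotient.mk a) = a • v₁ := fun a => rfl
        have hψinj : Function.Injective ψ := by
          rw [← LinearMap.ker_eq_bot, LinearMap.ker_eq_bot']
          intro q hq
          obtain ⟨t, rfl⟩ := Submodule.Quotient.mk_surjective _ q
          rw [hψ] at hq
          rw [Submodule.Quotient.mk_eq_zero]
          by_contra htp
          have hts : t * s ∉ p := fun h => (hp.mem_or_mem h).elim htp hsp
          obtain ⟨v, hv⟩ := hnt (t * s) hts
          apply hv
          obtain ⟨c, hc⟩ := Submodule.mem_span_singleton.1 (hsP v)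
          rw [mul_smul, ← hc, smul_comm, hq, smul_zero]
        have hrange : ∀ v : N, s • v ∈ LinearMap.range ψ := by
          intro v
          obtain ⟨c, hc⟩ := Submodule.mem_span_singleton.1 (hsP v)
          exact ⟨Submodule.Quotient.mk c, by rw [hψ, hc]⟩
        let σ : N →ₗ[A] LinearMap.range ψ :=
          (LinearMap.lsmul A N s).codRestrict _ hrange
        let g : N →ₗ[A] (A ⧸ p) := (LinearEquiv.ofInjective ψ hψinj).symm.toLinearMap ∘ₗ σ
        refine ⟨g, fun hg => ?_⟩
        have h1 : g v₁ = 0 := by rw [hg]; rfl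
        have h2 : σ v₁ = LinearEquiv.ofInjective ψ hψinj (Submodule.Quotient.mk s) := by
          apply Subtype.ext
          show s • v₁ = ψ (Submodule.Quotient.mk s)
          rw [hψ]
        have h3 : g v₁ = Submodule.Quotient.mk s := by
          show (LinearEquiv.ofInjective ψ hψinj).symm (σ v₁) = _
          rw [h2, LinearEquiv.symm_apply_apply]
        rw [h3, Submodule.Quotient.mk_eq_zero] at h1
        exact hsp h1

end mapToDomain

section main

variable (A : Type u) [CommRing A]

/-- if `s M ⊆ p M` for a finitely generated module whose annihilator lies in the prime `p`,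
then `s ∈ p` -/
lemma mem_of_smul_le (p : Ideal A) [hp : p.IsPrime] (M : Type u) [AddCommGroup M] [Module A M]
    [Module.Finite A M] (hann : Module.annihilator A M ≤ p) (s : A)
    (hs : ∀ v : M, s • v ∈ p • (⊤ : Submodule A M)) : s ∈ p := by
  have hI : LinearMap.range (algebraMap A (Module.End A M) s) ≤ p • ⊤ := by
    rintro _ ⟨v, rfl⟩
    exact hs v
  obtain ⟨P, hmonic, -, hcoeff, hzero⟩ :=
    LinearMap.exists_monic_and_natDegree_eq_and_coeff_mem_pow_and_aeval_eq_zero A
      (algebraMap A (Module.End A M) s) p hI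
  rw [Polynomial.aeval_algebraMap_apply_eq_algebraMap_eval] at hzero
  have hmem : Polynomial.eval s P ∈ Module.annihilator A M := by
    rw [Module.mem_annihilator]
    intro v
    have h := LinearMap.congr_fun hzero v
    exact h
  have h1 : Polynomial.eval s P ∈ p := hann hmem
  rw [Polynomial.eval_eq_sum_range, Finset.sum_range_succ, hmonic.coeff_natDegree, one_mul] at h1
  have h2 : ∑ k ∈ Finset.range P.natDegree, P.coeff k * s ^ k ∈ p := by
    refine Ideal.sum_mem _ fun k hk => Ideal.mul_mem_right _ _ ?_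
    have hk' : P.natDegree - k ≠ 0 := (Nat.sub_pos_of_lt (Finset.mem_range.1 hk)).ne'
    exact Ideal.pow_le_self hk' (hcoeff k)
  have h3 : s ^ P.natDegree ∈ p := by
    have h4 := p.sub_mem h1 h2
    rwa [add_sub_cancel_left] at h4
  exact hp.mem_of_pow_mem _ h3

variable [IsNoetherianRing A] [IsLocalRing A]

/-- **Non-vanishing** of `H^n_𝔪(M)` for `n = dim Supp M`. -/
theorem nontrivial_H_supportDim (M : Type u) [AddCommGroup M] [Module A M] [Module.Finite A M]
    [Nontrivial M] (n : ℕ) (hn : Module.supportDim A M = n) :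
    Nontrivial (LocCoh.H (maximalIdeal A) n M) := by
  classical
  have hdimJ : ringKrullDim (A ⧸ Module.annihilator A M) = n := by
    rw [← Module.supportDim_eq_ringKrullDim_quotient_annihilator]; exact hn
  obtain ⟨p, hp, hJp, hpd⟩ := exists_prime_ge_dim_eq A (Module.annihilator A M) n hdimJ
  -- a nonzero map `M → A/p`
  obtain ⟨S, hS⟩ := (Module.finite_def (R := A) (M := M)).1 inferInstance
  let Q : Submodule A M := p • (⊤ : Submodule A M)
  have hspanQ : Submodule.span A ((S.image Q.mkQ : Finset (M ⧸ Q)) : Set (M ⧸ Q)) = ⊤ := by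
    rw [Finset.coe_image, ← Submodule.map_span, hS, Submodule.map_top, LinearMap.range_eq_top]
    exact Q.mkQ_surjective
  have hkillQ : ∀ a ∈ p, ∀ w : M ⧸ Q, a • w = 0 := by
    intro a ha w
    obtain ⟨v, rfl⟩ := Q.mkQ_surjective w
    rw [← map_smul, Submodule.mkQ_apply, Submodule.Quotient.mk_eq_zero]
    exact Submodule.smul_mem_smul ha Submodule.mem_top
  have hntQ : ∀ s : A, s ∉ p → ∃ w : M ⧸ Q, s • w ≠ 0 := by
    intro s hsp
    by_contra hcon
    push Not at hcon
    apply hsp
    refine mem_of_smul_le A p M hJp s (fun v => ?_)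
    have := hcon (Q.mkQ v)
    rw [← map_smul, Submodule.mkQ_apply, Submodule.Quotient.mk_eq_zero] at this
    exact this
  obtain ⟨g₀, hg₀⟩ := exists_map_ne_zero p (S.image Q.mkQ).card (M ⧸ Q) (S.image Q.mkQ) le_rfl
    hspanQ hkillQ hntQ
  let g : M →ₗ[A] (A ⧸ p) := g₀ ∘ₗ Q.mkQ
  have hg : g ≠ 0 := by
    intro h
    apply hg₀
    refine LinearMap.ext fun w => ?_
    obtain ⟨v, rfl⟩ := Q.mkQ_surjective w
    exact LinearMap.congr_fun h v
  -- the chain of surjections
  have hJkill : ∀ (N : Submodule A M) (r : A), r ∈ Module.annihilator A M → ∀ x : N, r • x = 0 := by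
    intro N r hr x
    exact Subtype.ext (Module.mem_annihilator.1 hr x.1)
  have h1 : Function.Surjective (Hmap (maximalIdeal A) n g.rangeRestrict) :=
    Hmap_surjective_of_subsingleton (maximalIdeal A) n g.rangeRestrict
      g.surjective_rangeRestrict
      (subsingleton_H_of_killed_ideal A (Module.annihilator A M) _
        (fun r hr x => hJkill _ r hr x) n (le_of_eq hdimJ) (n + 1) (Nat.lt_succ_self n))
  -- an element of the range not in `p`
  obtain ⟨v, hv⟩ : ∃ v : M, g v ≠ 0 := by
    by_contra hcon
    push Not at hcon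
    exact hg (LinearMap.ext hcon)
  obtain ⟨r, hr⟩ := Ideal.Quotient.mk_surjective (g v)
  have hrp : r ∉ p := fun h => hv (by rw [← hr]; exact Ideal.Quotient.eq_zero_iff_mem.2 h)
  have hJ2ne : p ≠ p ⊔ Ideal.span {r} := by
    intro h
    apply hrp
    rw [h]
    exact Ideal.mem_sup_right (Ideal.mem_span_singleton_self r)
  have hdim2 : ringKrullDim (A ⧸ (p ⊔ Ideal.span {r})) + 1 ≤ (n : WithBot ℕ∞) := by
    rw [← hpd]
    exact dim_quot_succ_le le_sup_left hJ2ne
  -- `H^n` of the cokernel of `range g ⊆ A/p` vanishes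
  have hVC : Subsingleton (LocCoh.H (maximalIdeal A) n ((A ⧸ p) ⧸ LinearMap.range g)) := by
    refine subsingleton_H_of_killed_ideal' A (p ⊔ Ideal.span {r}) _ ?_ n hdim2
    intro a ha q
    obtain ⟨c, rfl⟩ := Submodule.Quotient.mk_surjective _ q
    obtain ⟨t, rfl⟩ := Ideal.Quotient.mk_surjective c
    rw [← Submodule.Quotient.mk_smul, Submodule.Quotient.mk_eq_zero]
    obtain ⟨a₁, ha₁, a₂, ha₂, rfl⟩ := Submodule.mem_sup.1 ha
    obtain ⟨b, rfl⟩ := Ideal.mem_span_singleton'.1 ha₂
    have h3 : (a₁ + b * r) • (Ideal.Quotient.mk p t) = (b * t) • g v := by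
      rw [← hr, Algebra.smul_def, Algebra.smul_def, Ideal.Quotient.algebraMap_eq,
        ← map_mul, ← map_mul, Ideal.Quotient.eq]
      have : (a₁ + b * r) * t - b * t * r = a₁ * t := by ring
      rw [this]
      exact Ideal.mul_mem_right _ _ ha₁
    rw [h3]
    exact ⟨(b * t) • v, map_smul g _ _⟩
  obtain ⟨δ, e1, -, -, -⟩ := les_mod (maximalIdeal A) (LinearMap.range g).subtype
    (LinearMap.range g).mkQ (Submodule.injective_subtype _) (Submodule.mkQ_surjective _)
    (LinearMap.exact_subtype_mkQ _) n
  have h2 : Function.Surjective (Hmap (maximalIdeal A) n (LinearMap.range g).subtype) := by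
    intro y
    exact (e1 y).1 (Subsingleton.elim _ _)
  have hnv := nontrivial_H_quot A p hp.ne_top n hpd
  have hcomp : Function.Surjective (fun z => Hmap (maximalIdeal A) n (LinearMap.range g).subtype
      (Hmap (maximalIdeal A) n g.rangeRestrict z)) := h2.comp h1
  obtain ⟨y₁, y₂, hy⟩ := hnv.exists_pair_ne
  obtain ⟨z₁, hz₁⟩ := hcomp y₁
  obtain ⟨z₂, hz₂⟩ := hcomp y₂
  exact ⟨⟨z₁, z₂, fun h => hy (by rw [← hz₁, ← hz₂, h])⟩⟩

end main

end Groth.Agent.H2.LCNonvanishMod
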