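import Groth.Agent.H2.Matlis2
import Groth.Agent.S0310
import Groth.Agent.S0299
import Mathlib.RingTheory.FiniteLength
import Mathlib.RingTheory.Nakayama
import Mathlib.Algebra.Module.SpanRankOperations
import Mathlib.LinearAlgebra.Isomorphisms

/-!
# Matlis duality, part 3: duals of finite and Artinian modules
-/

set_option autoImplicit false

universe u

namespace Groth.Agent.H2.Matlis

open Function IsLocalRing

variable {R : Type u} [CommRing R] [IsLocalRing R]
  {E : Type u} [AddCommGroup E] [Module R E] {f : ResidueField R →ₗ[R] E}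

/-- `G` and its dual have the same annihilator. -/
theorem annihilator_dual (hf : InjHull.IsInjectiveHull f) (G : Type u) [AddCommGroup G]
    [Module R G] : Module.annihilator R G = Module.annihilator R (G →ₗ[R] E) := by
  apply le_antisymm
  · intro r hr
    rw [Module.mem_annihilator] at hr ⊢
    intro φ
    ext g
    rw [LinearMap.smul_apply, ← map_smul, hr g, map_zero, LinearMap.zero_apply]
  · intro r hr
    rw [Module.mem_annihilator] at hr ⊢
    intro g
    by_contra hne
    obtain ⟨φ, hφ⟩ := cogen hf G _ hne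
    apply hφ
    rw [map_smul, ← LinearMap.smul_apply, hr φ, LinearMap.zero_apply]

omit [IsLocalRing R] in
/-- Evaluation at a generating family embeds the dual into a power of `E`. -/
lemma evalFamily_injective {M : Type u} [AddCommGroup M] [Module R M] {n : ℕ} (s : Fin n → M)
    (hs : Submodule.span R (Set.range s) = ⊤) :
    Injective (LinearMap.pi (fun i => (LinearMap.applyₗ (s i) : (M →ₗ[R] E) →ₗ[R] E))) := by
  intro φ ψ h
  apply LinearMap.ext_on_range hs
  intro i
  exact congrFun h i

/-- The dual of a finite module is Artinian. -/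
theorem isArtinian_dual_of_finite [IsNoetherianRing R] (hf : InjHull.IsInjectiveHull f)
    (N : Type u) [AddCommGroup N] [Module R N] [Module.Finite R N] :
    IsArtinian R (N →ₗ[R] E) := by
  have := isArtinian_hull hf
  obtain ⟨n, s, hs⟩ := Module.Finite.exists_fin (R := R) (M := N)
  exact isArtinian_of_injective _ (evalFamily_injective (E := E) s hs)

/-- An Artinian module over a Noetherian local ring is power torsion. -/
theorem isPowerTorsion_of_isArtinian [IsNoetherianRing R] (M : Type u) [AddCommGroup M]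
    [Module R M] [IsArtinian R M] : LocCoh.IsPowerTorsion (maximalIdeal R) M := by
  intro m
  let N : Submodule R M := Submodule.span R {m}
  let c : ℕ →o (Submodule R M)ᵒᵈ :=
    ⟨fun n => OrderDual.toDual ((maximalIdeal R ^ n) • N), fun a b hab => by
      show (maximalIdeal R ^ b) • N ≤ (maximalIdeal R ^ a) • N
      exact Submodule.smul_mono_left (Ideal.pow_le_pow_right hab)⟩
  obtain ⟨n, hn⟩ := IsArtinian.monotone_stabilizes c
  have h1 : (maximalIdeal R ^ n) • N = (maximalIdeal R ^ (n + 1)) • N :=
    congrArg OrderDual.ofDual (hn (n + 1) (Nat.le_succ n))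
  have hfg : ((maximalIdeal R ^ n) • N).FG :=
    Submodule.FG.smul (IsNoetherian.noetherian _) (Submodule.fg_span_singleton m)
  have h2 : (maximalIdeal R ^ n) • N = ⊥ := by
    apply Submodule.eq_bot_of_le_smul_of_le_jacobson_bot (maximalIdeal R) _ hfg
    · conv_lhs => rw [h1, pow_succ', Submodule.mul_smul]
    · exact IsLocalRing.maximalIdeal_le_jacobson ⊥
  refine ⟨n, fun a ha => ?_⟩
  have h3 : a • m ∈ (maximalIdeal R ^ n) • N :=
    Submodule.smul_mem_smul ha (Submodule.mem_span_singleton_self m)
  rw [h2] at h3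
  exact (Submodule.mem_bot R).mp h3

/-- The socle of an Artinian module is finite over the residue field. -/
theorem finite_socle_of_isArtinian (M : Type u) [AddCommGroup M] [Module R M] [IsArtinian R M] :
    Module.Finite (R ⧸ maximalIdeal R) ↥(LocCoh.torsionBy (maximalIdeal R) M) := by
  letI : Field (R ⧸ maximalIdeal R) := Ideal.Quotient.field _
  have h2 : IsArtinian (R ⧸ maximalIdeal R) ↥(LocCoh.torsionBy (maximalIdeal R) M) :=
    isArtinian_of_tower R inferInstance
  exact (IsSemisimpleModule.finite_tfae.out 0 2).mpr h2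

/-- A power torsion module with finite socle is Artinian. -/
theorem isArtinian_of_powerTorsion_of_finite_socle [IsNoetherianRing R] (M : Type u)
    [AddCommGroup M] [Module R M] (hpt : LocCoh.IsPowerTorsion (maximalIdeal R) M)
    [Module.Finite (R ⧸ maximalIdeal R) ↥(LocCoh.torsionBy (maximalIdeal R) M)] :
    IsArtinian R M := by
  obtain ⟨E, hE1, hE2, f, hf⟩ := Groth.Agent.S0299.result R (ResidueField R)
  have := isArtinian_hull hf
  obtain ⟨g, hg⟩ := Groth.Agent.S0310.result R E f hf M hpt _ rfl
  exact isArtinian_of_injective g hg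

/-- Characterisation of Artinian modules over a Noetherian local ring. -/
theorem isArtinian_iff [IsNoetherianRing R] (M : Type u) [AddCommGroup M] [Module R M] :
    IsArtinian R M ↔ (LocCoh.IsPowerTorsion (maximalIdeal R) M ∧
      Module.Finite (R ⧸ maximalIdeal R) ↥(LocCoh.torsionBy (maximalIdeal R) M)) := by
  constructor
  · intro h
    exact ⟨isPowerTorsion_of_isArtinian M, finite_socle_of_isArtinian M⟩
  · rintro ⟨h1, h2⟩
    exact isArtinian_of_powerTorsion_of_finite_socle M h1

section Complete

variable [IsNoetherianRing R] [IsAdicComplete (maximalIdeal R) R]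

/-- Over a complete local ring every endomorphism of `E` is a homothety. -/
lemma exists_smul_eq_of_complete (hf : InjHull.IsInjectiveHull f) (φ : E →ₗ[R] E) :
    ∃ r : R, ∀ e, φ e = r • e := by
  have hpt := Groth.Agent.S0311.result R E f hf
  have hprec : IsPrecomplete (maximalIdeal R) R := inferInstance
  obtain ⟨r, hr⟩ := hprec.prec (rep_cauchy hf φ)
  refine ⟨r, fun e => ?_⟩
  obtain ⟨n, hn⟩ := hpt e
  have h := hr n
  rw [SModEq.sub_mem, mem_smul_top_iff] at h
  rw [rep_spec hf φ n e hn, ← sub_eq_zero, ← sub_smul]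
  exact hn _ h

/-- Over a complete local ring every linear form `Eⁿ → E` is a combination of projections. -/
lemma exists_eq_sum_smul_proj (hf : InjHull.IsInjectiveHull f) (n : ℕ)
    (χ : (Fin n → E) →ₗ[R] E) : ∃ r : Fin n → R, ∀ a, χ a = ∑ i, r i • a i := by
  classical
  choose r hr using fun i =>
    exists_smul_eq_of_complete hf (χ ∘ₗ LinearMap.single R (fun _ : Fin n => E) i)
  refine ⟨r, fun a => ?_⟩
  conv_lhs => rw [← Finset.univ_sum_single a]
  rw [map_sum]
  exact Finset.sum_congr rfl fun i _ => hr i (a i)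

/-- Biduality for a power of `E`. -/
theorem applyₗ_surjective_pi (hf : InjHull.IsInjectiveHull f) (n : ℕ) :
    Surjective (LinearMap.applyₗ : (Fin n → E) →ₗ[R] ((Fin n → E) →ₗ[R] E) →ₗ[R] E) := by
  intro Ψ
  refine ⟨fun i => Ψ (LinearMap.proj i), LinearMap.ext fun χ => ?_⟩
  obtain ⟨r, hr⟩ := exists_eq_sum_smul_proj hf n χ
  have hχ : χ = ∑ i, r i • (LinearMap.proj i : (Fin n → E) →ₗ[R] E) := by
    refine LinearMap.ext fun a => ?_
    rw [hr, LinearMap.sum_apply]
    rfl
  show χ (fun i => Ψ (LinearMap.proj i)) = Ψ χ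
  rw [hr]
  conv_rhs => rw [hχ, map_sum]
  refine Finset.sum_congr rfl fun i _ => ?_
  rw [map_smul]

/-- Biduality for a finite module over a complete local ring. -/
theorem applyₗ_surjective_of_finite (hf : InjHull.IsInjectiveHull f) (M : Type u)
    [AddCommGroup M] [Module R M] [Module.Finite R M] :
    Surjective (LinearMap.applyₗ : M →ₗ[R] (M →ₗ[R] E) →ₗ[R] E) := by
  have := hf.isInjective
  obtain ⟨n, s, hs⟩ := Module.Finite.exists_fin (R := R) (M := M)
  intro Ψ
  obtain ⟨Ψ', hΨ'⟩ := Module.Injective.extension_property R E (M →ₗ[R] E) (Fin n → E) _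
    (evalFamily_injective (E := E) s hs) Ψ
  obtain ⟨r, hr⟩ := exists_eq_sum_smul_proj hf n Ψ'
  refine ⟨∑ i, r i • s i, LinearMap.ext fun χ => ?_⟩
  show χ (∑ i, r i • s i) = Ψ χ
  rw [← hΨ', LinearMap.comp_apply, hr, map_sum]
  refine Finset.sum_congr rfl fun i _ => ?_
  rw [map_smul]
  rfl

/-- Matlis duality for finite modules. -/
theorem duality_finite (hf : InjHull.IsInjectiveHull f) (M : Type u)
    [AddCommGroup M] [Module R M] [Module.Finite R M] :
    IsArtinian R (M →ₗ[R] E) ∧
      Bijective (LinearMap.applyₗ : M →ₗ[R] (M →ₗ[R] E) →ₗ[R] E) :=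
  ⟨isArtinian_dual_of_finite hf M, applyₗ_injective hf M, applyₗ_surjective_of_finite hf M⟩

/-- Matlis duality for Artinian modules. -/
theorem duality_artinian (hf : InjHull.IsInjectiveHull f) (M : Type u)
    [AddCommGroup M] [Module R M] [IsArtinian R M] :
    Module.Finite R (M →ₗ[R] E) ∧
      Bijective (LinearMap.applyₗ : M →ₗ[R] (M →ₗ[R] E) →ₗ[R] E) := by
  have := hf.isInjective
  have hpt := isPowerTorsion_of_isArtinian (R := R) M
  have hfin := finite_socle_of_isArtinian (R := R) M
  obtain ⟨g, hg⟩ := Groth.Agent.S0310.result R E f hf M hpt _ rfl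
  generalize Module.finrank (R ⧸ maximalIdeal R) ↥(LocCoh.torsionBy (maximalIdeal R) M) = n at g hg
  have hext : ∀ χ : M →ₗ[R] E, ∃ χ' : (Fin n → E) →ₗ[R] E, χ' ∘ₗ g = χ := fun χ =>
    Module.Injective.extension_property R E M (Fin n → E) g hg χ
  constructor
  · let v : Fin n → (M →ₗ[R] E) := fun i => LinearMap.proj i ∘ₗ g
    have htop : Submodule.span R (Set.range v) = ⊤ := by
      rw [eq_top_iff]
      intro χ _
      obtain ⟨χ', hχ'⟩ := hext χ
      obtain ⟨r, hr⟩ := exists_eq_sum_smul_proj hf n χ'
      have hχ : χ = ∑ i, r i • v i := by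
        refine LinearMap.ext fun m => ?_
        rw [← hχ', LinearMap.comp_apply, hr, LinearMap.sum_apply]
        rfl
      rw [hχ]
      exact Submodule.sum_mem _ fun i _ =>
        Submodule.smul_mem _ _ (Submodule.subset_span (Set.mem_range_self i))
    exact ⟨htop ▸ Submodule.fg_span (Set.finite_range v)⟩
  · refine ⟨applyₗ_injective hf M, fun Ψ => ?_⟩
    obtain ⟨a, ha⟩ := applyₗ_surjective_pi hf n (Ψ ∘ₗ LinearMap.lcomp R E g)
    have ha' : ∀ ξ : (Fin n → E) →ₗ[R] E, ξ a = Ψ (ξ ∘ₗ g) := fun ξ => LinearMap.congr_fun ha ξ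
    have hmem : a ∈ LinearMap.range g := by
      by_contra hna
      have hne : (LinearMap.range g).mkQ a ≠ 0 := fun h0 =>
        hna ((Submodule.Quotient.mk_eq_zero _).mp h0)
      obtain ⟨ξ, hξ⟩ := cogen hf ((Fin n → E) ⧸ LinearMap.range g) _ hne
      apply hξ
      have h1 := ha' (ξ ∘ₗ (LinearMap.range g).mkQ)
      have h2 : (ξ ∘ₗ (LinearMap.range g).mkQ) ∘ₗ g = 0 := by
        refine LinearMap.ext fun m => ?_
        show ξ ((LinearMap.range g).mkQ (g m)) = 0
        rw [Submodule.mkQ_apply, (Submodule.Quotient.mk_eq_zero _).mpr (LinearMap.mem_range_self g m),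
          map_zero]
      rw [h2, map_zero] at h1
      exact h1
    obtain ⟨m, rfl⟩ := hmem
    refine ⟨m, LinearMap.ext fun χ => ?_⟩
    obtain ⟨χ', hχ'⟩ := hext χ
    show χ m = Ψ χ
    rw [← hχ']
    exact ha' χ'

end Complete

section Socle

omit [IsLocalRing R] in
/-- Factor a linear map through a surjection whose kernel it kills. -/
lemma exists_factor {M X P : Type*} [AddCommGroup M] [Module R M] [AddCommGroup X] [Module R X]
    [AddCommGroup P] [Module R P] (π : M →ₗ[R] X) (hπ : Surjective π) (φ : M →ₗ[R] P)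
    (h : LinearMap.ker π ≤ LinearMap.ker φ) : ∃ χ : X →ₗ[R] P, χ ∘ₗ π = φ := by
  refine ⟨((LinearMap.ker π).liftQ φ h) ∘ₗ (π.quotKerEquivOfSurjective hπ).symm.toLinearMap, ?_⟩
  refine LinearMap.ext fun m => ?_
  show (LinearMap.ker π).liftQ φ h ((π.quotKerEquivOfSurjective hπ).symm (π m)) = φ m
  rw [LinearMap.quotKerEquivOfSurjective_symm_apply]
  rfl

/-- The socle of the dual of `M` is the dual of `M / 𝔪 M`. -/
theorem length_socle_dual {M X : Type u} [AddCommGroup M] [Module R M] [AddCommGroup X]
    [Module R X] (π : M →ₗ[R] X) (hπ : Surjective π)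
    (hX : ∀ a ∈ maximalIdeal R, ∀ x : X, a • x = 0)
    (hker : LinearMap.ker π ≤ maximalIdeal R • (⊤ : Submodule R M)) :
    Module.length R (LocCoh.torsionBy (maximalIdeal R) (M →ₗ[R] E)) =
      Module.length R (X →ₗ[R] E) := by
  have hmem : ∀ χ : X →ₗ[R] E, LinearMap.lcomp R E π χ ∈
      LocCoh.torsionBy (maximalIdeal R) (M →ₗ[R] E) := by
    intro χ
    rw [Submodule.mem_torsionBySet_iff]
    rintro ⟨a, ha⟩
    refine LinearMap.ext fun m => ?_
    show a • χ (π m) = 0
    rw [← map_smul, hX a ha, map_zero]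
  let Φ : (X →ₗ[R] E) →ₗ[R] ↥(LocCoh.torsionBy (maximalIdeal R) (M →ₗ[R] E)) :=
    (LinearMap.lcomp R E π).codRestrict _ hmem
  have hinj : Injective Φ := by
    intro χ χ' h
    refine LinearMap.ext fun x => ?_
    obtain ⟨m, rfl⟩ := hπ x
    exact LinearMap.congr_fun (congrArg Subtype.val h) m
  have hsurj : Surjective Φ := by
    rintro ⟨φ, hφ⟩
    rw [Submodule.mem_torsionBySet_iff] at hφ
    have hle : LinearMap.ker π ≤ LinearMap.ker φ := by
      refine hker.trans (Submodule.smul_le.mpr fun a ha m _ => ?_)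
      show φ (a • m) = 0
      rw [map_smul, ← LinearMap.smul_apply, hφ ⟨a, ha⟩, LinearMap.zero_apply]
    obtain ⟨χ, hχ⟩ := exists_factor π hπ φ hle
    exact ⟨χ, Subtype.ext hχ⟩
  exact (LinearEquiv.ofBijective Φ ⟨hinj, hsurj⟩).length_eq.symm

/-- The minimal number of generators of `M` is the length of the socle of its dual. -/
theorem spanFinrank_eq_length_socle_dual [IsNoetherianRing R] (hf : InjHull.IsInjectiveHull f)
    (M : Type u) [AddCommGroup M] [Module R M] [Module.Finite R M] :
    ((⊤ : Submodule R M).spanFinrank : ℕ∞) =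
      Module.length R (LocCoh.torsionBy (maximalIdeal R) (M →ₗ[R] E)) := by
  have fg : (⊤ : Submodule R M).FG := Module.Finite.fg_top
  let T : Submodule R M := ⊤
  let X := ↥T ⧸ (maximalIdeal R • (⊤ : Submodule R ↥T))
  have h1 : (T.spanFinrank : ℕ∞) = Module.length R X := by
    letI : Field (R ⧸ maximalIdeal R) := Ideal.Quotient.field _
    have : Module.Finite (R ⧸ maximalIdeal R) X := Module.Finite.of_restrictScalars_finite R _ _
    rw [IsLocalRing.spanFinrank_eq_finrank_quotient T fg]
    exact ((Module.length_eq_of_surjective (S := R) (R := R ⧸ maximalIdeal R) (M := X)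
      Ideal.Quotient.mk_surjective).trans (Module.length_eq_finrank (R ⧸ maximalIdeal R) X)).symm
  have hXfl : IsFiniteLength R X := by
    rw [← Module.length_ne_top_iff, ← h1]
    exact ENat.natCast_ne_top _
  let π : M →ₗ[R] X :=
    (maximalIdeal R • (⊤ : Submodule R ↥T)).mkQ ∘ₗ (Submodule.topEquiv (R := R) (M := M)).symm.toLinearMap
  have hπ : Surjective π :=
    (Submodule.mkQ_surjective _).comp (Submodule.topEquiv (R := R) (M := M)).symm.surjective
  have hX : ∀ a ∈ maximalIdeal R, ∀ x : X, a • x = 0 := by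
    intro a ha x
    obtain ⟨t, rfl⟩ := Submodule.mkQ_surjective _ x
    rw [← map_smul, Submodule.mkQ_apply, Submodule.Quotient.mk_eq_zero]
    exact Submodule.smul_mem_smul ha Submodule.mem_top
  have hker : LinearMap.ker π ≤ maximalIdeal R • (⊤ : Submodule R M) := by
    intro m hm
    have hm' : (Submodule.topEquiv (R := R) (M := M)).symm m ∈
        maximalIdeal R • (⊤ : Submodule R ↥T) := by
      have : π m = 0 := hm
      exact (Submodule.Quotient.mk_eq_zero _).mp this
    have h3 : (maximalIdeal R • (⊤ : Submodule R ↥T)).map T.subtype ≤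
        maximalIdeal R • (⊤ : Submodule R M) := by
      rw [Submodule.map_smul'']
      exact Submodule.smul_mono le_rfl le_top
    exact h3 ⟨_, hm', rfl⟩
  show (T.spanFinrank : ℕ∞) = _
  rw [h1, length_socle_dual π hπ hX hker, length_dual hf X hXfl]

end Socle

end Groth.Agent.H2.Matlis
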