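import Groth.Agent.S7692
import Groth.Agent.S7697
import Groth.Agent.S0299
import Groth.Agent.S0342
import Groth.Agent.S0547
import Groth.Agent.S11617
import Groth.Agent.H72.CanonMod
import Groth.Agent.H2.Matlis3
import Groth.Agent.H2.LCNonvanishMod
import Groth.Agent.H2.CanonMod
import Groth.Agent.H58.CplFin
import Groth.Agent.H58.LCMod
import Groth.Agent.H24.CatenaryOrder
import Groth.Agent.Lead.CompleteNoetherian

/-!
# Helper library (helper2): the annihilator of the top local cohomology `H^n_𝔪(R)` of an arbitrary
Noetherian local ring is an ideal whose support has dimension `< n`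
(via completion, Cohen's structure theorem and localization of the canonical module).
-/

set_option autoImplicit false
universe u

namespace Groth.Agent.H2.CanonAnn

open IsLocalRing

section dim

variable (T : Type u) [CommRing T] [IsNoetherianRing T] [IsLocalRing T]

/-- if every prime in the support of the finite module `M` has `dim T/P < n`, then
`supportDim M < n` -/
theorem supportDim_lt_of_forall (M : Type u) [AddCommGroup M] [Module T M] [Module.Finite T M]
    (n N : ℕ) (hN : ringKrullDim T = N)
    (h : ∀ P : PrimeSpectrum T, P ∈ Module.support T M →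
      ringKrullDim (T ⧸ P.asIdeal) < (n : WithBot ℕ∞)) :
    Module.supportDim T M < (n : WithBot ℕ∞) := by
  by_cases hM : Subsingleton M
  · rw [Module.supportDim_eq_bot_of_subsingleton]
    exact WithBot.bot_lt_coe _
  · rw [not_subsingleton_iff_nontrivial] at hM
    have h1 : Module.supportDim T M ≤ (N : WithBot ℕ∞) := by
      rw [← hN]
      exact Module.supportDim_le_ringKrullDim T M
    obtain ⟨d, hd, -⟩ := Groth.Agent.H2.CanonMod.exists_nat_eq _ N h1
      (Module.supportDim_ne_bot_of_nontrivial T M)
    have hdimJ : ringKrullDim (T ⧸ Module.annihilator T M) = d := by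
      rw [← Module.supportDim_eq_ringKrullDim_quotient_annihilator]
      exact hd
    obtain ⟨p, hp, hJp, hpd⟩ :=
      Groth.Agent.H2.LCNonvanishMod.exists_prime_ge_dim_eq T (Module.annihilator T M) d hdimJ
    have h2 := h ⟨p, hp⟩ (Module.mem_support_iff_of_finite.2 hJp)
    rw [hd, ← hpd]
    exact h2

end dim

section artin

variable (A : Type u) [CommRing A] [IsNoetherianRing A] [IsLocalRing A]

/-- a zero-dimensional Noetherian local ring is power torsion for its maximal ideal -/
theorem isPowerTorsion_of_dim_zero (h0 : ringKrullDim A = ((0 : ℕ) : WithBot ℕ∞)) :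
    LocCoh.IsPowerTorsion (maximalIdeal A) A := by
  have hart : IsArtinianRing A :=
    isArtinianRing_iff_krullDimLE_zero.2 (Ring.krullDimLE_iff.2 (le_of_eq h0))
  obtain ⟨k, hk⟩ := (isArtinianRing_iff_isNilpotent_maximalIdeal A).1 hart
  intro x
  refine ⟨k, fun a ha => ?_⟩
  rw [hk] at ha
  rw [(Submodule.mem_bot A).1 ha, zero_smul]

/-- the annihilator of `H^0_𝔪(A)` is zero when `dim A = 0` -/
theorem annihilator_H_zero (h0 : ringKrullDim A = ((0 : ℕ) : WithBot ℕ∞)) :
    Module.annihilator A (LocCoh.H (maximalIdeal A) 0 A) = ⊥ := by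
  have e := Groth.Agent.H58.LC.H0equivOfTorsion (maximalIdeal A) (isPowerTorsion_of_dim_zero A h0)
  rw [e.annihilator_eq, eq_bot_iff]
  intro r hr
  rw [Module.mem_annihilator] at hr
  have h1 := hr 1
  rw [smul_eq_mul, mul_one] at h1
  rw [h1]
  exact zero_mem _

end artin

section gorimage

variable (T : Type u) [CommRing T] [IsNoetherianRing T] [IsLocalRing T]

/-- an element killing `X` maps into the annihilator of the localization -/
theorem algebraMap_mem_annihilator_localized (X : Type u) [AddCommGroup X] [Module T X]
    (P : Ideal T) [P.IsPrime] (a : T) (ha : a ∈ Module.annihilator T X) :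
    algebraMap T (Localization.AtPrime P) a ∈
      Module.annihilator (Localization.AtPrime P) (LocalizedModule P.primeCompl X) := by
  rw [Module.mem_annihilator] at ha ⊢
  intro y
  induction y using LocalizedModule.induction_on with
  | h x s =>
    rw [algebraMap_smul, LocalizedModule.smul'_mk, ha x, LocalizedModule.zero_mk]

/-- **Complete case**: for a homomorphic image `T` of a Gorenstein local ring, the annihilator of
`H^n_𝔪(T)`, `n = dim T`, has support of dimension `< n`. -/
theorem supportDim_ann_lt_of_gorenstein_image (R' : Type u) [CommRing R']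
    [LocCoh.IsGorensteinLocalRing R'] (g : R' →+* T) (hg : Function.Surjective g)
    (n : ℕ) (hn : ringKrullDim T = n) :
    Module.supportDim T (Module.annihilator T (LocCoh.H (maximalIdeal T) n T)) <
      (n : WithBot ℕ∞) := by
  classical
  rcases Nat.eq_zero_or_pos n with h0 | hpos
  · subst h0
    rw [annihilator_H_zero T hn]
    haveI : Subsingleton (⊥ : Ideal T) := inferInstance
    rw [Module.supportDim_eq_bot_of_subsingleton]
    exact WithBot.bot_lt_coe _
  · obtain ⟨E, _, _, f, hf⟩ := Groth.Agent.S0299.result T (ResidueField T)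
    letI : Algebra R' T := g.toAlgebra
    have hπ : Function.Surjective (algebraMap R' T) := hg
    obtain ⟨X, _, _, hXfin, ⟨eX⟩⟩ := Groth.Agent.H72.CanonMod.exists_canon R' T hπ n hn E f hf
    haveI := hXfin
    have hAnn : Module.annihilator T (LocCoh.H (maximalIdeal T) n T) = Module.annihilator T X := by
      rw [Groth.Agent.H2.Matlis.annihilator_dual hf X, eX.annihilator_eq]
    refine supportDim_lt_of_forall T _ n n hn ?_
    intro P hP
    by_contra hnot
    have hle : ringKrullDim (T ⧸ P.asIdeal) ≤ (n : WithBot ℕ∞) := by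
      rw [← hn]
      exact ringKrullDim_quotient_le P.asIdeal
    have heq : ringKrullDim (T ⧸ P.asIdeal) = (n : WithBot ℕ∞) :=
      le_antisymm hle (not_lt.1 hnot)
    -- `P` is an associated prime of `X`
    have hass : P.asIdeal ∈ associatedPrimes T X := by
      rw [Groth.Agent.S7692.result T n hn E f hf X eX hpos]
      exact ⟨P.isPrime, heq⟩
    obtain ⟨-, x, hx⟩ := isAssociatedPrime_iff.mp hass
    have hsupp : Nontrivial (LocalizedModule P.asIdeal.primeCompl X) := by
      rw [← Module.mem_support_iff (p := P), Module.mem_support_iff_exists_annihilator]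
      refine ⟨x, fun r hr => ?_⟩
      rw [Submodule.mem_annihilator_span_singleton] at hr
      rw [hx, Submodule.mem_colon_singleton, Submodule.mem_bot]
      exact hr
    -- `dim T_P = 0`
    have hht : P.asIdeal.height = 0 := by
      have h1 := Groth.Agent.H24.height_add_ringKrullDim_quotient_le P
      rw [heq, hn] at h1
      by_contra hne
      have h2 : (1 : ℕ∞) ≤ P.asIdeal.height := Order.one_le_iff_pos.2 (pos_iff_ne_zero.2 hne)
      have h3 : ((1 : ℕ∞) : WithBot ℕ∞) + (n : WithBot ℕ∞) ≤ (n : WithBot ℕ∞) :=
        le_trans (add_le_add_left (WithBot.coe_le_coe.2 h2) _) h1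
      have h4 : ((1 : ℕ) : WithBot ℕ∞) + (n : WithBot ℕ∞) ≤ (n : WithBot ℕ∞) := h3
      have h5 : (1 + n : ℕ) ≤ n := by exact_mod_cast h4
      omega
    have hh : ringKrullDim (Localization.AtPrime P.asIdeal) = ((0 : ℕ) : WithBot ℕ∞) := by
      rw [IsLocalization.AtPrime.ringKrullDim_eq_height P.asIdeal, hht]
      rfl
    obtain ⟨E', _, _, f', hf'⟩ := Groth.Agent.S0299.result (Localization.AtPrime P.asIdeal)
      (ResidueField (Localization.AtPrime P.asIdeal))
    obtain ⟨e'⟩ := Groth.Agent.S7697.result T n hn E f hf X eX R' g hg P.asIdeal hsupp 0 hh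
      E' f' hf'
    have hAnnP : Module.annihilator (Localization.AtPrime P.asIdeal)
        (LocalizedModule P.asIdeal.primeCompl X) = ⊥ := by
      rw [Groth.Agent.H2.Matlis.annihilator_dual hf' _, e'.annihilator_eq]
      exact annihilator_H_zero _ hh
    -- hence the annihilator ideal vanishes at `P`
    apply (Module.notMem_support_iff'.2 ?_) hP
    rintro ⟨a, ha⟩
    rw [hAnn] at ha
    have h1 := algebraMap_mem_annihilator_localized T X P.asIdeal a ha
    rw [hAnnP, Submodule.mem_bot] at h1
    obtain ⟨m, hm⟩ := (IsLocalization.map_eq_zero_iff P.asIdeal.primeCompl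
      (Localization.AtPrime P.asIdeal) a).mp h1
    refine ⟨(m : T), m.2, ?_⟩
    apply Subtype.ext
    exact hm

end gorimage

section completion

/-- a complete Noetherian local ring is a homomorphic image of a Gorenstein local ring -/
theorem exists_gorenstein_surjective (B : Type u) [CommRing B] [IsLocalRing B] [IsNoetherianRing B]
    [IsAdicComplete (maximalIdeal B) B] :
    ∃ (R' : Type u) (_ : CommRing R') (_ : LocCoh.IsGorensteinLocalRing R') (g : R' →+* B),
      Function.Surjective g := by
  obtain ⟨S, _, hS, π, hπ⟩ := Groth.Agent.H58.CplFin.exists_regular_surjective B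
  let q : Ideal S := (maximalIdeal B).comap π
  haveI : q.IsPrime := Ideal.comap_isPrime π _
  haveI : IsRegularLocalRing (Localization.AtPrime q) :=
    IsRegularRing.isRegularLocalRing_localization q
  have hunit : ∀ y : q.primeCompl, IsUnit (π y) := by
    intro y
    have h1 : π y ∉ maximalIdeal B := fun h => y.2 h
    exact IsLocalRing.notMem_maximalIdeal.1 h1
  refine ⟨Localization.AtPrime q, inferInstance, Groth.Agent.S0342.result _,
    IsLocalization.lift hunit, ?_⟩
  intro b
  obtain ⟨s, rfl⟩ := hπ b
  exact ⟨algebraMap S _ s, IsLocalization.lift_eq hunit s⟩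

variable (R : Type u) [CommRing R] [IsNoetherianRing R] [IsLocalRing R]

local notation "T" => AdicCompletion (maximalIdeal R) R

theorem isNoetherianRing_completion : IsNoetherianRing T :=
  Groth.Agent.Lead.isNoetherianRing_adicCompletion (maximalIdeal R)
    (maximalIdeal R).fg_of_isNoetherianRing

/-- an element killing `H^n_𝔪(R)` kills `H^n` of the completion -/
theorem algebraMap_mem_annihilator_completion (n : ℕ) (x : R)
    (hx : x ∈ Module.annihilator R (LocCoh.H (maximalIdeal R) n R)) :
    algebraMap R T x ∈ Module.annihilator T (LocCoh.H (maximalIdeal T) n T) := by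
  haveI := isNoetherianRing_completion R
  obtain ⟨e2⟩ := Groth.Agent.S11617.result R T (maximalIdeal R) R n
  have e3 := Groth.Agent.H58.LC.Hcongr ((maximalIdeal R).map (algebraMap R T)) n
    (TensorProduct.AlgebraTensorModule.rid R T T)
  rw [AdicCompletion.maximalIdeal_eq_map, ← (e2.trans e3).annihilator_eq, Module.mem_annihilator]
  rw [Module.mem_annihilator] at hx
  intro w
  induction w using TensorProduct.induction_on with
  | zero => rw [smul_zero]
  | tmul t h =>
    rw [TensorProduct.smul_tmul', algebraMap_smul, TensorProduct.smul_tmul,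
      hx h, TensorProduct.tmul_zero]
  | add w₁ w₂ h₁ h₂ => rw [smul_add, h₁, h₂, add_zero]

end completion

section main

variable (R : Type u) [CommRing R] [IsNoetherianRing R] [IsLocalRing R]

local notation "T" => AdicCompletion (maximalIdeal R) R

theorem add_one_le_of_lt (a : WithBot ℕ∞) (n : ℕ) (h : a < (n : WithBot ℕ∞)) :
    a + 1 ≤ (n : WithBot ℕ∞) := by
  induction a using WithBot.recBotCoe with
  | bot => rw [WithBot.bot_add]; exact bot_le
  | coe b =>
    have h1 : b < (n : ℕ∞) := by
      have : ((b : ℕ∞) : WithBot ℕ∞) < (((n : ℕ) : ℕ∞) : WithBot ℕ∞) := h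
      exact WithBot.coe_lt_coe.1 this
    obtain ⟨d, rfl⟩ := ENat.ne_top_iff_exists.1 (ne_top_of_lt h1)
    have h2 : d < n := by exact_mod_cast h1
    have h3 : ((d + 1 : ℕ) : WithBot ℕ∞) ≤ (n : WithBot ℕ∞) := by exact_mod_cast h2
    exact h3

/-- **The annihilator of the top local cohomology has small support.** -/
theorem supportDim_ann_lt (n : ℕ) (hn : ringKrullDim R = n) :
    Module.supportDim R (Module.annihilator R (LocCoh.H (maximalIdeal R) n R)) <
      (n : WithBot ℕ∞) := by
  classical
  haveI hNT : IsNoetherianRing T := isNoetherianRing_completion R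
  have hnT : ringKrullDim T = n := (Groth.Agent.S0547.result R).trans hn
  haveI : Module.FaithfullyFlat R T := Module.FaithfullyFlat.of_flat_of_isLocalHom
  obtain ⟨R', _, _, g, hg⟩ := exists_gorenstein_surjective T
  have hA := supportDim_ann_lt_of_gorenstein_image T R' g hg n hnT
  by_contra hnot
  have hle : Module.supportDim R (Module.annihilator R (LocCoh.H (maximalIdeal R) n R)) ≤
      (n : WithBot ℕ∞) := by
    rw [← hn]
    exact Module.supportDim_le_ringKrullDim R _
  have heq : Module.supportDim R (Module.annihilator R (LocCoh.H (maximalIdeal R) n R)) =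
      (n : WithBot ℕ∞) := le_antisymm hle (not_lt.1 hnot)
  haveI : Nontrivial (Module.annihilator R (LocCoh.H (maximalIdeal R) n R)) := by
    rw [← Module.supportDim_ne_bot_iff_nontrivial R, heq]
    exact WithBot.coe_ne_bot
  have hnt := Groth.Agent.H2.LCNonvanishMod.nontrivial_H_supportDim R
    (Module.annihilator R (LocCoh.H (maximalIdeal R) n R)) n heq
  obtain ⟨e1⟩ := Groth.Agent.S11617.result R T (maximalIdeal R)
    (Module.annihilator R (LocCoh.H (maximalIdeal R) n R)) n
  have hnt2 : Nontrivial (TensorProduct R T (LocCoh.H (maximalIdeal R) n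
      (Module.annihilator R (LocCoh.H (maximalIdeal R) n R)))) :=
    (Module.FaithfullyFlat.nontrivial_tensorProduct_iff_right R T).2 hnt
  have hnt3 : Nontrivial (LocCoh.H ((maximalIdeal R).map (algebraMap R T)) n
      (TensorProduct R T (Module.annihilator R (LocCoh.H (maximalIdeal R) n R)))) :=
    e1.symm.toEquiv.nontrivial
  rw [← AdicCompletion.maximalIdeal_eq_map] at hnt3
  -- the injective map `T ⊗ a → Ann_T H^n(T)`
  let j : TensorProduct R T (Module.annihilator R (LocCoh.H (maximalIdeal R) n R)) →ₗ[T] T :=
    (TensorProduct.AlgebraTensorModule.rid R T T).toLinearMap ∘ₗ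
      ((Module.annihilator R (LocCoh.H (maximalIdeal R) n R)).subtype.baseChange T)
  have hjinj : Function.Injective j := by
    refine (TensorProduct.AlgebraTensorModule.rid R T T).injective.comp ?_
    exact Module.Flat.lTensor_preserves_injective_linearMap (M := T) _ (Submodule.injective_subtype _)
  have hjmem : ∀ w, j w ∈ Module.annihilator T (LocCoh.H (maximalIdeal T) n T) := by
    intro w
    induction w using TensorProduct.induction_on with
    | zero => rw [map_zero]; exact zero_mem _
    | tmul t x =>
      have h1 : j (t ⊗ₜ[R] x) = algebraMap R T (x : R) * t := by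
        show (TensorProduct.AlgebraTensorModule.rid R T T) (t ⊗ₜ[R] (x : R)) = _
        rw [TensorProduct.AlgebraTensorModule.rid_tmul, Algebra.smul_def]
      rw [h1]
      exact Ideal.mul_mem_right _ _ (algebraMap_mem_annihilator_completion R n x x.2)
    | add w₁ w₂ h₁ h₂ => rw [map_add]; exact add_mem h₁ h₂
  let ι : TensorProduct R T (Module.annihilator R (LocCoh.H (maximalIdeal R) n R)) →ₗ[T]
      Module.annihilator T (LocCoh.H (maximalIdeal T) n T) :=
    j.codRestrict _ hjmem
  have hιinj : Function.Injective ι := fun a b h => hjinj (congrArg Subtype.val h)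
  have hdimN : Module.supportDim T
      (TensorProduct R T (Module.annihilator R (LocCoh.H (maximalIdeal R) n R))) <
      (n : WithBot ℕ∞) := lt_of_le_of_lt (Module.supportDim_le_of_injective ι hιinj) hA
  rw [Module.supportDim_eq_ringKrullDim_quotient_annihilator] at hdimN
  have hvan := Groth.Agent.H2.LCNonvanishMod.subsingleton_H_of_killed_ideal' T
    (Module.annihilator T
      (TensorProduct R T (Module.annihilator R (LocCoh.H (maximalIdeal R) n R))))
    (TensorProduct R T (Module.annihilator R (LocCoh.H (maximalIdeal R) n R)))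
    (fun r hr x => Module.mem_annihilator.1 hr x) n (add_one_le_of_lt _ n hdimN)
  exact not_subsingleton _ hvan

end main

section assembly

variable (R : Type u) [CommRing R] [IsNoetherianRing R] [IsLocalRing R]

/-- `Ann K = Ann H^n_𝔪(R) = 𝔲`, the largest ideal of dimension `< n`. -/
theorem annihilator_canon_eq (n : ℕ) (hn : ringKrullDim R = n) (E : Type u) [AddCommGroup E]
    [Module R E] (f : ResidueField R →ₗ[R] E) (hf : InjHull.IsInjectiveHull f)
    (K : Type u) [AddCommGroup K] [Module R K] [Module.Finite R K]
    (eK : (K →ₗ[R] E) ≃ₗ[R] LocCoh.H (maximalIdeal R) n R) (𝔲 : Ideal R)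
    (hu : Module.supportDim R 𝔲 < n) (humax : ∀ b : Ideal R, Module.supportDim R b < n → b ≤ 𝔲) :
    Module.annihilator R K = 𝔲 ∧ Module.annihilator R (LocCoh.H (maximalIdeal R) n R) = 𝔲 := by
  have hAnn : Module.annihilator R K = Module.annihilator R (LocCoh.H (maximalIdeal R) n R) := by
    rw [Groth.Agent.H2.Matlis.annihilator_dual hf K, eK.annihilator_eq]
  have h3 : Module.annihilator R (LocCoh.H (maximalIdeal R) n R) ≤ 𝔲 :=
    humax _ (supportDim_ann_lt R n hn)
  have h2 : 𝔲 ≤ Module.annihilator R K := by
    have hdim : ringKrullDim (R ⧸ Module.annihilator R 𝔲) < (n : WithBot ℕ∞) := by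
      rw [← Module.supportDim_eq_ringKrullDim_quotient_annihilator]
      exact hu
    have hvan : Subsingleton (LocCoh.H (maximalIdeal R) n 𝔲) :=
      Groth.Agent.H2.LCNonvanishMod.subsingleton_H_of_killed_ideal' R (Module.annihilator R 𝔲) 𝔲
        (fun r hr x => Module.mem_annihilator.1 hr x) n (add_one_le_of_lt _ n hdim)
    have hhom : Subsingleton (𝔲 →ₗ[R] K) :=
      (Groth.Agent.H2.CanonMod.subsingleton_hom_iff n hn hf K eK 𝔲).2 hvan
    intro x hx
    rw [Module.mem_annihilator]
    intro k
    have h4 := congrArg (fun ψ : 𝔲 →ₗ[R] K => ψ ⟨x, hx⟩)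
      (Subsingleton.elim ((LinearMap.toSpanSingleton R K k).comp 𝔲.subtype) 0)
    simpa using h4
  exact ⟨le_antisymm (hAnn ▸ h3) h2, le_antisymm h3 (hAnn ▸ h2)⟩

end assembly

end Groth.Agent.H2.CanonAnn
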