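import Groth.Agent.H2.Matlis3
import Groth.Agent.S11662
import Groth.Agent.S11661
import Groth.Agent.S8925
import Mathlib.RingTheory.Henselian

/-!
# Matlis duality, part 4: recognising and transporting injective hulls of the residue field
-/

set_option autoImplicit false

universe u

namespace Groth.Agent.H2.Matlis

open Function IsLocalRing

section Transfer

variable {R : Type u} [CommRing R] {M M' E E' : Type u} [AddCommGroup M] [Module R M]
  [AddCommGroup M'] [Module R M'] [AddCommGroup E] [Module R E] [AddCommGroup E'] [Module R E']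

/-- Injective hulls are stable under isomorphisms of the source. -/
lemma isInjectiveHull_comp_equiv (g : M →ₗ[R] E) (hg : InjHull.IsInjectiveHull g)
    (e : M' ≃ₗ[R] M) : InjHull.IsInjectiveHull (g ∘ₗ e.toLinearMap) :=
  { injective := hg.injective.comp e.injective
    essential := fun N hN => by
      rw [LinearEquiv.range_comp]
      exact hg.essential N hN
    isInjective := hg.isInjective }

/-- Injectivity of modules is stable under isomorphisms. -/
lemma injective_of_equiv (e : E ≃ₗ[R] E') (h : Module.Injective R E) : Module.Injective R E' := by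
  refine ⟨fun X Y _ _ _ _ i hi g => ?_⟩
  obtain ⟨h', hh'⟩ := h.out i hi (e.symm.toLinearMap ∘ₗ g)
  refine ⟨e.toLinearMap ∘ₗ h', fun x => ?_⟩
  show e (h' (i x)) = g x
  rw [hh' x]
  exact e.apply_symm_apply (g x)

/-- Injective hulls are stable under isomorphisms of the target. -/
lemma isInjectiveHull_equiv_comp (g : M →ₗ[R] E) (hg : InjHull.IsInjectiveHull g)
    (e : E ≃ₗ[R] E') : InjHull.IsInjectiveHull (e.toLinearMap ∘ₗ g) :=
  { injective := e.injective.comp hg.injective
    essential := fun N hN => by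
      have hN' : N.comap e.toLinearMap ≠ ⊥ := by
        obtain ⟨y, hy, hy0⟩ := (Submodule.ne_bot_iff _).mp hN
        refine (Submodule.ne_bot_iff _).mpr ⟨e.symm y, ?_, ?_⟩
        · show e (e.symm y) ∈ N
          rw [e.apply_symm_apply]
          exact hy
        · intro h0
          apply hy0
          rw [← e.apply_symm_apply y, h0, map_zero]
      obtain ⟨x, hx, hx0⟩ := (Submodule.ne_bot_iff _).mp (hg.essential _ hN')
      obtain ⟨hx1, m, rfl⟩ := hx
      refine (Submodule.ne_bot_iff _).mpr ⟨e (g m), ⟨hx1, ⟨m, rfl⟩⟩, ?_⟩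
      intro h0
      apply hx0
      exact e.injective (h0.trans (map_zero e).symm)
    isInjective := injective_of_equiv e hg.isInjective }

end Transfer

section Lengths

variable {A : Type u} [CommRing A] [IsLocalRing A] [IsNoetherianRing A]

/-- A power torsion module with one-dimensional socle and the right lengths of `Hom(A/𝔞ₙ, -)`
is an injective hull of the residue field. -/
theorem exists_isInjectiveHull_of_lengths (I : Type u) [AddCommGroup I] [Module A I]
    (ha : LocCoh.IsPowerTorsion (maximalIdeal A) I)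
    (hb : Nonempty ((ResidueField A →ₗ[A] I) ≃ₗ[A] ResidueField A)) (a : ℕ → Ideal A)
    (hcof : ∀ n : ℕ, ∃ N : ℕ, maximalIdeal A ^ N ≤ a n)
    (hcof' : ∀ N : ℕ, ∃ n : ℕ, a n ≤ maximalIdeal A ^ N)
    (hlen : ∀ n : ℕ, Module.length A (A ⧸ a n) = Module.length A ((A ⧸ a n) →ₗ[A] I)) :
    ∃ f : ResidueField A →ₗ[A] I, InjHull.IsInjectiveHull f := by
  obtain ⟨E, hE1, hE2, fE, hfE⟩ := Groth.Agent.S0299.result A (ResidueField A)
  have hEinj := hfE.isInjective
  obtain ⟨eb⟩ := hb
  have hsimp : IsSimpleModule A (ResidueField A →ₗ[A] I) := IsSimpleModule.congr eb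
  have hnt := IsSimpleModule.nontrivial A (ResidueField A →ₗ[A] I)
  obtain ⟨φ₀, hφ₀⟩ := exists_ne (0 : ResidueField A →ₗ[A] I)
  have hφ₀inj : Injective φ₀ := (LinearMap.injective_or_eq_zero φ₀).resolve_right hφ₀
  obtain ⟨g, hg⟩ := Module.Injective.extension_property A E (ResidueField A) I φ₀ hφ₀inj fE
  have hgen : ∀ ψ : ResidueField A →ₗ[A] I, ∃ c : A, ψ = c • φ₀ := fun ψ => by
    obtain ⟨c, hc⟩ := IsSimpleModule.toSpanSingleton_surjective A hφ₀ ψ
    exact ⟨c, hc.symm⟩
  have hfE1 : fE 1 ≠ 0 := fun h0 =>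
    one_ne_zero (hfE.injective (h0.trans (map_zero fE).symm))
  have hginj : Injective g := by
    rw [injective_iff_map_eq_zero]
    intro x hx
    by_contra hx0
    obtain ⟨c, hcx, hkill⟩ := exists_smul_ne_zero_killed ha x hx0
    have hle : maximalIdeal A ≤ LinearMap.ker (LinearMap.toSpanSingleton A I (c • x)) :=
      fun b hb => hkill b hb
    let ψ : ResidueField A →ₗ[A] I :=
      (maximalIdeal A).liftQ (LinearMap.toSpanSingleton A I (c • x)) hle
    have hψ1 : ψ 1 = c • x := by
      show (1 : A) • (c • x) = c • x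
      exact one_smul _ _
    obtain ⟨d, hd⟩ := hgen ψ
    have h1 : c • x = d • φ₀ 1 := by
      rw [← hψ1, hd]
      rfl
    have h2 : d • fE 1 = 0 := by
      rw [← hg]
      show d • g (φ₀ 1) = 0
      rw [← map_smul, ← h1, map_smul, hx, smul_zero]
    by_cases hdu : IsUnit d
    · exact hfE1 (unit_smul_cancel hdu h2)
    · apply hcx
      rw [h1]
      exact maximalIdeal_smul_f φ₀ (mem_maximalIdeal_of_not_isUnit hdu) 1
  have hgsurj : Surjective g := by
    intro e
    obtain ⟨N, hN⟩ := (Groth.Agent.S0311.result A E fE hfE) e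
    obtain ⟨n, hn⟩ := hcof' N
    obtain ⟨N', hN'⟩ := hcof n
    have hfl : IsFiniteLength A (A ⧸ a n) := by
      have h1 := isFiniteLength_quotient_pow A N'
      have hsurj : Surjective (Submodule.mapQ (maximalIdeal A ^ N') (a n) LinearMap.id hN') := by
        intro y
        obtain ⟨r, rfl⟩ := Submodule.mkQ_surjective _ y
        exact ⟨Submodule.Quotient.mk r, rfl⟩
      exact Module.length_ne_top_iff.mp (ne_top_of_le_ne_top (Module.length_ne_top_iff.mpr h1)
        (Module.length_le_of_surjective _ hsurj))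
    have hΓinj : Injective (LinearMap.compRight A g :
        ((A ⧸ a n) →ₗ[A] I) →ₗ[A] ((A ⧸ a n) →ₗ[A] E)) := by
      intro χ χ' h
      refine LinearMap.ext fun y => hginj ?_
      exact LinearMap.congr_fun h y
    have hl1 : Module.length A ((A ⧸ a n) →ₗ[A] I) ≠ ⊤ := by
      rw [← hlen n]
      exact Module.length_ne_top_iff.mpr hfl
    have hl2 : Module.length A ((A ⧸ a n) →ₗ[A] E) = Module.length A ((A ⧸ a n) →ₗ[A] I) := by
      rw [length_dual hfE _ hfl, hlen n]
    have hΓsurj := surjective_of_injective_of_length_eq _ hΓinj hl1 hl2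
    have hle : a n ≤ LinearMap.ker (LinearMap.toSpanSingleton A E e) :=
      fun b hb => hN b (hn hb)
    obtain ⟨χ, hχ⟩ := hΓsurj ((a n).liftQ (LinearMap.toSpanSingleton A E e) hle)
    refine ⟨χ (Submodule.Quotient.mk 1), ?_⟩
    have := LinearMap.congr_fun hχ (Submodule.Quotient.mk 1)
    refine this.trans ?_
    show (1 : A) • e = e
    exact one_smul _ _
  let eg : I ≃ₗ[A] E := LinearEquiv.ofBijective g ⟨hginj, hgsurj⟩
  have hcomp : eg.symm.toLinearMap ∘ₗ fE = φ₀ := by
    refine LinearMap.ext fun t => ?_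
    show eg.symm (fE t) = φ₀ t
    rw [LinearEquiv.symm_apply_eq, ← hg]
    rfl
  exact ⟨φ₀, hcomp ▸ isInjectiveHull_equiv_comp fE hfE eg.symm⟩

/-- The annihilator of `a` in the hull is the hull over the quotient ring. -/
theorem exists_isInjectiveHull_torsionBy_quotient (a : Ideal A) [IsLocalRing (A ⧸ a)]
    {E : Type u} [AddCommGroup E] [Module A E] (f : ResidueField A →ₗ[A] E)
    (hf : InjHull.IsInjectiveHull f) :
    ∃ g : ResidueField (A ⧸ a) →ₗ[A ⧸ a] (LocCoh.torsionBy a E), InjHull.IsInjectiveHull g := by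
  have hane : a ≠ ⊤ := Ideal.Quotient.nontrivial_iff.mp inferInstance
  have hale : a ≤ maximalIdeal A := IsLocalRing.le_maximalIdeal hane
  have hloc : IsLocalHom (Ideal.Quotient.mk a) := isLocalHom_of_le_jacobson_bot a (by
    rw [IsLocalRing.jacobson_eq_maximalIdeal ⊥ bot_ne_top]
    exact hale)
  let t : A →ₗ[A] ResidueField (A ⧸ a) := LinearMap.toSpanSingleton A _ 1
  have ht : ∀ r, t r = residue (A ⧸ a) (Ideal.Quotient.mk a r) := fun r => by
    show r • (1 : ResidueField (A ⧸ a)) = _
    rw [Algebra.smul_def, mul_one]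
    rfl
  have hle : maximalIdeal A ≤ LinearMap.ker t := fun r hr => by
    rw [LinearMap.mem_ker, ht, IsLocalRing.residue_eq_zero_iff, IsLocalRing.mem_maximalIdeal,
      mem_nonunits_iff]
    intro hu
    exact (IsLocalRing.mem_maximalIdeal r).mp hr (hloc.map_nonunit r hu)
  let h₀ : ResidueField A →ₗ[A] ResidueField (A ⧸ a) := (maximalIdeal A).liftQ t hle
  have h₀1 : h₀ 1 = 1 := by
    show (1 : A) • (1 : ResidueField (A ⧸ a)) = 1
    exact one_smul _ _
  have h₀inj : Injective h₀ := (LinearMap.injective_or_eq_zero h₀).resolve_right (fun h0 => by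
    have := LinearMap.congr_fun h0 1
    rw [h₀1, LinearMap.zero_apply] at this
    exact one_ne_zero this)
  have h₀surj : Surjective h₀ := fun y => by
    obtain ⟨z, rfl⟩ := IsLocalRing.residue_surjective y
    obtain ⟨r, rfl⟩ := Ideal.Quotient.mk_surjective z
    exact ⟨IsLocalRing.residue A r, ht r⟩
  let e : ResidueField (A ⧸ a) ≃ₗ[A] ResidueField A :=
    (LinearEquiv.ofBijective h₀ ⟨h₀inj, h₀surj⟩).symm
  have hf' := isInjectiveHull_comp_equiv f hf e
  obtain ⟨g, hg, -⟩ := Groth.Agent.S11662.result A a (ResidueField (A ⧸ a)) E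
    (f ∘ₗ e.toLinearMap) hf'
  exact ⟨g, hg⟩

end Lengths

section Restrict

variable {R S : Type u} [CommRing R] [CommRing S] [IsLocalRing R] [IsLocalRing S]
  [IsNoetherianRing R] [IsNoetherianRing S] [Algebra R S] [IsLocalHom (algebraMap R S)]
  [Module.Flat R S]

/-- Restriction of scalars of the hull along a flat local map with `𝔪_R S = 𝔪_S` and the same
residue field. -/
theorem exists_isInjectiveHull_restrictScalars
    (hm : (maximalIdeal R).map (algebraMap R S) = maximalIdeal S)
    (hk : Surjective (IsLocalRing.ResidueField.map (algebraMap R S)))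
    {E : Type u} [AddCommGroup E] [Module S E] [Module R E] [IsScalarTower R S E]
    (f : ResidueField S →ₗ[S] E) (hf : InjHull.IsInjectiveHull f) :
    ∃ g : ResidueField R →ₗ[R] E, InjHull.IsInjectiveHull g := by
  have := hf.isInjective
  have hinj : Module.Injective R E := Groth.Agent.S8925.result R S E
  have hptS := Groth.Agent.S0311.result S E f hf
  have hpt : LocCoh.IsPowerTorsion (maximalIdeal R) E := fun e => by
    obtain ⟨n, hn⟩ := hptS e
    refine ⟨n, fun a ha => ?_⟩
    rw [← algebraMap_smul S a e]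
    apply hn
    rw [← hm, ← Ideal.map_pow]
    exact Ideal.mem_map_of_mem _ ha
  have hsoc : ∀ x : E, (∀ a ∈ maximalIdeal R, a • x = 0) → ∃ r : R, x = r • f 1 := by
    intro x hx
    have hxS' : ∀ b : S, b ∈ Submodule.span S (algebraMap R S '' (maximalIdeal R : Set R)) →
        b • x = 0 := by
      intro b hb'
      induction hb' using Submodule.span_induction with
      | mem y hy =>
        obtain ⟨a, ha, rfl⟩ := hy
        rw [algebraMap_smul]
        exact hx a ha
      | zero => exact zero_smul _ _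
      | add y z _ _ hy hz => rw [add_smul, hy, hz, add_zero]
      | smul s y _ hy => rw [smul_eq_mul, mul_smul, hy, smul_zero]
    have hxS : ∀ b ∈ maximalIdeal S, b • x = 0 := by
      intro b hb
      rw [← hm] at hb
      exact hxS' b hb
    obtain ⟨t, rfl⟩ := socle hf x hxS
    obtain ⟨ū, rfl⟩ := hk t
    obtain ⟨u, rfl⟩ := IsLocalRing.residue_surjective ū
    refine ⟨u, ?_⟩
    rw [IsLocalRing.ResidueField.map_residue, ← algebraMap_smul S u (f 1), ← map_smul]
    congr 1
    rw [Algebra.smul_def, mul_one, IsLocalRing.ResidueField.algebraMap_eq]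
  have hf1 : f 1 ≠ 0 := fun h0 => one_ne_zero (hf.injective (h0.trans (map_zero f).symm))
  have hkill1 : ∀ a ∈ maximalIdeal R, a • f 1 = 0 := fun a ha => by
    rw [← algebraMap_smul S a (f 1)]
    apply maximalIdeal_smul_f f
    rw [← hm]
    exact Ideal.mem_map_of_mem _ ha
  let φ₀ : ResidueField R →ₗ[R] E :=
    (maximalIdeal R).liftQ (LinearMap.toSpanSingleton R E (f 1)) (fun a ha => hkill1 a ha)
  have hφ₀1 : φ₀ 1 = f 1 := by
    show (1 : R) • f 1 = f 1
    exact one_smul _ _
  have hval : ∀ (ψ : ResidueField R →ₗ[R] E) (r : R), ψ (residue R r) = r • ψ 1 := fun ψ r => by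
    rw [← map_smul]
    congr 1
    rw [Algebra.smul_def, mul_one, IsLocalRing.ResidueField.algebraMap_eq]
  have hsocψ : ∀ ψ : ResidueField R →ₗ[R] E, ∀ a ∈ maximalIdeal R, a • ψ 1 = 0 :=
    fun ψ a ha => maximalIdeal_smul_f ψ ha 1
  apply isInjectiveHull_of_simple_dual hinj hpt
  rw [isSimpleModule_iff_toSpanSingleton_surjective]
  refine ⟨⟨⟨φ₀, 0, fun h0 => hf1 (by rw [← hφ₀1, h0, LinearMap.zero_apply])⟩⟩, fun ψ hψ χ => ?_⟩
  obtain ⟨r₁, h₁⟩ := hsoc (ψ 1) (hsocψ ψ)
  obtain ⟨r₂, h₂⟩ := hsoc (χ 1) (hsocψ χ)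
  have hr₁ : IsUnit r₁ := by
    by_contra hnu
    apply hψ
    refine LinearMap.ext fun t => ?_
    obtain ⟨r, rfl⟩ := IsLocalRing.residue_surjective t
    rw [hval, h₁, hkill1 r₁ (mem_maximalIdeal_of_not_isUnit hnu), smul_zero, LinearMap.zero_apply]
  obtain ⟨u, rfl⟩ := hr₁
  refine ⟨r₂ * ↑u⁻¹, ?_⟩
  refine LinearMap.ext fun t => ?_
  obtain ⟨r, rfl⟩ := IsLocalRing.residue_surjective t
  show ((r₂ * ↑u⁻¹) • ψ) (residue R r) = χ (residue R r)
  rw [LinearMap.smul_apply, hval, hval, h₁, h₂, smul_smul, smul_smul, smul_smul]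
  congr 1
  calc r₂ * ↑u⁻¹ * r * ↑u = r₂ * r * (↑u⁻¹ * ↑u) := by ring
    _ = r * r₂ := by rw [Units.inv_mul, mul_one, mul_comm]

end Restrict

section Maximal

/-- Over the localization at a maximal ideal, a power torsion Artinian module is Artinian over the
base ring. -/
theorem isArtinian_restrictScalars_of_localization {R : Type u} [CommRing R] (m : Ideal R)
    [hmax : m.IsMaximal] (R' : Type u) [CommRing R'] [Algebra R R'] [IsLocalization.AtPrime R' m]
    [IsLocalRing R'] (E' : Type u) [AddCommGroup E'] [Module R E'] [Module R' E']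
    [IsScalarTower R R' E'] (hpt : LocCoh.IsPowerTorsion (maximalIdeal R') E')
    [IsArtinian R' E'] : IsArtinian R E' := by
  have hclosed : ∀ (N : Submodule R E') (z : R') (x : E'), x ∈ N → z • x ∈ N := by
    intro N z x hx
    obtain ⟨a, s, rfl⟩ := IsLocalization.exists_mk'_eq m.primeCompl z
    obtain ⟨n, hn⟩ := hpt x
    have hs : (s : R) ∉ m := s.2
    obtain ⟨y, i, hi, hyi⟩ := hmax.exists_inv hs
    have hc : IsCoprime i (s : R) := ⟨1, y, by rw [one_mul, add_comm]; exact hyi⟩
    obtain ⟨a', b', hab⟩ := hc.pow_left (m := n)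
    have h1 : (a' * i ^ n) • x = 0 := by
      rw [← algebraMap_smul R' (a' * i ^ n) x]
      apply hn
      rw [← IsLocalization.AtPrime.map_eq_maximalIdeal m R', ← Ideal.map_pow]
      exact Ideal.mem_map_of_mem _ (Ideal.mul_mem_left _ _ (Ideal.pow_mem_pow hi n))
    have hx1 : x = (b' * (s : R)) • x := by
      calc x = (1 : R) • x := (one_smul _ _).symm
        _ = (a' * i ^ n + b' * (s : R)) • x := by rw [hab]
        _ = (b' * (s : R)) • x := by rw [add_smul, h1, zero_add]
    have hx2 : IsLocalization.mk' R' a s • x = (b' * a) • x := by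
      conv_lhs => rw [hx1]
      rw [← algebraMap_smul R' (b' * (s : R)) x, smul_smul, ← algebraMap_smul R' (b' * a) x]
      congr 1
      rw [map_mul, map_mul, mul_left_comm, IsLocalization.mk'_spec]
    rw [hx2]
    exact N.smul_mem _ hx
  let φ : Submodule R E' → Submodule R' E' := fun N =>
    { carrier := N
      add_mem' := N.add_mem
      zero_mem' := N.zero_mem
      smul_mem' := fun z x hx => hclosed N z x hx }
  have hφ : StrictMono φ := fun N N' h =>
    lt_of_le_of_ne (fun x hx => h.le hx) (fun heq => h.ne (SetLike.ext fun x =>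
      SetLike.ext_iff.mp heq x))
  exact hφ.wellFoundedLT

/-- Auxiliary: hulls of `R' ⧸ I` with `I` the maximal ideal. -/
lemma hull_quotient_aux {R' : Type u} [CommRing R'] [IsLocalRing R'] [IsNoetherianRing R']
    (I : Ideal R') (hI : I = maximalIdeal R') {E' : Type u} [AddCommGroup E'] [Module R' E']
    (g : (R' ⧸ I) →ₗ[R'] E') (hg : InjHull.IsInjectiveHull g) :
    IsArtinian R' E' ∧ LocCoh.IsPowerTorsion (maximalIdeal R') E' := by
  subst hI
  let e : ResidueField R' ≃ₗ[R'] R' ⧸ maximalIdeal R' := LinearEquiv.refl R' _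
  have hg' := isInjectiveHull_comp_equiv g hg e
  exact ⟨isArtinian_hull hg', Groth.Agent.S0311.result R' E' _ hg'⟩

/-- The hull of `R ⧸ m` for a maximal ideal `m` of a Noetherian ring is Artinian. -/
theorem isArtinian_hull_quotient_maximal {R : Type u} [CommRing R] [IsNoetherianRing R]
    (m : Ideal R) [m.IsMaximal] {E : Type u} [AddCommGroup E] [Module R E]
    (f : (R ⧸ m) →ₗ[R] E) (hf : InjHull.IsInjectiveHull f) : IsArtinian R E := by
  obtain ⟨-, h2⟩ := Groth.Agent.S11661.result R m.primeCompl m E f hf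
  obtain ⟨hbij, g, hg⟩ := h2 (Set.disjoint_left.mpr fun x hx hxS => hxS hx)
  have hmap : m.map (algebraMap R (Localization m.primeCompl)) =
      maximalIdeal (Localization m.primeCompl) :=
    IsLocalization.AtPrime.map_eq_maximalIdeal m _
  obtain ⟨hart, hpt⟩ := hull_quotient_aux _ hmap g hg
  have : IsArtinian R (LocalizedModule m.primeCompl E) :=
    isArtinian_restrictScalars_of_localization m (Localization m.primeCompl) _ hpt
  exact isArtinian_of_injective (LocalizedModule.mkLinearMap m.primeCompl E) hbij.1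

end Maximal

end Groth.Agent.H2.Matlis
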