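import Groth.Agent.H2.CanonCM
import Groth.Agent.H72.LCRep
import Groth.Agent.S7703

/-!
# Helper library (helper2): the type of the canonical module of a CM local ring is one, and the
type of the ring is the minimal number of generators of the canonical module.
-/

set_option autoImplicit false
universe u

namespace Groth.Agent.H2.CanonType

open CategoryTheory CategoryTheory.Abelian IsLocalRing TensorProduct Groth.Agent.H58.LC

variable (R : Type u) [CommRing R] [LocCoh.IsCohenMacaulayLocalRing R] (n : ℕ)
  (hn : ringKrullDim R = n)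
  (E : Type u) [AddCommGroup E] [Module R E] (f : ResidueField R →ₗ[R] E)
  (hf : InjHull.IsInjectiveHull f) (K : Type u) [AddCommGroup K] [Module R K] [Module.Finite R K]
  (eK : (K →ₗ[R] E) ≃ₗ[R] LocCoh.H (maximalIdeal R) n R)

/-- the residue field as a quotient module -/
noncomputable def resEquiv (A : Type u) [CommRing A] [IsLocalRing A] :
    ResidueField A ≃ₗ[A] (A ⧸ maximalIdeal A) where
  toFun := id
  invFun := id
  map_add' _ _ := rfl
  map_smul' _ _ := rfl
  left_inv _ := rfl
  right_inv _ := rfl

omit [LocCoh.IsCohenMacaulayLocalRing R] in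
lemma pow_le_annihilator_residue [IsLocalRing R] :
    maximalIdeal R ^ 1 ≤ Module.annihilator R (ResidueField R) := by
  rw [pow_one]
  intro a ha
  rw [Module.mem_annihilator]
  intro x
  obtain ⟨y, rfl⟩ := IsLocalRing.residue_surjective x
  rw [Algebra.smul_def]
  show residue R a * residue R y = 0
  rw [(IsLocalRing.residue_eq_zero_iff a).mpr ha, zero_mul]

include hn hf eK in
/-- **The type of the canonical module is one.** -/
theorem length_ext_residue_canon :
    Module.length R (Ext.{u} (ModuleCat.of R (ResidueField R)) (ModuleCat.of R K) n) = 1 := by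
  haveI := Groth.Agent.H2.CanonMod.nontrivial_K n hn hf K eK
  have hvan : ∀ i, i < n → Subsingleton (LocCoh.H (maximalIdeal R) i K) := by
    intro i hi
    refine subsingleton_H_of_lt_idealDepth (maximalIdeal R) K n ?_
      (Groth.Agent.H29.maximalIdeal_smul_top_ne_top R K) i hi
    have h1 := Groth.Agent.H2.CanonCM.depth_K R n hn E f hf K eK
    exact le_of_eq h1.symm
  obtain ⟨e1⟩ := Groth.Agent.H72.LCRep.rep (maximalIdeal R) (ResidueField R) 1
    (pow_le_annihilator_residue R) n K hvan
  obtain ⟨e2⟩ := Groth.Agent.S7698.result R n hn E f hf K eK K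
  let e3 : R ≃ₗ[R] (K →ₗ[R] K) :=
    LinearEquiv.ofBijective (LinearMap.toSpanSingleton R (K →ₗ[R] K) LinearMap.id)
      (Groth.Agent.S7703.result R n hn E f hf K eK)
  let e4 : ((K →ₗ[R] K) →ₗ[R] E) ≃ₗ[R] (R →ₗ[R] E) := LinearEquiv.congrLeft E R e3.symm
  let e5 : (R →ₗ[R] E) ≃ₗ[R] E := LinearMap.ringLmapEquivSelf R R E
  let e6 : (ResidueField R →ₗ[R] LocCoh.H (maximalIdeal R) n K) ≃ₗ[R] (ResidueField R →ₗ[R] E) :=
    LinearEquiv.congrRight (e2.trans (e4.trans e5))
  haveI : IsSimpleModule R (ResidueField R) := by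
    rw [isSimpleModule_iff_quot_maximal]
    exact ⟨maximalIdeal R, inferInstance, ⟨(resEquiv R)⟩⟩
  haveI := Groth.Agent.H2.Matlis.simple_dual hf (ResidueField R)
  rw [← e1.length_eq, e6.length_eq]
  exact Module.length_eq_one R _

include hn hf eK in
/-- **The type of a CM local ring is the minimal number of generators of its canonical module.** -/
theorem length_ext_residue_self (G : Type u) [AddCommGroup G] [Module R G] (eG : G ≃ₗ[R] R) :
    Module.length R (Ext.{u} (ModuleCat.of R (ResidueField R)) (ModuleCat.of R G) n) =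
      (Module.finrank (ResidueField R) (ResidueField R ⊗[R] K) : ℕ∞) := by
  have hvan : ∀ i, i < n → Subsingleton (LocCoh.H (maximalIdeal R) i G) := by
    intro i hi
    haveI := Groth.Agent.H2.CanonCM.hself R n hn i hi.ne
    exact (Hcongr (maximalIdeal R) i eG).toEquiv.subsingleton
  obtain ⟨e1⟩ := Groth.Agent.H72.LCRep.rep (maximalIdeal R) (ResidueField R) 1
    (pow_le_annihilator_residue R) n G hvan
  let e2 : LocCoh.H (maximalIdeal R) n G ≃ₗ[R] (K →ₗ[R] E) :=
    (Hcongr (maximalIdeal R) n eG).trans eK.symm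
  let e3 : (ResidueField R →ₗ[R] LocCoh.H (maximalIdeal R) n G) ≃ₗ[R]
      (ResidueField R →ₗ[R] K →ₗ[R] E) := LinearEquiv.congrRight e2
  let e4 : (ResidueField R →ₗ[R] K →ₗ[R] E) ≃ₗ[R] (ResidueField R ⊗[R] K →ₗ[R] E) :=
    TensorProduct.lift.equiv (RingHom.id R) (ResidueField R) K E
  have hlen : Module.length R (ResidueField R ⊗[R] K) =
      (Module.finrank (ResidueField R) (ResidueField R ⊗[R] K) : ℕ∞) :=
    (Module.length_eq_of_surjective (S := R) (R := ResidueField R)
      (M := ResidueField R ⊗[R] K) IsLocalRing.residue_surjective).trans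
      (Module.length_eq_finrank (ResidueField R) (ResidueField R ⊗[R] K))
  have hfl : IsFiniteLength R (ResidueField R ⊗[R] K) := by
    rw [← Module.length_ne_top_iff, hlen]
    exact ENat.natCast_ne_top _
  rw [← e1.length_eq, e3.length_eq, e4.length_eq,
    Groth.Agent.H2.Matlis.length_dual hf _ hfl, hlen]

end Groth.Agent.H2.CanonType
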