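import Groth.Agent.H2.FlatLocal
import Mathlib.Algebra.Homology.ShortComplex.ModuleCat
import Mathlib.Algebra.Homology.ShortComplex.HomologicalComplex
import Mathlib.Algebra.Homology.Additive
import Mathlib.Algebra.Category.ModuleCat.Monoidal.Basic
import Mathlib.Algebra.Category.ModuleCat.Kernels
import Mathlib.Algebra.Category.ModuleCat.ChangeOfRings
import Mathlib.Algebra.Category.ModuleCat.Abelian
import Mathlib.LinearAlgebra.TensorProduct.RightExactness
import Mathlib.RingTheory.TensorProduct.Basic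

/-!
# Exactness of complexes of flat modules from exactness modulo the maximal ideal
-/

set_option autoImplicit false

universe u

namespace Groth.Agent.H2

open CategoryTheory IsLocalRing TensorProduct

section Concrete

variable {R S : Type u} [CommRing R] [CommRing S] [IsLocalRing R] [IsLocalRing S]
  [IsNoetherianRing S] [Algebra R S] [IsLocalHom (algebraMap R S)]
  {F₂ F₁ F₀ : Type u} [AddCommGroup F₂] [AddCommGroup F₁] [AddCommGroup F₀] [Module S F₂]
  [Module S F₁] [Module S F₀] [Module R F₁] [Module R F₀] [IsScalarTower R S F₁]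
  [IsScalarTower R S F₀]

/-- Three-term version: exactness modulo `𝔪_R` in the middle gives exactness and a flat
cokernel. -/
theorem exact_and_flat_coker [Module.Finite S F₁] [Module.Flat R F₀] (d₂ : F₂ →ₗ[S] F₁)
    (d₁ : F₁ →ₗ[S] F₀) (hd : ∀ w, d₁ (d₂ w) = 0)
    (hex : ∀ y : F₁, d₁ y ∈ maximalIdeal R • (⊤ : Submodule R F₀) →
      ∃ w : F₂, y - d₂ w ∈ maximalIdeal R • (⊤ : Submodule R F₁)) :
    (∀ y, d₁ y = 0 → ∃ w, d₂ w = y) ∧ Module.Flat R (F₀ ⧸ LinearMap.range d₁) := by
  have hle : LinearMap.range d₂ ≤ LinearMap.ker d₁ := by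
    rintro _ ⟨w, rfl⟩
    exact hd w
  let u : (F₁ ⧸ LinearMap.range d₂) →ₗ[R] F₀ :=
    ((LinearMap.range d₂).liftQ d₁ hle).restrictScalars R
  have hu : ∀ n, u n ∈ maximalIdeal R • (⊤ : Submodule R F₀) →
      n ∈ maximalIdeal R • (⊤ : Submodule R (F₁ ⧸ LinearMap.range d₂)) := by
    intro n hn
    obtain ⟨y, rfl⟩ := Submodule.mkQ_surjective _ n
    obtain ⟨w, hw⟩ := hex y hn
    have h1 : (LinearMap.range d₂).mkQ y = (LinearMap.range d₂).mkQ (y - d₂ w) := by
      rw [map_sub, Submodule.mkQ_apply _ (d₂ w),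
        (Submodule.Quotient.mk_eq_zero _).mpr (LinearMap.mem_range_self d₂ w), sub_zero]
    rw [h1]
    exact map_mem_smul_top (((LinearMap.range d₂).mkQ).restrictScalars R) _ hw
  obtain ⟨hinj, hflat⟩ := injective_and_flat_coker S u hu
  constructor
  · intro y hy
    have h0 : (LinearMap.range d₂).mkQ y = 0 := hinj (by rw [map_zero]; exact hy)
    obtain ⟨w, hw⟩ := (Submodule.Quotient.mk_eq_zero _).mp h0
    exact ⟨w, hw⟩
  · have hrange : LinearMap.range u = (LinearMap.range d₁).restrictScalars R := by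
      ext x
      constructor
      · rintro ⟨n, rfl⟩
        obtain ⟨y, rfl⟩ := Submodule.mkQ_surjective _ n
        exact ⟨y, rfl⟩
      · rintro ⟨y, rfl⟩
        exact ⟨(LinearMap.range d₂).mkQ y, rfl⟩
    let e : (F₀ ⧸ LinearMap.range u) ≃ₗ[R] (F₀ ⧸ LinearMap.range d₁) :=
      (Submodule.quotEquivOfEq _ _ hrange).trans
        (Submodule.Quotient.restrictScalarsEquiv R (LinearMap.range d₁))
    exact Module.Flat.of_linearEquiv e.symm

omit [IsLocalRing R] [IsLocalRing S] [IsNoetherianRing S] [IsLocalHom (algebraMap R S)] in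
/-- Membership in `𝔞S • ⊤` and in `𝔞 • ⊤` agree. -/
lemma mem_map_smul_top_iff (𝔞 : Ideal R) (y : F₁) :
    y ∈ 𝔞.map (algebraMap R S) • (⊤ : Submodule S F₁) ↔ y ∈ 𝔞 • (⊤ : Submodule R F₁) := by
  have h := Ideal.smul_restrictScalars (R := R) (S := S) 𝔞 (⊤ : Submodule S F₁)
  rw [Submodule.restrictScalars_top] at h
  rw [← h, Submodule.restrictScalars_mem]

omit [IsLocalRing R] [IsLocalRing S] [IsNoetherianRing S] [IsLocalHom (algebraMap R S)]
  [Module R F₀] [IsScalarTower R S F₀] [Module R F₁] [IsScalarTower R S F₁] [Algebra R S] in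
/-- Exactness after tensoring with `S ⧸ J`, in elementary terms. -/
lemma exact_mod_of_lTensor_exact (J : Ideal S) (d₂ : F₂ →ₗ[S] F₁) (d₁ : F₁ →ₗ[S] F₀)
    (h : ∀ z : (S ⧸ J) ⊗[S] F₁, (d₁.lTensor (S ⧸ J)) z = 0 →
      ∃ x : (S ⧸ J) ⊗[S] F₂, (d₂.lTensor (S ⧸ J)) x = z) (y : F₁)
    (hy : d₁ y ∈ J • (⊤ : Submodule S F₀)) :
    ∃ w : F₂, y - d₂ w ∈ J • (⊤ : Submodule S F₁) := by
  have h1 : (d₁.lTensor (S ⧸ J)) ((1 : S ⧸ J) ⊗ₜ[S] y) = 0 := by
    rw [LinearMap.lTensor_tmul]
    rw [← LinearMap.ker_tensorProductMk, LinearMap.mem_ker] at hy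
    exact hy
  obtain ⟨x, hx⟩ := h _ h1
  obtain ⟨w, rfl⟩ := TensorProduct.mk_surjective S F₂ (S ⧸ J)
    (Ideal.Quotient.mk_surjective (I := J)) x
  refine ⟨w, ?_⟩
  rw [← LinearMap.ker_tensorProductMk (Q := F₁) (I := J), LinearMap.mem_ker, map_sub, sub_eq_zero]
  rw [TensorProduct.mk_apply, LinearMap.lTensor_tmul] at hx
  exact hx.symm

end Concrete

section Complex

variable {R S : Type u} [CommRing R] [CommRing S] [IsLocalRing R] [IsLocalRing S]
  [IsNoetherianRing R] [IsNoetherianRing S] [Algebra R S] [IsLocalHom (algebraMap R S)]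

/-- The `R`-module structure on an `S`-module by restriction of scalars. -/
@[reducible] def instModRes (M : ModuleCat.{u} S) : Module R M :=
  Module.compHom M (algebraMap R S)

attribute [local instance] instModRes

omit [IsLocalRing R] [IsLocalRing S] [IsNoetherianRing R] [IsNoetherianRing S]
  [IsLocalHom (algebraMap R S)] in
lemma instTowerRes (M : ModuleCat.{u} S) : IsScalarTower R S M :=
  IsScalarTower.of_algebraMap_smul fun _ _ => rfl

attribute [local instance] instTowerRes

/-- A bounded complex of finite `S`-modules flat over `R` which is exact modulo `𝔪_R` in positive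
degrees is exact in positive degrees, and its `H₀` is flat over `R`. -/
theorem complex_exact_and_flat (C : ChainComplex (ModuleCat.{u} S) ℕ) (e : ℕ)
    (hzero : ∀ j, e < j → Limits.IsZero (C.X j)) (hfin : ∀ j, Module.Finite S (C.X j))
    (hflat : ∀ j, Module.Flat R (C.X j))
    (hex : ∀ j, 1 ≤ j → j ≤ e →
      (((MonoidalCategory.tensorLeft
          (ModuleCat.of S (S ⧸ (IsLocalRing.maximalIdeal R).map (algebraMap R S)))).mapHomologicalComplex
          (ComplexShape.down ℕ)).obj C).ExactAt j) :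
    (∀ j, 1 ≤ j → j ≤ e → C.ExactAt j) ∧ Module.Flat R (C.homology 0) := by
  have key : ∀ i : ℕ, (∀ y : C.X (i + 1), (C.d (i + 1) i).hom y = 0 →
      ∃ w : C.X (i + 2), (C.d (i + 2) (i + 1)).hom w = y) ∧
      Module.Flat R (C.X i ⧸ LinearMap.range (C.d (i + 1) i).hom) := by
    intro i
    have := hfin (i + 1)
    have := hflat i
    have hd : ∀ w : C.X (i + 2), (C.d (i + 1) i).hom ((C.d (i + 2) (i + 1)).hom w) = 0 := by
      intro w
      have h := ConcreteCategory.congr_hom (C.d_comp_d (i + 2) (i + 1) i) w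
      exact h
    refine exact_and_flat_coker (R := R) (C.d (i + 2) (i + 1)).hom (C.d (i + 1) i).hom hd ?_
    by_cases hi : i + 1 ≤ e
    · have h1 := hex (i + 1) (Nat.le_add_left 1 i) hi
      rw [HomologicalComplex.exactAt_iff' _ (i + 2) (i + 1) i (by simp) (by simp),
        ShortComplex.moduleCat_exact_iff] at h1
      intro y hy
      rw [← mem_map_smul_top_iff (S := S)] at hy
      obtain ⟨w, hw⟩ := exact_mod_of_lTensor_exact
        ((IsLocalRing.maximalIdeal R).map (algebraMap R S))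
        (C.d (i + 2) (i + 1)).hom (C.d (i + 1) i).hom (fun z hz => h1 z hz) y hy
      exact ⟨w, (mem_map_smul_top_iff (S := S) _ _).mp hw⟩
    · have hsub : Subsingleton (C.X (i + 1)) :=
        ModuleCat.subsingleton_of_isZero (hzero (i + 1) (not_le.mp hi))
      intro y _
      refine ⟨0, ?_⟩
      rw [Subsingleton.elim (y - (C.d (i + 2) (i + 1)).hom 0) 0]
      exact Submodule.zero_mem _
  constructor
  · intro j hj1 hje
    obtain ⟨i, rfl⟩ := Nat.exists_eq_succ_of_ne_zero (Nat.one_le_iff_ne_zero.mp hj1)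
    rw [HomologicalComplex.exactAt_iff' _ (i + 2) (i + 1) i (by simp) (by simp),
      ShortComplex.moduleCat_exact_iff]
    exact fun y hy => (key i).1 y hy
  · have hflat0 := (key 0).2
    let iso : C.homology 0 ≅ ModuleCat.of S (C.X 0 ⧸ LinearMap.range (C.d 1 0).hom) :=
      C.isoHomologyι₀ ≪≫
        (Limits.IsColimit.coconePointUniqueUpToIso (C.opcyclesIsCokernel 1 0 (by simp))
          (Limits.cokernelIsCokernel (C.d 1 0))) ≪≫
        ModuleCat.cokernelIsoRangeQuotient (C.d 1 0)
    exact Module.Flat.of_linearEquiv (iso.toLinearEquiv.restrictScalars R)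

end Complex

end Groth.Agent.H2
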