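import Groth.Agent.H2.ComplexFlat
import Mathlib.RingTheory.Flat.Equalizer
import Mathlib.RingTheory.LocalRing.ResidueField.Basic

/-!
# Nilpotent-maximal-ideal variants of the lemmas in `FlatLocal` and `ComplexFlat`

Over a local ring whose maximal ideal is nilpotent no finiteness hypotheses are needed.
-/

set_option autoImplicit false

universe u

namespace Groth.Agent.H2

open CategoryTheory IsLocalRing TensorProduct

section Nilp

variable {R : Type*} [CommRing R] [IsLocalRing R]
  {M N : Type*} [AddCommGroup M] [Module R M] [AddCommGroup N] [Module R N]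

/-- `u : N → M`, `M` flat, `u ⊗ k` injective, `𝔪` nilpotent: `u` is injective with flat cokernel. -/
theorem injective_and_flat_coker_nilp [Module.Flat R M] (k : ℕ) (hk : maximalIdeal R ^ k = ⊥)
    (u : N →ₗ[R] M)
    (hu : ∀ y, u y ∈ maximalIdeal R • (⊤ : Submodule R M) →
      y ∈ maximalIdeal R • (⊤ : Submodule R N)) :
    Function.Injective u ∧ Module.Flat R (M ⧸ LinearMap.range u) := by
  have hA : ∀ (I : Ideal R) (x : N), u x ∈ I • (⊤ : Submodule R M) →
      x ∈ I • (⊤ : Submodule R N) := by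
    intro I x hx
    have h := stepP u hu I k x (by rw [hk, sup_bot_eq]; exact hx)
    rwa [hk, sup_bot_eq] at h
  have hinj : Function.Injective u := by
    rw [← LinearMap.ker_eq_bot, LinearMap.ker_eq_bot']
    intro x hx
    have := hA ⊥ x (by rw [hx]; exact Submodule.zero_mem _)
    rwa [Submodule.bot_smul, Submodule.mem_bot] at this
  refine ⟨hinj, ?_⟩
  rw [Module.Flat.iff_lTensor_injective']
  intro I
  exact lTensor_injective_of_exact_of_exact_of_rTensor_injective
    (f₁ := u) (f₂ := (LinearMap.range u).mkQ) (g₁ := Submodule.subtype I)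
    (g₂ := Submodule.mkQ I) (LinearMap.exact_map_mkQ_range u) (Submodule.mkQ_surjective _)
    (LinearMap.exact_subtype_mkQ I) (Submodule.mkQ_surjective I)
    (rTensor_quot_injective u I (hA I))
    (Module.Flat.lTensor_preserves_injective_linearMap _ Subtype.val_injective)

omit [IsLocalRing R] in
/-- A submodule of a flat module with flat quotient is flat. -/
theorem flat_of_injective_of_flat_coker [Module.Flat R M] (u : N →ₗ[R] M)
    (hu : Function.Injective u) [Module.Flat R (M ⧸ LinearMap.range u)] : Module.Flat R N := by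
  rw [Module.Flat.iff_rTensor_injective']
  intro I
  have h1 : Function.Injective (u.lTensor I) :=
    LinearMap.lTensor_injective_of_exact_of_flat (LinearMap.range u).mkQ
      (Submodule.mkQ_surjective _) u hu (LinearMap.exact_map_mkQ_range u) I
  have h2 : Function.Injective (I.subtype.rTensor M) :=
    Module.Flat.rTensor_preserves_injective_linearMap _ Subtype.val_injective
  have h3 : (u.lTensor R) ∘ₗ (I.subtype.rTensor N) = (I.subtype.rTensor M) ∘ₗ (u.lTensor I) := by
    rw [LinearMap.lTensor_comp_rTensor, LinearMap.rTensor_comp_lTensor]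
  have h4 : Function.Injective ((u.lTensor R) ∘ₗ (I.subtype.rTensor N)) := by
    rw [h3, LinearMap.coe_comp]; exact h2.comp h1
  rw [LinearMap.coe_comp] at h4
  exact Function.Injective.of_comp h4

variable {F₂ F₁ F₀ : Type*} [AddCommGroup F₂] [AddCommGroup F₁] [AddCommGroup F₀]
  [Module R F₂] [Module R F₁] [Module R F₀]

/-- Three-term version: exactness modulo `𝔪` in the middle gives exactness and a flat cokernel. -/
theorem exact_and_flat_coker_nilp [Module.Flat R F₀] (k : ℕ) (hk : maximalIdeal R ^ k = ⊥)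
    (d₂ : F₂ →ₗ[R] F₁) (d₁ : F₁ →ₗ[R] F₀) (hd : ∀ w, d₁ (d₂ w) = 0)
    (hex : ∀ y : F₁, d₁ y ∈ maximalIdeal R • (⊤ : Submodule R F₀) →
      ∃ w : F₂, y - d₂ w ∈ maximalIdeal R • (⊤ : Submodule R F₁)) :
    (∀ y, d₁ y = 0 → ∃ w, d₂ w = y) ∧ Module.Flat R (F₀ ⧸ LinearMap.range d₁) := by
  have hle : LinearMap.range d₂ ≤ LinearMap.ker d₁ := by
    rintro _ ⟨w, rfl⟩
    exact hd w
  let u : (F₁ ⧸ LinearMap.range d₂) →ₗ[R] F₀ := (LinearMap.range d₂).liftQ d₁ hle
  have hu : ∀ n, u n ∈ maximalIdeal R • (⊤ : Submodule R F₀) →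
      n ∈ maximalIdeal R • (⊤ : Submodule R (F₁ ⧸ LinearMap.range d₂)) := by
    intro n hn
    obtain ⟨y, rfl⟩ := Submodule.mkQ_surjective _ n
    obtain ⟨w, hw⟩ := hex y hn
    have h1 : (LinearMap.range d₂).mkQ y = (LinearMap.range d₂).mkQ (y - d₂ w) := by
      rw [map_sub, Submodule.mkQ_apply _ (d₂ w),
        (Submodule.Quotient.mk_eq_zero _).mpr (LinearMap.mem_range_self d₂ w), sub_zero]
    rw [h1]
    exact map_mem_smul_top ((LinearMap.range d₂).mkQ) _ hw
  obtain ⟨hinj, hflat⟩ := injective_and_flat_coker_nilp k hk u hu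
  constructor
  · intro y hy
    have h0 : (LinearMap.range d₂).mkQ y = 0 := hinj (by rw [map_zero]; exact hy)
    obtain ⟨w, hw⟩ := (Submodule.Quotient.mk_eq_zero _).mp h0
    exact ⟨w, hw⟩
  · have hrange : LinearMap.range u = LinearMap.range d₁ := by
      ext x
      constructor
      · rintro ⟨n, rfl⟩
        obtain ⟨y, rfl⟩ := Submodule.mkQ_surjective _ n
        exact ⟨y, rfl⟩
      · rintro ⟨y, rfl⟩
        exact ⟨(LinearMap.range d₂).mkQ y, rfl⟩
    exact Module.Flat.of_linearEquiv (Submodule.quotEquivOfEq _ _ hrange).symm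

end Nilp

section Residue

variable {R : Type u} [CommRing R] [IsLocalRing R]
  {F₂ F₁ F₀ : Type u} [AddCommGroup F₂] [AddCommGroup F₁] [AddCommGroup F₀]
  [Module R F₂] [Module R F₁] [Module R F₀]

/-- Exactness after tensoring with the residue field, in elementary terms. -/
lemma exact_mod_of_lTensor_exact_residue (d₂ : F₂ →ₗ[R] F₁) (d₁ : F₁ →ₗ[R] F₀)
    (h : ∀ z : ResidueField R ⊗[R] F₁, (d₁.lTensor (ResidueField R)) z = 0 →
      ∃ x : ResidueField R ⊗[R] F₂, (d₂.lTensor (ResidueField R)) x = z) (y : F₁)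
    (hy : d₁ y ∈ maximalIdeal R • (⊤ : Submodule R F₀)) :
    ∃ w : F₂, y - d₂ w ∈ maximalIdeal R • (⊤ : Submodule R F₁) :=
  exact_mod_of_lTensor_exact (S := R) (maximalIdeal R) d₂ d₁ h y hy

end Residue

section Cochain

variable {A : Type u} [CommRing A] [IsLocalRing A]

/-- Cochain complex version over a local ring with nilpotent maximal ideal. -/
theorem cochain_exact_and_flat_nilp (k : ℕ) (hk : maximalIdeal A ^ k = ⊥)
    (C : CochainComplex (ModuleCat.{u} A) ℕ) (i j : ℕ) (hij : (ComplexShape.up ℕ).prev j = i)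
    [Module.Flat A (C.X (j + 1))]
    (hred : (((MonoidalCategory.tensorLeft
        (ModuleCat.of A (IsLocalRing.ResidueField A))).mapHomologicalComplex
        (ComplexShape.up ℕ)).obj C).ExactAt j) :
    (∀ y : C.X j, (C.d j (j + 1)).hom y = 0 → ∃ w : C.X i, (C.d i j).hom w = y) ∧
      Module.Flat A (C.X (j + 1) ⧸ LinearMap.range (C.d j (j + 1)).hom) := by
  have hd : ∀ w : C.X i, (C.d j (j + 1)).hom ((C.d i j).hom w) = 0 := by
    intro w
    have h := ConcreteCategory.congr_hom (C.d_comp_d i j (j + 1)) w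
    exact h
  refine exact_and_flat_coker_nilp k hk (C.d i j).hom (C.d j (j + 1)).hom hd ?_
  have h1 := hred
  rw [HomologicalComplex.exactAt_iff' _ i j (j + 1) hij (by simp),
    ShortComplex.moduleCat_exact_iff] at h1
  intro y hy
  exact exact_mod_of_lTensor_exact_residue (C.d i j).hom (C.d j (j + 1)).hom
    (fun z hz => h1 z hz) y hy

end Cochain

end Groth.Agent.H2
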