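import Mathlib

/-!
# (CALG) for helper38 (S0420): irreducible components of geometric generic fibres are defined over
a finitely generated subalgebra
-/

set_option autoImplicit false
universe u
open TensorProduct

namespace Groth.Agent.H2.ConnCALG

section Gen

variable {A B Ω : Type u} [CommRing A] [CommRing B] [Algebra A B] [CommRing Ω] [Algebra A Ω]

/-- `A' ⊗ B → Ω ⊗ B` -/
noncomputable abbrev Φ (B : Type u) [CommRing B] [Algebra A B] (A' : Subalgebra A Ω) :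
    A' ⊗[A] B →ₐ[A] Ω ⊗[A] B :=
  Algebra.TensorProduct.map A'.val (AlgHom.id A B)

/-- `A' ⊗ B → A'' ⊗ B` -/
noncomputable abbrev Ψ (B : Type u) [CommRing B] [Algebra A B] {A' A'' : Subalgebra A Ω}
    (h : A' ≤ A'') : A' ⊗[A] B →ₐ[A] A'' ⊗[A] B :=
  Algebra.TensorProduct.map (Subalgebra.inclusion h) (AlgHom.id A B)

theorem Φ_Ψ {A' A'' : Subalgebra A Ω} (h : A' ≤ A'') (x : A' ⊗[A] B) :
    Φ B A'' (Ψ B h x) = Φ B A' x := by
  induction x with
  | zero => simp
  | tmul c b => simp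
  | add x y hx hy => rw [map_add, map_add, map_add, hx, hy]

theorem Ψ_Ψ {A' A'' A''' : Subalgebra A Ω} (h : A' ≤ A'') (h' : A'' ≤ A''') (x : A' ⊗[A] B) :
    Ψ B h' (Ψ B h x) = Ψ B (h.trans h') x := by
  induction x with
  | zero => simp
  | tmul c b => simp
  | add x y hx hy => rw [map_add, map_add, map_add, hx, hy]

theorem Φ_eq_rTensor (A' : Subalgebra A Ω) (x : A' ⊗[A] B) :
    Φ B A' x = LinearMap.rTensor B A'.val.toLinearMap x := rfl

theorem Ψ_eq_rTensor {A' A'' : Subalgebra A Ω} (h : A' ≤ A'') (x : A' ⊗[A] B) :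
    Ψ B h x = LinearMap.rTensor B (Subalgebra.inclusion h).toLinearMap x := rfl

/-- single element lift, monotone form -/
theorem exists_lift_one (x : Ω ⊗[A] B) :
    ∃ A' : Subalgebra A Ω, A'.FG ∧ ∀ A'' : Subalgebra A Ω, A' ≤ A'' →
      ∃ y : A'' ⊗[A] B, Φ B A'' y = x := by
  obtain ⟨A', hA', y, hy⟩ := TensorProduct.Algebra.exists_of_fg x
  refine ⟨A', hA', fun A'' h => ⟨Ψ B h y, ?_⟩⟩
  rw [Φ_Ψ, Φ_eq_rTensor]
  exact hy

/-- finite set lift, monotone form -/
theorem exists_lift_finset (T : Finset (Ω ⊗[A] B)) :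
    ∃ A' : Subalgebra A Ω, A'.FG ∧ ∀ A'' : Subalgebra A Ω, A' ≤ A'' →
      ∀ x ∈ T, ∃ y : A'' ⊗[A] B, Φ B A'' y = x := by
  classical
  induction T using Finset.induction_on with
  | empty => exact ⟨⊥, Subalgebra.fg_bot, fun _ _ x hx => absurd hx (Finset.notMem_empty x)⟩
  | insert a T _ ih =>
    obtain ⟨A₁, hA₁, h₁⟩ := ih
    obtain ⟨A₂, hA₂, h₂⟩ := exists_lift_one (B := B) a
    refine ⟨A₁ ⊔ A₂, hA₁.sup hA₂, fun A'' h x hx => ?_⟩
    rcases Finset.mem_insert.mp hx with rfl | hx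
    · exact h₂ A'' (le_sup_right.trans h)
    · exact h₁ A'' (le_sup_left.trans h) x hx

/-- f.g. ideal lift, monotone form -/
theorem exists_lift_ideal (I : Ideal (Ω ⊗[A] B)) (hI : I.FG) :
    ∃ A' : Subalgebra A Ω, A'.FG ∧ ∀ A'' : Subalgebra A Ω, A' ≤ A'' →
      ∃ J : Ideal (A'' ⊗[A] B), J.FG ∧ J.map (Φ B A'').toRingHom = I := by
  classical
  obtain ⟨T, rfl⟩ := hI
  obtain ⟨A', hA', h⟩ := exists_lift_finset (B := B) T
  refine ⟨A', hA', fun A'' hle => ?_⟩
  choose! y hy using h A'' hle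
  refine ⟨Ideal.span (T.image y : Set (A'' ⊗[A] B)), ⟨T.image y, rfl⟩, ?_⟩
  rw [Ideal.map_span]
  congr 1
  ext z
  simp only [Finset.coe_image, Set.mem_image, Finset.mem_coe, exists_exists_and_eq_and]
  constructor
  · rintro ⟨x, hx, rfl⟩
    have : (Φ B A'').toRingHom (y x) = x := hy x hx
    rw [this]; exact hx
  · intro hz
    exact ⟨z, hz, hy z hz⟩

/-- single nilpotent descent -/
theorem exists_nilpotent_one {A' : Subalgebra A Ω} (hA' : A'.FG) (t : A' ⊗[A] B)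
    (ht : IsNilpotent (Φ B A' t)) :
    ∃ (A'' : Subalgebra A Ω) (h : A' ≤ A''), A''.FG ∧ IsNilpotent (Ψ B h t) := by
  obtain ⟨N, hN⟩ := ht
  have hz : LinearMap.rTensor B A'.val.toLinearMap (t ^ N) =
      LinearMap.rTensor B A'.val.toLinearMap 0 := by
    rw [← Φ_eq_rTensor, map_pow, hN, map_zero]
  obtain ⟨A'', hle, hA'', hz'⟩ := TensorProduct.Algebra.eq_of_fg_of_subtype_eq hA' hz
  refine ⟨A'', hle, hA'', N, ?_⟩
  rw [map_zero, ← Ψ_eq_rTensor, map_pow] at hz'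
  exact hz'

/-- finite set nilpotent descent, monotone form -/
theorem exists_nilpotent_finset {A' : Subalgebra A Ω} (hA' : A'.FG) (T : Finset (A' ⊗[A] B))
    (hT : ∀ t ∈ T, IsNilpotent (Φ B A' t)) :
    ∃ (A'' : Subalgebra A Ω), A' ≤ A'' ∧ A''.FG ∧ ∀ (A₁ : Subalgebra A Ω) (h₁ : A' ≤ A₁),
      A'' ≤ A₁ → ∀ t ∈ T, IsNilpotent (Ψ B h₁ t) := by
  classical
  induction T using Finset.induction_on with
  | empty => exact ⟨A', le_rfl, hA', fun _ _ _ t ht => absurd ht (Finset.notMem_empty t)⟩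
  | insert a T _ ih =>
    obtain ⟨A₂, hle₂, hA₂, h₂⟩ := ih (fun t ht => hT t (Finset.mem_insert_of_mem ht))
    obtain ⟨A₃, hle₃, hA₃, h₃⟩ := exists_nilpotent_one hA' a (hT a (Finset.mem_insert_self a T))
    refine ⟨A₂ ⊔ A₃, hle₂.trans le_sup_left, hA₂.sup hA₃, fun A₁ h₁ hle t ht => ?_⟩
    rcases Finset.mem_insert.mp ht with rfl | ht
    · have : Ψ B h₁ t = Ψ B (le_sup_right.trans hle) (Ψ B hle₃ t) := (Ψ_Ψ _ _ _).symm
      rw [this]
      exact h₃.map _
    · exact h₂ A₁ h₁ (le_sup_left.trans hle) t ht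

end Gen

theorem ideal_map_prod {R S : Type*} [CommRing R] [CommRing S] (f : R →+* S) {m : ℕ}
    (J : Fin m → Ideal R) : (∏ k, J k).map f = ∏ k, (J k).map f :=
  map_prod (Ideal.mapHom f) J Finset.univ

theorem fg_prod {R : Type*} [CommRing R] {ι : Type*} (s : Finset ι) (J : ι → Ideal R)
    (h : ∀ k, (J k).FG) : (∏ k ∈ s, J k).FG := by
  classical
  induction s using Finset.induction_on with
  | empty =>
    rw [Finset.prod_empty, Ideal.one_eq_top]
    exact ⟨{1}, by simp⟩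
  | insert a s ha ih =>
    rw [Finset.prod_insert ha]
    exact (h a).mul ih

theorem fg_finset_sup {A Ω : Type*} [CommRing A] [CommRing Ω] [Algebra A Ω] {ι : Type*}
    (s : Finset ι) (A' : ι → Subalgebra A Ω) (h : ∀ k, (A' k).FG) : (s.sup A').FG := by
  classical
  induction s using Finset.induction_on with
  | empty => rw [Finset.sup_empty]; exact Subalgebra.fg_bot
  | insert a s ha ih => rw [Finset.sup_insert]; exact (h a).sup ih

/-- per-algebra statement, monotone in the subalgebra -/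
theorem exists_components {A : Type u} [CommRing A] {Ω : Type u} [Field Ω] [Algebra A Ω]
    (B : Type u) [CommRing B] [Algebra A B] [Algebra.FiniteType A B] :
    ∃ A₀ : Subalgebra A Ω, A₀.FG ∧ ∀ A₁ : Subalgebra A Ω, A₀ ≤ A₁ →
      ∃ (m : ℕ) (J : Fin m → Ideal (A₁ ⊗[A] B)), (∏ k, J k ≤ nilradical (A₁ ⊗[A] B)) ∧
        ∀ k, IsIrreducible (PrimeSpectrum.zeroLocus
          (((J k).map (Φ B A₁).toRingHom : Ideal (Ω ⊗[A] B)) : Set (Ω ⊗[A] B))) := by
  classical
  haveI : IsNoetherianRing (Ω ⊗[A] B) := Algebra.FiniteType.isNoetherianRing Ω _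
  have hfin : (minimalPrimes (Ω ⊗[A] B)).Finite := minimalPrimes.finite_of_isNoetherianRing _
  obtain ⟨m, 𝔭, h𝔭⟩ : ∃ (m : ℕ) (𝔭 : Fin m → Ideal (Ω ⊗[A] B)),
      Set.range 𝔭 = minimalPrimes (Ω ⊗[A] B) := by
    let e := hfin.toFinset.equivFin
    refine ⟨hfin.toFinset.card, fun k => ((e.symm k : hfin.toFinset) : Ideal _), ?_⟩
    ext I
    constructor
    · rintro ⟨k, rfl⟩
      exact hfin.mem_toFinset.mp (e.symm k).2
    · intro hI
      exact ⟨e ⟨I, hfin.mem_toFinset.mpr hI⟩, by simp⟩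
  have hmem : ∀ k, 𝔭 k ∈ minimalPrimes (Ω ⊗[A] B) := fun k => h𝔭 ▸ Set.mem_range_self k
  have hprime : ∀ k, (𝔭 k).IsPrime := fun k => (hmem k).1.1
  have hprod : ∏ k, 𝔭 k ≤ nilradical (Ω ⊗[A] B) := by
    rw [nilradical, ← Ideal.sInf_minimalPrimes]
    refine le_sInf fun I hI => ?_
    obtain ⟨k, rfl⟩ : I ∈ Set.range 𝔭 := h𝔭 ▸ hI
    exact Ideal.prod_le_inf.trans (Finset.inf_le (Finset.mem_univ k))
  choose A' hA'fg hA' using fun k => exists_lift_ideal (B := B) (𝔭 k)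
    (IsNoetherian.noetherian _)
  have hA''fg : (Finset.univ.sup A').FG := fg_finset_sup _ _ hA'fg
  have hle : ∀ k, A' k ≤ Finset.univ.sup A' := fun k => Finset.le_sup (Finset.mem_univ k)
  choose J' hJ'fg hJ'map using fun k => hA' k (Finset.univ.sup A') (hle k)
  obtain ⟨T', hT'⟩ : (∏ k, J' k).FG := fg_prod _ _ hJ'fg
  have hT'nil : ∀ t ∈ T', IsNilpotent (Φ B (Finset.univ.sup A') t) := by
    intro t ht
    have h1 : t ∈ ∏ k, J' k := hT' ▸ Ideal.subset_span ht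
    have h2 : (Φ B (Finset.univ.sup A')).toRingHom t ∈
        (∏ k, J' k).map (Φ B (Finset.univ.sup A')).toRingHom := Ideal.mem_map_of_mem _ h1
    rw [ideal_map_prod] at h2
    simp_rw [hJ'map] at h2
    exact mem_nilradical.mp (hprod h2)
  obtain ⟨A₀, hle₀, hA₀fg, hnil⟩ := exists_nilpotent_finset hA''fg T' hT'nil
  refine ⟨A₀, hA₀fg, fun A₁ h₁ => ?_⟩
  have hle₁ : Finset.univ.sup A' ≤ A₁ := hle₀.trans h₁
  refine ⟨m, fun k => (J' k).map (Ψ B hle₁).toRingHom, ?_, fun k => ?_⟩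
  · rw [← ideal_map_prod, ← hT', Ideal.map_span, Ideal.span_le]
    rintro _ ⟨t, ht, rfl⟩
    exact mem_nilradical.mpr (hnil A₁ hle₁ h₁ t ht)
  · rw [Ideal.map_map]
    have : (Φ B A₁).toRingHom.comp (Ψ B hle₁).toRingHom =
        (Φ B (Finset.univ.sup A')).toRingHom := RingHom.ext (Φ_Ψ hle₁)
    rw [this, hJ'map, PrimeSpectrum.isIrreducible_zeroLocus_iff, (hprime k).radical]
    exact hprime k

/-- (CALG) irreducible components of the geometric generic fibres of finitely many finite type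
algebras are defined over a finitely generated subalgebra. -/
theorem exists_fg_subalgebra_components {A : Type u} [CommRing A] {Ω : Type u} [Field Ω]
    [IsAlgClosed Ω] [Algebra A Ω] {s : Type} [Finite s] (B : s → Type u) [∀ i, CommRing (B i)]
    [∀ i, Algebra A (B i)] [∀ i, Algebra.FiniteType A (B i)] :
    ∃ A₁ : Subalgebra A Ω, A₁.FG ∧ ∀ i : s, ∃ (m : ℕ) (J : Fin m → Ideal (A₁ ⊗[A] B i)),
      (∏ k, J k ≤ nilradical (A₁ ⊗[A] B i)) ∧
      ∀ k, IsIrreducible (PrimeSpectrum.zeroLocus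
        (((J k).map (Algebra.TensorProduct.map A₁.val (AlgHom.id A (B i))).toRingHom :
          Ideal (Ω ⊗[A] B i)) : Set (Ω ⊗[A] B i))) := by
  classical
  haveI := Fintype.ofFinite s
  choose A₀ hA₀fg hA₀ using fun i : s => exists_components (A := A) (Ω := Ω) (B i)
  refine ⟨Finset.univ.sup A₀, fg_finset_sup _ _ hA₀fg, fun i => ?_⟩
  exact hA₀ i _ (Finset.le_sup (Finset.mem_univ i))

end Groth.Agent.H2.ConnCALG
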