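import Mathlib
import Groth.Prelude
import Groth.Agent.H2.RamFibre
import Groth.Agent.H63.StalkBaseChange

/-!
# Ramification index of `O_{X,x} → O_{X_Ω, x̄}` at a closed point `x̄` = `[κ(x) : k]_i`
-/

set_option autoImplicit false
set_option linter.style.haveILetI false
set_option linter.unusedVariables false
universe u
open CategoryTheory Limits AlgebraicGeometry TensorProduct IsLocalRing

namespace Groth.Agent.H2.RamBC

open Groth.Agent.H2.RamFibre Groth.Agent.H63.StalkBaseChange

/-- Transport of `IsLocalization.AtPrime` along a ring isomorphism of the base. -/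
theorem isLocalization_atPrime_of_ringEquiv {R P S : Type*} [CommRing R] [CommRing P] [CommRing S]
    [Algebra R S] (h : P ≃+* R) (q : Ideal R) [q.IsPrime] [IsLocalization.AtPrime S q] :
    letI := ((algebraMap R S).comp h.toRingHom).toAlgebra
    IsLocalization.AtPrime S (q.comap h.toRingHom) := by
  letI := ((algebraMap R S).comp h.toRingHom).toAlgebra
  have h1 := IsLocalization.isLocalization_of_base_ringEquiv q.primeCompl S h.symm
  have h2 : Submonoid.map h.symm q.primeCompl = (q.comap h.toRingHom).primeCompl := by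
    ext y
    simp only [Submonoid.mem_map]
    constructor
    · rintro ⟨x, hx, rfl⟩
      show h.symm x ∉ q.comap h.toRingHom
      rw [Ideal.mem_comap]
      simpa using hx
    · intro hy
      refine ⟨h y, ?_, by simp⟩
      exact hy
  show IsLocalization (q.comap h.toRingHom).primeCompl S
  rw [← h2]
  exact h1

variable {k K : Type u} [Field k] [Field K] [Algebra k K] {X Y : Scheme.{u}}

set_option maxHeartbeats 1000000 in
/-- Affine-chart bridge: for a cartesian square `Y = X ×_k K` and `x' ∈ Y`, there is an affine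
chart in which the stalk map `O_{X,π x'} → O_{Y,x'}` is the localization of
`Γ(X,U) → Γ(X,U) ⊗[k] K`. -/
theorem ramificationIdx_stalkMap_eq (f : X ⟶ Spec (CommRingCat.of k)) (π : Y ⟶ X)
    (s : Y ⟶ Spec (CommRingCat.of K))
    (H : IsPullback π s f (Spec.map (CommRingCat.ofHom (algebraMap k K)))) (x' : Y) :
    ∃ (U : X.Opens) (hU : IsAffineOpen U) (hxU : π.base x' ∈ U),
      letI algk : Algebra k Γ(X, U) :=
        ((Scheme.ΓSpecIso (CommRingCat.of k)).inv ≫ f.appLE ⊤ U le_top).hom.toAlgebra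
      ∃ (r : Ideal (Γ(X, U) ⊗[k] K)) (_ : r.IsPrime),
        r.comap (algebraMap Γ(X, U) (Γ(X, U) ⊗[k] K)) = (hU.primeIdealOf ⟨π.base x', hxU⟩).asIdeal ∧
        (letI := (π.stalkMap x').hom.toAlgebra
         (maximalIdeal (Y.presheaf.stalk x')).ramificationIdx (X.presheaf.stalk (π.base x'))) =
          r.ramificationIdx Γ(X, U) := by
  -- affine open neighbourhood of `x`
  obtain ⟨U, hU, hxU, -⟩ := TopologicalSpace.Opens.isBasis_iff_nbhd.mp X.isBasis_affineOpens
    (U := ⊤) (x := π.base x') trivial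
  have hU : IsAffineOpen U := hU
  refine ⟨U, hU, hxU, ?_⟩
  let ι := Spec.map (CommRingCat.ofHom (algebraMap k K))
  let US : (Spec (CommRingCat.of k)).Opens := ⊤
  let UT : (Spec (CommRingCat.of K)).Opens := ⊤
  have hUS : IsAffineOpen US := isAffineOpen_top _
  have hUT : IsAffineOpen UT := isAffineOpen_top _
  have hUST : UT ≤ ι ⁻¹ᵁ US := le_top
  have hUSX : U ≤ f ⁻¹ᵁ US := le_top
  let UY : Y.Opens := π ⁻¹ᵁ U ⊓ s ⁻¹ᵁ UT
  have hUY : UY = π ⁻¹ᵁ U ⊓ s ⁻¹ᵁ UT := rfl
  have hx'UY : x' ∈ UY := ⟨hxU, trivial⟩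
  have hUY' : IsAffineOpen UY := by
    have : IsAffine _ := hUS
    have : IsAffine _ := hUT
    have : IsAffine _ := hU
    exact .of_isIso (Scheme.Hom.isPullback_resLE H hUST hUSX hUY).isoPullback.hom
  have hiso := isIso_pushoutSection_of_isAffineOpen H hUST hUSX hUY hUS hUT hU
  have hPO := (isIso_pushoutSection_iff H hUST hUSX hUY).mp hiso
  let fk : CommRingCat.of k ⟶ Γ(X, U) :=
    (Scheme.ΓSpecIso (CommRingCat.of k)).inv ≫ f.appLE US U hUSX
  let fK : CommRingCat.of K ⟶ Γ(Y, UY) :=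
    (Scheme.ΓSpecIso (CommRingCat.of K)).inv ≫ s.appLE UT UY (by simp [UY])
  have hPO' : IsPushout fk (CommRingCat.ofHom (algebraMap k K)) (π.appLE U UY (by simp [UY])) fK := by
    refine IsPushout.of_iso hPO (Scheme.ΓSpecIso (CommRingCat.of k)) (Iso.refl _)
      (Scheme.ΓSpecIso (CommRingCat.of K)) (Iso.refl _) ?_ ?_ ?_ ?_
    · simp [fk]
    · have : ι.appLE US UT hUST = ι.appTop := by
        rw [Scheme.Hom.appTop, Scheme.Hom.app_eq_appLE]
        rfl
      rw [this]
      exact Scheme.ΓSpecIso_naturality _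
    · simp
    · simp [fK]
  letI algA : Algebra k Γ(X, U) := fk.hom.toAlgebra
  have hT := (CommRingCat.isPushout_tensorProduct k K Γ(X, U)).flip
  have hfk : CommRingCat.ofHom (algebraMap k Γ(X, U)) = fk := rfl
  rw [hfk] at hT
  let e := hT.isoIsPushout _ _ hPO'
  have he_inl : CommRingCat.ofHom (Algebra.TensorProduct.includeRight (R := k) (A := K)
      (B := Γ(X, U))).toRingHom ≫ e.hom = π.appLE U UY (by simp [UY]) :=
    hT.inl_isoIsPushout_hom _ _ hPO'
  let eR : K ⊗[k] Γ(X, U) ≃+* Γ(Y, UY) := e.commRingCatIsoToRingEquiv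
  let h : Γ(X, U) ⊗[k] K ≃+* Γ(Y, UY) :=
    (Algebra.TensorProduct.comm k Γ(X, U) K).toRingEquiv.trans eR
  have hh : ∀ a : Γ(X, U), h (a ⊗ₜ[k] (1 : K)) = (π.appLE U UY (by simp [UY])).hom a := by
    intro a
    have h1 : h (a ⊗ₜ[k] (1 : K)) = eR ((1 : K) ⊗ₜ[k] a) := rfl
    rw [h1]
    have h2 := congrArg (fun φ => φ.hom a) he_inl
    exact h2
  -- primes
  let q'' : Ideal Γ(Y, UY) := (hUY'.primeIdealOf ⟨x', hx'UY⟩).asIdeal
  let p : Ideal Γ(X, U) := (hU.primeIdealOf ⟨π.base x', hxU⟩).asIdeal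
  let r : Ideal (Γ(X, U) ⊗[k] K) := q''.comap h.toRingHom
  haveI hrprime : r.IsPrime := Ideal.comap_isPrime _ _
  have hrp : r.comap (algebraMap Γ(X, U) (Γ(X, U) ⊗[k] K)) = p := by
    have h1 := IsAffineOpen.comap_primeIdealOf_appLE (f := π) U hU UY hUY' (by simp [UY]) hx'UY
    have h2 := congrArg PrimeSpectrum.asIdeal h1
    refine Eq.trans ?_ h2
    show Ideal.comap _ (Ideal.comap h.toRingHom q'') = Ideal.comap _ q''
    rw [Ideal.comap_comap]
    congr 1
    ext a
    simp only [RingHom.comp_apply, Algebra.TensorProduct.algebraMap_apply,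
      Algebra.algebraMap_self_apply]
    exact hh a
  -- stalks as localizations
  letI algx : Algebra Γ(X, U) (X.presheaf.stalk (π.base x')) :=
    TopCat.Presheaf.algebra_section_stalk X.presheaf ⟨π.base x', hxU⟩
  letI algx' : Algebra Γ(Y, UY) (Y.presheaf.stalk x') :=
    TopCat.Presheaf.algebra_section_stalk Y.presheaf ⟨x', hx'UY⟩
  haveI hlx : IsLocalization.AtPrime (X.presheaf.stalk (π.base x')) p :=
    hU.isLocalization_stalk ⟨π.base x', hxU⟩
  haveI hlx' : IsLocalization.AtPrime (Y.presheaf.stalk x') q'' :=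
    hUY'.isLocalization_stalk ⟨x', hx'UY⟩
  letI algS : Algebra (Γ(X, U) ⊗[k] K) (Y.presheaf.stalk x') :=
    ((algebraMap Γ(Y, UY) (Y.presheaf.stalk x')).comp h.toRingHom).toAlgebra
  haveI hlr : IsLocalization.AtPrime (Y.presheaf.stalk x') r :=
    isLocalization_atPrime_of_ringEquiv h q''
  letI algAB : Algebra (X.presheaf.stalk (π.base x')) (Y.presheaf.stalk x') :=
    (π.stalkMap x').hom.toAlgebra
  letI algRB : Algebra Γ(X, U) (Y.presheaf.stalk x') :=
    ((algebraMap (X.presheaf.stalk (π.base x')) (Y.presheaf.stalk x')).comp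
      (algebraMap Γ(X, U) (X.presheaf.stalk (π.base x')))).toAlgebra
  haveI : IsScalarTower Γ(X, U) (X.presheaf.stalk (π.base x')) (Y.presheaf.stalk x') :=
    IsScalarTower.of_algebraMap_eq (fun _ => rfl)
  haveI : IsScalarTower Γ(X, U) (Γ(X, U) ⊗[k] K) (Y.presheaf.stalk x') := by
    apply IsScalarTower.of_algebraMap_eq
    intro a
    show (π.stalkMap x').hom ((X.presheaf.germ U (π.base x') hxU).hom a) =
      (Y.presheaf.germ UY x' hx'UY).hom (h (a ⊗ₜ[k] (1 : K)))
    rw [hh]
    have := Scheme.Hom.germ_stalkMap_apply π U x' hxU a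
    rw [this]
    simp only [Scheme.Hom.appLE, CommRingCat.hom_comp, RingHom.coe_comp, Function.comp_apply,
      Y.presheaf.germ_res_apply]
  refine ⟨r, hrprime, hrp, ?_⟩
  exact ramificationIdx_maximalIdeal_eq p r hrp

/-- The residue field at a closed point of a scheme locally of finite type over a field is a
finite extension (affine-chart version). -/
theorem finite_residueField_of_isClosed (f : X ⟶ Spec (CommRingCat.of k)) [LocallyOfFiniteType f]
    (U : X.Opens) (hU : IsAffineOpen U) (x : X) (hxU : x ∈ U) (hx : IsClosed ({x} : Set X)) :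
    letI algk : Algebra k Γ(X, U) :=
      ((Scheme.ΓSpecIso (CommRingCat.of k)).inv ≫ f.appLE ⊤ U le_top).hom.toAlgebra
    Module.Finite k (hU.primeIdealOf ⟨x, hxU⟩).asIdeal.ResidueField := by
  letI algk : Algebra k Γ(X, U) :=
    ((Scheme.ΓSpecIso (CommRingCat.of k)).inv ≫ f.appLE ⊤ U le_top).hom.toAlgebra
  have h1 : RingHom.FiniteType (f.appLE ⊤ U le_top).hom :=
    HasRingHomProperty.appLE (P := @LocallyOfFiniteType) (f := f) inferInstance
      ⟨⊤, isAffineOpen_top _⟩ ⟨U, hU⟩ le_top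
  have h2 : RingHom.FiniteType ((Scheme.ΓSpecIso (CommRingCat.of k)).inv ≫ f.appLE ⊤ U le_top).hom := by
    rw [CommRingCat.hom_comp]
    refine RingHom.FiniteType.comp h1 (RingHom.FiniteType.of_surjective _ ?_)
    exact (ConcreteCategory.bijective_of_isIso (Scheme.ΓSpecIso (CommRingCat.of k)).inv).surjective
  haveI hft : Algebra.FiniteType k Γ(X, U) := h2
  have hcl2 : IsClosed ({hU.primeIdealOf ⟨x, hxU⟩} : Set (PrimeSpectrum Γ(X, U))) := by
    have h0 : ({hU.primeIdealOf ⟨x, hxU⟩} : Set (PrimeSpectrum Γ(X, U))) =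
        hU.fromSpec.base ⁻¹' {x} := by
      ext y
      simp only [Set.mem_singleton_iff, Set.mem_preimage]
      constructor
      · rintro rfl
        exact hU.fromSpec_primeIdealOf ⟨x, hxU⟩
      · intro hy
        apply hU.fromSpec.isOpenEmbedding.injective
        rw [hy]
        exact (hU.fromSpec_primeIdealOf ⟨x, hxU⟩).symm
    rw [h0]
    exact hx.preimage hU.fromSpec.continuous
  haveI hmax : (hU.primeIdealOf ⟨x, hxU⟩).asIdeal.IsMaximal :=
    (PrimeSpectrum.isClosed_singleton_iff_isMaximal _).mp hcl2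
  letI := Ideal.Quotient.field (hU.primeIdealOf ⟨x, hxU⟩).asIdeal
  haveI : Module.Finite k (Γ(X, U) ⧸ (hU.primeIdealOf ⟨x, hxU⟩).asIdeal) :=
    finite_of_finite_type_of_isJacobsonRing k _
  have bij := Ideal.bijective_algebraMap_quotient_residueField (hU.primeIdealOf ⟨x, hxU⟩).asIdeal
  exact Module.Finite.of_surjective
    ((Algebra.linearMap (Γ(X, U) ⧸ (hU.primeIdealOf ⟨x, hxU⟩).asIdeal)
      (hU.primeIdealOf ⟨x, hxU⟩).asIdeal.ResidueField).restrictScalars k) bij.surjective

/-- The residue field of the prime of an affine chart at `x` is `κ(x)`, as `k`-algebras. -/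
theorem nonempty_residueField_algEquiv (k : Type u) [Field k] (X : Scheme.{u})
    [X.Over (Spec (CommRingCat.of k))] (U : X.Opens) (hU : IsAffineOpen U) (x : X) (hxU : x ∈ U) :
    letI algk : Algebra k Γ(X, U) :=
      ((Scheme.ΓSpecIso (CommRingCat.of k)).inv ≫
        (X ↘ Spec (CommRingCat.of k)).appLE ⊤ U le_top).hom.toAlgebra
    letI := Curv2.resAlgebra k X x
    Nonempty ((hU.primeIdealOf ⟨x, hxU⟩).asIdeal.ResidueField ≃ₐ[k] X.residueField x) := by
  letI algk : Algebra k Γ(X, U) :=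
      ((Scheme.ΓSpecIso (CommRingCat.of k)).inv ≫
        (X ↘ Spec (CommRingCat.of k)).appLE ⊤ U le_top).hom.toAlgebra
  letI := Curv2.resAlgebra k X x
  letI algkA := Curv2.stalkAlgebra k X x
  letI algx : Algebra Γ(X, U) (X.presheaf.stalk x) :=
    TopCat.Presheaf.algebra_section_stalk X.presheaf ⟨x, hxU⟩
  haveI hlx : IsLocalization.AtPrime (X.presheaf.stalk x) (hU.primeIdealOf ⟨x, hxU⟩).asIdeal :=
    hU.isLocalization_stalk ⟨x, hxU⟩
  haveI hst : IsScalarTower k Γ(X, U) (X.presheaf.stalk x) := by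
    apply IsScalarTower.of_algebraMap_eq'
    show ((Scheme.ΓSpecIso (CommRingCat.of k)).inv ≫ (X ↘ Spec (CommRingCat.of k)).appTop ≫
      X.presheaf.germ ⊤ x trivial).hom =
      (X.presheaf.germ U x hxU).hom.comp ((Scheme.ΓSpecIso (CommRingCat.of k)).inv ≫
        (X ↘ Spec (CommRingCat.of k)).appLE ⊤ U le_top).hom
    rw [← CommRingCat.hom_comp]
    congr 1
    simp only [Scheme.Hom.appLE, Scheme.Hom.appTop, Category.assoc,
      TopCat.Presheaf.germ_res]
    rfl
  let ψ : Localization.AtPrime (hU.primeIdealOf ⟨x, hxU⟩).asIdeal ≃ₐ[Γ(X, U)] X.presheaf.stalk x :=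
    IsLocalization.algEquiv (hU.primeIdealOf ⟨x, hxU⟩).asIdeal.primeCompl _ _
  let φ : (hU.primeIdealOf ⟨x, hxU⟩).asIdeal.ResidueField ≃+* X.residueField x :=
    IsLocalRing.ResidueField.mapEquiv ψ.toRingEquiv
  refine ⟨AlgEquiv.ofRingEquiv (f := φ) ?_⟩
  intro c
  have h1 : algebraMap k (hU.primeIdealOf ⟨x, hxU⟩).asIdeal.ResidueField c =
      IsLocalRing.residue _ (algebraMap Γ(X, U) (Localization.AtPrime
        (hU.primeIdealOf ⟨x, hxU⟩).asIdeal) (algebraMap k Γ(X, U) c)) := by
    rw [← IsScalarTower.algebraMap_apply]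
    rfl
  rw [h1]
  have h2 : φ (IsLocalRing.residue _ (algebraMap Γ(X, U) (Localization.AtPrime
        (hU.primeIdealOf ⟨x, hxU⟩).asIdeal) (algebraMap k Γ(X, U) c))) =
      IsLocalRing.residue _ (ψ (algebraMap Γ(X, U) (Localization.AtPrime
        (hU.primeIdealOf ⟨x, hxU⟩).asIdeal) (algebraMap k Γ(X, U) c))) := rfl
  rw [h2, ψ.commutes, ← IsScalarTower.algebraMap_apply k Γ(X, U) (X.presheaf.stalk x)]
  rfl

/-- **Main theorem.** For a `k`-scheme `X` locally of finite type, `K/k` algebraically closed and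
`x' ∈ X_K` lying over a closed point `x ∈ X`, the ramification index of
`O_{X,x} → O_{X_K,x'}` is the inseparable degree `[κ(x) : k]_i`. -/
theorem ramificationIdx_bc_eq_finInsepDegree (k : Type u) [Field k] (X : Scheme.{u})
    [X.Over (Spec (CommRingCat.of k))] [LocallyOfFiniteType (X ↘ Spec (CommRingCat.of k))]
    (K : Type u) [Field K] [Algebra k K] [IsAlgClosed K] (x' : Curv2.bc k X K)
    (hx : IsClosed ({(Curv2.bcFst k X K).base x'} : Set X)) :
    letI := ((Curv2.bcFst k X K).stalkMap x').hom.toAlgebra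
    letI := Curv2.resAlgebra k X ((Curv2.bcFst k X K).base x')
    (maximalIdeal ((Curv2.bc k X K).presheaf.stalk x')).ramificationIdx
        (X.presheaf.stalk ((Curv2.bcFst k X K).base x')) =
      Field.finInsepDegree k (X.residueField ((Curv2.bcFst k X K).base x')) := by
  obtain ⟨U, hU, hxU, h⟩ := ramificationIdx_stalkMap_eq (X ↘ Spec (CommRingCat.of k))
    (Curv2.bcFst k X K) (Curv2.bcSnd k X K) (IsPullback.of_hasPullback _ _) x'
  letI algk : Algebra k Γ(X, U) :=
    ((Scheme.ΓSpecIso (CommRingCat.of k)).inv ≫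
      (X ↘ Spec (CommRingCat.of k)).appLE ⊤ U le_top).hom.toAlgebra
  obtain ⟨r, hr, hrp, he⟩ := h
  haveI := hr
  haveI hfin := finite_residueField_of_isClosed (X ↘ Spec (CommRingCat.of k)) U hU _ hxU hx
  obtain ⟨i⟩ := nonempty_residueField_algEquiv k X U hU _ hxU
  letI := Curv2.resAlgebra k X ((Curv2.bcFst k X K).base x')
  show @Ideal.ramificationIdx _ _ (maximalIdeal ((Curv2.bc k X K).presheaf.stalk x'))
    (X.presheaf.stalk ((Curv2.bcFst k X K).base x')) _
    ((Curv2.bcFst k X K).stalkMap x').hom.toAlgebra = _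
  rw [he, ramificationIdx_tensor k K Γ(X, U) _ r hrp]
  exact Field.finInsepDegree_eq_of_equiv k _ _ i

end Groth.Agent.H2.RamBC
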