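import Mathlib
import Groth.Agent.H2.InsepLen

/-!
# Local rings of `κ ⊗[k] L` (`κ/k` finite, `L` any field) have length dividing `[κ : k]_i`
-/

set_option autoImplicit false
set_option linter.style.haveILetI false
universe u
open TensorProduct IsLocalRing

namespace Groth.Agent.H2.InsepDvd

open Groth.Agent.H2.InsepLen

/-- A local ring `Φ`, finite free over a local ring `Λ` which is a field: the length of `Φ`
divides its rank over `Λ`. -/
theorem length_self_dvd_of_field_base (Λ Φ : Type u) [CommRing Λ]
    [IsLocalRing Λ] (hΛ : IsField Λ) [CommRing Φ] [IsLocalRing Φ] [Algebra Λ Φ] [Module.Free Λ Φ]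
    [Module.Finite Λ Φ] :
    (Module.length Φ Φ).toNat ∣ Module.finrank Λ Φ := by
  haveI : IsLocalHom (algebraMap Λ Φ) := by
    constructor
    intro a ha
    have ha0 : a ≠ 0 := by
      rintro rfl
      rw [map_zero] at ha
      exact not_isUnit_zero ha
    obtain ⟨b, hb⟩ := hΛ.mul_inv_cancel ha0
    exact IsUnit.of_mul_eq_one b hb
  have h1 := IsLocalRing.length_restrictScalars Λ Φ Φ
  have h2 := Module.length_of_free_of_finite Λ Φ
  have h3 : Module.length Λ Λ = 1 := by
    letI := hΛ.toField
    rw [Module.length_eq_finrank, Module.finrank_self]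
    simp
  rw [h2, h3, mul_one] at h1
  have h4 := congrArg ENat.toNat h1
  rw [ENat.toNat_natCast, ENat.toNat_mul] at h4
  exact ⟨_, h4⟩

/-- For `F/k` finite separable and `L` any field over `k`, the local rings of `F ⊗[k] L` are
fields. -/
theorem isField_localization_sep (k F L : Type u) [Field k] [Field F] [Field L]
    [Algebra k F] [Algebra k L] [FiniteDimensional k F] [Algebra.IsSeparable k F]
    (q : Ideal (F ⊗[k] L)) [q.IsPrime] : IsField (Localization.AtPrime q) := by
  let c : L ⊗[k] F ≃+* F ⊗[k] L := (Algebra.TensorProduct.comm k L F).toRingEquiv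
  let q' : Ideal (L ⊗[k] F) := q.comap c.toRingHom
  haveI : q'.IsPrime := Ideal.comap_isPrime _ _
  let g : Localization.AtPrime q' ≃+* Localization.AtPrime q :=
    IsLocalization.ringEquivOfRingEquiv (M := q'.primeCompl) (T := q.primeCompl)
      (Localization.AtPrime q') (Localization.AtPrime q) c
      (Groth.Agent.H63.StalkBaseChange.primeCompl_map_ringEquiv c q)
  haveI : Algebra.FormallyUnramified k F := Algebra.FormallyUnramified.of_isSeparable k F
  haveI : Algebra.FormallyUnramified L (L ⊗[k] F) := inferInstance
  haveI : Algebra.FormallyUnramified (L ⊗[k] F) (Localization.AtPrime q') :=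
    Algebra.FormallyUnramified.of_isLocalization q'.primeCompl
  haveI : Algebra.FormallyUnramified L (Localization.AtPrime q') :=
    Algebra.FormallyUnramified.comp L (L ⊗[k] F) _
  haveI : Algebra.EssFiniteType L (Localization.AtPrime q') :=
    Algebra.EssFiniteType.comp L (L ⊗[k] F) _
  have := Algebra.FormallyUnramified.finite_of_free L (Localization.AtPrime q')
  have hf : IsField (Localization.AtPrime q') :=
    have := IsArtinianRing.of_finite L (Localization.AtPrime q')
    have := Algebra.FormallyUnramified.isReduced_of_field L (Localization.AtPrime q')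
    IsArtinianRing.isField_of_isReduced_of_isLocalRing _
  exact g.symm.toMulEquiv.isField hf

/-- Key lemma, with an abstract intermediate field `F` (`F/k` separable, `κ/F` purely
inseparable), `L` an arbitrary field over `k`. -/
theorem length_localization_tensor_dvd_aux (k F κ L : Type u) [Field k] [Field F] [Field κ]
    [Field L] [Algebra k F] [Algebra F κ] [Algebra k κ] [IsScalarTower k F κ]
    [Algebra k L] [FiniteDimensional k κ] [FiniteDimensional k F] [FiniteDimensional F κ]
    [Algebra.IsSeparable k F] [IsPurelyInseparable F κ]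
    (Q : Ideal (κ ⊗[k] L)) [Q.IsPrime] :
    (Module.length (Localization.AtPrime Q) (Localization.AtPrime Q)).toNat ∣
      Module.finrank F κ := by
  classical
  let e0 : κ ⊗[F] (F ⊗[k] L) ≃ₐ[F] κ ⊗[k] L := Algebra.TensorProduct.cancelBaseChange k F F κ L
  let Q1 : Ideal (κ ⊗[F] (F ⊗[k] L)) := Q.comap e0.toRingEquiv.toRingHom
  haveI : Q1.IsPrime := Ideal.comap_isPrime _ _
  have hL1 := length_localization_eq_of_ringEquiv e0.toRingEquiv Q Q1 rfl
  let q : Ideal (F ⊗[k] L) := Q1.comap
    (Algebra.TensorProduct.includeRight : (F ⊗[k] L) →ₐ[F] κ ⊗[F] (F ⊗[k] L)).toRingHom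
  haveI : q.IsPrime := Ideal.comap_isPrime _ _
  obtain ⟨Q', hQ', hQ'm, ⟨e1⟩⟩ :=
    Groth.Agent.H63.LocTensor.exists_prime_ringEquiv_localization_tensor F κ (F ⊗[k] L) Q1 q rfl
      (Localization.AtPrime q)
  haveI := hQ'
  obtain ⟨e2⟩ := Groth.Agent.H25.StalkBC.nonempty_ringEquiv_localization_of_purelyInseparable F κ
    (Localization.AtPrime q) Q' (by
      intro a ha
      apply hQ'm
      rw [Localization.AtPrime.map_eq_maximalIdeal]
      exact ha)
  have hfld := isField_localization_sep k F L q
  let e3 : (Localization.AtPrime q) ⊗[F] κ ≃+* κ ⊗[F] (Localization.AtPrime q) :=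
    (Algebra.TensorProduct.comm F (Localization.AtPrime q) κ).toRingEquiv
  let E : (Localization.AtPrime q) ⊗[F] κ ≃+* Localization.AtPrime Q1 := (e3.trans e2).trans e1
  haveI : IsLocalRing ((Localization.AtPrime q) ⊗[F] κ) := E.symm.isLocalRing
  have hfin := length_self_dvd_of_field_base (Localization.AtPrime q)
    ((Localization.AtPrime q) ⊗[F] κ) hfld
  have hE : Module.length ((Localization.AtPrime q) ⊗[F] κ) ((Localization.AtPrime q) ⊗[F] κ) =
      Module.length (Localization.AtPrime Q1) (Localization.AtPrime Q1) :=
    length_self_eq_of_ringEquiv (R := (Localization.AtPrime q) ⊗[F] κ)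
      (R' := Localization.AtPrime Q1) E
  rw [← hL1, ← hE]
  rwa [Module.finrank_baseChange] at hfin

/-- **Key lemma.** For a finite field extension `κ/k` and any field `L` over `k`, every local
ring of `κ ⊗[k] L` has length dividing `[κ : k]_i`. -/
theorem length_localization_tensor_dvd (k κ L : Type u) [Field k] [Field κ] [Field L]
    [Algebra k κ] [Algebra k L] [FiniteDimensional k κ] (Q : Ideal (κ ⊗[k] L)) [Q.IsPrime] :
    (Module.length (Localization.AtPrime Q) (Localization.AtPrime Q)).toNat ∣
      Field.finInsepDegree k κ := by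
  haveI : IsPurelyInseparable (separableClosure k κ) κ := separableClosure.isPurelyInseparable k κ
  haveI : Algebra.IsSeparable k (separableClosure k κ) := separableClosure.isSeparable k κ
  exact length_localization_tensor_dvd_aux k (separableClosure k κ) κ L Q

end Groth.Agent.H2.InsepDvd
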