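import Mathlib
import Groth.Agent.H2.InsepDvd
import Groth.Agent.H2.RamFibre

/-!
# Ramification index of primes of `R0 ⊗[k] k'` over `R0` divides `[k' : k]_i` (`k'/k` finite)
-/

set_option autoImplicit false
set_option linter.style.haveILetI false
universe u
open TensorProduct IsLocalRing

namespace Groth.Agent.H2.RamFibreDvd

open Groth.Agent.H2.InsepLen Groth.Agent.H2.InsepDvd

local notation "rr" => Ideal.comap Algebra.TensorProduct.includeRight

theorem ramificationIdx_fiber_dvd (k k' R0 : Type u) [Field k] [Field k'] [Algebra k k']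
    [FiniteDimensional k k']
    [CommRing R0] [Algebra k R0] (p : Ideal R0) [p.IsPrime]
    (qt : Ideal (p.Fiber (R0 ⊗[k] k'))) [qt.IsPrime] :
    (qt.comap (Algebra.TensorProduct.includeRight :
      (R0 ⊗[k] k') →ₐ[R0] p.Fiber (R0 ⊗[k] k'))).ramificationIdx R0 ∣
      Field.finInsepDegree k k' := by
  classical
  let := Localization.AtPrime.algebraOfLiesOver p (qt.comap (Algebra.TensorProduct.includeRight :
      (R0 ⊗[k] k') →ₐ[R0] p.Fiber (R0 ⊗[k] k')))
  rw [Ideal.ramificationIdx_eq p (qt.comap (Algebra.TensorProduct.includeRight :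
      (R0 ⊗[k] k') →ₐ[R0] p.Fiber (R0 ⊗[k] k')))]
  have h1 : Module.length (Localization.AtPrime (rr qt))
      (Localization.AtPrime (rr qt) ⧸ p.map (algebraMap R0 (Localization.AtPrime (rr qt)))) =
      Module.length (Localization.AtPrime (rr qt) ⧸ p.map (algebraMap R0 (Localization.AtPrime (rr qt))))
      (Localization.AtPrime (rr qt) ⧸ p.map (algebraMap R0 (Localization.AtPrime (rr qt)))) :=
    Module.length_eq_of_surjective Ideal.Quotient.mk_surjective
  let φ := Ideal.Fiber.localizationAlgEquivQuotient p qt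
  let φ' : Localization.AtPrime qt ≃+* (Localization.AtPrime (rr qt) ⧸
      p.map (algebraMap R0 (Localization.AtPrime (rr qt)))) := φ.toRingEquiv
  have h2 := length_self_eq_of_ringEquiv (R := Localization.AtPrime qt)
    (R' := (Localization.AtPrime (rr qt) ⧸ p.map (algebraMap R0 (Localization.AtPrime (rr qt))))) φ'
  let e1 : p.ResidueField ⊗[R0] (R0 ⊗[k] k') ≃ₐ[R0] p.ResidueField ⊗[k] k' :=
    Algebra.TensorProduct.cancelBaseChange k R0 R0 p.ResidueField k'
  let e2 : p.ResidueField ⊗[k] k' ≃+* k' ⊗[k] p.ResidueField :=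
    (Algebra.TensorProduct.comm k p.ResidueField k').toRingEquiv
  let e : p.ResidueField ⊗[R0] (R0 ⊗[k] k') ≃+* k' ⊗[k] p.ResidueField :=
    e1.toRingEquiv.trans e2
  let Q : Ideal (k' ⊗[k] p.ResidueField) := qt.comap e.symm.toRingHom
  haveI : Q.IsPrime := Ideal.comap_isPrime _ _
  have h3 := length_localization_eq_of_ringEquiv e.symm qt Q rfl
  have h4 := length_localization_tensor_dvd k k' p.ResidueField Q
  rw [h1, ← h2, ← h3]
  exact h4

/-- **Main algebraic theorem.** -/
theorem ramificationIdx_tensor_dvd (k k' R0 : Type u) [Field k] [Field k'] [Algebra k k']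
    [FiniteDimensional k k']
    [CommRing R0] [Algebra k R0] (p : Ideal R0) [p.IsPrime]
    (r : Ideal (R0 ⊗[k] k')) [hrp : r.IsPrime] (hr : r.comap (algebraMap R0 (R0 ⊗[k] k')) = p) :
    r.ramificationIdx R0 ∣ Field.finInsepDegree k k' := by
  classical
  let P : PrimeSpectrum R0 := ⟨p, inferInstance⟩
  let x : (PrimeSpectrum.comap (algebraMap R0 (R0 ⊗[k] k')) ⁻¹' {P}) :=
    ⟨⟨r, hrp⟩, by
      simp only [Set.mem_preimage, Set.mem_singleton_iff]
      ext1
      exact hr⟩
  let y := PrimeSpectrum.preimageEquivFiber R0 (R0 ⊗[k] k') P x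
  have hy : (PrimeSpectrum.preimageEquivFiber R0 (R0 ⊗[k] k') P).symm y = x :=
    Equiv.symm_apply_apply _ x
  have hy' : Ideal.comap (Algebra.TensorProduct.includeRight :
      (R0 ⊗[k] k') →ₐ[R0] p.Fiber (R0 ⊗[k] k')) y.asIdeal = r := by
    have := congrArg (fun z => z.1.asIdeal) hy
    exact this
  haveI : y.asIdeal.IsPrime := y.2
  have := ramificationIdx_fiber_dvd k k' R0 p y.asIdeal
  rw [hy'] at this
  exact this

theorem ramificationIdx_tensor_pos (k k' R0 : Type u) [Field k] [Field k'] [Algebra k k']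
    [FiniteDimensional k k']
    [CommRing R0] [Algebra k R0]
    (r : Ideal (R0 ⊗[k] k')) [hrp : r.IsPrime] :
    0 < r.ramificationIdx R0 := by
  haveI : Module.Finite R0 (R0 ⊗[k] k') := inferInstance
  exact Ideal.ramificationIdx_pos r R0

end Groth.Agent.H2.RamFibreDvd
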