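import Mathlib
import Groth.Prelude
import Groth.Agent.H2.RamFibreDvd
import Groth.Agent.H2.RamBC
import Groth.Agent.H37.GalTrans

set_option autoImplicit false
set_option linter.style.haveILetI false
universe u
open CategoryTheory CategoryTheory.Limits AlgebraicGeometry IsLocalRing TensorProduct

namespace Groth.Agent.H2.CycDesc

/-- For a local homomorphism of local rings, Mathlib's (length-based) ramification index of the
maximal ideal is the length of `B / m_A B`. -/
theorem ramificationIdx_maximalIdeal_eq_length {A B : Type*} [CommRing A] [CommRing B]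
    [IsLocalRing A] [IsLocalRing B] [Algebra A B] [IsLocalHom (algebraMap A B)] :
    (maximalIdeal B).ramificationIdx A =
      (Module.length B (B ⧸ (maximalIdeal A).map (algebraMap A B))).toNat := by
  haveI : (maximalIdeal B).LiesOver (maximalIdeal A) := by
    constructor
    have h := ((IsLocalRing.local_hom_TFAE (algebraMap A B)).out 0 4).mp ‹_›
    exact h.symm
  rw [Ideal.ramificationIdx_eq (maximalIdeal A) (maximalIdeal B)]
  congr 1
  have hu : (maximalIdeal B).primeCompl ≤ IsUnit.submonoid B := by
    intro x hx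
    have : x ∉ maximalIdeal B := hx
    rw [mem_maximalIdeal, mem_nonunits_iff, not_not] at this
    exact this
  let ψ : B ≃ₐ[B] Localization.AtPrime (maximalIdeal B) :=
    IsLocalization.atUnits B (maximalIdeal B).primeCompl hu
  symm
  apply Groth.Agent.H2.RamFibre.length_quotient_eq_of_ringEquiv ψ.toRingEquiv
  rw [Ideal.map_map]
  congr 1

/-- The multiplicity of the fibre at a point: length of `O_{Y,y} / m_{p y} O_{Y,y}`. -/
noncomputable def ell {Y X : Scheme.{u}} (p : Y ⟶ X) (y : Y) : ℕ :=
  (Module.length (Y.presheaf.stalk y)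
      (Y.presheaf.stalk y ⧸ Ideal.map (p.stalkMap y).hom
        (IsLocalRing.maximalIdeal (X.presheaf.stalk (p y))))).toNat

theorem pullFun_eq {Y X : Scheme.{u}} (p : Y ⟶ X) (α : X → ℤ) (y : Y) :
    Cyc.pullFun p (fun _ => 0) (fun _ => 0) 0 α y = α (p y) * (ell p y : ℤ) := by
  unfold Cyc.pullFun ell
  simp

theorem ell_comp_iso {Y X : Scheme.{u}} (t : Y ⟶ Y) [IsIso t] (p : Y ⟶ X) (y : Y) :
    ell (t ≫ p) y = ell p (t y) := by
  unfold ell
  congr 1
  let ψ : Y.presheaf.stalk (t y) ≃+* Y.presheaf.stalk y :=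
    (asIso (t.stalkMap y)).commRingCatIsoToRingEquiv
  symm
  apply Groth.Agent.H2.RamFibre.length_quotient_eq_of_ringEquiv ψ
  rw [Ideal.map_map]
  congr 1
  rw [Scheme.Hom.stalkMap_comp]
  rfl

section BC

variable {k k' : Type u} [Field k] [Field k'] [Algebra k k'] [FiniteDimensional k k']
  {X : Scheme.{u}} (f : X ⟶ Spec (CommRingCat.of k))

theorem ell_dvd_and_pos
    (x' : ↥(pullback f (Spec.map (CommRingCat.ofHom (algebraMap k k'))))) :
    ell (pullback.fst f (Spec.map (CommRingCat.ofHom (algebraMap k k')))) x' ∣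
        Field.finInsepDegree k k' ∧
      0 < ell (pullback.fst f (Spec.map (CommRingCat.ofHom (algebraMap k k')))) x' := by
  letI alg := ((pullback.fst f (Spec.map (CommRingCat.ofHom (algebraMap k k')))).stalkMap x').hom.toAlgebra
  haveI : IsLocalHom (algebraMap (X.presheaf.stalk
      ((pullback.fst f (Spec.map (CommRingCat.ofHom (algebraMap k k')))) x'))
      ((pullback f (Spec.map (CommRingCat.ofHom (algebraMap k k')))).presheaf.stalk x')) := by
    show IsLocalHom ((pullback.fst f (Spec.map (CommRingCat.ofHom (algebraMap k k')))).stalkMap x').hom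
    infer_instance
  have h0 : ell (pullback.fst f (Spec.map (CommRingCat.ofHom (algebraMap k k')))) x' =
      (maximalIdeal ((pullback f (Spec.map (CommRingCat.ofHom (algebraMap k k')))).presheaf.stalk x')).ramificationIdx
        (X.presheaf.stalk ((pullback.fst f (Spec.map (CommRingCat.ofHom (algebraMap k k')))) x')) := by
    rw [ramificationIdx_maximalIdeal_eq_length]
    rfl
  obtain ⟨U, hU, hxU, h⟩ := Groth.Agent.H2.RamBC.ramificationIdx_stalkMap_eq f
    (pullback.fst f (Spec.map (CommRingCat.ofHom (algebraMap k k'))))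
    (pullback.snd f (Spec.map (CommRingCat.ofHom (algebraMap k k'))))
    (IsPullback.of_hasPullback _ _) x'
  letI algk : Algebra k Γ(X, U) :=
    ((Scheme.ΓSpecIso (CommRingCat.of k)).inv ≫ f.appLE ⊤ U le_top).hom.toAlgebra
  obtain ⟨r, hr, hrp, he⟩ := h
  haveI := hr
  rw [h0]
  have he' : (maximalIdeal ((pullback f (Spec.map (CommRingCat.ofHom (algebraMap k k')))).presheaf.stalk x')).ramificationIdx
        (X.presheaf.stalk ((pullback.fst f (Spec.map (CommRingCat.ofHom (algebraMap k k')))) x')) =
      r.ramificationIdx Γ(X, U) := he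
  rw [he']
  exact ⟨Groth.Agent.H2.RamFibreDvd.ramificationIdx_tensor_dvd k k' Γ(X, U) _ r hrp,
    Groth.Agent.H2.RamFibreDvd.ramificationIdx_tensor_pos k k' Γ(X, U) r⟩

end BC

/-- On a compact space a locally finitely supported function has finite support. -/
theorem finite_support_of_compact {T : Type*} [TopologicalSpace T] [CompactSpace T]
    (D : Function.locallyFinsupp T ℤ) : (Function.support D).Finite := by
  have h := D.supportLocallyFiniteWithinDomain'
  choose U hU hfin using fun z => h z (Set.mem_univ z)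
  obtain ⟨t, -, ht⟩ := isCompact_univ.elim_nhds_subcover U (fun x _ => hU x)
  have : Function.support D ⊆ ⋃ x ∈ t, (U x ∩ Function.support D.toFun) := by
    intro y hy
    have hy' := ht (Set.mem_univ y)
    simp only [Set.mem_iUnion] at hy' ⊢
    obtain ⟨x, hx, hyx⟩ := hy'
    exact ⟨x, hx, hyx, hy⟩
  refine Set.Finite.subset ?_ this
  exact Set.Finite.biUnion t.finite_toSet (fun x _ => hfin x)

section Main

variable {k k' : Type u} [Field k] [Field k'] [Algebra k k'] [FiniteDimensional k k']
  [Normal k k'] {X : Scheme.{u}} (f : X ⟶ Spec (CommRingCat.of k))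

omit [FiniteDimensional k k'] in
theorem ell_eq_of_fibre
    (x' y' : ↥(pullback f (Spec.map (CommRingCat.ofHom (algebraMap k k')))))
    (h : (pullback.fst f (Spec.map (CommRingCat.ofHom (algebraMap k k')))) x' =
      (pullback.fst f (Spec.map (CommRingCat.ofHom (algebraMap k k')))) y') :
    ell (pullback.fst f (Spec.map (CommRingCat.ofHom (algebraMap k k')))) x' =
      ell (pullback.fst f (Spec.map (CommRingCat.ofHom (algebraMap k k')))) y' := by
  letI : X.Over (Spec (CommRingCat.of k)) := ⟨f⟩
  obtain ⟨σ, hσ⟩ := Groth.Agent.H37.exists_galAct_eq k X k' x' y' h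
  subst hσ
  haveI : IsIso (Curv2.galAct k X k' σ) := Groth.Agent.H37.galAct_isIso k X k' σ
  have h1 := ell_comp_iso (Curv2.galAct k X k' σ)
    (pullback.fst f (Spec.map (CommRingCat.ofHom (algebraMap k k')))) x'
  refine Eq.trans ?_ h1
  congr 1
  exact (Groth.Agent.H37.galAct_fst k X k' σ).symm

omit [FiniteDimensional k k'] in
theorem cyc_eq_of_fibre
    (Z' : ↥(pullback f (Spec.map (CommRingCat.ofHom (algebraMap k k')))) → ℤ)
    (hZ' : ∀ (σ : k' ≃ₐ[k] k')
      (t : pullback f (Spec.map (CommRingCat.ofHom (algebraMap k k'))) ⟶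
        pullback f (Spec.map (CommRingCat.ofHom (algebraMap k k')))),
      t ≫ pullback.fst f _ = pullback.fst f _ →
      t ≫ pullback.snd f _ = pullback.snd f _ ≫ Spec.map (CommRingCat.ofHom σ.toAlgHom.toRingHom) →
      ∀ x', Z' (t.base x') = Z' x')
    (x' y' : ↥(pullback f (Spec.map (CommRingCat.ofHom (algebraMap k k')))))
    (h : (pullback.fst f (Spec.map (CommRingCat.ofHom (algebraMap k k')))) x' =
      (pullback.fst f (Spec.map (CommRingCat.ofHom (algebraMap k k')))) y') :
    Z' x' = Z' y' := by
  letI : X.Over (Spec (CommRingCat.of k)) := ⟨f⟩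
  obtain ⟨σ, hσ⟩ := Groth.Agent.H37.exists_galAct_eq k X k' x' y' h
  subst hσ
  exact (hZ' σ (Curv2.galAct k X k' σ) (Groth.Agent.H37.galAct_fst k X k' σ)
    (Groth.Agent.H37.galAct_snd k X k' σ) x').symm

omit [FiniteDimensional k k'] [Normal k k'] in
theorem surjective_fst :
    Function.Surjective (pullback.fst f (Spec.map (CommRingCat.ofHom (algebraMap k k')))).base := by
  haveI : Surjective (Spec.map (CommRingCat.ofHom (algebraMap k k'))) := by
    constructor
    intro y
    haveI : Subsingleton ↥(Spec (CommRingCat.of k)) :=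
      (inferInstance : Subsingleton (PrimeSpectrum k))
    obtain ⟨z⟩ : Nonempty ↥(Spec (CommRingCat.of k')) :=
      (inferInstance : Nonempty (PrimeSpectrum k'))
    exact ⟨z, Subsingleton.elim _ _⟩
  exact (inferInstance : Surjective (pullback.fst f
    (Spec.map (CommRingCat.ofHom (algebraMap k k'))))).surj

theorem main [QuasiCompact f]
    (Z' : AlgebraicCycle (pullback f (Spec.map (CommRingCat.ofHom (algebraMap k k')))) ℤ)
    (hZ' : ∀ (σ : k' ≃ₐ[k] k')
      (t : pullback f (Spec.map (CommRingCat.ofHom (algebraMap k k'))) ⟶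
        pullback f (Spec.map (CommRingCat.ofHom (algebraMap k k')))),
      t ≫ pullback.fst f _ = pullback.fst f _ →
      t ≫ pullback.snd f _ = pullback.snd f _ ≫ Spec.map (CommRingCat.ofHom σ.toAlgHom.toRingHom) →
      ∀ x', Z' (t.base x') = Z' x') :
    ∃! Z : AlgebraicCycle X ℤ, ∀ x' : ↥(pullback f (Spec.map (CommRingCat.ofHom (algebraMap k k')))),
      (Field.finInsepDegree k k' : ℤ) * Z' x' =
        Cyc.pullFun (pullback.fst f (Spec.map (CommRingCat.ofHom (algebraMap k k'))))
          (fun _ => 0) (fun _ => 0) 0 ⇑Z x' := by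
  classical
  have hsurj := surjective_fst (k' := k') f
  let sec : X → ↥(pullback f (Spec.map (CommRingCat.ofHom (algebraMap k k')))) :=
    Function.surjInv hsurj
  have hsec : ∀ x, (pullback.fst f (Spec.map (CommRingCat.ofHom (algebraMap k k')))) (sec x) = x :=
    Function.surjInv_eq hsurj
  let Zfun : X → ℤ := fun x => (Field.finInsepDegree k k' : ℤ) * Z' (sec x) /
    (ell (pullback.fst f (Spec.map (CommRingCat.ofHom (algebraMap k k')))) (sec x) : ℤ)
  have key : ∀ x' : ↥(pullback f (Spec.map (CommRingCat.ofHom (algebraMap k k')))),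
      (Field.finInsepDegree k k' : ℤ) * Z' x' =
        Zfun ((pullback.fst f (Spec.map (CommRingCat.ofHom (algebraMap k k')))) x') *
          (ell (pullback.fst f (Spec.map (CommRingCat.ofHom (algebraMap k k')))) x' : ℤ) := by
    intro x'
    have hfib := hsec ((pullback.fst f (Spec.map (CommRingCat.ofHom (algebraMap k k')))) x')
    have h1 := cyc_eq_of_fibre f (⇑Z') hZ' _ _ hfib
    have h2 := ell_eq_of_fibre f _ _ hfib
    obtain ⟨hd, -⟩ := ell_dvd_and_pos f x'
    show _ = (Field.finInsepDegree k k' : ℤ) * Z' (sec _) / ((ell _ (sec _) : ℕ) : ℤ) * _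
    rw [h1, h2]
    have hd' : ((ell (pullback.fst f (Spec.map (CommRingCat.ofHom (algebraMap k k')))) x' : ℕ) : ℤ) ∣
        (Field.finInsepDegree k k' : ℤ) * Z' x' :=
      Dvd.dvd.mul_right (Int.natCast_dvd_natCast.mpr hd) _
    exact (Int.ediv_mul_cancel hd').symm
  haveI : CompactSpace ↥(pullback f (Spec.map (CommRingCat.ofHom (algebraMap k k')))) :=
    QuasiCompact.compactSpace_of_compactSpace
      (pullback.snd f (Spec.map (CommRingCat.ofHom (algebraMap k k'))))
  have hfinZ' := finite_support_of_compact Z'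
  have hsupp : Function.support Zfun ⊆
      (pullback.fst f (Spec.map (CommRingCat.ofHom (algebraMap k k')))).base '' Function.support Z' := by
    intro x hx
    refine ⟨sec x, ?_, hsec x⟩
    intro h0
    apply hx
    show (Field.finInsepDegree k k' : ℤ) * Z' (sec x) / _ = 0
    have h0' : Z' (sec x) = 0 := h0
    rw [h0', mul_zero, Int.zero_ediv]
  have hfinZ : (Function.support Zfun).Finite := (hfinZ'.image _).subset hsupp
  let Z : AlgebraicCycle X ℤ :=
    { toFun := Zfun
      supportWithinDomain' := Set.subset_univ _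
      supportLocallyFiniteWithinDomain' := fun z _ =>
        ⟨Set.univ, Filter.univ_mem, hfinZ.subset Set.inter_subset_right⟩ }
  refine ⟨Z, ?_, ?_⟩
  · intro x'
    rw [pullFun_eq]
    exact key x'
  · intro Z2 hZ2
    ext x
    have h1 := hZ2 (sec x)
    rw [pullFun_eq, key (sec x), hsec x] at h1
    obtain ⟨-, hpos⟩ := ell_dvd_and_pos f (sec x)
    have hne : ((ell (pullback.fst f (Spec.map (CommRingCat.ofHom (algebraMap k k')))) (sec x) : ℕ) : ℤ) ≠ 0 := by
      exact_mod_cast hpos.ne'
    exact (mul_right_cancel₀ hne h1).symm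

end Main

end Groth.Agent.H2.CycDesc
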