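import Groth.Agent.H2.Matlis4
import Groth.Agent.S0300
import Groth.Agent.S0311

/-!
# Helper library (helper2): power torsion modules with "derivation-like" operators over a local
ring with invertible natural numbers are direct sums of copies of the injective hull of the residue
field.
-/

set_option autoImplicit false
universe u

namespace Groth.Agent.H2.DModTors

open IsLocalRing

section Div

variable {A : Type u} [CommRing A] {M : Type u} [AddCommGroup M] [Module A M]

/-- `x`-divisibility from a derivation-like operator: if `D (x^(n+1) z) = (n+1) x^n z + x^(n+1) D z`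
and the natural numbers are invertible, then every `x`-power torsion element of a `D`-stable
submodule `P` is `x` times an element of `P`. -/
theorem exists_smul_eq (x : A) (P : Submodule A M) (D : M →+ M) (hDP : ∀ z ∈ P, D z ∈ P)
    (hunit : ∀ n : ℕ, IsUnit ((n + 1 : ℕ) : A))
    (hD : ∀ (n : ℕ) (z : M),
      D (x ^ (n + 1) • z) = ((n + 1 : ℕ) : A) • x ^ n • z + x ^ (n + 1) • D z) :
    ∀ (n : ℕ) (z : M), z ∈ P → x ^ n • z = 0 → ∃ w ∈ P, x • w = z := by
  intro n
  induction n with
  | zero =>
    intro z _ hz
    rw [pow_zero, one_smul] at hz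
    exact ⟨0, P.zero_mem, by rw [smul_zero, hz]⟩
  | succ n ih =>
    intro z hzP hz
    have h1 := hD n z
    rw [hz, map_zero] at h1
    have h2 : x ^ n • (((n + 1 : ℕ) : A) • z + x • D z) = 0 := by
      rw [smul_add, smul_comm (x ^ n) (((n + 1 : ℕ) : A)) z, smul_smul (x ^ n) x, ← pow_succ]
      exact h1.symm
    obtain ⟨w', hw'P, hw'⟩ := ih (((n + 1 : ℕ) : A) • z + x • D z)
      (P.add_mem (P.smul_mem _ hzP) (P.smul_mem _ (hDP z hzP))) h2
    obtain ⟨u, hu⟩ := hunit n
    refine ⟨((u⁻¹ : Aˣ) : A) • (w' - D z), P.smul_mem _ (P.sub_mem hw'P (hDP z hzP)), ?_⟩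
    have h3 : x • (w' - D z) = ((n + 1 : ℕ) : A) • z := by
      rw [smul_sub, hw']
      abel
    rw [smul_comm, h3, ← hu, smul_smul, Units.inv_mul, one_smul]

end Div

variable {A : Type u} [CommRing A] [IsLocalRing A] [IsNoetherianRing A]

/-- **Main theorem.** -/
theorem main (d : ℕ) (x : Fin d → A) (hx : maximalIdeal A = Ideal.span (Set.range x))
    (hunit : ∀ n : ℕ, IsUnit ((n + 1 : ℕ) : A))
    (E : Type u) [AddCommGroup E] [Module A E] (e : ResidueField A →ₗ[A] E)
    (he : InjHull.IsInjectiveHull e)
    (M : Type u) [AddCommGroup M] [Module A M]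
    (hM : LocCoh.IsPowerTorsion (maximalIdeal A) M) (D : Fin d → M →+ M)
    (hD1 : ∀ (i : Fin d) (n : ℕ) (z : M),
      D i (x i ^ (n + 1) • z) = ((n + 1 : ℕ) : A) • x i ^ n • z + x i ^ (n + 1) • D i z)
    (hD2 : ∀ i j : Fin d, j ≠ i → ∀ z : M, D i (x j • z) = x j • D i z) :
    ∃ J : Type u, Nonempty (M ≃ₗ[A] (J →₀ E)) := by
  classical
  -- the socle
  let V : Submodule A M := Submodule.torsionBySet A M (maximalIdeal A : Set A)
  letI : Field (A ⧸ maximalIdeal A) := Ideal.Quotient.field (maximalIdeal A)
  let J := Module.Free.ChooseBasisIndex (A ⧸ maximalIdeal A) V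
  let b : Module.Basis J (A ⧸ maximalIdeal A) V :=
    Module.Free.chooseBasis (A ⧸ maximalIdeal A) V
  let ρ : V ≃ₗ[A] (J →₀ (A ⧸ maximalIdeal A)) := b.repr.restrictScalars A
  -- the hull map on `A ⧸ m`
  have hle : maximalIdeal A ≤ LinearMap.ker (LinearMap.toSpanSingleton A E (e 1)) := fun c hc => by
    rw [LinearMap.mem_ker, LinearMap.toSpanSingleton_apply]
    exact Groth.Agent.H2.Matlis.maximalIdeal_smul_f e hc 1
  let e' : (A ⧸ maximalIdeal A) →ₗ[A] E :=
    (maximalIdeal A).liftQ (LinearMap.toSpanSingleton A E (e 1)) hle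
  have he'mk : ∀ a : A, e' (Ideal.Quotient.mk (maximalIdeal A) a) = e (residue A a) := by
    intro a
    show a • e 1 = _
    rw [Groth.Agent.H2.Matlis.smul_f, mul_one]
  have he'inj : Function.Injective e' := by
    rw [injective_iff_map_eq_zero]
    intro q hq
    obtain ⟨a, rfl⟩ := Ideal.Quotient.mk_surjective q
    rw [he'mk] at hq
    have h1 : residue A a = 0 := he.injective (hq.trans (map_zero e).symm)
    rw [Ideal.Quotient.eq_zero_iff_mem]
    exact (residue_eq_zero_iff a).mp h1
  have he'range : ∀ w : E, w ∈ LinearMap.range e → w ∈ LinearMap.range e' := by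
    rintro _ ⟨t, rfl⟩
    obtain ⟨a, rfl⟩ := residue_surjective t
    exact ⟨Ideal.Quotient.mk (maximalIdeal A) a, he'mk a⟩
  let σ : V →ₗ[A] (J →₀ E) := (Finsupp.mapRange.linearMap e') ∘ₗ ρ.toLinearMap
  have hσinj : Function.Injective σ := by
    intro v w hvw
    apply ρ.injective
    exact Finsupp.mapRange_injective e' (map_zero e') he'inj hvw
  -- `J →₀ E` is injective
  have hFinj : Module.Injective A (J →₀ E) := by
    have h1 : Module.Injective A (DirectSum J (fun _ : J => E)) :=
      Groth.Agent.S0300.result A (fun _ : J => E) (fun _ => he.isInjective)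
    exact Groth.Agent.H2.Matlis.injective_of_equiv (finsuppLEquivDirectSum A E J).symm h1
  obtain ⟨φ, hφ⟩ := hFinj.out V.subtype V.subtype_injective σ
  have hφV : ∀ v : V, φ (v : M) = σ v := hφ
  -- `φ` is injective
  have hφinj : Function.Injective φ := by
    rw [injective_iff_map_eq_zero]
    intro z hz
    by_contra hz0
    obtain ⟨a, haz, hkill⟩ := Groth.Agent.H2.Matlis.exists_smul_ne_zero_killed hM z hz0
    have hmem : a • z ∈ V := by
      rw [Submodule.mem_torsionBySet_iff]
      intro c
      exact hkill c.1 c.2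
    have h1 : σ ⟨a • z, hmem⟩ = 0 := by
      rw [← hφV ⟨a • z, hmem⟩]
      show φ (a • z) = 0
      rw [map_smul, hz, smul_zero]
    have h2 : (⟨a • z, hmem⟩ : V) = 0 := hσinj (h1.trans (map_zero σ).symm)
    exact haz (congrArg Subtype.val h2)
  -- the socle of `E`
  have hE := Groth.Agent.S0311.result A E e he
  have hsocE : ∀ w : E, (∀ a ∈ maximalIdeal A, a • w = 0) → w ∈ LinearMap.range e := by
    intro w hw
    by_cases hw0 : w = 0
    · rw [hw0]; exact Submodule.zero_mem _
    have hne : Submodule.span A {w} ≠ ⊥ := by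
      rw [Ne, Submodule.span_singleton_eq_bot]; exact hw0
    have hess := he.essential (Submodule.span A {w}) hne
    obtain ⟨y, hy, hy0⟩ := (Submodule.ne_bot_iff _).mp hess
    obtain ⟨hy1, hy2⟩ := Submodule.mem_inf.mp hy
    obtain ⟨a, rfl⟩ := Submodule.mem_span_singleton.mp hy1
    have hau : IsUnit a := by
      by_contra hnu
      exact hy0 (hw a ((mem_maximalIdeal a).mpr hnu))
    obtain ⟨u, rfl⟩ := hau
    have h1 : w = ((u⁻¹ : Aˣ) : A) • ((u : A) • w) := by
      rw [smul_smul, Units.inv_mul, one_smul]
    rw [h1]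
    exact Submodule.smul_mem _ _ hy2
  -- the range of `φ`
  set N : Submodule A (J →₀ E) := LinearMap.range φ with hN
  have hsocF : ∀ y : J →₀ E, (∀ a ∈ maximalIdeal A, a • y = 0) → y ∈ N := by
    intro y hy
    have h1 : y ∈ LinearMap.range (Finsupp.mapRange.linearMap (α := J) e') := by
      rw [← Finsupp.sum_single y]
      apply Submodule.sum_mem
      intro j _
      have h2 : y j ∈ LinearMap.range e' := he'range _ (hsocE (y j) (fun a ha => by
        have := congrArg (fun f : J →₀ E => f j) (hy a ha)
        simpa using this))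
      obtain ⟨c, hc⟩ := h2
      refine ⟨Finsupp.single j c, ?_⟩
      rw [Finsupp.mapRange.linearMap_apply, Finsupp.mapRange_single, hc]
    obtain ⟨c, hc⟩ := h1
    refine ⟨((ρ.symm c : V) : M), ?_⟩
    rw [hφV]
    show Finsupp.mapRange.linearMap e' (ρ (ρ.symm c)) = y
    rw [LinearEquiv.apply_symm_apply, hc]
  have hxm : ∀ i, x i ∈ maximalIdeal A := fun i => by
    rw [hx]; exact Ideal.subset_span ⟨i, rfl⟩
  -- descending induction on the number of variables killed
  have hP : ∀ k : ℕ, k ≤ d → ∀ y : J →₀ E, (∀ j : Fin d, (j : ℕ) < d - k → x j • y = 0) →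
      (∀ a ∈ maximalIdeal A, a • y ∈ N) → y ∈ N := by
    intro k
    induction k with
    | zero =>
      intro _ y hy _
      apply hsocF
      intro a ha
      rw [hx] at ha
      refine Submodule.span_induction (p := fun a _ => a • y = 0) ?_ ?_ ?_ ?_ ha
      · rintro _ ⟨j, rfl⟩
        exact hy j (by rw [Nat.sub_zero]; exact j.2)
      · exact zero_smul _ _
      · intro a b _ _ ha hb
        rw [add_smul, ha, hb, add_zero]
      · intro r a _ ha
        rw [smul_eq_mul, mul_smul, ha, smul_zero]
    | succ k ih =>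
      intro hk y hy hmy
      have hi : d - (k + 1) < d := by omega
      set i : Fin d := ⟨d - (k + 1), hi⟩ with hi_def
      obtain ⟨z, hz⟩ := hmy (x i) (hxm i)
      -- the submodule of `M` killed by the first variables
      let P : Submodule A M :=
        { carrier := {z | ∀ j : Fin d, (j : ℕ) < d - (k + 1) → x j • z = 0}
          add_mem' := fun {a b} ha hb j hj => by rw [smul_add, ha j hj, hb j hj, add_zero]
          zero_mem' := fun j _ => smul_zero _
          smul_mem' := fun c a ha j hj => by rw [smul_comm, ha j hj, smul_zero] }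
      have hzP : z ∈ P := by
        intro j hj
        apply hφinj
        rw [map_smul, hz, smul_comm, hy j hj, smul_zero, map_zero]
      have hDP : ∀ z ∈ P, D i z ∈ P := by
        intro z hz j hj
        have hji : j ≠ i := by
          intro h
          rw [h] at hj
          exact lt_irrefl _ hj
        rw [← hD2 i j hji z, hz j hj, map_zero]
      obtain ⟨n, hn⟩ := hM z
      have hzn : x i ^ n • z = 0 := hn _ (Ideal.pow_mem_pow (hxm i) n)
      obtain ⟨w, hwP, hw⟩ := exists_smul_eq (x i) P (D i) hDP hunit (hD1 i) n z hzP hzn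
      have hy' : y - φ w ∈ N := by
        apply ih (by omega)
        · intro j hj
          rw [smul_sub, ← map_smul]
          by_cases hji : (j : ℕ) < d - (k + 1)
          · rw [hy j hji, hwP j hji, map_zero, sub_zero]
          · have hje : j = i := by
              apply Fin.ext
              show (j : ℕ) = d - (k + 1)
              omega
            rw [hje, hw, hz, sub_self]
        · intro a ha
          rw [smul_sub, ← map_smul]
          exact N.sub_mem (hmy a ha) ⟨_, rfl⟩
      have : y = (y - φ w) + φ w := by abel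
      rw [this]
      exact N.add_mem hy' ⟨_, rfl⟩
  have hP0 : ∀ y : J →₀ E, (∀ a ∈ maximalIdeal A, a • y ∈ N) → y ∈ N := by
    intro y hy
    apply hP d le_rfl y _ hy
    intro j hj
    rw [Nat.sub_self] at hj
    exact absurd hj (Nat.not_lt_zero _)
  have hQ : ∀ (n : ℕ) (y : J →₀ E), (∀ a ∈ maximalIdeal A ^ n, a • y = 0) → y ∈ N := by
    intro n
    induction n with
    | zero =>
      intro y hy
      have := hy 1 (by rw [pow_zero, Ideal.one_eq_top]; trivial)
      rw [one_smul] at this
      rw [this]
      exact N.zero_mem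
    | succ n ih =>
      intro y hy
      apply hP0
      intro a ha
      apply ih
      intro b hb
      rw [smul_smul]
      apply hy
      rw [pow_succ]
      exact Ideal.mul_mem_mul hb ha
  have hφsurj : Function.Surjective φ := by
    intro y
    have hy : y ∈ N := by
      rw [← Finsupp.sum_single y]
      apply Submodule.sum_mem
      intro j _
      obtain ⟨n, hn⟩ := hE (y j)
      apply hQ n
      intro a ha
      rw [Finsupp.smul_single, hn a ha, Finsupp.single_zero]
    exact hy
  exact ⟨J, ⟨LinearEquiv.ofBijective φ ⟨hφinj, hφsurj⟩⟩⟩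

end Groth.Agent.H2.DModTors
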