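import Mathlib
import Groth.Prelude.Def_FEt
import Groth.Prelude.Def_Pi1
import Groth.Prelude.Def_Hensel

/-!
# (S2) for helper47 (S1143): a split cover gives a split algebra
-/

set_option autoImplicit false
universe u
open IsLocalRing TensorProduct AlgebraicGeometry CategoryTheory CategoryTheory.Limits

namespace Groth.Agent.H2.FEtShS2

/-- (S2) a split cover gives a split algebra. -/
theorem algEquiv_of_isSplit (K L E : Type u) [Field K] [Field L] [Algebra K L] [CommRing E]
    [Algebra K E] (V : FEt.Cat (Spec (CommRingCat.of K))) (e : V.left ≅ Spec (CommRingCat.of E))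
    (he : e.hom ≫ Spec.map (CommRingCat.ofHom (algebraMap K E)) = V.hom)
    (hV : Pi1.IsSplit ((FEt.restrict (Spec.map (CommRingCat.ofHom (algebraMap K L)))).obj V)) :
    ∃ (ι : Type u) (_ : Finite ι), Nonempty (L ⊗[K] E ≃ₐ[L] (ι → L)) := by
  obtain ⟨ι, hι, e₀, he₀⟩ := hV
  refine ⟨ι, hι, ?_⟩
  -- the pullback `W.left = pullback V.hom f`
  let f : Spec (CommRingCat.of L) ⟶ Spec (CommRingCat.of K) :=
    Spec.map (CommRingCat.ofHom (algebraMap K L))
  let e₀' : pullback V.hom f ≅ ∐ fun _ : ι => Spec (CommRingCat.of L) := e₀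
  have he₀' : ∀ i : ι, Sigma.ι (fun _ : ι => Spec (CommRingCat.of L)) i ≫ e₀'.inv ≫
      pullback.snd V.hom f = 𝟙 _ := fun i => he₀ i
  -- a : pullback V.hom f ≅ pullback (Spec.map (algebraMap K E)) f
  let aHom : pullback V.hom f ⟶ pullback (Spec.map (CommRingCat.ofHom (algebraMap K E))) f :=
    pullback.map V.hom f (Spec.map (CommRingCat.ofHom (algebraMap K E))) f e.hom (𝟙 _) (𝟙 _)
      (by rw [Category.comp_id, he]) (by simp)
  haveI haIso : IsIso aHom := pullback.map_isIso _ _ _ _ _ _ _ _ _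
  have ha_snd : aHom ≫ pullback.snd _ _ = pullback.snd _ _ := by
    dsimp only [aHom, pullback.map]
    rw [pullback.lift_snd, Category.comp_id]
  -- b : pullback ≅ Spec (E ⊗[K] L)
  let b := pullbackSpecIso K E L
  have hb_snd : b.hom ≫ Spec.map (CommRingCat.ofHom
      (Algebra.TensorProduct.includeRight : L →ₐ[K] E ⊗[K] L).toRingHom) = pullback.snd _ _ :=
    pullbackSpecIso_hom_snd K E L
  -- c : ∐ Spec L ≅ Spec (ι → L)
  let cHom := sigmaSpec (fun _ : ι => CommRingCat.of L)
  haveI : IsIso cHom := by dsimp only [cHom]; infer_instance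
  -- θ : Spec (ι → L) ≅ Spec (E ⊗ L)
  let θ : Spec (CommRingCat.of (ι → L)) ≅ Spec (CommRingCat.of (E ⊗[K] L)) :=
    (asIso cHom).symm ≪≫ e₀'.symm ≪≫ (@asIso _ _ _ _ aHom haIso) ≪≫ b
  let r₁ : CommRingCat.of (E ⊗[K] L) ⟶ CommRingCat.of (ι → L) := Spec.preimage θ.hom
  let r₂ : CommRingCat.of (ι → L) ⟶ CommRingCat.of (E ⊗[K] L) := Spec.preimage θ.inv
  have h12 : r₁ ≫ r₂ = 𝟙 _ := by
    apply Spec.map_injective
    rw [Spec.map_comp, Spec.map_preimage, Spec.map_preimage, Iso.inv_hom_id, Spec.map_id]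
  have h21 : r₂ ≫ r₁ = 𝟙 _ := by
    apply Spec.map_injective
    rw [Spec.map_comp, Spec.map_preimage, Spec.map_preimage, Iso.hom_inv_id, Spec.map_id]
  -- the section condition
  have hsec : ∀ (i : ι) (l : L), r₁.hom ((1 : E) ⊗ₜ[K] l) i = l := by
    intro i l
    have h1 : Spec.map (CommRingCat.ofHom (Pi.evalRingHom (fun _ : ι => L) i)) ≫ θ.hom ≫
        Spec.map (CommRingCat.ofHom
          (Algebra.TensorProduct.includeRight : L →ₐ[K] E ⊗[K] L).toRingHom) = 𝟙 _ := by
      have h2 : Spec.map (CommRingCat.ofHom (Pi.evalRingHom (fun _ : ι => L) i)) =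
          Sigma.ι (fun _ : ι => Spec (CommRingCat.of L)) i ≫ cHom :=
        (ι_sigmaSpec (fun _ : ι => CommRingCat.of L) i).symm
      rw [h2]
      simp only [θ, Iso.trans_hom, Iso.symm_hom, asIso_inv, Category.assoc,
        IsIso.hom_inv_id_assoc]
      rw [hb_snd]
      change Sigma.ι (fun _ : ι => Spec (CommRingCat.of L)) i ≫ e₀'.inv ≫ aHom ≫
        pullback.snd _ _ = 𝟙 _
      rw [ha_snd]
      exact he₀' i
    have h3 : (CommRingCat.ofHom
        (Algebra.TensorProduct.includeRight : L →ₐ[K] E ⊗[K] L).toRingHom) ≫ r₁ ≫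
        (CommRingCat.ofHom (Pi.evalRingHom (fun _ : ι => L) i)) = 𝟙 (CommRingCat.of L) := by
      apply Spec.map_injective
      rw [Spec.map_comp, Spec.map_comp, Spec.map_preimage, Spec.map_id, Category.assoc]
      exact h1
    have h4 := congrArg (fun φ => φ.hom l) h3
    simpa using h4
  -- package
  let ρ : E ⊗[K] L ≃+* (ι → L) :=
    { toFun := r₁.hom
      invFun := r₂.hom
      left_inv := fun x => by
        have := congrArg (fun φ => φ.hom x) h12
        simpa using this
      right_inv := fun x => by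
        have := congrArg (fun φ => φ.hom x) h21
        simpa using this
      map_mul' := map_mul _
      map_add' := map_add _ }
  let σ : L ⊗[K] E ≃+* (ι → L) :=
    (Algebra.TensorProduct.comm K L E).toRingEquiv.trans ρ
  refine ⟨AlgEquiv.ofRingEquiv (f := σ) ?_⟩
  intro l
  funext i
  change r₁.hom ((Algebra.TensorProduct.comm K L E) (l ⊗ₜ[K] (1 : E))) i = l
  rw [Algebra.TensorProduct.comm_tmul]
  exact hsec i l

end Groth.Agent.H2.FEtShS2
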