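import Groth.Agent.H2.Matlis1
import Groth.Agent.S0311
import Groth.Agent.Lead.CompleteNoetherian
import Mathlib.RingTheory.HopkinsLevitzki
import Mathlib.RingTheory.KrullDimension.Basic
import Mathlib.RingTheory.AdicCompletion.Algebra

/-!
# Matlis duality, part 2: `End(E) ≃ completion`, `E` is Artinian
-/

set_option autoImplicit false

universe u

namespace Groth.Agent.H2.Matlis

open Function IsLocalRing

variable {R : Type u} [CommRing R] [IsLocalRing R] [IsNoetherianRing R]
  {E : Type u} [AddCommGroup E] [Module R E] {f : ResidueField R →ₗ[R] E}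

variable (R) in
/-- `R ⧸ 𝔪 ^ n` has finite length. -/
theorem isFiniteLength_quotient_pow (n : ℕ) : IsFiniteLength R (R ⧸ maximalIdeal R ^ n) := by
  have hdim : Ring.KrullDimLE 0 (R ⧸ maximalIdeal R ^ n) := by
    rw [Ring.krullDimLE_zero_iff]
    intro Q hQ
    have hsurj := Ideal.Quotient.mk_surjective (I := maximalIdeal R ^ n)
    have hP : (Q.comap (Ideal.Quotient.mk (maximalIdeal R ^ n))).IsPrime := Ideal.comap_isPrime _ Q
    have hle : maximalIdeal R ^ n ≤ Q.comap (Ideal.Quotient.mk (maximalIdeal R ^ n)) := by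
      intro x hx
      rw [Ideal.mem_comap, Ideal.Quotient.eq_zero_iff_mem.mpr hx]
      exact Q.zero_mem
    have hle' : maximalIdeal R ≤ Q.comap (Ideal.Quotient.mk (maximalIdeal R ^ n)) :=
      Ideal.IsPrime.le_of_pow_le hle
    have heq : maximalIdeal R = Q.comap (Ideal.Quotient.mk (maximalIdeal R ^ n)) :=
      (maximalIdeal.isMaximal R).eq_of_le hP.ne_top hle'
    have hmax : (Q.comap (Ideal.Quotient.mk (maximalIdeal R ^ n))).IsMaximal :=
      heq ▸ maximalIdeal.isMaximal R
    rcases Ideal.map_eq_top_or_isMaximal_of_surjective _ hsurj hmax with h | h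
    · rw [Ideal.map_comap_of_surjective _ hsurj] at h
      exact absurd h hQ.ne_top
    · rwa [Ideal.map_comap_of_surjective _ hsurj] at h
  have : IsArtinianRing (R ⧸ maximalIdeal R ^ n) := isArtinianRing_iff_krullDimLE_zero.mpr hdim
  rw [isFiniteLength_iff_isNoetherian_isArtinian]
  exact ⟨isNoetherian_quotient (maximalIdeal R ^ n),
    isArtinian_of_surjective_algebraMap (Ideal.Quotient.mk_surjective (I := maximalIdeal R ^ n))⟩

omit [IsNoetherianRing R] in
/-- An element acting as zero on `E[𝔪 ^ n]` lies in `𝔪 ^ n`. -/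
lemma mem_pow_of_forall_smul_eq_zero (hf : InjHull.IsInjectiveHull f) (n : ℕ) (r : R)
    (h : ∀ e : E, (∀ a ∈ maximalIdeal R ^ n, a • e = 0) → r • e = 0) :
    r ∈ maximalIdeal R ^ n := by
  by_contra hr
  have hx : (Ideal.Quotient.mk (maximalIdeal R ^ n) r) ≠ 0 := fun h0 =>
    hr (Ideal.Quotient.eq_zero_iff_mem.mp h0)
  obtain ⟨φ, hφ⟩ := cogen hf (R ⧸ maximalIdeal R ^ n) _ hx
  have hsm : ∀ s : R, φ (Ideal.Quotient.mk (maximalIdeal R ^ n) s) = s • φ 1 := by
    intro s
    rw [← map_smul]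
    congr 1
    rw [Algebra.smul_def, mul_one]
    rfl
  apply hφ
  rw [hsm]
  apply h
  intro a ha
  rw [← hsm, Ideal.Quotient.eq_zero_iff_mem.mpr ha, map_zero]

/-- Every endomorphism of `E` acts on `E[𝔪 ^ n]` as multiplication by an element of `R`. -/
lemma exists_smul_eq (hf : InjHull.IsInjectiveHull f) (φ : E →ₗ[R] E) (n : ℕ) :
    ∃ r : R, ∀ e : E, (∀ a ∈ maximalIdeal R ^ n, a • e = 0) → φ e = r • e := by
  have hbij := applyₗ_bijective hf (R ⧸ maximalIdeal R ^ n) (isFiniteLength_quotient_pow R n)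
  obtain ⟨m, hm⟩ := hbij.2 (φ ∘ₗ (LinearMap.applyₗ (1 : R ⧸ maximalIdeal R ^ n)))
  obtain ⟨r, rfl⟩ := Ideal.Quotient.mk_surjective m
  refine ⟨r, fun e he => ?_⟩
  have hle : maximalIdeal R ^ n ≤ LinearMap.ker (LinearMap.toSpanSingleton R E e) :=
    fun a ha => he a ha
  obtain ⟨χ, hχ⟩ : ∃ χ : (R ⧸ maximalIdeal R ^ n) →ₗ[R] E,
      ∀ s : R, χ (Ideal.Quotient.mk (maximalIdeal R ^ n) s) = s • e :=
    ⟨(maximalIdeal R ^ n).liftQ (LinearMap.toSpanSingleton R E e) hle, fun s => rfl⟩
  have h1 : χ (Ideal.Quotient.mk (maximalIdeal R ^ n) r) = φ (χ 1) := LinearMap.congr_fun hm χ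
  rw [hχ, ← map_one (Ideal.Quotient.mk (maximalIdeal R ^ n)), hχ, one_smul] at h1
  exact h1.symm

/-- A chosen representative of the action of `φ` on `E[𝔪 ^ n]`. -/
noncomputable def rep (hf : InjHull.IsInjectiveHull f) (φ : E →ₗ[R] E) (n : ℕ) : R :=
  Classical.choose (exists_smul_eq hf φ n)

lemma rep_spec (hf : InjHull.IsInjectiveHull f) (φ : E →ₗ[R] E) (n : ℕ) (e : E)
    (he : ∀ a ∈ maximalIdeal R ^ n, a • e = 0) : φ e = rep hf φ n • e :=
  Classical.choose_spec (exists_smul_eq hf φ n) e he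

omit [IsNoetherianRing R] in
lemma mem_smul_top_iff (m : ℕ) (x : R) :
    x ∈ (maximalIdeal R ^ m • ⊤ : Submodule R R) ↔ x ∈ maximalIdeal R ^ m := by
  rw [smul_eq_mul, Ideal.mul_top]

lemma rep_cauchy (hf : InjHull.IsInjectiveHull f) (φ : E →ₗ[R] E) :
    AdicCompletion.IsAdicCauchy (maximalIdeal R) R (rep hf φ) := by
  intro m n hmn
  rw [SModEq.sub_mem, mem_smul_top_iff]
  apply mem_pow_of_forall_smul_eq_zero hf
  intro e he
  have he' : ∀ a ∈ maximalIdeal R ^ n, a • e = 0 := fun a ha =>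
    he a (Ideal.pow_le_pow_right hmn ha)
  rw [sub_smul, ← rep_spec hf φ m e he, ← rep_spec hf φ n e he', sub_self]

/-- The element of the completion attached to an endomorphism of `E`. -/
noncomputable def toCompl (hf : InjHull.IsInjectiveHull f) (φ : E →ₗ[R] E) :
    AdicCompletion (maximalIdeal R) R :=
  AdicCompletion.mk (maximalIdeal R) R ⟨rep hf φ, rep_cauchy hf φ⟩

lemma evalₐ_toCompl (hf : InjHull.IsInjectiveHull f) (φ : E →ₗ[R] E) (n : ℕ) (s : R)
    (hs : ∀ e : E, (∀ a ∈ maximalIdeal R ^ n, a • e = 0) → φ e = s • e) :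
    AdicCompletion.evalₐ (maximalIdeal R) n (toCompl hf φ) =
      Ideal.Quotient.mk (maximalIdeal R ^ n) s := by
  rw [toCompl, AdicCompletion.evalₐ_mk, Ideal.Quotient.eq]
  apply mem_pow_of_forall_smul_eq_zero hf
  intro e he
  show (rep hf φ n - s) • e = 0
  rw [sub_smul, ← rep_spec hf φ n e he, ← hs e he, sub_self]

lemma evalₐ_toCompl_rep (hf : InjHull.IsInjectiveHull f) (φ : E →ₗ[R] E) (n : ℕ) :
    AdicCompletion.evalₐ (maximalIdeal R) n (toCompl hf φ) =
      Ideal.Quotient.mk (maximalIdeal R ^ n) (rep hf φ n) :=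
  evalₐ_toCompl hf φ n _ (rep_spec hf φ n)

/-- The algebra homomorphism `End(E) → completion`. -/
noncomputable def toComplₐ (hf : InjHull.IsInjectiveHull f) :
    Module.End R E →ₐ[R] AdicCompletion (maximalIdeal R) R where
  toFun := toCompl hf
  map_one' := AdicCompletion.ext_evalₐ fun n => by
    rw [evalₐ_toCompl hf 1 n 1 (fun e _ => by rw [Module.End.one_apply, one_smul]), map_one,
      map_one]
  map_mul' φ ψ := AdicCompletion.ext_evalₐ fun n => by
    rw [map_mul, evalₐ_toCompl_rep hf φ n, evalₐ_toCompl_rep hf ψ n, ← map_mul]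
    exact evalₐ_toCompl hf (φ * ψ) n _ (fun e he => by
      rw [Module.End.mul_apply, rep_spec hf ψ n e he, map_smul, rep_spec hf φ n e he, smul_smul,
        mul_comm])
  map_zero' := AdicCompletion.ext_evalₐ fun n => by
    rw [evalₐ_toCompl hf 0 n 0 (fun e _ => by rw [LinearMap.zero_apply, zero_smul]), map_zero,
      map_zero]
  map_add' φ ψ := AdicCompletion.ext_evalₐ fun n => by
    rw [map_add, evalₐ_toCompl_rep hf φ n, evalₐ_toCompl_rep hf ψ n, ← map_add]
    exact evalₐ_toCompl hf (φ + ψ) n _ (fun e he => by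
      rw [LinearMap.add_apply, rep_spec hf ψ n e he, rep_spec hf φ n e he, add_smul])
  commutes' c := AdicCompletion.ext_evalₐ fun n => by
    rw [AlgHom.commutes]
    exact evalₐ_toCompl hf _ n c (fun e _ => rfl)

lemma toCompl_injective (hf : InjHull.IsInjectiveHull f) : Injective (toComplₐ hf) := by
  rw [injective_iff_map_eq_zero]
  intro φ hφ
  have hpt := Groth.Agent.S0311.result R E f hf
  ext e
  obtain ⟨n, hn⟩ := hpt e
  have h1 : AdicCompletion.evalₐ (maximalIdeal R) n (toCompl hf φ) = 0 := by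
    have : toCompl hf φ = 0 := hφ
    rw [this, map_zero]
  rw [evalₐ_toCompl_rep hf φ n, Ideal.Quotient.eq_zero_iff_mem] at h1
  rw [rep_spec hf φ n e hn, LinearMap.zero_apply]
  exact hn _ h1

lemma toCompl_surjective (hf : InjHull.IsInjectiveHull f) : Surjective (toComplₐ hf) := by
  classical
  intro a
  have hpt := Groth.Agent.S0311.result R E f hf
  obtain ⟨c, rfl⟩ := AdicCompletion.mk_surjective (maximalIdeal R) R a
  have hc : ∀ m n, m ≤ n → c.val m - c.val n ∈ maximalIdeal R ^ m := by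
    intro m n hmn
    have := c.property hmn
    rwa [SModEq.sub_mem, mem_smul_top_iff] at this
  -- the candidate endomorphism
  let g : E → E := fun e => c.val (Nat.find (hpt e)) • e
  have hkey : ∀ (e : E) (n : ℕ), (∀ a ∈ maximalIdeal R ^ n, a • e = 0) → g e = c.val n • e := by
    intro e n he
    have hm := Nat.find_spec (hpt e)
    show c.val (Nat.find (hpt e)) • e = c.val n • e
    rw [← sub_eq_zero, ← sub_smul]
    rcases le_total (Nat.find (hpt e)) n with h | h
    · exact hm _ (hc _ _ h)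
    · have := he _ (hc _ _ h)
      rw [← neg_sub, neg_smul, this, neg_zero]
  have hmono : ∀ (e : E) (m n : ℕ), m ≤ n → (∀ a ∈ maximalIdeal R ^ m, a • e = 0) →
      ∀ a ∈ maximalIdeal R ^ n, a • e = 0 := fun e m n hmn he a ha =>
    he a (Ideal.pow_le_pow_right hmn ha)
  let φ : E →ₗ[R] E :=
    { toFun := g
      map_add' := fun e e' => by
        obtain ⟨n₁, h₁⟩ := hpt e
        obtain ⟨n₂, h₂⟩ := hpt e'
        have h1 := hmono e n₁ (max n₁ n₂) (le_max_left _ _) h₁
        have h2 := hmono e' n₂ (max n₁ n₂) (le_max_right _ _) h₂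
        have h3 : ∀ a ∈ maximalIdeal R ^ (max n₁ n₂), a • (e + e') = 0 := fun a ha => by
          rw [smul_add, h1 a ha, h2 a ha, add_zero]
        rw [hkey _ _ h3, hkey _ _ h1, hkey _ _ h2, smul_add]
      map_smul' := fun t e => by
        obtain ⟨n₁, h₁⟩ := hpt e
        have h3 : ∀ a ∈ maximalIdeal R ^ n₁, a • (t • e) = 0 := fun a ha => by
          rw [smul_comm, h₁ a ha, smul_zero]
        rw [hkey _ _ h3, hkey _ _ h₁, RingHom.id_apply, smul_comm] }
  refine ⟨φ, ?_⟩
  apply AdicCompletion.ext_evalₐ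
  intro n
  rw [AdicCompletion.evalₐ_mk]
  exact evalₐ_toCompl hf φ n _ (fun e he => hkey e n he)

/-- `End(E)` is isomorphic to the completion of `R`. -/
noncomputable def endEquivCompletion (hf : InjHull.IsInjectiveHull f) :
    Module.End R E ≃ₐ[R] AdicCompletion (maximalIdeal R) R :=
  AlgEquiv.ofBijective (toComplₐ hf) ⟨toCompl_injective hf, toCompl_surjective hf⟩

/-- `End(E)` is a (left) Noetherian ring. -/
theorem isNoetherianRing_end (hf : InjHull.IsInjectiveHull f) :
    IsNoetherianRing (Module.End R E) := by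
  have hfg : (maximalIdeal R).FG := IsNoetherian.noetherian _
  have : IsNoetherianRing (AdicCompletion (maximalIdeal R) R) :=
    Groth.Agent.Lead.isNoetherianRing_adicCompletion (maximalIdeal R) hfg
  exact isNoetherianRing_of_ringEquiv _ (endEquivCompletion hf).symm.toRingEquiv

/-- `E` is Artinian. -/
theorem isArtinian_hull (hf : InjHull.IsInjectiveHull f) : IsArtinian R E := by
  have := isNoetherianRing_end hf
  -- annihilator left ideal of a submodule
  let K : Submodule R E → Ideal (Module.End R E) := fun N =>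
    { carrier := {φ | ∀ e ∈ N, φ e = 0}
      add_mem' := fun {φ ψ} hφ hψ e he => by
        rw [LinearMap.add_apply, hφ e he, hψ e he, add_zero]
      zero_mem' := fun e _ => rfl
      smul_mem' := fun χ φ hφ e he => by
        show (χ * φ) e = 0
        rw [Module.End.mul_apply, hφ e he, map_zero] }
  have hK : StrictAnti K := by
    intro N N' hlt
    refine lt_of_le_of_ne (fun φ hφ e he => hφ e (hlt.le he)) ?_
    intro heq
    obtain ⟨e, heN', heN⟩ := SetLike.exists_of_lt hlt
    have hne : N.mkQ e ≠ 0 := fun h0 => heN ((Submodule.Quotient.mk_eq_zero N).mp h0)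
    obtain ⟨χ, hχ⟩ := cogen hf (E ⧸ N) _ hne
    have hmem : (χ ∘ₗ N.mkQ) ∈ K N := fun x hx => by
      show χ (N.mkQ x) = 0
      rw [Submodule.mkQ_apply, (Submodule.Quotient.mk_eq_zero N).mpr hx, map_zero]
    have hmem' : (χ ∘ₗ N.mkQ) ∈ K N' := heq ▸ hmem
    exact hχ (hmem' e heN')
  exact hK.wellFoundedLT

end Groth.Agent.H2.Matlis
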