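import Mathlib
import Groth.Prelude.Def_Wider
import Groth.Agent.H2.Matlis2

/-!
# `A`-linear self-equivalences of finite length modules are isomorphic to the identity (helper2)
-/

set_option autoImplicit false
universe u

namespace Groth.Agent.H2.FinLenEq

open CategoryTheory IsLocalRing

variable {A : Type u} [CommRing A]

/-- linear map underlying a morphism -/
def toL {X Y : Dual.FinLen A} (f : X ⟶ Y) : X.obj →ₗ[A] Y.obj := f.hom.hom

/-- morphism from a linear map -/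
def ofL {X Y : Dual.FinLen A} (φ : X.obj →ₗ[A] Y.obj) : X ⟶ Y :=
  ObjectProperty.homMk (ModuleCat.ofHom φ)

@[simp] lemma toL_ofL {X Y : Dual.FinLen A} (φ : X.obj →ₗ[A] Y.obj) : toL (ofL φ) = φ := rfl
@[simp] lemma ofL_toL {X Y : Dual.FinLen A} (f : X ⟶ Y) : ofL (toL f) = f := rfl
lemma toL_comp {X Y Z : Dual.FinLen A} (f : X ⟶ Y) (g : Y ⟶ Z) :
    toL (f ≫ g) = toL g ∘ₗ toL f := rfl
lemma toL_id (X : Dual.FinLen A) : toL (𝟙 X) = LinearMap.id := rfl
lemma toL_add {X Y : Dual.FinLen A} (f g : X ⟶ Y) : toL (f + g) = toL f + toL g := rfl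
lemma toL_smul {X Y : Dual.FinLen A} (a : A) (f : X ⟶ Y) : toL (a • f) = a • toL f := rfl
lemma toL_zero {X Y : Dual.FinLen A} : toL (0 : X ⟶ Y) = 0 := rfl
lemma toL_injective {X Y : Dual.FinLen A} : Function.Injective (toL : (X ⟶ Y) → _) :=
  fun f g h => by rw [← ofL_toL f, ← ofL_toL g, h]
lemma ofL_comp {X Y Z : Dual.FinLen A} (φ : X.obj →ₗ[A] Y.obj) (ψ : Y.obj →ₗ[A] Z.obj) :
    ofL (ψ ∘ₗ φ) = ofL φ ≫ ofL ψ := rfl
lemma ofL_add {X Y : Dual.FinLen A} (φ ψ : X.obj →ₗ[A] Y.obj) : ofL (φ + ψ) = ofL φ + ofL ψ := rfl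
lemma ofL_smul {X Y : Dual.FinLen A} (a : A) (φ : X.obj →ₗ[A] Y.obj) :
    ofL (a • φ) = a • ofL φ := rfl
lemma ofL_id (X : Dual.FinLen A) : ofL (LinearMap.id : X.obj →ₗ[A] X.obj) = 𝟙 X := rfl

variable (G : Dual.FinLen A ⥤ Dual.FinLen A) [G.Additive] [G.Linear A]

/-- action of `G` on linear maps -/
def Gm {X Y : Dual.FinLen A} (φ : X.obj →ₗ[A] Y.obj) : (G.obj X).obj →ₗ[A] (G.obj Y).obj :=
  toL (G.map (ofL φ))

omit [G.Additive] [G.Linear A] in
lemma Gm_comp {X Y Z : Dual.FinLen A} (φ : X.obj →ₗ[A] Y.obj) (ψ : Y.obj →ₗ[A] Z.obj) :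
    Gm G (ψ ∘ₗ φ) = Gm G ψ ∘ₗ Gm G φ := by
  unfold Gm
  rw [ofL_comp, G.map_comp, toL_comp]

omit [G.Additive] [G.Linear A] in
lemma Gm_id (X : Dual.FinLen A) : Gm G (LinearMap.id : X.obj →ₗ[A] X.obj) = LinearMap.id := by
  unfold Gm
  rw [ofL_id, G.map_id, toL_id]

omit [G.Linear A] in
lemma Gm_add {X Y : Dual.FinLen A} (φ ψ : X.obj →ₗ[A] Y.obj) :
    Gm G (φ + ψ) = Gm G φ + Gm G ψ := by
  unfold Gm
  rw [ofL_add, G.map_add, toL_add]

omit [G.Linear A] in
lemma Gm_zero {X Y : Dual.FinLen A} : Gm G (0 : X.obj →ₗ[A] Y.obj) = 0 := by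
  unfold Gm
  have : ofL (0 : X.obj →ₗ[A] Y.obj) = 0 := rfl
  rw [this, G.map_zero, toL_zero]

lemma Gm_smul {X Y : Dual.FinLen A} (a : A) (φ : X.obj →ₗ[A] Y.obj) :
    Gm G (a • φ) = a • Gm G φ := by
  unfold Gm
  rw [ofL_smul, G.map_smul, toL_smul]

omit [G.Additive] [G.Linear A] in
lemma Gm_injective [G.Faithful] {X Y : Dual.FinLen A} :
    Function.Injective (Gm G : (X.obj →ₗ[A] Y.obj) → _) := by
  intro φ ψ h
  have h1 := G.map_injective (toL_injective h)
  have := congrArg toL h1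
  simpa using this

omit [G.Additive] [G.Linear A] in
lemma Gm_surjective [G.Full] {X Y : Dual.FinLen A} :
    Function.Surjective (Gm G : (X.obj →ₗ[A] Y.obj) → _) := by
  intro θ
  obtain ⟨f, hf⟩ := G.map_surjective (ofL θ)
  refine ⟨toL f, ?_⟩
  unfold Gm
  rw [ofL_toL, hf, toL_ofL]


section Local

variable [IsLocalRing A] [IsNoetherianRing A]

/-- `A/m^n` as an object of `FinLen A` -/
noncomputable def Q (n : ℕ) : Dual.FinLen A :=
  ⟨ModuleCat.of A (A ⧸ maximalIdeal A ^ n),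
    Groth.Agent.H2.Matlis.isFiniteLength_quotient_pow A n⟩

/-- the projection `A/m^n' → A/m^n` for `n ≤ n'` -/
noncomputable def proj {n n' : ℕ} (h : n ≤ n') : (Q (A := A) n').obj →ₗ[A] (Q (A := A) n).obj :=
  Submodule.mapQ (maximalIdeal A ^ n') (maximalIdeal A ^ n) LinearMap.id
    (fun _ ha => Ideal.pow_le_pow_right h ha)

lemma proj_mk {n n' : ℕ} (h : n ≤ n') (a : A) :
    proj h (Submodule.Quotient.mk a : A ⧸ maximalIdeal A ^ n') = Submodule.Quotient.mk a := rfl

lemma proj_comp {n n' n'' : ℕ} (h : n ≤ n') (h' : n' ≤ n'') :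
    proj (A := A) h ∘ₗ proj h' = proj (h.trans h') := by
  refine LinearMap.ext fun y => ?_
  obtain ⟨a, rfl⟩ := Submodule.mkQ_surjective _ y
  rfl

lemma proj_ne_zero {n n' : ℕ} (hn : 1 ≤ n) (h : n ≤ n') : proj (A := A) h ≠ 0 := by
  intro h0
  have h1 : proj h (Submodule.Quotient.mk 1 : A ⧸ maximalIdeal A ^ n') = 0 := by rw [h0]; rfl
  rw [proj_mk] at h1
  replace h1 := (Submodule.Quotient.mk_eq_zero _).1 h1
  have h2 : (1 : A) ∈ maximalIdeal A := Ideal.pow_le_self (by omega) h1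
  exact (Ideal.ne_top_iff_one _).1 (maximalIdeal.isMaximal A).ne_top h2

/-- for `x` killed by `m^n`, the map `A/m^n → X`, `1 ↦ x` -/
noncomputable def fx {X : Type u} [AddCommGroup X] [Module A X] (n : ℕ) (x : X)
    (hx : ∀ a ∈ maximalIdeal A ^ n, a • x = 0) : (A ⧸ maximalIdeal A ^ n) →ₗ[A] X :=
  Submodule.liftQ _ (LinearMap.toSpanSingleton A X x) (fun a ha => by
    rw [LinearMap.mem_ker, LinearMap.toSpanSingleton_apply]; exact hx a ha)

lemma fx_mk {X : Type u} [AddCommGroup X] [Module A X] (n : ℕ) (x : X)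
    (hx : ∀ a ∈ maximalIdeal A ^ n, a • x = 0) (a : A) :
    fx n x hx (Submodule.Quotient.mk a) = a • x := rfl

lemma eq_fx {X : Type u} [AddCommGroup X] [Module A X] (n : ℕ)
    (f : (A ⧸ maximalIdeal A ^ n) →ₗ[A] X) :
    ∃ hx : ∀ a ∈ maximalIdeal A ^ n, a • f (Submodule.Quotient.mk 1) = 0,
      f = fx n (f (Submodule.Quotient.mk 1)) hx := by
  have hx : ∀ a ∈ maximalIdeal A ^ n, a • f (Submodule.Quotient.mk 1) = 0 := by
    intro a ha
    rw [← map_smul, ← Submodule.Quotient.mk_smul, smul_eq_mul, mul_one,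
      (Submodule.Quotient.mk_eq_zero _).2 ha, map_zero]
  refine ⟨hx, LinearMap.ext fun y => ?_⟩
  obtain ⟨a, rfl⟩ := Submodule.mkQ_surjective _ y
  rw [Submodule.mkQ_apply, fx_mk, ← map_smul, ← Submodule.Quotient.mk_smul, smul_eq_mul, mul_one]

/-- `fx` with domain typed as the object `Q n` -/
noncomputable def fxQ (X : Dual.FinLen A) (n : ℕ) (x : X.obj)
    (hx : ∀ a ∈ maximalIdeal A ^ n, a • x = 0) : (Q (A := A) n).obj →ₗ[A] X.obj := fx n x hx

lemma fxQ_mk (X : Dual.FinLen A) (n : ℕ) (x : X.obj)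
    (hx : ∀ a ∈ maximalIdeal A ^ n, a • x = 0) (a : A) :
    fxQ X n x hx (Submodule.Quotient.mk a : A ⧸ maximalIdeal A ^ n) = a • x := rfl

lemma eq_fxQ (X : Dual.FinLen A) (n : ℕ) (f : (Q (A := A) n).obj →ₗ[A] X.obj) :
    ∃ hx : ∀ a ∈ maximalIdeal A ^ n,
        a • f (Submodule.Quotient.mk 1 : A ⧸ maximalIdeal A ^ n) = 0,
      f = fxQ X n (f (Submodule.Quotient.mk 1 : A ⧸ maximalIdeal A ^ n)) hx :=
  eq_fx n f

/-- finite length modules are killed by a power of the maximal ideal -/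
theorem exists_pow_smul_eq_zero (X : Type u) [AddCommGroup X] [Module A X]
    (hX : IsFiniteLength A X) : ∃ n : ℕ, ∀ a ∈ maximalIdeal A ^ n, ∀ x : X, a • x = 0 := by
  induction hX with
  | of_subsingleton => exact ⟨0, fun a _ x => Subsingleton.elim _ _⟩
  | @of_simple_quotient M _ _ N hsimple hN ih =>
    obtain ⟨n, hn⟩ := ih
    refine ⟨n + 1, fun a ha x => ?_⟩
    rw [pow_succ] at ha
    refine Submodule.mul_induction_on ha ?_ ?_
    · intro b hb c hc
      have h1 : c • x ∈ N := by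
        obtain ⟨I, hI, ⟨e⟩⟩ := isSimpleModule_iff_quot_maximal.1 hsimple
        obtain rfl : I = maximalIdeal A := IsLocalRing.eq_maximalIdeal hI
        rw [← Submodule.Quotient.mk_eq_zero, Submodule.Quotient.mk_smul]
        apply e.injective
        rw [map_smul, map_zero]
        obtain ⟨r, hr⟩ := Submodule.mkQ_surjective _ (e (Submodule.Quotient.mk x))
        rw [← hr, Submodule.mkQ_apply, ← Submodule.Quotient.mk_smul, Submodule.Quotient.mk_eq_zero,
          smul_eq_mul]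
        exact Ideal.mul_mem_right r _ hc
      have h2 := hn b hb ⟨c • x, h1⟩
      have h3 := congrArg Subtype.val h2
      rw [mul_smul]
      exact h3
    · intro y z hy hz
      rw [add_smul, hy, hz, add_zero]

end Local

section Main

variable [IsLocalRing A] [IsNoetherianRing A] (G : Dual.FinLen A ⥤ Dual.FinLen A) [G.Additive]
  [G.Linear A] [G.Full] [G.Faithful]

omit [IsLocalRing A] [IsNoetherianRing A] [G.Full] [G.Faithful] in
/-- linearity: scalars killing `X` kill `G X` -/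
lemma smul_G_eq_zero {X : Dual.FinLen A} (a : A) (ha : ∀ x : X.obj, a • x = 0)
    (z : (G.obj X).obj) : a • z = 0 := by
  have h1 : a • (LinearMap.id : X.obj →ₗ[A] X.obj) = 0 := LinearMap.ext fun x => ha x
  have h2 := Gm_smul G a (LinearMap.id : X.obj →ₗ[A] X.obj)
  rw [h1, Gm_zero, Gm_id] at h2
  have h3 := LinearMap.congr_fun h2 z
  exact h3.symm

omit [IsNoetherianRing A] in
lemma pow_smul_Q (n : ℕ) (a : A) (ha : a ∈ maximalIdeal A ^ n)
    (x : A ⧸ maximalIdeal A ^ n) : a • x = 0 := by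
  obtain ⟨b, rfl⟩ := Submodule.mkQ_surjective _ x
  rw [Submodule.mkQ_apply, ← Submodule.Quotient.mk_smul, Submodule.Quotient.mk_eq_zero, smul_eq_mul]
  exact Ideal.mul_mem_right b _ ha

omit [G.Full] [G.Faithful] in
lemma pow_smul_GQ (n : ℕ) (a : A) (ha : a ∈ maximalIdeal A ^ n) (y : (G.obj (Q n)).obj) :
    a • y = 0 :=
  smul_G_eq_zero G a (fun x => pow_smul_Q n a ha x) y

omit [G.Full] in
lemma mem_of_smul_GQ (n : ℕ) (a : A) (h : ∀ y : (G.obj (Q n)).obj, a • y = 0) :
    a ∈ maximalIdeal A ^ n := by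
  have h1 : Gm G (a • (LinearMap.id : (Q (A := A) n).obj →ₗ[A] (Q n).obj)) = Gm G 0 := by
    rw [Gm_smul, Gm_id, Gm_zero]
    exact LinearMap.ext fun y => h y
  have h2 := Gm_injective G h1
  have h3 := LinearMap.congr_fun h2 (Submodule.Quotient.mk 1 : A ⧸ maximalIdeal A ^ n)
  have h4 : (Submodule.Quotient.mk (a • (1 : A)) : A ⧸ maximalIdeal A ^ n) = 0 := h3
  rw [smul_eq_mul, mul_one] at h4
  exact (Submodule.Quotient.mk_eq_zero _).1 h4

/-- the map `G(A/m^n) → G(A/m)` -/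
noncomputable def g (n : ℕ) (hn : 1 ≤ n) :
    (G.obj (Q n)).obj →ₗ[A] (G.obj (Q (A := A) 1)).obj := Gm G (proj hn)

omit [G.Full] [G.Linear A] in
lemma g_ne_zero (n : ℕ) (hn : 1 ≤ n) : g G n hn ≠ 0 := by
  intro h
  have h1 : Gm G (proj (A := A) hn) = Gm G 0 := by rw [Gm_zero]; exact h
  exact proj_ne_zero le_rfl hn (Gm_injective G h1)

omit [G.Full] [G.Faithful] [G.Linear A] in
lemma g_comp {n n' : ℕ} (hn : 1 ≤ n) (h : n ≤ n') :
    g G n hn ∘ₗ Gm G (proj h) = g G n' (hn.trans h) := by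
  unfold g
  rw [← Gm_comp, proj_comp]

omit [G.Faithful] in
lemma hom_eq_smul_g (n : ℕ) (hn : 1 ≤ n)
    (u : (G.obj (Q n)).obj →ₗ[A] (G.obj (Q (A := A) 1)).obj) : ∃ c : A, u = c • g G n hn := by
  obtain ⟨φ, rfl⟩ := Gm_surjective G u
  obtain ⟨c, hc⟩ := Submodule.mkQ_surjective _
    (φ (Submodule.Quotient.mk 1 : A ⧸ maximalIdeal A ^ n))
  refine ⟨c, ?_⟩
  unfold g
  rw [← Gm_smul]
  congr 1
  refine LinearMap.ext fun y => ?_
  obtain ⟨a, rfl⟩ := Submodule.mkQ_surjective _ y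
  have e1 : (Submodule.Quotient.mk a : A ⧸ maximalIdeal A ^ n) =
      a • (Submodule.Quotient.mk 1 : A ⧸ maximalIdeal A ^ n) := by
    rw [← Submodule.Quotient.mk_smul, smul_eq_mul, mul_one]
  have e2 : φ (Submodule.Quotient.mk a : A ⧸ maximalIdeal A ^ n) =
      a • φ (Submodule.Quotient.mk 1 : A ⧸ maximalIdeal A ^ n) :=
    (congrArg (fun t => φ t) e1).trans (φ.map_smul a _)
  have e3 : (c • proj (A := A) hn) (Submodule.Quotient.mk a : A ⧸ maximalIdeal A ^ n) =
      (Submodule.Quotient.mk (c * a) : A ⧸ maximalIdeal A ^ 1) := rfl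
  have e4 : a • (Submodule.mkQ (maximalIdeal A ^ 1)) c =
      (Submodule.Quotient.mk (c * a) : A ⧸ maximalIdeal A ^ 1) := by
    rw [Submodule.mkQ_apply, ← Submodule.Quotient.mk_smul, smul_eq_mul, mul_comm]
  exact e2.trans ((congrArg (fun t => a • t) hc.symm).trans (e4.trans e3.symm))

omit [G.Full] in
lemma nontrivial_GQ1 : Nontrivial (G.obj (Q (A := A) 1)).obj := by
  by_contra hcon
  rw [not_nontrivial_iff_subsingleton] at hcon
  exact g_ne_zero G 1 le_rfl (LinearMap.ext fun y => Subsingleton.elim _ _)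

/-- every `y₀` with `g y₀ ≠ 0` generates `G(A/m^n)` -/
theorem span_eq_top (n : ℕ) (hn : 1 ≤ n) (y₀ : (G.obj (Q n)).obj) (hy₀ : g G n hn y₀ ≠ 0) :
    Submodule.span A {y₀} = ⊤ := by
  haveI : IsNoetherian A (G.obj (Q (A := A) n)).obj :=
    (isFiniteLength_iff_isNoetherian_isArtinian.1 (G.obj (Q n)).property).1
  rcases IsCoatomic.eq_top_or_exists_le_coatom (Submodule.span A {y₀}) with h | ⟨N, hN, hle⟩
  · exact h
  exfalso
  haveI hs : IsSimpleModule A ((G.obj (Q (A := A) n)).obj ⧸ N) := isSimpleModule_iff_isCoatom.2 hN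
  obtain ⟨I, hI, ⟨e⟩⟩ := isSimpleModule_iff_quot_maximal.1 hs
  obtain rfl : I = maximalIdeal A := IsLocalRing.eq_maximalIdeal hI
  haveI := nontrivial_GQ1 G
  obtain ⟨w, hw⟩ := exists_ne (0 : (G.obj (Q (A := A) 1)).obj)
  have hmw : ∀ a ∈ maximalIdeal A, a • w = 0 := fun a ha =>
    pow_smul_GQ G 1 a (by rw [pow_one]; exact ha) w
  let ι : (A ⧸ maximalIdeal A) →ₗ[A] (G.obj (Q (A := A) 1)).obj :=
    Submodule.liftQ _ (LinearMap.toSpanSingleton A _ w) (fun a ha => by
      rw [LinearMap.mem_ker, LinearMap.toSpanSingleton_apply]; exact hmw a ha)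
  have hι : ∀ t : A ⧸ maximalIdeal A, ι t = 0 → t = 0 := by
    intro t ht
    obtain ⟨c, rfl⟩ := Submodule.mkQ_surjective _ t
    have h1 : c • w = 0 := ht
    rw [Submodule.mkQ_apply, Submodule.Quotient.mk_eq_zero]
    by_contra hc
    have hu : IsUnit c := by
      by_contra hnu
      exact hc ((IsLocalRing.mem_maximalIdeal c).2 hnu)
    obtain ⟨c', rfl⟩ := hu
    exact hw (by rw [← one_smul A w, ← c'.inv_mul, mul_smul, h1, smul_zero])
  let u : (G.obj (Q (A := A) n)).obj →ₗ[A] (G.obj (Q (A := A) 1)).obj :=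
    ι ∘ₗ e.toLinearMap ∘ₗ N.mkQ
  obtain ⟨c, hc⟩ := hom_eq_smul_g G n hn u
  have hu0 : u y₀ = 0 := by
    show ι (e (N.mkQ y₀)) = 0
    have : N.mkQ y₀ = 0 := by
      rw [Submodule.mkQ_apply, Submodule.Quotient.mk_eq_zero]
      exact hle (Submodule.mem_span_singleton_self y₀)
    rw [this, map_zero, map_zero]
  have hcm : c ∈ maximalIdeal A := by
    by_contra hcn
    have hcu : IsUnit c := by
      by_contra hnu
      exact hcn ((IsLocalRing.mem_maximalIdeal c).2 hnu)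
    obtain ⟨c', rfl⟩ := hcu
    have h1 : (c' : A) • g G n hn y₀ = 0 := by
      have := LinearMap.congr_fun hc y₀
      rw [hu0, LinearMap.smul_apply] at this
      exact this.symm
    exact hy₀ (by rw [← one_smul A (g G n hn y₀), ← c'.inv_mul, mul_smul, h1, smul_zero])
  have hu : u = 0 := by
    rw [hc]
    refine LinearMap.ext fun y => ?_
    rw [LinearMap.smul_apply, LinearMap.zero_apply]
    exact pow_smul_GQ G 1 c (by rw [pow_one]; exact hcm) _
  -- but `u` is onto a nonzero module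
  obtain ⟨t, ht⟩ := e.surjective (Submodule.Quotient.mk 1 : A ⧸ maximalIdeal A)
  obtain ⟨y, rfl⟩ := N.mkQ_surjective t
  have h2 : u y = ι (Submodule.Quotient.mk 1) := by
    show ι (e (N.mkQ y)) = _
    rw [ht]
  rw [hu, LinearMap.zero_apply] at h2
  have h3 := hι _ h2.symm
  rw [Submodule.Quotient.mk_eq_zero] at h3
  exact (Ideal.ne_top_iff_one _).1 (maximalIdeal.isMaximal A).ne_top h3


omit [G.Full] [G.Linear A] in
lemma exists_gen (n : ℕ) (hn : 1 ≤ n) : ∃ y : (G.obj (Q (A := A) n)).obj, g G n hn y ≠ 0 := by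
  by_contra hcon
  push Not at hcon
  exact g_ne_zero G n hn (LinearMap.ext fun y => hcon y)

lemma exists_lift (n : ℕ) (hn : 1 ≤ n) (y : (G.obj (Q (A := A) n)).obj) (hy : g G n hn y ≠ 0) :
    ∃ y' : (G.obj (Q (A := A) (n + 1))).obj,
      Gm G (proj (A := A) (Nat.le_succ n)) y' = y ∧ g G (n + 1) (hn.trans (Nat.le_succ n)) y' ≠ 0 := by
  obtain ⟨z, hz⟩ := exists_gen G (n + 1) (hn.trans (Nat.le_succ n))
  have hcomp := g_comp G hn (Nat.le_succ n)
  have hz' : g G n hn (Gm G (proj (A := A) (Nat.le_succ n)) z) ≠ 0 := by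
    have := LinearMap.congr_fun hcomp z
    rw [LinearMap.comp_apply] at this
    rw [this]; exact hz
  have hspan := span_eq_top G n hn _ hz'
  have hy' : y ∈ Submodule.span A {Gm G (proj (A := A) (Nat.le_succ n)) z} := by
    rw [hspan]; trivial
  obtain ⟨c, hc⟩ := Submodule.mem_span_singleton.1 hy'
  refine ⟨c • z, by rw [map_smul, hc], ?_⟩
  have := LinearMap.congr_fun hcomp (c • z)
  rw [LinearMap.comp_apply, map_smul, hc] at this
  rw [← this]; exact hy

/-- a compatible system of generators of `G(A/m^(k+1))` -/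
noncomputable def gen : ∀ k : ℕ, {y : (G.obj (Q (A := A) (k + 1))).obj //
    g G (k + 1) (Nat.succ_pos k) y ≠ 0}
  | 0 => ⟨Classical.choose (exists_gen G 1 le_rfl), Classical.choose_spec (exists_gen G 1 le_rfl)⟩
  | k + 1 => ⟨Classical.choose (exists_lift G (k + 1) (Nat.succ_pos k) (gen k).1 (gen k).2),
      (Classical.choose_spec (exists_lift G (k + 1) (Nat.succ_pos k) (gen k).1 (gen k).2)).2⟩

lemma gen_succ (k : ℕ) :
    Gm G (proj (A := A) (Nat.le_succ (k + 1))) (gen G (k + 1)).1 = (gen G k).1 :=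
  (Classical.choose_spec (exists_lift G (k + 1) (Nat.succ_pos k) (gen G k).1 (gen G k).2)).1

lemma proj_refl (n : ℕ) : proj (A := A) (le_refl n) = LinearMap.id := by
  refine LinearMap.ext fun y => ?_
  obtain ⟨a, rfl⟩ := Submodule.mkQ_surjective _ y
  rfl

lemma gen_compat {k k' : ℕ} (h : k ≤ k') :
    Gm G (proj (A := A) (Nat.succ_le_succ h)) (gen G k').1 = (gen G k).1 := by
  induction k', h using Nat.le_induction with
  | base =>
    have : proj (A := A) (Nat.succ_le_succ (le_refl k)) = LinearMap.id := proj_refl (k + 1)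
    rw [this, Gm_id]; rfl
  | succ k' hk ih =>
    have h1 : proj (A := A) (Nat.succ_le_succ (Nat.le_succ_of_le hk)) =
        proj (A := A) (Nat.succ_le_succ hk) ∘ₗ proj (Nat.le_succ (k' + 1)) := (proj_comp _ _).symm
    rw [h1, Gm_comp, LinearMap.comp_apply, gen_succ, ih]

lemma gen_span (k : ℕ) : Submodule.span A {(gen G k).1} = ⊤ :=
  span_eq_top G (k + 1) (Nat.succ_pos k) _ (gen G k).2

/-- the comparison map at level `k` -/
noncomputable def αk (X : Dual.FinLen A) (k : ℕ)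
    (hk : ∀ a ∈ maximalIdeal A ^ (k + 1), ∀ x : X.obj, a • x = 0) (x : X.obj) : (G.obj X).obj :=
  Gm G (fxQ X (k + 1) x (fun a ha => hk a ha x)) (gen G k).1

lemma αk_indep (X : Dual.FinLen A) {k k' : ℕ} (h : k ≤ k')
    (hk : ∀ a ∈ maximalIdeal A ^ (k + 1), ∀ x : X.obj, a • x = 0)
    (hk' : ∀ a ∈ maximalIdeal A ^ (k' + 1), ∀ x : X.obj, a • x = 0) (x : X.obj) :
    αk G X k' hk' x = αk G X k hk x := by
  unfold αk
  have h1 : fxQ X (k' + 1) x (fun a ha => hk' a ha x) =
      fxQ X (k + 1) x (fun a ha => hk a ha x) ∘ₗ proj (A := A) (Nat.succ_le_succ h) := by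
    refine LinearMap.ext fun y => ?_
    obtain ⟨a, rfl⟩ := Submodule.mkQ_surjective _ y
    rfl
  have h2 := Gm_comp G (X := Q (k' + 1)) (Y := Q (k + 1)) (Z := X)
    (proj (A := A) (Nat.succ_le_succ h)) (fxQ X (k + 1) x (fun a ha => hk a ha x))
  rw [h1, h2, LinearMap.comp_apply, gen_compat G h]

omit [G.Additive] [G.Linear A] [G.Full] [G.Faithful] in
lemma exists_k (X : Dual.FinLen A) :
    ∃ k : ℕ, ∀ a ∈ maximalIdeal A ^ (k + 1), ∀ x : X.obj, a • x = 0 := by
  obtain ⟨n, hn⟩ := exists_pow_smul_eq_zero X.obj X.property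
  exact ⟨n, fun a ha x => hn a (Ideal.pow_le_pow_right (Nat.le_succ n) ha) x⟩

/-- a level killing `X` -/
noncomputable def kX (X : Dual.FinLen A) : ℕ := Classical.choose (exists_k X)

omit [G.Additive] [G.Linear A] [G.Full] [G.Faithful] in
lemma kX_spec (X : Dual.FinLen A) :
    ∀ a ∈ maximalIdeal A ^ (kX X + 1), ∀ x : X.obj, a • x = 0 := Classical.choose_spec (exists_k X)

omit [G.Additive] [G.Linear A] [G.Full] [G.Faithful] in
lemma spec_of_le (X : Dual.FinLen A) {k : ℕ} (h : kX X ≤ k) :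
    ∀ a ∈ maximalIdeal A ^ (k + 1), ∀ x : X.obj, a • x = 0 := fun a ha x =>
  kX_spec X a (Ideal.pow_le_pow_right (Nat.succ_le_succ h) ha) x

/-- the comparison map `X → G X` -/
noncomputable def α (X : Dual.FinLen A) : X.obj →ₗ[A] (G.obj X).obj where
  toFun := αk G X (kX X) (kX_spec X)
  map_add' x x' := by
    unfold αk
    have h1 : fxQ X (kX X + 1) (x + x') (fun a ha => kX_spec X a ha (x + x')) =
        fxQ X (kX X + 1) x (fun a ha => kX_spec X a ha x) +
          fxQ X (kX X + 1) x' (fun a ha => kX_spec X a ha x') := by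
      refine LinearMap.ext fun y => ?_
      obtain ⟨a, rfl⟩ := Submodule.mkQ_surjective _ y
      exact smul_add a x x'
    have h2 := Gm_add G (X := Q (kX X + 1)) (Y := X)
      (fxQ X (kX X + 1) x (fun a ha => kX_spec X a ha x))
      (fxQ X (kX X + 1) x' (fun a ha => kX_spec X a ha x'))
    rw [h1, h2, LinearMap.add_apply]
  map_smul' c x := by
    unfold αk
    have h1 : fxQ X (kX X + 1) (c • x) (fun a ha => kX_spec X a ha (c • x)) =
        c • fxQ X (kX X + 1) x (fun a ha => kX_spec X a ha x) := by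
      refine LinearMap.ext fun y => ?_
      obtain ⟨a, rfl⟩ := Submodule.mkQ_surjective _ y
      exact smul_comm a c x
    have h2 := Gm_smul G (X := Q (kX X + 1)) (Y := X) c
      (fxQ X (kX X + 1) x (fun a ha => kX_spec X a ha x))
    rw [h1, h2, LinearMap.smul_apply]
    rfl

lemma α_eq (X : Dual.FinLen A) {k : ℕ} (h : kX X ≤ k) (x : X.obj) :
    α G X x = αk G X k (spec_of_le X h) x :=
  (αk_indep G X h (kX_spec X) (spec_of_le X h) x).symm

lemma α_nat {X X' : Dual.FinLen A} (h : X ⟶ X') (x : X.obj) :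
    α G X' (toL h x) = toL (G.map h) (α G X x) := by
  have hK1 : kX X ≤ max (kX X) (kX X') := le_max_left _ _
  have hK2 : kX X' ≤ max (kX X) (kX X') := le_max_right _ _
  rw [α_eq G X' hK2, α_eq G X hK1]
  unfold αk
  have h1 : fxQ X' (max (kX X) (kX X') + 1) (toL h x)
      (fun a ha => spec_of_le X' hK2 a ha (toL h x)) =
      toL h ∘ₗ fxQ X (max (kX X) (kX X') + 1) x (fun a ha => spec_of_le X hK1 a ha x) := by
    refine LinearMap.ext fun y => ?_
    obtain ⟨a, rfl⟩ := Submodule.mkQ_surjective _ y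
    exact ((toL h).map_smul a x).symm
  have h2 := Gm_comp G (X := Q (max (kX X) (kX X') + 1)) (Y := X) (Z := X')
    (fxQ X (max (kX X) (kX X') + 1) x (fun a ha => spec_of_le X hK1 a ha x)) (toL h)
  rw [h1, h2, LinearMap.comp_apply]
  rfl

lemma α_injective (X : Dual.FinLen A) : Function.Injective (α G X) := by
  rw [injective_iff_map_eq_zero]
  intro x hx
  have h0 : Gm G (X := Q (kX X + 1)) (Y := X)
      (fxQ X (kX X + 1) x (fun a ha => kX_spec X a ha x)) (gen G (kX X)).1 = 0 := hx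
  have h1 : Gm G (X := Q (kX X + 1)) (Y := X)
      (fxQ X (kX X + 1) x (fun a ha => kX_spec X a ha x)) = Gm G (X := Q (kX X + 1)) (Y := X) 0 := by
    rw [Gm_zero]
    refine LinearMap.ext fun y => ?_
    have hy : y ∈ Submodule.span A {(gen G (kX X)).1} := by rw [gen_span]; trivial
    obtain ⟨c, rfl⟩ := Submodule.mem_span_singleton.1 hy
    rw [map_smul, h0, smul_zero, LinearMap.zero_apply]
  have h2 := Gm_injective G h1
  have h3 := LinearMap.congr_fun h2 (Submodule.Quotient.mk 1 : A ⧸ maximalIdeal A ^ (kX X + 1))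
  have h4 : (1 : A) • x = 0 := h3
  rwa [one_smul] at h4

lemma α_surjective (X : Dual.FinLen A) : Function.Surjective (α G X) := by
  intro z
  set k := kX X with hk
  let T : A →ₗ[A] (G.obj (Q (A := A) (k + 1))).obj := LinearMap.toSpanSingleton A _ (gen G k).1
  have hT : Function.Surjective T := by
    intro y
    have hy : y ∈ Submodule.span A {(gen G k).1} := by rw [gen_span]; trivial
    obtain ⟨c, rfl⟩ := Submodule.mem_span_singleton.1 hy
    exact ⟨c, rfl⟩
  have hker : LinearMap.ker T ≤ LinearMap.ker (LinearMap.toSpanSingleton A (G.obj X).obj z) := by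
    intro c hc
    have hc' : c • (gen G k).1 = 0 := hc
    have hall : ∀ y : (G.obj (Q (A := A) (k + 1))).obj, c • y = 0 := by
      intro y
      obtain ⟨b, rfl⟩ := hT y
      show c • (b • (gen G k).1) = 0
      rw [smul_comm, hc', smul_zero]
    have hcm := mem_of_smul_GQ G (k + 1) c hall
    rw [LinearMap.mem_ker, LinearMap.toSpanSingleton_apply]
    exact smul_G_eq_zero G c (fun x => kX_spec X c hcm x) z
  let e := T.quotKerEquivOfSurjective hT
  let θ : (G.obj (Q (A := A) (k + 1))).obj →ₗ[A] (G.obj X).obj :=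
    (Submodule.liftQ _ (LinearMap.toSpanSingleton A (G.obj X).obj z) hker) ∘ₗ e.symm.toLinearMap
  have hθ : θ (gen G k).1 = z := by
    have h1 : e.symm (gen G k).1 = Submodule.Quotient.mk 1 := by
      rw [LinearEquiv.symm_apply_eq]
      show (gen G k).1 = T 1
      rw [LinearMap.toSpanSingleton_apply, one_smul]
    show Submodule.liftQ _ _ hker (e.symm (gen G k).1) = z
    rw [h1, Submodule.liftQ_apply, LinearMap.toSpanSingleton_apply, one_smul]
  obtain ⟨φ, hφ⟩ := Gm_surjective G (X := Q (k + 1)) (Y := X) θ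
  obtain ⟨hx, hφx⟩ := eq_fxQ X (k + 1) φ
  refine ⟨φ (Submodule.Quotient.mk 1 : A ⧸ maximalIdeal A ^ (k + 1)), ?_⟩
  show Gm G (fxQ X (kX X + 1) _ _) (gen G (kX X)).1 = z
  rw [← hθ, ← hφ]
  exact congrArg (fun ψ => Gm G (X := Q (k + 1)) (Y := X) ψ (gen G k).1) hφx.symm

/-- **Main theorem**: a fully faithful `A`-linear additive endofunctor of `FinLen A` is isomorphic
to the identity. -/
theorem nonempty_iso : Nonempty (G ≅ 𝟭 (Dual.FinLen A)) := by
  refine ⟨(NatIso.ofComponents (fun X => ObjectProperty.isoMk _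
    (LinearEquiv.ofBijective (α G X) ⟨α_injective G X, α_surjective G X⟩).toModuleIso) ?_).symm⟩
  intro X X' h
  apply ObjectProperty.hom_ext
  apply ModuleCat.hom_ext
  refine LinearMap.ext fun x => ?_
  exact α_nat G h x

end Main

end Groth.Agent.H2.FinLenEq
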