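import Groth.Agent.H2.VerType1
import Groth.Agent.H60.InjLoc
import Groth.Agent.H60.Soc
import Groth.Agent.H59.Goren4
import Groth.Agent.H49.CMSliceLocal
import Groth.Agent.S0341

/-!
# Helper library (helper2): the Bass numbers of a Gorenstein local ring `A` of dimension `n` with
respect to itself: `μ^j(A) = δ_{j n}`.
-/

set_option autoImplicit false
universe u

namespace Groth.Agent.H2.GorBass

open CategoryTheory Abelian IsLocalRing RingTheory.Sequence Groth.Agent.H60
  Groth.Agent.H2.VerType1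

section Soc

variable (B : Type u) [CommRing B] [IsLocalRing B]

/-- the socle of a local ring with a regular element in the maximal ideal vanishes -/
theorem length_soc_eq_zero (h : ∀ a : B, (∀ t ∈ maximalIdeal B, t * a = 0) → a = 0) :
    Module.length B ↥(Submodule.torsionBySet B B (maximalIdeal B : Set B)) = 0 := by
  rw [Module.length_eq_zero_iff]
  refine ⟨fun x y => ?_⟩
  have hx : ∀ z : ↥(Submodule.torsionBySet B B (maximalIdeal B : Set B)), z = 0 := by
    intro z
    apply Subtype.ext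
    apply h
    intro t ht
    exact (Submodule.mem_torsionBySet_iff _ _).mp z.2 ⟨t, ht⟩
  rw [hx x, hx y]

/-- the socle of a local ring of type one is simple -/
theorem length_soc_eq_one (h : Soc.TypeOne B) :
    Module.length B ↥(Submodule.torsionBySet B B (maximalIdeal B : Set B)) = 1 := by
  obtain ⟨s, hs0, hs, hgen⟩ := h
  rw [Module.length_eq_one_iff, isSimpleModule_iff_toSpanSingleton_surjective]
  have hsmem : s ∈ Submodule.torsionBySet B B (maximalIdeal B : Set B) := by
    rw [Submodule.mem_torsionBySet_iff]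
    rintro ⟨t, ht⟩
    exact hs t ht
  refine ⟨⟨⟨⟨s, hsmem⟩, 0, fun h => hs0 (congrArg Subtype.val h)⟩⟩, ?_⟩
  rintro ⟨x, hx⟩ hx0 ⟨y, hy⟩
  have hxs : Soc.InSoc x := fun t ht => (Submodule.mem_torsionBySet_iff _ _).mp hx ⟨t, ht⟩
  have hys : Soc.InSoc y := fun t ht => (Submodule.mem_torsionBySet_iff _ _).mp hy ⟨t, ht⟩
  obtain ⟨c, hc⟩ := hgen x hxs
  obtain ⟨d, hd⟩ := hgen y hys
  have hcu : IsUnit c := by
    by_contra hcu
    have hcm : c ∈ maximalIdeal B := (IsLocalRing.mem_maximalIdeal c).mpr hcu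
    apply hx0
    apply Subtype.ext
    show x = 0
    rw [hc]
    exact hs c hcm
  obtain ⟨u, rfl⟩ := hcu
  refine ⟨d * ((u⁻¹ : Bˣ) : B), Subtype.ext ?_⟩
  show (d * ((u⁻¹ : Bˣ) : B)) • x = y
  rw [hd, hc, smul_eq_mul, mul_assoc, ← mul_assoc ((u⁻¹ : Bˣ) : B), Units.inv_mul, one_mul]

end Soc

variable (A : Type u) [CommRing A] [hG : LocCoh.IsGorensteinLocalRing A]

/-- a maximal regular sequence of a Gorenstein local ring -/
theorem exists_seq (n : ℕ) (hn : ringKrullDim A = n) :
    ∃ rs : List A, rs.length = n ∧ (∀ r ∈ rs, r ∈ maximalIdeal A) ∧ IsWeaklyRegular A rs ∧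
      IsArtinianRing (A ⧸ Ideal.ofList rs) := by
  haveI hCM : LocCoh.IsCohenMacaulayLocalRing A := Groth.Agent.S0341.result A
  obtain ⟨rs, hmem, hreg, hArt⟩ := Groth.Agent.H49.CMSlice.exists_regular_of_isCM A
  refine ⟨rs, ?_, hmem, hreg, hArt⟩
  have hle : Ideal.ofList rs ≤ maximalIdeal A := by
    rw [Ideal.ofList, Ideal.span_le]
    exact fun r hr => hmem r hr
  have hnetop : Ideal.ofList rs ≠ ⊤ := fun htop =>
    (IsLocalRing.maximalIdeal.isMaximal A).ne_top (top_le_iff.mp (htop ▸ hle))
  have hR : IsRegular A rs := (Groth.Agent.H9.isRegular_ring_iff rs).mpr ⟨hreg, hnetop⟩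
  have hdim := ringKrullDim_add_length_eq_ringKrullDim_of_isRegular rs hR
  haveI : Nontrivial (A ⧸ Ideal.ofList rs) := Ideal.Quotient.nontrivial_iff.mpr hnetop
  have hzero : ringKrullDim (A ⧸ Ideal.ofList rs) = 0 := by
    have h1 : Ring.KrullDimLE 0 (A ⧸ Ideal.ofList rs) :=
      isArtinianRing_iff_krullDimLE_zero.mp hArt
    exact ringKrullDimZero_iff_ringKrullDim_eq_zero.mp h1
  rw [hzero, zero_add, hn] at hdim
  exact_mod_cast hdim

/-- `μ^j(A) = 0` above the dimension -/
theorem bassNumLocal_gor_gt (n : ℕ) (hn : ringKrullDim A = n) (j : ℕ) (hj : n < j) :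
    GrLC.bassNumLocal A A j = 0 := by
  obtain ⟨r, hr, hinj, -⟩ := InjLoc.gor_data A hG.exists_hasInjectiveDimensionLT
  have hrn : r = n := by
    rw [hn] at hr
    exact_mod_cast hr.symm
  subst hrn
  unfold GrLC.bassNumLocal
  rw [Module.length_eq_zero_iff]
  refine ⟨fun a b => ?_⟩
  rw [a.eq_zero_of_hasInjectiveDimensionLT (r + 1) (by omega),
    b.eq_zero_of_hasInjectiveDimensionLT (r + 1) (by omega)]

/-- `μ^j(A)` at and below the dimension -/
theorem bassNumLocal_gor_le (n : ℕ) (hn : ringKrullDim A = n) (j : ℕ) (hj : j ≤ n) :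
    GrLC.bassNumLocal A A j = if j = n then 1 else 0 := by
  obtain ⟨rs, hlen, hmem, hreg, hArt⟩ := exists_seq A n hn
  have hreg1 : IsWeaklyRegular A (rs.take j) :=
    Groth.Agent.H26.DepthLib.isWeaklyRegular_take hreg j
  have hlen1 : (rs.take j).length = j := by rw [List.length_take, hlen]; omega
  have hmem1 : ∀ r ∈ rs.take j, r ∈ maximalIdeal A := fun r hr => hmem r (List.mem_of_mem_take hr)
  have hGB : LocCoh.IsGorensteinLocalRing (A ⧸ Ideal.ofList (rs.take j)) :=
    Groth.Agent.H59.Goren4.gor_quot_of_weaklyRegular j A hG (rs.take j) hlen1 hmem1 hreg1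
  haveI hloc : IsLocalRing (A ⧸ Ideal.ofList (rs.take j)) := hGB.toIsLocalRing
  have h1 := bassNumLocal_quot_weaklyRegular j A (rs.take j) hlen1 hmem1 hreg1 hloc 0
  rw [zero_add] at h1
  rw [h1, bassNumLocal_zero_eq_length_soc]
  by_cases hjn : j = n
  · rw [if_pos hjn]
    have htake : rs.take j = rs := by rw [hjn, ← hlen, List.take_length]
    haveI : IsNoetherianRing (A ⧸ Ideal.ofList (rs.take j)) := inferInstance
    haveI : IsArtinianRing (A ⧸ Ideal.ofList (rs.take j)) := by rw [htake]; exact hArt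
    exact length_soc_eq_one _ (Soc.typeOne_of_gor hGB.exists_hasInjectiveDimensionLT)
  · rw [if_neg hjn]
    have hjlt : j < rs.length := by rw [hlen]; omega
    have hx := hreg.regular_mod_prev j hjlt
    apply length_soc_eq_zero
    intro ab hab
    obtain ⟨a, rfl⟩ := Ideal.Quotient.mk_surjective ab
    have h2 := hab (Ideal.Quotient.mk _ rs[j]) (by
      rw [IsLocalRing.mem_maximalIdeal, mem_nonunits_iff]
      intro hu
      have hmemj : rs[j] ∈ maximalIdeal A := hmem _ (List.getElem_mem hjlt)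
      have hle : Ideal.ofList (rs.take j) ≤ maximalIdeal A := by
        rw [Ideal.ofList, Ideal.span_le]
        exact fun r hr => hmem1 r hr
      obtain ⟨cb, hcb⟩ := hu.exists_right_inv
      obtain ⟨c, rfl⟩ := Ideal.Quotient.mk_surjective cb
      rw [← map_mul, ← map_one (Ideal.Quotient.mk (Ideal.ofList (rs.take j))),
        Ideal.Quotient.eq] at hcb
      have h3 : (1 : A) ∈ maximalIdeal A := by
        have h4 : rs[j] * c ∈ maximalIdeal A := Ideal.mul_mem_right _ _ hmemj
        have h5 := Ideal.sub_mem _ h4 (hle hcb)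
        have e : rs[j] * c - (rs[j] * c - 1) = 1 := by ring
        rwa [e] at h5
      exact (IsLocalRing.maximalIdeal.isMaximal A).ne_top ((Ideal.eq_top_iff_one _).2 h3))
    rw [← map_mul, Ideal.Quotient.eq_zero_iff_mem] at h2
    rw [Ideal.Quotient.eq_zero_iff_mem]
    have h3 : (Submodule.Quotient.mk a :
        A ⧸ (Ideal.ofList (rs.take j) • (⊤ : Submodule A A))) = 0 := by
      apply hx
      show rs[j] • (Submodule.Quotient.mk a :
        A ⧸ (Ideal.ofList (rs.take j) • (⊤ : Submodule A A))) = rs[j] • 0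
      rw [smul_zero, ← Submodule.Quotient.mk_smul, Submodule.Quotient.mk_eq_zero, smul_eq_mul]
      simpa using h2
    rw [Submodule.Quotient.mk_eq_zero] at h3
    simpa using h3

/-- **the Bass numbers of a Gorenstein local ring** -/
theorem bassNumLocal_gor (n : ℕ) (hn : ringKrullDim A = n) (j : ℕ) :
    GrLC.bassNumLocal A A j = if j = n then 1 else 0 := by
  rcases le_or_gt j n with h | h
  · exact bassNumLocal_gor_le A n hn j h
  · rw [if_neg (by omega)]
    exact bassNumLocal_gor_gt A n hn j h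

end Groth.Agent.H2.GorBass
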