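import Groth.Agent.H72.LD

/-!
# Abstract local duality with a "canonical module" target (helper2)

Generalisation of helper72's `H72.LD.ld`: `J` an ideal of a Noetherian ring `A`, `n : ℕ` with
`H^i_J(A) = 0` for `i ≠ n`, modules `K`, `Q` and a natural family of isomorphisms
`Ψ_M : H^n_J(M) ≃ Hom(Hom(M, K), Q)` on finite modules.  Then
`H^{n-j}_J(M) ≃ Hom(Ext^j(M, K), Q)` for `j ≤ n`  (`ldK`).
-/

set_option autoImplicit false
universe u

namespace Groth.Agent.H2.LDK

open CategoryTheory CategoryTheory.Abelian Groth.Agent.H58.LC Groth.Agent.H72.LD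

variable {A : Type u} [CommRing A] (K : Type u) [AddCommGroup K] [Module A K]

section ExtSide

variable {F M : Type u} [AddCommGroup F] [Module A F] [AddCommGroup M] [Module A M]

/-- `Ext^0(M, K) ≃ Hom(M, K)` -/
noncomputable def e0 (M : Type u) [AddCommGroup M] [Module A M] :
    Ext.{u} (ModuleCat.of A M) (ModuleCat.of A K) 0 ≃ₗ[A] (M →ₗ[A] K) :=
  Ext.linearEquiv₀.trans ModuleCat.homLinearEquiv

lemma e0_symm_apply (φ : M →ₗ[A] K) : (e0 K M).symm φ = Ext.mk₀ (ModuleCat.ofHom φ) := rfl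

lemma e0_apply_mk₀ (φ : M →ₗ[A] K) : e0 K M (Ext.mk₀ (ModuleCat.ofHom φ)) = φ := by
  rw [← e0_symm_apply, LinearEquiv.apply_symm_apply]

variable (ε : F →ₗ[A] M) (hε : Function.Surjective ε)

/-- connecting map `Ext^j(ker ε, K) → Ext^{j+1}(M, K)` -/
noncomputable def del (j : ℕ) :
    Ext.{u} (ModuleCat.of A (LinearMap.ker ε)) (ModuleCat.of A K) j →ₗ[A]
      Ext.{u} (ModuleCat.of A M) (ModuleCat.of A K) (j + 1) :=
  Ext.precompOfLinear (SC_shortExact ε hε).extClass A (ModuleCat.of A K)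
    (show 1 + j = j + 1 by omega)

lemma del_apply (j : ℕ) (x : Ext.{u} (ModuleCat.of A (LinearMap.ker ε)) (ModuleCat.of A K) j) :
    del K ε hε j x = (SC_shortExact ε hε).extClass.comp x (show 1 + j = j + 1 by omega) := rfl

variable [Module.Projective A F]

lemma ext_free_eq_zero (j : ℕ) (x : Ext.{u} (ModuleCat.of A F) (ModuleCat.of A K) (j + 1)) :
    x = 0 := by
  haveI : Projective (ModuleCat.of A F) := (IsProjective.iff_projective F).mp inferInstance
  exact Ext.eq_zero_of_projective x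

lemma del_surjective (j : ℕ) : Function.Surjective (del K ε hε j) := by
  intro x₃
  obtain ⟨x₁, hx₁⟩ := Ext.contravariant_sequence_exact₃ (SC_shortExact ε hε) (ModuleCat.of A K) x₃
    (ext_free_eq_zero K (F := F) j _) (show 1 + j = j + 1 by omega)
  exact ⟨x₁, hx₁⟩

lemma del_injective (j : ℕ) : Function.Injective (del K ε hε (j + 1)) := by
  rw [injective_iff_map_eq_zero]
  intro x₁ hx₁
  obtain ⟨x₂, rfl⟩ := Ext.contravariant_sequence_exact₁ (SC_shortExact ε hε) (ModuleCat.of A K) x₁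
    (show 1 + (j + 1) = j + 1 + 1 by omega) hx₁
  rw [ext_free_eq_zero K (F := F) j x₂, Ext.comp_zero]

/-- the composite `Hom(ker ε, K) → Ext^1(M, K)` -/
noncomputable def cmap : (LinearMap.ker ε →ₗ[A] K) →ₗ[A]
    Ext.{u} (ModuleCat.of A M) (ModuleCat.of A K) (0 + 1) :=
  del K ε hε 0 ∘ₗ (e0 K (LinearMap.ker ε)).symm.toLinearMap

lemma cmap_surjective : Function.Surjective (cmap K ε hε) :=
  (del_surjective K ε hε 0).comp (e0 K (LinearMap.ker ε)).symm.surjective

lemma ker_cmap : LinearMap.ker (cmap K ε hε) =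
    LinearMap.range (LinearMap.lcomp A K (LinearMap.ker ε).subtype) := by
  ext φ'
  constructor
  · intro h
    have h1 : del K ε hε 0 (Ext.mk₀ (ModuleCat.ofHom φ')) = 0 := h
    obtain ⟨x₂, hx₂⟩ := Ext.contravariant_sequence_exact₁ (SC_shortExact ε hε) (ModuleCat.of A K)
      (Ext.mk₀ (ModuleCat.ofHom φ')) (show 1 + 0 = 0 + 1 by omega) h1
    refine ⟨e0 K F x₂, ?_⟩
    have h2 : x₂ = Ext.mk₀ (ModuleCat.ofHom (e0 K F x₂)) := by
      rw [← e0_symm_apply, LinearEquiv.symm_apply_apply]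
    rw [h2] at hx₂
    have h3 : Ext.mk₀ (ModuleCat.ofHom ((e0 K F x₂) ∘ₗ (LinearMap.ker ε).subtype)) =
        Ext.mk₀ (ModuleCat.ofHom φ') := by
      rw [← hx₂, Ext.mk₀_comp_mk₀]
      rfl
    have h4 := congrArg (e0 K (LinearMap.ker ε)) h3
    rw [e0_apply_mk₀, e0_apply_mk₀] at h4
    exact h4
  · rintro ⟨φ, rfl⟩
    show del K ε hε 0 (Ext.mk₀ (ModuleCat.ofHom (φ ∘ₗ (LinearMap.ker ε).subtype))) = 0
    have h1 : Ext.mk₀ (ModuleCat.ofHom (φ ∘ₗ (LinearMap.ker ε).subtype)) =
        (Ext.mk₀ (SC ε).f).comp (Ext.mk₀ (ModuleCat.ofHom φ)) (zero_add 0) := by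
      rw [Ext.mk₀_comp_mk₀]
      rfl
    rw [h1]
    exact Groth.Agent.H45.ExtContraLES.del_res (SC_shortExact ε hε) (ModuleCat.of A K) 0 _

end ExtSide

section Main

variable [IsNoetherianRing A] (J : Ideal A) (n : ℕ) (Q : Type u) [AddCommGroup Q] [Module A Q]
  (hself : ∀ i : ℕ, i ≠ n → Subsingleton (LocCoh.H J i A))
  (Ψ : ∀ (M : Type u) [AddCommGroup M] [Module A M] [Module.Finite A M],
    LocCoh.H J n M ≃ₗ[A] ((M →ₗ[A] K) →ₗ[A] Q))
  (hΨ : ∀ (M N : Type u) [AddCommGroup M] [Module A M] [Module.Finite A M] [AddCommGroup N]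
    [Module A N] [Module.Finite A N] (g : M →ₗ[A] N) (x : LocCoh.H J n M),
    Ψ N (Hmap J n g x) = Ψ M x ∘ₗ LinearMap.lcomp A K g)

include hself hΨ in
/-- **Abstract local duality with target `K`.** -/
theorem ldK : ∀ (j : ℕ) (M : Type u) [AddCommGroup M] [Module A M] [Module.Finite A M], j ≤ n →
    Nonempty (LocCoh.H J (n - j) M ≃ₗ[A]
      (Ext.{u} (ModuleCat.of A M) (ModuleCat.of A K) j →ₗ[A] Q)) := by
  intro j
  induction j with
  | zero =>
    intro M _ _ _ _
    exact ⟨(Ψ M).trans (LinearEquiv.congrLeft Q A (e0 K M).symm)⟩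
  | succ j ih =>
    intro M _ _ _ hj
    obtain ⟨r, ε, hε⟩ := Module.Finite.exists_fin' A M
    haveI : IsNoetherian A (Fin r → A) := inferInstance
    obtain ⟨i, hi1, hi2⟩ : ∃ i, n - j = i + 1 ∧ n - (j + 1) = i := ⟨n - (j + 1), by omega, rfl⟩
    rw [hi2]
    have hiF : Subsingleton (LocCoh.H J i (Fin r → A)) :=
      subsingleton_H_free J i (hself i (by omega)) r
    obtain ⟨δ, hδinj, hδrange⟩ := exists_delta J i ε hε hiF
    rcases Nat.eq_zero_or_pos j with hj0 | hjpos
    · -- level one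
      subst hj0
      have hn : n = i + 1 := by omega
      subst hn
      obtain ⟨E2⟩ := nonempty_ker_equiv (Ψ (LinearMap.ker ε))
        (Hmap J (i + 1) (LinearMap.ker ε).subtype)
        (LinearMap.lcomp A Q (LinearMap.lcomp A K (LinearMap.ker ε).subtype))
        (fun x => by
          have h1 : LinearMap.lcomp A Q (LinearMap.lcomp A K (LinearMap.ker ε).subtype)
              (Ψ (LinearMap.ker ε) x) =
              Ψ (Fin r → A) (Hmap J (i + 1) (LinearMap.ker ε).subtype x) := by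
            rw [hΨ]
            rfl
          rw [h1]
          constructor
          · intro h; rw [h, map_zero]
          · intro h
            exact (Ψ (Fin r → A)).injective (h.trans (map_zero _).symm))
      obtain ⟨E3⟩ := nonempty_hom_equiv_ker (Q := Q) (cmap K ε hε)
        (cmap_surjective K ε hε) (LinearMap.lcomp A K (LinearMap.ker ε).subtype)
        (ker_cmap K ε hε)
      have E1 : LocCoh.H J i M ≃ₗ[A]
          LinearMap.ker (Hmap J (i + 1) (LinearMap.ker ε).subtype) :=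
        (LinearEquiv.ofInjective δ hδinj).trans (LinearEquiv.ofEq _ _ hδrange)
      exact ⟨(E1.trans E2).trans E3.symm⟩
    · -- shifting
      have hi1F : Subsingleton (LocCoh.H J (i + 1) (Fin r → A)) :=
        subsingleton_H_free J (i + 1) (hself (i + 1) (by omega)) r
      have hδsurj : Function.Surjective δ := by
        intro y
        have hy : y ∈ LinearMap.range δ := by
          rw [hδrange, LinearMap.mem_ker]
          exact hi1F.elim _ _
        exact hy
      have E1 : LocCoh.H J i M ≃ₗ[A] LocCoh.H J (i + 1) (LinearMap.ker ε) :=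
        LinearEquiv.ofBijective δ ⟨hδinj, hδsurj⟩
      obtain ⟨E2⟩ := ih (LinearMap.ker ε) (by omega)
      rw [hi1] at E2
      obtain ⟨j', rfl⟩ : ∃ j', j = j' + 1 := ⟨j - 1, by omega⟩
      have E3 : Ext.{u} (ModuleCat.of A (LinearMap.ker ε)) (ModuleCat.of A K) (j' + 1) ≃ₗ[A]
          Ext.{u} (ModuleCat.of A M) (ModuleCat.of A K) (j' + 1 + 1) :=
        LinearEquiv.ofBijective (del K ε hε (j' + 1))
          ⟨del_injective K ε hε j', del_surjective K ε hε (j' + 1)⟩
      exact ⟨(E1.trans E2).trans (LinearEquiv.congrLeft Q A E3)⟩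

include hΨ in
/-- level one: `Hom(Ext^1(M, K), Q) ≃ ker (H^n_J(ker ε) → H^n_J(F))` for a presentation `ε`. -/
theorem level_one {r : ℕ} (M : Type u) [AddCommGroup M] [Module A M] [Module.Finite A M]
    (ε : (Fin r → A) →ₗ[A] M) (hε : Function.Surjective ε) :
    Nonempty ((Ext.{u} (ModuleCat.of A M) (ModuleCat.of A K) (0 + 1) →ₗ[A] Q) ≃ₗ[A]
      LinearMap.ker (Hmap J n (LinearMap.ker ε).subtype)) := by
  haveI : IsNoetherian A (Fin r → A) := inferInstance
  obtain ⟨E2⟩ := nonempty_ker_equiv (Ψ (LinearMap.ker ε))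
    (Hmap J n (LinearMap.ker ε).subtype)
    (LinearMap.lcomp A Q (LinearMap.lcomp A K (LinearMap.ker ε).subtype))
    (fun x => by
      have h1 : LinearMap.lcomp A Q (LinearMap.lcomp A K (LinearMap.ker ε).subtype)
          (Ψ (LinearMap.ker ε) x) =
          Ψ (Fin r → A) (Hmap J n (LinearMap.ker ε).subtype x) := by
        rw [hΨ]
        rfl
      rw [h1]
      constructor
      · intro h; rw [h, map_zero]
      · intro h
        exact (Ψ (Fin r → A)).injective (h.trans (map_zero _).symm))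
  obtain ⟨E3⟩ := nonempty_hom_equiv_ker (Q := Q) (cmap K ε hε)
    (cmap_surjective K ε hε) (LinearMap.lcomp A K (LinearMap.ker ε).subtype)
    (ker_cmap K ε hε)
  exact ⟨E3.trans E2.symm⟩

end Main


end Groth.Agent.H2.LDK
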