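import Groth.Agent.H72.LDGor
import Groth.Agent.H72.LDLoc
import Groth.Agent.H58.LCDepth
import Groth.Agent.H29.FlatCM
import Groth.Agent.H2.Matlis1
import Groth.Agent.H2.LDK
import Groth.Agent.S11665

/-!
# Linkage over a Gorenstein local ring (helper2)

`A` Gorenstein local, `I` an ideal with `A/I` Cohen–Macaulay of dimension `dim A`, `J = Ann I`.
For an `A`-weakly-regular sequence `rs` generating `𝔯`:  `J + 𝔯 = (𝔯 : I)` and `J ∩ 𝔯 = 𝔯 J`.

Everything happens inside `A`: `Ext^i(A/I, A) = 0` for `i ≥ 1` (local duality), hence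
`Ext^i(A/I, A/𝔯_k) = 0` and `Hom(A/I, A) → Hom(A/I, A/𝔯)` is onto.
-/

set_option autoImplicit false
universe u

namespace Groth.Agent.H2.GorLink

open CategoryTheory CategoryTheory.Abelian IsLocalRing RingTheory.Sequence

section Gor

variable (A : Type u) [CommRing A] [LocCoh.IsGorensteinLocalRing A]

/-- `Ext^i(M, A) = 0` for `i ≥ 1` when `depth M ≥ dim A` (maximal Cohen–Macaulay modules). -/
theorem subsingleton_ext_of_depth (d : ℕ) (hd : ringKrullDim A = d) (M : Type u)
    [AddCommGroup M] [Module A M] [Module.Finite A M] (hM : (d : ℕ∞) ≤ LocCoh.depth A M) (i : ℕ)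
    (hi : 1 ≤ i) : Subsingleton (Ext.{u} (ModuleCat.of A M) (ModuleCat.of A A) i) := by
  rcases Nat.lt_or_ge d i with hlt | hle
  · have hz := fun z => Groth.Agent.H72.LDLoc.ext_eq_zero_above A d hd (ModuleCat.of A M) i hlt z
    exact ⟨fun a b => by rw [hz a, hz b]⟩
  · by_cases hsub : Subsingleton M
    · exact Groth.Agent.H72.ExtType.subsingleton_ext_of_isZero_left
        (ModuleCat.isZero_of_subsingleton _) i
    rw [not_subsingleton_iff_nontrivial] at hsub
    obtain ⟨g, hg⟩ := Groth.Agent.S11665.result A d hd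
    obtain ⟨e⟩ := Groth.Agent.H72.LDGor.ld_gorenstein A d hd _ g hg M i hle
    have hmM := Groth.Agent.H29.maximalIdeal_smul_top_ne_top A M
    haveI : Subsingleton (LocCoh.H (maximalIdeal A) (d - i) M) :=
      Groth.Agent.H58.LC.subsingleton_H_of_lt_idealDepth (maximalIdeal A) M d hM hmM (d - i)
        (by omega)
    have h1 : Subsingleton (Ext.{u} (ModuleCat.of A M) (ModuleCat.of A A) i →ₗ[A]
        LocCoh.H (maximalIdeal A) d A) := e.symm.toEquiv.subsingleton
    refine ⟨fun a b => ?_⟩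
    by_contra hab
    have hx : a - b ≠ 0 := sub_ne_zero.mpr hab
    obtain ⟨φ, hφ⟩ := Groth.Agent.H2.Matlis.cogen hg _ (a - b) hx
    exact hφ (by rw [Subsingleton.elim φ 0]; rfl)

end Gor

section Step

variable (A : Type u) [CommRing A] (M : Type u) [AddCommGroup M] [Module A M]

/-- `Ext^i(M, N) = 0` for all `i ≥ 1` -/
def V (N : Type u) [AddCommGroup N] [Module A N] : Prop :=
  ∀ i : ℕ, 1 ≤ i → Subsingleton (Ext.{u} (ModuleCat.of A M) (ModuleCat.of A N) i)

variable {A M}

lemma V_of_equiv {N N' : Type u} [AddCommGroup N] [Module A N] [AddCommGroup N'] [Module A N']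
    (e : N ≃ₗ[A] N') (h : V A M N) : V A M N' := fun i hi =>
  haveI := h i hi
  (Groth.Agent.H72.ExtType.extIsoRight (ModuleCat.of A M) e.toModuleIso i).symm.toEquiv.subsingleton

/-- one step of the long exact sequence -/
theorem step {N₁ N₂ N₃ : Type u} [AddCommGroup N₁] [Module A N₁] [AddCommGroup N₂] [Module A N₂]
    [AddCommGroup N₃] [Module A N₃] (f : N₁ →ₗ[A] N₂) (g : N₂ →ₗ[A] N₃)
    (hf : Function.Injective f) (hg : Function.Surjective g) (hfg : Function.Exact f g)
    (h1 : V A M N₁) (h2 : V A M N₂) :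
    V A M N₃ ∧ ∀ φ : M →ₗ[A] N₃, ∃ ψ : M →ₗ[A] N₂, g ∘ₗ ψ = φ := by
  have hS : (ModuleCat.shortComplexOfCompEqZero f g hfg.linearMap_comp_eq_zero).ShortExact :=
    ModuleCat.shortComplex_shortExact _ hfg hf hg
  constructor
  · intro i hi
    haveI := h1 (i + 1) (by omega)
    haveI := h2 i hi
    have hz : ∀ x₃ : Ext.{u} (ModuleCat.of A M) (ModuleCat.of A N₃) i, x₃ = 0 := by
      intro x₃
      obtain ⟨x₂, rfl⟩ := Ext.covariant_sequence_exact₃ (ModuleCat.of A M) hS x₃ rfl
        (Subsingleton.elim _ _)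
      rw [Subsingleton.elim x₂ 0, Ext.zero_comp]
    exact ⟨fun a b => by rw [hz a, hz b]⟩
  · intro φ
    haveI := h1 1 le_rfl
    obtain ⟨x₂, hx₂⟩ := Ext.covariant_sequence_exact₃ (ModuleCat.of A M) hS
      (Ext.mk₀ (ModuleCat.ofHom φ)) (zero_add 1) (Subsingleton.elim _ _)
    refine ⟨Groth.Agent.H2.LDK.e0 N₂ M x₂, ?_⟩
    have h3 : x₂ = Ext.mk₀ (ModuleCat.ofHom (Groth.Agent.H2.LDK.e0 N₂ M x₂)) := by
      rw [← Groth.Agent.H2.LDK.e0_symm_apply, LinearEquiv.symm_apply_apply]
    rw [h3] at hx₂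
    have h4 : (Ext.mk₀ (ModuleCat.ofHom (Groth.Agent.H2.LDK.e0 N₂ M x₂))).comp
        (Ext.mk₀ (ModuleCat.shortComplexOfCompEqZero f g hfg.linearMap_comp_eq_zero).g)
        (add_zero 0) =
        Ext.mk₀ (ModuleCat.ofHom (g ∘ₗ Groth.Agent.H2.LDK.e0 N₂ M x₂)) := by
      rw [Ext.mk₀_comp_mk₀]
      rfl
    rw [h4] at hx₂
    have h5 := congrArg (Groth.Agent.H2.LDK.e0 N₃ M) hx₂
    rw [Groth.Agent.H2.LDK.e0_apply_mk₀, Groth.Agent.H2.LDK.e0_apply_mk₀] at h5
    exact h5

/-- `P 𝔞`: `Ext^i(M, A/𝔞) = 0` for `i ≥ 1` and every map `M → A/𝔞` lifts to `A`. -/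
def P (A : Type u) [CommRing A] (M : Type u) [AddCommGroup M] [Module A M] (𝔞 : Ideal A) : Prop :=
  V A M (A ⧸ 𝔞) ∧ ∀ φ : M →ₗ[A] A ⧸ 𝔞, ∃ ψ : M →ₗ[A] A, 𝔞.mkQ ∘ₗ ψ = φ

lemma P_bot (h : V A M A) : P A M (⊥ : Ideal A) := by
  let e : (A ⧸ (⊥ : Ideal A)) ≃ₗ[A] A := Submodule.quotEquivOfEqBot _ rfl
  refine ⟨V_of_equiv e.symm h, fun φ => ⟨e.toLinearMap ∘ₗ φ, ?_⟩⟩
  refine LinearMap.ext fun m => ?_
  show Submodule.mkQ _ (e (φ m)) = φ m
  have : ∀ y : A ⧸ (⊥ : Ideal A), Submodule.mkQ _ (e y) = y := by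
    intro y
    obtain ⟨a, rfl⟩ := Submodule.mkQ_surjective _ y
    rfl
  exact this _

lemma P_sup (𝔞 : Ideal A) (x : A) (hx : IsSMulRegular (A ⧸ 𝔞) x) (h : P A M 𝔞) :
    P A M (𝔞 ⊔ Ideal.span {x}) := by
  obtain ⟨hV, hL⟩ := h
  let f : (A ⧸ 𝔞) →ₗ[A] (A ⧸ 𝔞) := x • LinearMap.id
  let g : (A ⧸ 𝔞) →ₗ[A] (A ⧸ (𝔞 ⊔ Ideal.span {x})) :=
    Submodule.mapQ 𝔞 (𝔞 ⊔ Ideal.span {x}) LinearMap.id (fun a ha => Ideal.mem_sup_left ha)
  have hgm : ∀ a : A, g (Submodule.Quotient.mk a) = Submodule.Quotient.mk a := fun a => rfl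
  have hf : Function.Injective f := fun a b hab => hx hab
  have hg : Function.Surjective g := by
    intro y
    obtain ⟨a, rfl⟩ := Submodule.mkQ_surjective _ y
    exact ⟨Submodule.Quotient.mk a, rfl⟩
  have hfg : Function.Exact f g := by
    intro y
    obtain ⟨a, rfl⟩ := Submodule.mkQ_surjective _ y
    constructor
    · intro hy
      have hy' : a ∈ 𝔞 ⊔ Ideal.span {x} := by
        have := hy
        rw [Submodule.mkQ_apply, hgm, Submodule.Quotient.mk_eq_zero] at this
        exact this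
      obtain ⟨b, hb, c, hc, rfl⟩ := Submodule.mem_sup.1 hy'
      obtain ⟨c', rfl⟩ := Ideal.mem_span_singleton'.1 hc
      refine ⟨Submodule.Quotient.mk c', ?_⟩
      show x • (Submodule.Quotient.mk c' : A ⧸ 𝔞) = Submodule.Quotient.mk (b + c' * x)
      rw [← Submodule.Quotient.mk_smul, eq_comm, Submodule.Quotient.eq]
      have : b + c' * x - x • c' = b := by rw [smul_eq_mul]; ring
      rw [this]; exact hb
    · rintro ⟨z, hz⟩
      obtain ⟨c, rfl⟩ := Submodule.mkQ_surjective _ z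
      have hz' : (Submodule.Quotient.mk (x • c) : A ⧸ 𝔞) = Submodule.mkQ 𝔞 a := by
        rw [Submodule.Quotient.mk_smul]; exact hz
      rw [← hz', hgm, Submodule.Quotient.mk_eq_zero]
      exact Ideal.mem_sup_right (Ideal.mem_span_singleton'.2 ⟨c, by rw [smul_eq_mul, mul_comm]⟩)
  obtain ⟨hV', hL'⟩ := step f g hf hg hfg hV hV
  refine ⟨hV', fun φ => ?_⟩
  obtain ⟨ψ₁, hψ₁⟩ := hL' φ
  obtain ⟨ψ, hψ⟩ := hL ψ₁
  refine ⟨ψ, ?_⟩
  rw [← hψ₁, ← hψ]
  rfl

/-- along a weakly regular sequence -/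
theorem P_ofList (h : V A M A) (rs : List A) (hreg : IsWeaklyRegular A rs) :
    P A M (Ideal.ofList rs) := by
  induction rs using List.reverseRecOn with
  | nil => rw [Ideal.ofList_nil]; exact P_bot h
  | append_singleton init x ih =>
    obtain ⟨h1, h2⟩ := (isWeaklyRegular_append_iff A init [x]).1 hreg
    rw [isWeaklyRegular_singleton_iff] at h2
    have hsm : Ideal.ofList init • (⊤ : Submodule A A) = Ideal.ofList init := by
      rw [Ideal.smul_eq_mul, Ideal.mul_top]
    rw [hsm] at h2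
    rw [Ideal.ofList_append, Ideal.ofList_singleton]
    exact P_sup _ x h2 (ih h1)

end Step

section Ideals

variable {A : Type u} [CommRing A] (I : Ideal A)

/-- (a): `Ann I + 𝔞 = (𝔞 : I)` when maps `A/I → A/𝔞` lift to `A`. -/
theorem ann_sup_eq_colon (𝔞 : Ideal A)
    (hL : ∀ φ : (A ⧸ I) →ₗ[A] A ⧸ 𝔞, ∃ ψ : (A ⧸ I) →ₗ[A] A, 𝔞.mkQ ∘ₗ ψ = φ) :
    Submodule.annihilator I ⊔ 𝔞 = Submodule.colon 𝔞 (I : Set A) := by
  apply le_antisymm
  · rw [sup_le_iff]
    constructor
    · intro a ha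
      rw [Submodule.mem_colon]
      intro i hi
      have : a • i = 0 := (Submodule.mem_annihilator.1 ha) i hi
      rw [this]; exact zero_mem _
    · intro a ha
      rw [Submodule.mem_colon]
      intro i hi
      exact 𝔞.mul_mem_right i ha
  · intro a ha
    rw [Submodule.mem_colon] at ha
    let φ : (A ⧸ I) →ₗ[A] A ⧸ 𝔞 :=
      Submodule.liftQ I (𝔞.mkQ ∘ₗ LinearMap.toSpanSingleton A A a) (by
        intro i hi
        rw [LinearMap.mem_ker, LinearMap.comp_apply, LinearMap.toSpanSingleton_apply,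
          Submodule.mkQ_apply, Submodule.Quotient.mk_eq_zero]
        have h := ha i hi
        rw [smul_eq_mul] at h ⊢
        rwa [mul_comm])
    obtain ⟨ψ, hψ⟩ := hL φ
    set b := ψ (Submodule.Quotient.mk 1) with hb
    have hbJ : b ∈ Submodule.annihilator I := by
      rw [Submodule.mem_annihilator]
      intro i hi
      have h1 : b • i = ψ (Submodule.Quotient.mk (i * 1)) := by
        rw [hb, smul_eq_mul, mul_comm, ← smul_eq_mul, ← map_smul, ← Submodule.Quotient.mk_smul,
          smul_eq_mul]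
      rw [h1, mul_one, (Submodule.Quotient.mk_eq_zero I).2 hi, map_zero]
    have hab : a - b ∈ 𝔞 := by
      have h1 := LinearMap.congr_fun hψ (Submodule.Quotient.mk 1)
      have h2 : φ (Submodule.Quotient.mk 1) = Submodule.Quotient.mk a := by
        show (𝔞.mkQ ∘ₗ LinearMap.toSpanSingleton A A a) 1 = _
        rw [LinearMap.comp_apply, LinearMap.toSpanSingleton_apply, one_smul]; rfl
      rw [h2, LinearMap.comp_apply, Submodule.mkQ_apply] at h1
      exact (Submodule.Quotient.eq 𝔞).1 h1.symm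
    have : a = b + (a - b) := by ring
    rw [this]
    exact Submodule.add_mem_sup hbJ hab

/-- (b): `Ann I ∩ 𝔯 = 𝔯 · Ann I` along a weakly regular sequence for which (a) holds on all
prefixes. -/
theorem ann_inf_le (rs : List A) (hreg : IsWeaklyRegular A rs)
    (ha : ∀ init : List A, init <+: rs →
      Submodule.annihilator I ⊔ Ideal.ofList init = Submodule.colon (Ideal.ofList init) (I : Set A)) :
    Submodule.annihilator I ⊓ Ideal.ofList rs ≤ Ideal.ofList rs * Submodule.annihilator I := by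
  induction rs using List.reverseRecOn with
  | nil => rw [Ideal.ofList_nil, inf_bot_eq]; exact bot_le
  | append_singleton init x ih =>
    obtain ⟨h1, h2⟩ := (isWeaklyRegular_append_iff A init [x]).1 hreg
    rw [isWeaklyRegular_singleton_iff] at h2
    have hsm : Ideal.ofList init • (⊤ : Submodule A A) = Ideal.ofList init := by
      rw [Ideal.smul_eq_mul, Ideal.mul_top]
    rw [hsm] at h2
    have hpre : init <+: init ++ [x] := List.prefix_append init [x]
    have ih' := ih h1 (fun l hl => ha l (hl.trans hpre))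
    have ha' := ha init hpre
    rw [Ideal.ofList_append, Ideal.ofList_singleton]
    rintro a ⟨haJ, har⟩
    obtain ⟨r', hr', c, hc, rfl⟩ := Submodule.mem_sup.1 har
    obtain ⟨c', rfl⟩ := Ideal.mem_span_singleton'.1 hc
    -- `c' ∈ (𝔯' : I)`
    have hc'col : c' ∈ Submodule.colon (Ideal.ofList init) (I : Set A) := by
      rw [Submodule.mem_colon]
      intro i hi
      have h3 : (r' + c' * x) • i = 0 := (Submodule.mem_annihilator.1 haJ) i hi
      have h4 : x • (Submodule.Quotient.mk (c' • i) : A ⧸ Ideal.ofList init) = x • 0 := by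
        rw [smul_zero, ← Submodule.Quotient.mk_smul, Submodule.Quotient.mk_eq_zero]
        have h5 : x • c' • i = (r' + c' * x) • i - r' * i := by
          simp only [smul_eq_mul]; ring
        rw [h5, h3, zero_sub]
        exact neg_mem (Ideal.mul_mem_right i _ hr')
      have h6 := h2 h4
      exact (Submodule.Quotient.mk_eq_zero _).1 h6
    rw [← ha'] at hc'col
    obtain ⟨j, hj, s, hs, rfl⟩ := Submodule.mem_sup.1 hc'col
    have h7 : r' + (j + s) * x - x * j ∈ Submodule.annihilator I ⊓ Ideal.ofList init := by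
      refine ⟨sub_mem haJ (Ideal.mul_mem_left _ x hj), ?_⟩
      have : r' + (j + s) * x - x * j = r' + s * x := by ring
      rw [this]
      exact add_mem hr' (Ideal.mul_mem_right x _ hs)
    have h8 := ih' h7
    have h9 : r' + (j + s) * x = (r' + (j + s) * x - x * j) + x * j := by ring
    rw [h9]
    refine add_mem (Ideal.mul_mono_left le_sup_left h8) ?_
    exact Ideal.mul_mem_mul (Ideal.mem_sup_right (Ideal.mem_span_singleton_self x)) hj

end Ideals

section Main

variable (A : Type u) [CommRing A] [LocCoh.IsGorensteinLocalRing A] (I : Ideal A)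
  (hI : ringKrullDim (A ⧸ I) = ringKrullDim A) [LocCoh.IsCohenMacaulayLocalRing (A ⧸ I)]

include hI in
/-- `Ext^i(A/I, A) = 0` for `i ≥ 1`. -/
theorem V_quot : V A (A ⧸ I) A := by
  obtain ⟨d, hd⟩ := Groth.Agent.H29.CM.exists_nat_supportDim (A := A) (M := A)
  rw [Module.supportDim_self_eq_ringKrullDim] at hd
  have hd' : ringKrullDim A = ((d : ℕ) : WithBot ℕ∞) := hd
  have hsurj : Function.Surjective (algebraMap A (A ⧸ I)) := Ideal.Quotient.mk_surjective
  have h1 := Groth.Agent.H29.FlatCM.depth_eq_of_surjective (B := A) (C := A ⧸ I) hsurj (A ⧸ I)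
  have h2 := LocCoh.IsCohenMacaulayLocalRing.supportDim_eq_depth (R := A ⧸ I)
  rw [Module.supportDim_self_eq_ringKrullDim, hI, hd, h1] at h2
  have h3 : (d : ℕ∞) ≤ LocCoh.depth A (A ⧸ I) := by
    have := WithBot.coe_injective h2
    rw [← this]
  intro i hi
  exact subsingleton_ext_of_depth A d hd' (A ⧸ I) h3 i hi

include hI in
/-- **Linkage over a Gorenstein local ring along a regular sequence.** -/
theorem main (rs : List A) (hreg : IsWeaklyRegular A rs) :
    Submodule.annihilator I ⊔ Ideal.ofList rs = Submodule.colon (Ideal.ofList rs) (I : Set A) ∧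
      Submodule.annihilator I ⊓ Ideal.ofList rs = Ideal.ofList rs * Submodule.annihilator I := by
  have hV := V_quot A I hI
  have key : ∀ init : List A, init <+: rs →
      Submodule.annihilator I ⊔ Ideal.ofList init =
        Submodule.colon (Ideal.ofList init) (I : Set A) := by
    intro init hinit
    obtain ⟨t, rfl⟩ := hinit
    have hreg' := ((isWeaklyRegular_append_iff A init t).1 hreg).1
    exact ann_sup_eq_colon I _ (P_ofList hV init hreg').2
  refine ⟨key rs (List.prefix_refl rs), le_antisymm (ann_inf_le I rs hreg key) ?_⟩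
  rw [mul_comm]
  exact Ideal.mul_le_inf

end Main

end Groth.Agent.H2.GorLink
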