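import Groth.Agent.H2.GrCanonBridge
import Groth.Agent.S18637
import Groth.Agent.S13224
import Groth.Agent.H98.GrHt

/-!
# Helper library (helper2): from a *canonical module of a positively graded CM ring to a
canonical module of the local ring `R_m`.
-/

set_option autoImplicit false
universe u

namespace Groth.Agent.H2.GrCanonSetup

open IsLocalRing TensorProduct GrLC

theorem setup (R : Type u) [CommRing R] [IsNoetherianRing R]
    (𝒜 : ℤ → AddSubgroup R) [GradedRing 𝒜] (hpos : ∀ n : ℤ, n < 0 → 𝒜 n = ⊥)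
    (m : HomogeneousIdeal 𝒜) (hm : GrLC.IsStarLocal 𝒜 m) [m.toIdeal.IsMaximal] (n : ℕ)
    (hn : ringKrullDim R = n) (I : GrLC.StarInjRes 𝒜 𝒜) (E' : Type u) [AddCommGroup E']
    [Module R E'] (𝓔 : ℤ → AddSubgroup E') [DirectSum.Decomposition 𝓔] [SetLike.GradedSMul 𝒜 𝓔]
    (e : (R ⧸ m.toIdeal) →ₗ[R] E') (he : GrLC.IsStarInjHull 𝒜 (GrLC.quotGr 𝒜 m) 𝓔 e)
    (C : Type u) [AddCommGroup C] [Module R C] (𝒞 : ℤ → AddSubgroup C)
    [DirectSum.Decomposition 𝒞] [SetLike.GradedSMul 𝒜 𝒞]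
    (hC : GrLC.IsStarCanonical 𝒜 𝒞 𝓔 m n I) :
    Module.Finite R C ∧ ringKrullDim (Localization.AtPrime m.toIdeal) = n ∧
    ∃ f : ResidueField (Localization.AtPrime m.toIdeal) →ₗ[Localization.AtPrime m.toIdeal]
        LocalizedModule m.toIdeal.primeCompl E',
      InjHull.IsInjectiveHull f ∧
      Nonempty ((LocalizedModule m.toIdeal.primeCompl C →ₗ[Localization.AtPrime m.toIdeal]
          LocalizedModule m.toIdeal.primeCompl E') ≃ₗ[Localization.AtPrime m.toIdeal]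
        LocCoh.H (maximalIdeal (Localization.AtPrime m.toIdeal)) n
          (Localization.AtPrime m.toIdeal)) := by
  obtain ⟨hfin, φ, -⟩ := hC
  refine ⟨hfin, ?_, ?_⟩
  · rw [IsLocalization.AtPrime.ringKrullDim_eq_height m.toIdeal,
      Groth.Agent.H98.GrHt.height_eq_ringKrullDim 𝒜 hpos m hm, hn]
  · have hE : InjHull.IsInjectiveHull e := Groth.Agent.S18637.result R 𝒜 m E' 𝓔 e he
    obtain ⟨ψ⟩ := Groth.Agent.S13224.result R 𝒜 m R 𝒜 I n
    exact Groth.Agent.H2.GrCanonBridge.bridge R m.toIdeal n E' e hE C (φ.trans ψ)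

end Groth.Agent.H2.GrCanonSetup
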