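import Groth.Agent.H98.GrHt
import Groth.Agent.H98.GrCat

/-!
# Helper library (helper2): graded Nakayama-type lemmas in a *local graded ring.
-/

set_option autoImplicit false
universe u

namespace Groth.Agent.H2.GrGor

open DirectSum Groth.Agent.H98.GrCat

variable {R : Type u} [CommRing R] [IsNoetherianRing R] (𝒜 : ℤ → AddSubgroup R) [GradedRing 𝒜]
  (m : HomogeneousIdeal 𝒜) (hm : GrLC.IsStarLocal 𝒜 m)

include hm in
/-- a homogeneous element outside the *maximal ideal is a unit -/
theorem isUnit_of_notMem {i : ℤ} {s : R} (hs : s ∈ 𝒜 i) (hsm : s ∉ m.toIdeal) : IsUnit s := by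
  have hJ : (Ideal.span {s}).IsHomogeneous 𝒜 := by
    apply Ideal.homogeneous_span
    intro x hx
    rw [Set.mem_singleton_iff] at hx
    subst hx
    exact ⟨i, hs⟩
  let J : HomogeneousIdeal 𝒜 := ⟨Ideal.span {s}, hJ⟩
  by_contra hu
  have hJne : J ≠ ⊤ := by
    intro h
    have h2 : J.toIdeal = ⊤ := by rw [h, HomogeneousIdeal.toIdeal_top]
    exact hu (Ideal.span_singleton_eq_top.mp h2)
  have hle := Groth.Agent.H98.GrHt.le_of_isStarLocal 𝒜 m hm J hJne
  exact hsm (hle (Ideal.mem_span_singleton_self s))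

omit [IsNoetherianRing R] in
/-- an element outside a homogeneous ideal has a component outside it -/
theorem exists_comp_notMem {s : R} (hsm : s ∉ m.toIdeal) :
    ∃ i, ((decompose 𝒜 s i : 𝒜 i) : R) ∉ m.toIdeal := by
  classical
  by_contra h
  have h' : ∀ i, ((decompose 𝒜 s i : 𝒜 i) : R) ∈ m.toIdeal := fun i => by
    by_contra hi
    exact h ⟨i, hi⟩
  apply hsm
  rw [← DirectSum.sum_support_decompose 𝒜 s]
  exact Ideal.sum_mem _ fun i _ => h' i

variable {M : Type u} [AddCommGroup M] [Module R M] (ℳ : ℤ → AddSubgroup M)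
  [DirectSum.Decomposition ℳ] [SetLike.GradedSMul 𝒜 ℳ]

include hm in
/-- graded Nakayama-type step: a relation `t • x = r • c` with `t ∉ m` between homogeneous
elements gives `x ∈ R c`. -/
theorem mem_span_of_smul_eq {d g : ℤ} {x c : M} (hx : x ∈ ℳ d) (hc : c ∈ ℳ g) {t r : R}
    (ht : t ∉ m.toIdeal) (h : t • x = r • c) : x ∈ Submodule.span R {c} := by
  obtain ⟨i, hi⟩ := exists_comp_notMem 𝒜 m ht
  have hu := isUnit_of_notMem 𝒜 m hm (decompose 𝒜 t i).2 hi
  have h1 := comp_smul_hom 𝒜 ℳ hx t (i + d)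
  have h2 := comp_smul_hom 𝒜 ℳ hc r (i + d)
  rw [add_sub_cancel_right] at h1
  rw [h] at h1
  rw [h1] at h2
  obtain ⟨v, hv⟩ := hu
  have h3 : x = ((v⁻¹ : Rˣ) : R) • ((decompose 𝒜 t i : 𝒜 i) : R) • x := by
    rw [← hv, smul_smul, Units.inv_mul, one_smul]
  rw [h3, h2, smul_smul]
  exact Submodule.smul_mem _ _ (Submodule.mem_span_singleton_self c)

include hm in
/-- a homogeneous element killed by an element outside `m` vanishes -/
theorem eq_zero_of_smul_eq_zero {d : ℤ} {x : M} (hx : x ∈ ℳ d) {t : R}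
    (ht : t ∉ m.toIdeal) (h : t • x = 0) : x = 0 := by
  have h1 : x ∈ Submodule.span R {(0 : M)} :=
    mem_span_of_smul_eq 𝒜 m hm ℳ hx (zero_mem (ℳ 0)) ht (r := 0) (by rw [h, zero_smul])
  rw [Submodule.span_singleton_eq_bot.mpr rfl] at h1
  exact (Submodule.mem_bot R).mp h1

section Free

variable [hmax : m.toIdeal.IsMaximal]

local notation "A" => Localization.AtPrime m.toIdeal
local notation "S" => m.toIdeal.primeCompl

include hm in
/-- **A graded module which is free of rank one at `m` is a shift of `R`.** -/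
theorem exists_shift_equiv (θ : LocalizedModule S M ≃ₗ[A] A) :
    ∃ (a : ℤ) (f : R →ₗ[R] M), Function.Bijective f ∧ GrLC.IsGrHomDeg 𝒜 ℳ f a := by
  classical
  -- a homogeneous generator
  obtain ⟨g, c, hc, hu⟩ : ∃ (g : ℤ) (c : M), c ∈ ℳ g ∧ IsUnit (θ (LocalizedModule.mk c 1)) := by
    by_contra hcon
    have h1 : ∀ (g : ℤ) (c : M), c ∈ ℳ g →
        θ (LocalizedModule.mk c 1) ∈ IsLocalRing.maximalIdeal A := by
      intro g c hc
      by_contra h
      exact hcon ⟨g, c, hc, by
        by_contra hnu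
        exact h ((IsLocalRing.mem_maximalIdeal _).mpr hnu)⟩
    have h2 : ∀ x : M, θ (LocalizedModule.mk x 1) ∈ IsLocalRing.maximalIdeal A := by
      intro x
      rw [← DirectSum.sum_support_decompose ℳ x]
      have h3 : (LocalizedModule.mk (∑ i ∈ (decompose ℳ x).support, ((decompose ℳ x i : ℳ i) : M))
          (1 : S) : LocalizedModule S M) =
          ∑ i ∈ (decompose ℳ x).support,
            LocalizedModule.mk ((decompose ℳ x i : ℳ i) : M) (1 : S) :=
        map_sum (LocalizedModule.mkLinearMap S M)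
          (fun i => ((decompose ℳ x i : ℳ i) : M)) (decompose ℳ x).support
      rw [h3, map_sum]
      exact Ideal.sum_mem _ fun i _ => h1 i _ (decompose ℳ x i).2
    obtain ⟨z, hz⟩ := θ.surjective 1
    induction z using LocalizedModule.induction_on with
    | h x s =>
      have h4 : (LocalizedModule.mk x s : LocalizedModule S M) =
          (Localization.mk (1 : R) s) • LocalizedModule.mk x (1 : S) := by
        rw [LocalizedModule.mk_smul_mk, one_smul, mul_one]
      rw [h4, map_smul, smul_eq_mul] at hz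
      have h5 : (1 : A) ∈ IsLocalRing.maximalIdeal A := by
        rw [← hz]
        exact Ideal.mul_mem_left _ _ (h2 x)
      exact (IsLocalRing.maximalIdeal.isMaximal A).ne_top
        ((Ideal.eq_top_iff_one _).mpr h5)
  refine ⟨g, LinearMap.toSpanSingleton R M c, ⟨?_, ?_⟩, ?_⟩
  · -- injective
    rw [← LinearMap.ker_eq_bot, eq_bot_iff]
    intro r hr
    rw [LinearMap.mem_ker, LinearMap.toSpanSingleton_apply] at hr
    rw [Submodule.mem_bot]
    have hcomp : ∀ d : ℤ, ((decompose 𝒜 r d : 𝒜 d) : R) = 0 := by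
      intro d
      have h1 := comp_smul_hom 𝒜 ℳ hc r (d + g)
      rw [add_sub_cancel_right, hr, decompose_zero, DirectSum.zero_apply,
        ZeroMemClass.coe_zero] at h1
      -- `r_d • c = 0`
      have h2 : (algebraMap R A ((decompose 𝒜 r d : 𝒜 d) : R)) * θ (LocalizedModule.mk c 1) = 0 := by
        rw [← smul_eq_mul, ← map_smul, ← Localization.mk_one_eq_algebraMap,
          LocalizedModule.mk_smul_mk, ← h1, mul_one]
        rw [LocalizedModule.zero_mk, map_zero]
      have h3 : algebraMap R A ((decompose 𝒜 r d : 𝒜 d) : R) = 0 :=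
        (hu.mul_left_eq_zero).mp h2
      obtain ⟨s, hs⟩ := (IsLocalization.map_eq_zero_iff S A _).mp h3
      exact eq_zero_of_smul_eq_zero 𝒜 m hm 𝒜 (decompose 𝒜 r d).2 s.2 hs
    apply (decompose 𝒜).injective
    rw [decompose_zero]
    exact DFinsupp.ext fun i => Subtype.ext (by rw [hcomp i]; rfl)
  · -- surjective
    have hhom : ∀ (d : ℤ) (x : M), x ∈ ℳ d → x ∈ Submodule.span R {c} := by
      intro d x hx
      obtain ⟨v, hv⟩ := hu
      have h1 : LocalizedModule.mk x (1 : S) =
          (θ (LocalizedModule.mk x 1) * ((v⁻¹ : Aˣ) : A)) • LocalizedModule.mk c (1 : S) := by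
        apply θ.injective
        rw [map_smul, smul_eq_mul, ← hv, mul_assoc, Units.inv_mul, mul_one]
      obtain ⟨r, s, hrs⟩ := IsLocalization.exists_mk'_eq S
        (θ (LocalizedModule.mk x 1) * ((v⁻¹ : Aˣ) : A))
      rw [← hrs, ← Localization.mk_eq_mk'_apply, LocalizedModule.mk_smul_mk, mul_one,
        LocalizedModule.mk_eq] at h1
      obtain ⟨u', hu'⟩ := h1
      have h2 : ((u' * s : S) : R) • x = (u'.1 * r) • c := by
        rw [Submonoid.coe_mul, mul_smul, mul_smul]
        simpa [Submonoid.smul_def] using hu'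
      exact mem_span_of_smul_eq 𝒜 m hm ℳ hx hc (u' * s).2 h2
    intro x
    have hx : x ∈ Submodule.span R {c} := by
      rw [← DirectSum.sum_support_decompose ℳ x]
      exact Submodule.sum_mem _ fun i _ => hhom i _ (decompose ℳ x i).2
    obtain ⟨r, hr⟩ := Submodule.mem_span_singleton.mp hx
    exact ⟨r, hr⟩
  · intro i r hr
    exact gsmul_mem 𝒜 ℳ hr hc

end Free

end Groth.Agent.H2.GrGor
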