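import Groth.Agent.H2.GrGor
import Groth.Agent.S0339
import Groth.Agent.S0345
import Groth.Agent.S18636
import Groth.Agent.H60.GorTransfer

/-!
# Helper library (helper2): a positively graded *local ring which is Gorenstein at `m` is
Gorenstein.
-/

set_option autoImplicit false
universe u

namespace Groth.Agent.H2.GrGor2

open CategoryTheory

/-- transport along an equality of primes -/
theorem gor_of_eq {R : Type u} [CommRing R] (q q' : Ideal R) [q.IsPrime] [q'.IsPrime]
    (h : q = q') (hq : LocCoh.IsGorensteinLocalRing (Localization.AtPrime q)) :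
    LocCoh.IsGorensteinLocalRing (Localization.AtPrime q') := by
  subst h
  exact hq

/-- if `R_m` is a Gorenstein ring then `R_p` is Gorenstein local for all primes `p ≤ m` -/
theorem gor_of_le {R : Type u} [CommRing R] (m : Ideal R) [m.IsPrime]
    [LocCoh.IsGorensteinRing (Localization.AtPrime m)] (p : Ideal R) [hp : p.IsPrime]
    (hpm : p ≤ m) : LocCoh.IsGorensteinLocalRing (Localization.AtPrime p) := by
  have hdisj : Disjoint (m.primeCompl : Set R) (p : Set R) :=
    Set.disjoint_left.mpr fun x hx hxp => hx (hpm hxp)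
  let P' : Ideal (Localization.AtPrime m) := p.map (algebraMap R (Localization.AtPrime m))
  haveI hP' : P'.IsPrime :=
    IsLocalization.isPrime_of_isPrime_disjoint m.primeCompl (Localization.AtPrime m) p hp hdisj
  have hcomap : P'.comap (algebraMap R (Localization.AtPrime m)) = p :=
    IsLocalization.comap_map_of_isPrime_disjoint m.primeCompl (Localization.AtPrime m) hp hdisj
  haveI : IsLocalization.AtPrime (Localization.AtPrime P')
      (P'.comap (algebraMap R (Localization.AtPrime m))) :=
    IsLocalization.isLocalization_isLocalization_atPrime_isLocalization m.primeCompl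
      (Localization.AtPrime P') P'
  have e : Localization.AtPrime (P'.comap (algebraMap R (Localization.AtPrime m))) ≃ₐ[R]
      Localization.AtPrime P' :=
    IsLocalization.algEquiv (P'.comap (algebraMap R (Localization.AtPrime m))).primeCompl _ _
  have h1 : LocCoh.IsGorensteinLocalRing
      (Localization.AtPrime (P'.comap (algebraMap R (Localization.AtPrime m)))) :=
    Groth.Agent.H60.GorTransfer.gor_of_ringEquiv e.symm.toRingEquiv
      (LocCoh.IsGorensteinRing.isGorensteinLocalRing_localization P')
  exact gor_of_eq _ p hcomap h1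

/-- the localization of the ring as a module is the localized ring -/
noncomputable def selfIso {R : Type u} [CommRing R] (p : Ideal R) [p.IsPrime] :
    ModuleCat.of (Localization.AtPrime p) (LocalizedModule p.primeCompl R) ≅
      ModuleCat.of (Localization.AtPrime p) (Localization.AtPrime p) :=
  LinearEquiv.toModuleIso
    (LinearEquiv.extendScalarsOfIsLocalization p.primeCompl (Localization.AtPrime p)
      (IsLocalizedModule.iso p.primeCompl (Algebra.linearMap R (Localization.AtPrime p))))

/-- Gorenstein-ness passes from the homogeneous core `p*` to a non-homogeneous prime `p`. -/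
theorem gor_of_core {R : Type u} [CommRing R] [IsNoetherianRing R] (𝒜 : ℤ → AddSubgroup R)
    [GradedRing 𝒜] (p : Ideal R) [hp : p.IsPrime] (hph : ¬ Ideal.IsHomogeneous 𝒜 p)
    [hq : (Ideal.homogeneousCore 𝒜 p).toIdeal.IsPrime]
    (hG : LocCoh.IsGorensteinLocalRing
      (Localization.AtPrime (Ideal.homogeneousCore 𝒜 p).toIdeal)) :
    LocCoh.IsGorensteinLocalRing (Localization.AtPrime p) := by
  obtain ⟨n, hn⟩ := hG.exists_hasInjectiveDimensionLT
  have h1 : HasInjectiveDimensionLT (ModuleCat.of
      (Localization.AtPrime (Ideal.homogeneousCore 𝒜 p).toIdeal)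
      (LocalizedModule (Ideal.homogeneousCore 𝒜 p).toIdeal.primeCompl R)) n :=
    hasInjectiveDimensionLT_of_iso (selfIso (Ideal.homogeneousCore 𝒜 p).toIdeal).symm n
  obtain ⟨N, hN⟩ := (Groth.Agent.S0339.result
    (Localization.AtPrime (Ideal.homogeneousCore 𝒜 p).toIdeal)
    (LocalizedModule (Ideal.homogeneousCore 𝒜 p).toIdeal.primeCompl R)).mp ⟨n, h1⟩
  obtain ⟨-, hshift⟩ := Groth.Agent.S18636.result R 𝒜 R 𝒜 p hph
  have h2 : ∀ i : ℕ, N + 1 ≤ i → Subsingleton (Abelian.Ext
      (ModuleCat.of (Localization.AtPrime p) (IsLocalRing.ResidueField (Localization.AtPrime p)))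
      (ModuleCat.of (Localization.AtPrime p) (LocalizedModule p.primeCompl R)) i) := by
    intro i hi
    obtain ⟨j, rfl⟩ : ∃ j, i = j + 1 := ⟨i - 1, by omega⟩
    have h3 := hshift j
    have h4 : GrLC.bassNum (Ideal.homogeneousCore 𝒜 p).toIdeal R j = 0 := by
      haveI := hN j (by omega)
      exact Module.length_eq_zero
    rw [h4] at h3
    exact Module.length_eq_zero_iff.mp h3
  obtain ⟨n', hn'⟩ := (Groth.Agent.S0339.result (Localization.AtPrime p)
    (LocalizedModule p.primeCompl R)).mpr ⟨N + 1, h2⟩
  exact { exists_hasInjectiveDimensionLT := ⟨n', hasInjectiveDimensionLT_of_iso (selfIso p) n'⟩ }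

/-- **A Noetherian `ℤ`-graded *local ring which is Gorenstein at `m` is Gorenstein.** -/
theorem gorRing {R : Type u} [CommRing R] [IsNoetherianRing R] (𝒜 : ℤ → AddSubgroup R)
    [GradedRing 𝒜] (m : HomogeneousIdeal 𝒜) (hm : GrLC.IsStarLocal 𝒜 m) [m.toIdeal.IsPrime]
    (hG : LocCoh.IsGorensteinLocalRing (Localization.AtPrime m.toIdeal)) :
    LocCoh.IsGorensteinRing R := by
  haveI : LocCoh.IsGorensteinRing (Localization.AtPrime m.toIdeal) :=
    ((Groth.Agent.S0345.result (Localization.AtPrime m.toIdeal)).mp
      hG.exists_hasInjectiveDimensionLT).1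
  have hhom : ∀ (p : Ideal R) [p.IsPrime], p.IsHomogeneous 𝒜 →
      LocCoh.IsGorensteinLocalRing (Localization.AtPrime p) := by
    intro p hp hph
    have hne : (⟨p, hph⟩ : HomogeneousIdeal 𝒜) ≠ ⊤ := by
      intro h
      apply hp.ne_top
      have h2 := congrArg HomogeneousIdeal.toIdeal h
      rwa [HomogeneousIdeal.toIdeal_top] at h2
    have hle : p ≤ m.toIdeal :=
      Groth.Agent.H98.GrHt.le_of_isStarLocal 𝒜 m hm ⟨p, hph⟩ hne
    exact gor_of_le m.toIdeal p hle
  refine { isGorensteinLocalRing_localization := fun p hp => ?_ }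
  by_cases hph : p.IsHomogeneous 𝒜
  · exact hhom p hph
  · haveI : (Ideal.homogeneousCore 𝒜 p).toIdeal.IsPrime := Ideal.IsPrime.homogeneousCore hp
    exact gor_of_core 𝒜 p hph
      (hhom (Ideal.homogeneousCore 𝒜 p).toIdeal (Ideal.homogeneousCore 𝒜 p).isHomogeneous)

end Groth.Agent.H2.GrGor2
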