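import Groth.Agent.H60.InjLoc
import Groth.Agent.S0339
import Groth.Agent.S18636
import Groth.Agent.H98.GrHt

/-!
# Helper library (helper2): finite injective dimension of a graded module over a *local
ring from finite injective dimension at `m`.
-/

set_option autoImplicit false
universe u

namespace Groth.Agent.H2.GrInjDim

open CategoryTheory CategoryTheory.Limits

section Comp

variable {R : Type u} [CommRing R] (S T : Submonoid R) (hST : S ≤ T)
  {M M' M'' : Type u} [AddCommGroup M] [AddCommGroup M'] [AddCommGroup M''] [Module R M]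
  [Module R M'] [Module R M''] (f : M →ₗ[R] M') (g : M' →ₗ[R] M'') [IsLocalizedModule S f]
  [IsLocalizedModule T g]

include hST in
/-- localizing at `S ≤ T` and then at `T` is localizing at `T` -/
theorem isLocalizedModule_comp : IsLocalizedModule T (g ∘ₗ f) where
  map_units := IsLocalizedModule.map_units g
  surj y := by
    obtain ⟨⟨x', t⟩, hx'⟩ := IsLocalizedModule.surj T g y
    obtain ⟨⟨x, s⟩, hx⟩ := IsLocalizedModule.surj S f x'
    refine ⟨(x, ⟨s.1, hST s.2⟩ * t), ?_⟩
    show ((⟨s.1, hST s.2⟩ * t : T)) • y = g (f x)
    have h1 : (s : R) • x' = f x := hx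
    have h2 : (t : R) • y = g x' := hx'
    rw [← h1, map_smul, ← h2, mul_smul]
    rfl
  exists_of_eq := by
    intro x₁ x₂ h
    obtain ⟨t, ht⟩ := IsLocalizedModule.exists_of_eq (S := T) (f := g) h
    have ht' : f ((t : R) • x₁) = f ((t : R) • x₂) := by
      rw [map_smul, map_smul]
      exact ht
    obtain ⟨s, hs⟩ := IsLocalizedModule.exists_of_eq (S := S) (f := f) ht'
    refine ⟨⟨s.1, hST s.2⟩ * t, ?_⟩
    show ((s : R) * (t : R)) • x₁ = ((s : R) * (t : R)) • x₂
    rw [mul_smul, mul_smul]
    exact hs

end Comp


/-- an injective module over a localization is injective over the base ring -/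
theorem injective_of_localization {R : Type u} [CommRing R] (S : Submonoid R)
    (I : Type u) [AddCommGroup I] [Module (Localization S) I] [Module R I]
    [IsScalarTower R (Localization S) I] [hI : Module.Injective (Localization S) I] :
    Module.Injective R I := by
  let A := Localization S
  refine ⟨fun X Y _ _ _ _ i hi g => ?_⟩
  have hunits : ∀ s : S, IsUnit (algebraMap R (Module.End R I) s) := by
    intro s
    have h1 := (IsLocalization.map_units A s).map (algebraMap A (Module.End A I))
    rw [Module.End.isUnit_iff] at h1 ⊢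
    convert h1 using 1
    ext x
    simp [Module.algebraMap_end_apply]
  let gS : LocalizedModule S X →ₗ[R] I :=
    IsLocalizedModule.lift S (LocalizedModule.mkLinearMap S X) g hunits
  let gS' : LocalizedModule S X →ₗ[A] I := LinearMap.extendScalarsOfIsLocalization S A gS
  let iS : LocalizedModule S X →ₗ[A] LocalizedModule S Y :=
    LinearMap.extendScalarsOfIsLocalization S A (LocalizedModule.map S i)
  have hiS : Function.Injective iS := LocalizedModule.map_injective S i hi
  obtain ⟨h', hh'⟩ := hI.out iS hiS gS'
  refine ⟨(h'.restrictScalars R) ∘ₗ (LocalizedModule.mkLinearMap S Y), fun x => ?_⟩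
  show h' (LocalizedModule.mkLinearMap S Y (i x)) = g x
  have h2 : LocalizedModule.mkLinearMap S Y (i x) = iS (LocalizedModule.mkLinearMap S X x) := by
    show _ = LocalizedModule.map S i (LocalizedModule.mkLinearMap S X x)
    rw [LocalizedModule.mkLinearMap_apply, LocalizedModule.mkLinearMap_apply,
      LocalizedModule.map_mk]
  rw [h2, hh']
  exact IsLocalizedModule.lift_apply S (LocalizedModule.mkLinearMap S X) g hunits x

variable {R : Type u} [CommRing R] (S : Submonoid R)

theorem restrict_inj :
    (ModuleCat.restrictScalars.{u} (algebraMap R (Localization S))).PreservesInjectiveObjects where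
  injective_obj {X} hX := by
    have h1 : Module.Injective (Localization S) X :=
      Module.injective_module_of_injective_object _ X
    letI : Module R X := Module.compHom X (algebraMap R (Localization S))
    haveI : IsScalarTower R (Localization S) X :=
      IsScalarTower.of_algebraMap_smul fun r x => rfl
    have h2 : Module.Injective R X := injective_of_localization S X
    exact Module.injective_object_of_injective_module R X

open Groth.Agent.H60.InjLoc in
theorem restrict_injdim :
    ∀ (n : ℕ) (X : ModuleCat.{u} (Localization S)), HasInjectiveDimensionLT X (n + 1) →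
      HasInjectiveDimensionLT
        ((ModuleCat.restrictScalars.{u} (algebraMap R (Localization S))).obj X) (n + 1) := by
  haveI := restrict_inj S
  intro n
  induction n with
  | zero =>
    intro X hX
    rw [zero_add] at hX ⊢
    rw [← injective_iff_hasInjectiveDimensionLT_one] at hX
    rw [← injective_iff_hasInjectiveDimensionLT_one]
    exact Functor.injective_obj_of_injective _ hX
  | succ n ih =>
    intro X hX
    obtain ⟨I, C, hI, f, g, w, hS⟩ := exists_inj_ses X
    have h3 : HasInjectiveDimensionLT C (n + 1) :=
      (hS.hasInjectiveDimensionLT_X₃_iff n hI).mpr hX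
    have h3' := ih C h3
    have hS' := hS.map_of_exact (ModuleCat.restrictScalars.{u} (algebraMap R (Localization S)))
    exact (hS'.hasInjectiveDimensionLT_X₃_iff n
      (Functor.injective_obj_of_injective
        (ModuleCat.restrictScalars.{u} (algebraMap R (Localization S))) hI)).mp h3'


/-- the `Shrink` in Mathlib's localization functor is harmless -/
noncomputable def shrinkIso (T : Submonoid R) (M : Type u) [AddCommGroup M] [Module R M] :
    (ModuleCat.of R M).localizedModule T ≅
      ModuleCat.of (Localization T) (LocalizedModule T M) :=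
  (Shrink.linearEquiv (Localization T) (LocalizedModule T M)).toModuleIso

/-- restriction of scalars of a localized module, with its native module structure -/
theorem restrict_native (M : Type u) [AddCommGroup M] [Module R M] (n : ℕ)
    (h : HasInjectiveDimensionLT (ModuleCat.of (Localization S) (LocalizedModule S M)) (n + 1)) :
    HasInjectiveDimensionLT (ModuleCat.of R (LocalizedModule S M)) (n + 1) := by
  have h1 := restrict_injdim S n _ h
  have h2 : Module.compHom (LocalizedModule S M) (algebraMap R (Localization S)) =
      (inferInstance : Module R (LocalizedModule S M)) :=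
    Module.ext' _ _ (fun r x => algebraMap_smul (Localization S) r x)
  have h3 : @HasInjectiveDimensionLT (ModuleCat.{u} R) _ _
      (@ModuleCat.of R _ (LocalizedModule S M) _
        (Module.compHom (LocalizedModule S M) (algebraMap R (Localization S)))) (n + 1) := h1
  rw [h2] at h3
  exact h3

/-- **Injective dimension passes from `M_S` over `R_S` to `M_T` over `R_T` for `S ≤ T`.** -/
theorem injdim_of_le [IsNoetherianRing R] (T : Submonoid R) (hST : S ≤ T) (M : Type u)
    [AddCommGroup M] [Module R M] (n : ℕ)
    (h : HasInjectiveDimensionLT (ModuleCat.of (Localization S) (LocalizedModule S M)) (n + 1)) :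
    HasInjectiveDimensionLT (ModuleCat.of (Localization T) (LocalizedModule T M)) (n + 1) := by
  have h2 : HasInjectiveDimensionLT (ModuleCat.of R (LocalizedModule S M)) (n + 1) :=
    restrict_native S M n h
  haveI : HasInjectiveDimensionLE (ModuleCat.of R (LocalizedModule S M)) n := h2
  have h3 : HasInjectiveDimensionLT ((ModuleCat.of R (LocalizedModule S M)).localizedModule T)
      (n + 1) :=
    ModuleCat.localizedModule_hasInjectiveDimensionLE n T (ModuleCat.of R (LocalizedModule S M))
  have h4 : HasInjectiveDimensionLT
      (ModuleCat.of (Localization T) (LocalizedModule T (LocalizedModule S M))) (n + 1) :=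
    hasInjectiveDimensionLT_of_iso (shrinkIso T (LocalizedModule S M)) (n + 1)
  haveI := isLocalizedModule_comp S T hST (LocalizedModule.mkLinearMap S M)
    (LocalizedModule.mkLinearMap T (LocalizedModule S M))
  let e : LocalizedModule T (LocalizedModule S M) ≃ₗ[Localization T] LocalizedModule T M :=
    LinearEquiv.extendScalarsOfIsLocalization T (Localization T)
      (IsLocalizedModule.linearEquiv T
        (LocalizedModule.mkLinearMap T (LocalizedModule S M) ∘ₗ LocalizedModule.mkLinearMap S M)
        (LocalizedModule.mkLinearMap T M))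
  exact hasInjectiveDimensionLT_of_iso e.toModuleIso (n + 1)

open IsLocalRing in
/-- explicit form of `S0339`: vanishing of `Ext^i(k, M)` for `i ≥ N₀` bounds the injective
dimension by `N₀ + D` when all coheights are at most `D`. -/
theorem injdim_of_ext_residue (B : Type u) [CommRing B] [IsLocalRing B] [IsNoetherianRing B]
    (M : Type u) [AddCommGroup M] [Module B M] [Module.Finite B M] (N₀ D : ℕ)
    (hD : ∀ Q : PrimeSpectrum B, Order.coheight Q ≤ (D : ℕ∞))
    (hN : ∀ i : ℕ, N₀ ≤ i → Subsingleton (Abelian.Ext (ModuleCat.of B (ResidueField B))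
      (ModuleCat.of B M) i)) :
    HasInjectiveDimensionLT (ModuleCat.of B M) (N₀ + D + 1) := by
  have hκ : ∀ i, N₀ ≤ i → ∀ z : Abelian.Ext (ModuleCat.of B (B ⧸ maximalIdeal B))
      (ModuleCat.of B M) i, z = 0 := by
    intro i hi
    exact Groth.Agent.S0339.ext_eq_zero_of_iso_src Groth.Agent.S0339.resEquiv.symm.toModuleIso
      (fun z => @Subsingleton.elim _ (hN i hi) _ _)
  refine Groth.Agent.S5788.key B (N₀ + D) (ModuleCat.of B M) (fun I => ⟨fun a b => ?_⟩)
  have hz : ∀ z : Abelian.Ext (ModuleCat.of B (B ⧸ I)) (ModuleCat.of B M) (N₀ + D + 1),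
      z = 0 := by
    apply Groth.Agent.S0339.L1 (ModuleCat.of B M) (N₀ + D + 1) (B ⧸ I)
    intro q _
    exact Groth.Agent.S0339.key (ModuleCat.of B M) N₀ hκ D q (hD q) (N₀ + D + 1) (by omega)
  rw [hz a, hz b]

/-- coheights in a localization are bounded by the dimension -/
theorem coheight_le_of_dim_le (p : Ideal R) [p.IsPrime] (n : ℕ) (hn : ringKrullDim R ≤ n)
    (Q : PrimeSpectrum (Localization.AtPrime p)) : Order.coheight Q ≤ (n : ℕ∞) := by
  have h1 : (Order.coheight Q : WithBot ℕ∞) ≤
      Order.krullDim (PrimeSpectrum (Localization.AtPrime p)) := Order.coheight_le_krullDim Q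
  have h2 : ringKrullDim (Localization.AtPrime p) ≤ ringKrullDim R := by
    rw [IsLocalization.AtPrime.ringKrullDim_eq_height p]
    exact Ideal.height_le_ringKrullDim_of_ne_top (Ideal.IsPrime.ne_top inferInstance)
  have h3 : (Order.coheight Q : WithBot ℕ∞) ≤ ((n : ℕ∞) : WithBot ℕ∞) :=
    h1.trans (h2.trans hn)
  exact_mod_cast h3

/-- **Finite injective dimension of a graded module over a *local graded ring, from `m`.** -/
theorem injdim_graded [IsNoetherianRing R] (𝒜 : ℤ → AddSubgroup R) [GradedRing 𝒜]
    (m : HomogeneousIdeal 𝒜) (hm : GrLC.IsStarLocal 𝒜 m) [m.toIdeal.IsPrime] (n : ℕ)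
    (hn : ringKrullDim R ≤ n) (C : Type u) [AddCommGroup C] [Module R C] [Module.Finite R C]
    (𝒞 : ℤ → AddSubgroup C) [DirectSum.Decomposition 𝒞] [SetLike.GradedSMul 𝒜 𝒞]
    (hK : HasInjectiveDimensionLT (ModuleCat.of (Localization.AtPrime m.toIdeal)
      (LocalizedModule m.toIdeal.primeCompl C)) (n + 1)) :
    HasInjectiveDimensionLT (ModuleCat.of R C) (2 * n + 3) := by
  have hhom : ∀ (q : Ideal R) [q.IsPrime], q.IsHomogeneous 𝒜 →
      HasInjectiveDimensionLT (ModuleCat.of (Localization.AtPrime q)
        (LocalizedModule q.primeCompl C)) (n + 1) := by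
    intro q hq hqh
    have hne : (⟨q, hqh⟩ : HomogeneousIdeal 𝒜) ≠ ⊤ := by
      intro h
      apply hq.ne_top
      have h2 := congrArg HomogeneousIdeal.toIdeal h
      rwa [HomogeneousIdeal.toIdeal_top] at h2
    have hle : q ≤ m.toIdeal :=
      Groth.Agent.H98.GrHt.le_of_isStarLocal 𝒜 m hm ⟨q, hqh⟩ hne
    have hST : m.toIdeal.primeCompl ≤ q.primeCompl := fun x hx hxq => hx (hle hxq)
    exact injdim_of_le m.toIdeal.primeCompl q.primeCompl hST C n hK
  show HasInjectiveDimensionLE (ModuleCat.of R C) (2 * n + 2)
  rw [ModuleCat.hasInjectiveDimensionLE_iff_forall_maximalSpectrum]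
  intro p
  haveI : p.1.IsPrime := p.2.isPrime
  suffices h : HasInjectiveDimensionLT (ModuleCat.of (Localization.AtPrime p.1)
      (LocalizedModule p.1.primeCompl C)) (2 * n + 3) from
    hasInjectiveDimensionLT_of_iso (shrinkIso p.1.primeCompl C).symm _
  by_cases hph : p.1.IsHomogeneous 𝒜
  · haveI := hhom p.1 hph
    exact hasInjectiveDimensionLT_of_ge _ (n + 1) (2 * n + 3) (by omega)
  · haveI : (Ideal.homogeneousCore 𝒜 p.1).toIdeal.IsPrime :=
      Ideal.IsPrime.homogeneousCore inferInstance
    have hq := hhom (Ideal.homogeneousCore 𝒜 p.1).toIdeal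
      (Ideal.homogeneousCore 𝒜 p.1).isHomogeneous
    obtain ⟨-, hshift⟩ := Groth.Agent.S18636.result R 𝒜 C 𝒞 p.1 hph
    have hN : ∀ i : ℕ, n + 2 ≤ i → Subsingleton (Abelian.Ext
        (ModuleCat.of (Localization.AtPrime p.1)
          (IsLocalRing.ResidueField (Localization.AtPrime p.1)))
        (ModuleCat.of (Localization.AtPrime p.1) (LocalizedModule p.1.primeCompl C)) i) := by
      intro i hi
      obtain ⟨j, rfl⟩ : ∃ j, i = j + 1 := ⟨i - 1, by omega⟩
      have h3 := hshift j
      have h4 : GrLC.bassNum (Ideal.homogeneousCore 𝒜 p.1).toIdeal C j = 0 := by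
        haveI : Subsingleton (Abelian.Ext
            (ModuleCat.of (Localization.AtPrime (Ideal.homogeneousCore 𝒜 p.1).toIdeal)
              (IsLocalRing.ResidueField
                (Localization.AtPrime (Ideal.homogeneousCore 𝒜 p.1).toIdeal)))
            (ModuleCat.of (Localization.AtPrime (Ideal.homogeneousCore 𝒜 p.1).toIdeal)
              (LocalizedModule (Ideal.homogeneousCore 𝒜 p.1).toIdeal.primeCompl C)) j) :=
          ⟨fun a b => by
            rw [a.eq_zero_of_hasInjectiveDimensionLT (n + 1) (by omega),
              b.eq_zero_of_hasInjectiveDimensionLT (n + 1) (by omega)]⟩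
        exact Module.length_eq_zero
      rw [h4] at h3
      exact Module.length_eq_zero_iff.mp h3
    have h5 := injdim_of_ext_residue (Localization.AtPrime p.1)
      (LocalizedModule p.1.primeCompl C) (n + 2) n
      (coheight_le_of_dim_le p.1 n hn) hN
    haveI := h5
    exact hasInjectiveDimensionLT_of_ge _ (n + 2 + n + 1) (2 * n + 3) (by omega)

end Groth.Agent.H2.GrInjDim
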