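import Mathlib
import Groth.Agent.S8819

/-!
# Graded module maps `⊕ I^{nc}N → N[T]` (Artin–Rees argument)
-/
set_option autoImplicit false
universe u
open MvPolynomial TensorProduct

namespace Groth.Agent.H2.GradedMap

section AR
variable {R' : Type*} [CommRing R'] [IsNoetherianRing R'] (J : Ideal R') (P : Type*)
  [AddCommGroup P] [Module R' P] [Module.Finite R' P]

/-- elements killed by `J^m` -/
def tors (m : ℕ) : Submodule R' P where
  carrier := {q | ∀ a ∈ J ^ m, a • q = 0}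
  zero_mem' := fun a _ => smul_zero a
  add_mem' := fun hx hy a ha => by rw [smul_add, hx a ha, hy a ha, add_zero]
  smul_mem' := fun c x hx a ha => by rw [smul_comm, hx a ha, smul_zero]

theorem tors_mono : Monotone (tors J P) :=
  fun _ _ h _ hq a ha => hq a (Ideal.pow_le_pow_right h ha)

theorem exists_AR : ∃ k₀ : ℕ, ∀ k ≥ k₀, ∀ q ∈ J ^ k • (⊤ : Submodule R' P),
    (∃ m : ℕ, ∀ a ∈ J ^ m, a • q = 0) → q = 0 := by
  haveI : IsNoetherian R' P := isNoetherian_of_isNoetherianRing_of_finite R' P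
  obtain ⟨s, hs⟩ := monotone_stabilizes_iff_noetherian.2 ‹_› ⟨tors J P, tors_mono J P⟩
  obtain ⟨k1, hk1⟩ := Ideal.exists_pow_inf_eq_pow_smul J (tors J P s)
  refine ⟨k1 + s, fun k hk q hq ⟨m, hm⟩ => ?_⟩
  have hqs : q ∈ tors J P s := by
    rcases le_total m s with h | h
    · exact tors_mono J P h hm
    · have h2 : tors J P s = tors J P m := hs m h
      rw [h2]
      exact hm
  have h1 : q ∈ J ^ k • (⊤ : Submodule R' P) ⊓ tors J P s := ⟨hq, hqs⟩
  rw [hk1 k (by omega)] at h1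
  have h2 : J ^ (k - k1) • (J ^ k1 • (⊤ : Submodule R' P) ⊓ tors J P s) ≤ (⊥ : Submodule R' P) := by
    refine Submodule.smul_le.2 fun a ha y hy => ?_
    rw [Submodule.mem_bot]
    exact hy.2 a (Ideal.pow_le_pow_right (by omega) ha)
  exact (Submodule.mem_bot R').1 (h2 h1)

end AR

section bound

open Groth.Agent.S8819

variable {A : Type u} [CommRing A] {r : ℕ} (I : Ideal A) {c : ℕ}
  (φ : Fin r → (↥(I ^ c) →ₗ[A] A))

theorem ψ_mem' (j : Fin r) (e : ℕ) {g : A} (hg : g ∈ I ^ (e + c)) :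
    ψ I φ j g ∈ I ^ e := by
  rw [pow_add] at hg
  have key : g ∈ I ^ c ∧ ψ I φ j g ∈ I ^ e := by
    refine Submodule.mul_induction_on
      (C := fun g => g ∈ I ^ c ∧ ψ I φ j g ∈ I ^ e) hg ?_ ?_
    · intro a ha b hb
      refine ⟨Ideal.mul_mem_left _ a hb, ?_⟩
      rw [ψ_mul I φ j a hb]
      exact Ideal.mul_mem_right _ _ ha
    · rintro x y ⟨hx, hx'⟩ ⟨hy, hy'⟩
      refine ⟨Ideal.add_mem _ hx hy, ?_⟩
      rw [ψ_add I φ j hx hy]
      exact Ideal.add_mem _ hx' hy'
  exact key.2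

theorem Φ_mem_map (d : ℕ)
    (H : ∀ (j : Fin r) (e : ℕ) (g : A), g ∈ I ^ (e + c) → ψ I φ j g ∈ I ^ (e + d)) :
    ∀ (n e : ℕ) (g : A), g ∈ I ^ (n * c + e) →
      Φ I φ n g ∈ (I ^ (e + n * d)).map (C : A →+* MvPolynomial (Fin r) A) := by
  intro n
  induction n with
  | zero =>
    intro e g hg
    rw [Nat.zero_mul, Nat.zero_add] at hg
    rw [Nat.zero_mul, Nat.add_zero, Φ_zero]
    exact Ideal.mem_map_of_mem _ hg
  | succ n ih =>
    intro e g hg
    rw [Φ_succ]
    refine Ideal.sum_mem _ fun j _ => Ideal.mul_mem_right _ _ ?_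
    have h1 : g ∈ I ^ ((n * c + e) + c) := by
      have : (n + 1) * c + e = (n * c + e) + c := by ring
      rwa [this] at hg
    have h2 := H j _ g h1
    have h3 : n * c + e + d = n * c + (e + d) := by ring
    rw [h3] at h2
    have h4 := ih (e + d) _ h2
    have h5 : e + d + n * d = e + (n + 1) * d := by ring
    rwa [h5] at h4

end bound

section main

open Groth.Agent.S8819

variable {A : Type u} [CommRing A] {r : ℕ} (f : Fin r → A) (I : Ideal A) (m : ℕ)
  (B : Type u) [CommRing B] [Algebra A B] (N : Type u) [AddCommGroup N] [Module B N]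
  (Φn : A → MvPolynomial (Fin r) A)

/-- generators -/
def gen (p : ↥(I ^ m) × N) : N := algebraMap A B p.1 • p.2

/-- values -/
noncomputable def val (p : ↥(I ^ m) × N) : MvPolynomial (Fin r) B ⊗[B] N :=
  MvPolynomial.map (algebraMap A B) (Φn p.1) ⊗ₜ[B] p.2

/-- the span `I^m N` -/
def S : Submodule B N :=
  Submodule.span B {y : N | ∃ g ∈ I ^ m, ∃ x : N, y = algebraMap A B g • x}

noncomputable def π : ((↥(I ^ m) × N) →₀ B) →ₗ[B] N := Finsupp.linearCombination B (gen I m B N)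

noncomputable def Θ : ((↥(I ^ m) × N) →₀ B) →ₗ[B] (MvPolynomial (Fin r) B ⊗[B] N) :=
  Finsupp.linearCombination B (val I m B N Φn)

theorem range_π : LinearMap.range (π I m B N) = S I m B N := by
  unfold π S
  rw [Finsupp.range_linearCombination]
  congr 1
  ext y
  constructor
  · rintro ⟨p, rfl⟩
    exact ⟨p.1, p.1.2, p.2, rfl⟩
  · rintro ⟨g, hg, x, rfl⟩
    exact ⟨(⟨g, hg⟩, x), rfl⟩

theorem map_smul' (a : A) (p : MvPolynomial (Fin r) A) :
    MvPolynomial.map (algebraMap A B) (a • p) =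
      algebraMap A B a • MvPolynomial.map (algebraMap A B) p := by
  rw [smul_eq_C_mul, map_mul, map_C, ← smul_eq_C_mul]

theorem α (hΦ : ∀ (a : A), ∀ g ∈ I ^ m, Φn (a * g) = a • Φn g)
    (a : A) (ha : a ∈ I ^ m) (t : (↥(I ^ m) × N) →₀ B) :
    algebraMap A B a • Θ I m B N Φn t =
      (MvPolynomial.map (algebraMap A B) (Φn a)) • ((1 : MvPolynomial (Fin r) B) ⊗ₜ[B] π I m B N t) := by
  induction t using Finsupp.induction_linear with
  | zero => simp
  | add t₁ t₂ h₁ h₂ => rw [map_add, map_add, smul_add, h₁, h₂, tmul_add, smul_add]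
  | single p b =>
    unfold Θ π
    rw [Finsupp.linearCombination_single, Finsupp.linearCombination_single]
    unfold val gen
    have key : algebraMap A B a • MvPolynomial.map (algebraMap A B) (Φn p.1) =
        algebraMap A B p.1 • MvPolynomial.map (algebraMap A B) (Φn a) := by
      rw [← map_smul', ← map_smul', ← hΦ a _ p.1.2, ← hΦ _ a ha, mul_comm]
    rw [tmul_smul, tmul_smul, smul_tmul', smul_tmul', smul_tmul', smul_tmul', smul_tmul',
      smul_eq_mul, mul_smul_comm, mul_smul_comm, mul_one, smul_comm (algebraMap A B a) b, key]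

theorem β (k : ℕ)
    (hval : ∀ g ∈ I ^ m, MvPolynomial.map (algebraMap A B) (Φn g) ∈
      (I ^ k).map (algebraMap A (MvPolynomial (Fin r) B)))
    (t : (↥(I ^ m) × N) →₀ B) :
    Θ I m B N Φn t ∈ (I ^ k).map (algebraMap A (MvPolynomial (Fin r) B)) •
      (⊤ : Submodule (MvPolynomial (Fin r) B) (MvPolynomial (Fin r) B ⊗[B] N)) := by
  induction t using Finsupp.induction_linear with
  | zero => rw [map_zero]; exact Submodule.zero_mem _
  | add t₁ t₂ h₁ h₂ => rw [map_add]; exact Submodule.add_mem _ h₁ h₂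
  | single p b =>
    unfold Θ
    rw [Finsupp.linearCombination_single]
    refine Submodule.smul_of_tower_mem _ b ?_
    unfold val
    have h1 : MvPolynomial.map (algebraMap A B) (Φn p.1) ⊗ₜ[B] p.2 =
        MvPolynomial.map (algebraMap A B) (Φn p.1) • ((1 : MvPolynomial (Fin r) B) ⊗ₜ[B] p.2) := by
      rw [smul_tmul', smul_eq_mul, mul_one]
    rw [h1]
    exact Submodule.smul_mem_smul (hval _ p.1.2) trivial

theorem smul_eq_zero_of_mem_map {z : MvPolynomial (Fin r) B ⊗[B] N}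
    (hz : ∀ a ∈ I ^ m, algebraMap A B a • z = 0) :
    ∀ a' ∈ (I.map (algebraMap A (MvPolynomial (Fin r) B))) ^ m, a' • z = 0 := by
  intro a' ha'
  rw [← Ideal.map_pow] at ha'
  refine Submodule.span_induction (p := fun a' _ => a' • z = 0) ?_ ?_ ?_ ?_ ha'
  · rintro _ ⟨a, ha, rfl⟩
    have : algebraMap A (MvPolynomial (Fin r) B) a =
        algebraMap B (MvPolynomial (Fin r) B) (algebraMap A B a) :=
      IsScalarTower.algebraMap_apply A B _ a
    rw [this, algebraMap_smul]
    exact hz a ha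
  · exact zero_smul _ _
  · intro x y _ _ hx hy
    rw [add_smul, hx, hy, add_zero]
  · intro x y _ hy
    rw [smul_eq_mul, mul_smul, hy, smul_zero]

theorem Θ_eq_zero (hΦ : ∀ (a : A), ∀ g ∈ I ^ m, Φn (a * g) = a • Φn g)
    (hcase : (1 : A) ∈ I ^ m ∨ ∃ k : ℕ,
      (∀ g ∈ I ^ m, MvPolynomial.map (algebraMap A B) (Φn g) ∈
        (I ^ k).map (algebraMap A (MvPolynomial (Fin r) B))) ∧
      ∀ q ∈ (I.map (algebraMap A (MvPolynomial (Fin r) B))) ^ k •
          (⊤ : Submodule (MvPolynomial (Fin r) B) (MvPolynomial (Fin r) B ⊗[B] N)),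
        (∃ m' : ℕ, ∀ a ∈ (I.map (algebraMap A (MvPolynomial (Fin r) B))) ^ m', a • q = 0) → q = 0)
    (t : (↥(I ^ m) × N) →₀ B) (ht : π I m B N t = 0) : Θ I m B N Φn t = 0 := by
  have hz : ∀ a ∈ I ^ m, algebraMap A B a • Θ I m B N Φn t = 0 := by
    intro a ha
    rw [α I m B N Φn hΦ a ha t, ht, tmul_zero, smul_zero]
  rcases hcase with h1 | ⟨k, hval, hAR⟩
  · have := hz 1 h1
    rwa [map_one, one_smul] at this
  · refine hAR _ ?_ ⟨m, smul_eq_zero_of_mem_map I m B N hz⟩
    rw [← Ideal.map_pow]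
    exact β I m B N Φn k hval t

/-- `π` corestricted to the span -/
noncomputable def π' : ((↥(I ^ m) × N) →₀ B) →ₗ[B] ↥(S I m B N) :=
  LinearMap.codRestrict (S I m B N) (π I m B N)
    (fun t => by rw [← range_π]; exact ⟨t, rfl⟩)

theorem π'_surjective : Function.Surjective (π' I m B N) := by
  rintro ⟨y, hy⟩
  have hy' := hy
  rw [← range_π] at hy'
  obtain ⟨t, ht⟩ := hy'
  exact ⟨t, Subtype.ext ht⟩

/-- the map on the span -/
noncomputable def Ψ (hker : ∀ t, π I m B N t = 0 → Θ I m B N Φn t = 0) :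
    ↥(S I m B N) →ₗ[B] (MvPolynomial (Fin r) B ⊗[B] N) :=
  ((LinearMap.ker (π' I m B N)).liftQ (Θ I m B N Φn) (fun t ht => by
      rw [LinearMap.mem_ker] at ht ⊢
      exact hker t (congrArg Subtype.val ht))) ∘ₗ
    ((π' I m B N).quotKerEquivOfSurjective (π'_surjective I m B N)).symm.toLinearMap

theorem Ψ_π' (hker : ∀ t, π I m B N t = 0 → Θ I m B N Φn t = 0) (t : (↥(I ^ m) × N) →₀ B) :
    Ψ I m B N Φn hker (π' I m B N t) = Θ I m B N Φn t := by
  unfold Ψ
  rw [LinearMap.comp_apply, LinearEquiv.coe_coe, LinearMap.quotKerEquivOfSurjective_symm_apply,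
    Submodule.liftQ_apply]

theorem Ψ_gen (hker : ∀ t, π I m B N t = 0 → Θ I m B N Φn t = 0) (g : A) (hg : g ∈ I ^ m)
    (x : N) :
    Ψ I m B N Φn hker ⟨algebraMap A B g • x, Submodule.subset_span ⟨g, hg, x, rfl⟩⟩ =
      MvPolynomial.map (algebraMap A B) (Φn g) ⊗ₜ[B] x := by
  have h1 : (⟨algebraMap A B g • x, Submodule.subset_span ⟨g, hg, x, rfl⟩⟩ : ↥(S I m B N)) =
      π' I m B N (Finsupp.single (⟨g, hg⟩, x) 1) := by
    apply Subtype.ext
    show _ = π I m B N _
    unfold π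
    rw [Finsupp.linearCombination_single, one_smul]
    rfl
  rw [h1, Ψ_π']
  unfold Θ
  rw [Finsupp.linearCombination_single, one_smul]
  rfl

theorem Ψ_unique (hker : ∀ t, π I m B N t = 0 → Θ I m B N Φn t = 0)
    (Ψ' : ↥(S I m B N) →ₗ[B] (MvPolynomial (Fin r) B ⊗[B] N))
    (h : ∀ (g : A) (hg : g ∈ I ^ m) (x : N),
      Ψ' ⟨algebraMap A B g • x, Submodule.subset_span ⟨g, hg, x, rfl⟩⟩ =
        MvPolynomial.map (algebraMap A B) (Φn g) ⊗ₜ[B] x) :
    Ψ' = Ψ I m B N Φn hker := by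
  have h2 : Ψ' ∘ₗ π' I m B N = Ψ I m B N Φn hker ∘ₗ π' I m B N := by
    refine Finsupp.lhom_ext fun p b => ?_
    have h1 : π' I m B N (Finsupp.single p b) =
        b • (⟨algebraMap A B p.1 • p.2, Submodule.subset_span ⟨p.1, p.1.2, p.2, rfl⟩⟩ :
          ↥(S I m B N)) := by
      apply Subtype.ext
      show π I m B N _ = _
      unfold π
      rw [Finsupp.linearCombination_single]
      rfl
    rw [LinearMap.comp_apply, LinearMap.comp_apply, h1, map_smul, map_smul, h p.1 p.1.2 p.2,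
      Ψ_gen I m B N Φn hker p.1 p.1.2 p.2]
  refine LinearMap.ext fun y => ?_
  obtain ⟨t, rfl⟩ := π'_surjective I m B N y
  exact LinearMap.congr_fun h2 t

theorem Ψ_eval (hker : ∀ t, π I m B N t = 0 → Θ I m B N Φn t = 0)
    (haeval : ∀ g ∈ I ^ m, MvPolynomial.aeval f (Φn g) = g) (y : ↥(S I m B N)) :
    TensorProduct.lift ((LinearMap.lsmul B N).comp
      (MvPolynomial.aeval (fun j ↦ algebraMap A B (f j))).toLinearMap)
        (Ψ I m B N Φn hker y) = (y : N) := by
  obtain ⟨t, rfl⟩ := π'_surjective I m B N y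
  rw [Ψ_π']
  show _ = π I m B N t
  induction t using Finsupp.induction_linear with
  | zero => simp
  | add t₁ t₂ h₁ h₂ => rw [map_add, map_add, map_add, h₁, h₂]
  | single p b =>
    unfold Θ π
    rw [Finsupp.linearCombination_single, Finsupp.linearCombination_single, map_smul]
    congr 1
    unfold val gen
    rw [TensorProduct.lift.tmul, LinearMap.comp_apply, LinearMap.lsmul_apply,
      AlgHom.toLinearMap_apply]
    congr 1
    have h3 : MvPolynomial.aeval (fun j ↦ algebraMap A B (f j))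
        (MvPolynomial.map (algebraMap A B) (Φn p.1)) =
        algebraMap A B (MvPolynomial.aeval f (Φn p.1)) := by
      rw [aeval_def, aeval_def, eval₂_map, eval₂_comp_left]
      rfl
    rw [h3, haeval _ p.1.2]

end main

end Groth.Agent.H2.GradedMap
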