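import Groth.Agent.H98.GrRad
import Groth.Agent.H98.GrFin
import Groth.Agent.H15.Depth
import Groth.Prelude.Def_GrLC

/-!
# Helper library (helper2): the Hilbert function of a standard graded Cohen–Macaulay ring of positive
dimension over a field is non-decreasing (generic linear form via McCoy's theorem; no assumption that
the field is infinite).
-/

set_option autoImplicit false
universe u

namespace Groth.Agent.H2.HilbMono

open Groth.Agent.H98.GrHt Polynomial
open scoped nonZeroDivisors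

section General

variable {R : Type u} [CommRing R]

/-- In a Cohen–Macaulay ring a prime of positive height is not an associated prime. -/
theorem notMem_ass_of_one_le_height [LocCoh.IsCohenMacaulayRing R] (P : Ideal R) [hP : P.IsPrime]
    (hht : 1 ≤ P.height) : P ∉ associatedPrimes R R := by
  classical
  haveI hcm : LocCoh.IsCohenMacaulayLocalRing (Localization.AtPrime P) :=
    LocCoh.IsCohenMacaulayRing.isCohenMacaulayLocalRing_localization P
  have hdimA : ringKrullDim (Localization.AtPrime P) = (P.height : WithBot ℕ∞) :=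
    IsLocalization.AtPrime.ringKrullDim_eq_height P _
  have hdepth : ((LocCoh.depth (Localization.AtPrime P) (Localization.AtPrime P) : ℕ∞) :
      WithBot ℕ∞) = (P.height : WithBot ℕ∞) := by
    rw [← hcm.supportDim_eq_depth, Module.supportDim_self_eq_ringKrullDim, hdimA]
  have hdepth1 : ((1 : ℕ) : ℕ∞) ≤ LocCoh.depth (Localization.AtPrime P)
      (Localization.AtPrime P) := by
    have h1 : LocCoh.depth (Localization.AtPrime P) (Localization.AtPrime P) = P.height := by
      exact_mod_cast hdepth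
    rw [h1]
    exact_mod_cast hht
  have hne : (IsLocalRing.maximalIdeal (Localization.AtPrime P)) •
      (⊤ : Submodule (Localization.AtPrime P) (Localization.AtPrime P)) ≠ ⊤ := by
    rw [Ideal.smul_top_eq_map, Algebra.algebraMap_self, Ideal.map_id]
    intro h
    have h1 : (1 : Localization.AtPrime P) ∈ Submodule.restrictScalars
        (Localization.AtPrime P)
        (IsLocalRing.maximalIdeal (Localization.AtPrime P)) := by
      rw [h]; trivial
    exact (IsLocalRing.maximalIdeal.isMaximal _).ne_top ((Ideal.eq_top_iff_one _).mpr h1)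
  obtain ⟨t, htm, htreg, -⟩ := Groth.Agent.H15.Depth.hasSeq_succ_iff.mp
    ((Groth.Agent.H15.Depth.le_idealDepth_iff hne 1).mp hdepth1)
  intro hass
  obtain ⟨-, r, hr⟩ := isAssociatedPrime_iff.mp hass
  obtain ⟨u, s, hus⟩ := IsLocalization.exists_mk'_eq P.primeCompl t
  have hu : u ∈ P := by
    rw [← hus] at htm
    exact (IsLocalization.AtPrime.mk'_mem_maximal_iff
      (Localization.AtPrime P) P u s).mp htm
  have hur : u * r = 0 := by
    rw [hr, Submodule.mem_colon_singleton, Submodule.mem_bot, smul_eq_mul] at hu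
    exact hu
  have htr : t • (algebraMap R (Localization.AtPrime P) r) =
      t • (0 : Localization.AtPrime P) := by
    rw [smul_zero, smul_eq_mul, ← hus, mul_comm, IsLocalization.mul_mk'_eq_mk'_of_mul,
      mul_comm r u, hur, IsLocalization.mk'_zero]
  have hr0 : algebraMap R (Localization.AtPrime P) r = 0 := htreg htr
  have hmem : ∀ x : R, x * r = 0 → x ∈ P := by
    intro x hx
    rw [hr, Submodule.mem_colon_singleton, Submodule.mem_bot, smul_eq_mul]
    exact hx
  obtain ⟨m, hm⟩ := (IsLocalization.map_eq_zero_iff P.primeCompl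
    (Localization.AtPrime P) r).mp hr0
  exact m.2 (hmem (m : R) hm)

end General

section Graded

variable {R : Type u} [CommRing R] (𝒜 : ℤ → AddSubgroup R) [GradedRing 𝒜]

/-- the irrelevant ideal -/
def mm : Ideal R := Ideal.span (⋃ n ∈ Set.Ioi (0 : ℤ), (𝒜 n : Set R))

variable (hpos : ∀ n : ℤ, n < 0 → 𝒜 n = ⊥)

include hpos in
theorem cp_neg (z : R) (i : ℤ) (hi : i < 0) : cp 𝒜 z i = 0 := by
  have h2 := cp_mem 𝒜 z i
  rw [hpos i hi] at h2
  exact AddSubgroup.mem_bot.1 h2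

include hpos in
theorem mem_mm_iff (a : R) : a ∈ mm 𝒜 ↔ cp 𝒜 a 0 = 0 := by
  classical
  constructor
  · intro ha
    refine Submodule.span_induction (p := fun x _ => cp 𝒜 x 0 = 0) ?_ ?_ ?_ ?_ ha
    · intro x hx
      obtain ⟨n, hn, hxn⟩ := Set.mem_iUnion₂.1 hx
      rw [cp_of_mem 𝒜 hxn, if_neg]
      have : (0 : ℤ) < n := hn
      omega
    · exact cp_zero 𝒜 0
    · intro x y _ _ hx hy
      rw [cp_add, hx, hy, add_zero]
    · intro r x _ hx
      rw [smul_eq_mul, Groth.Agent.H98.GrHt.cp_mul_zero 𝒜 hpos, hx, mul_zero]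
  · intro h
    rw [← DirectSum.sum_support_decompose 𝒜 a]
    refine Ideal.sum_mem _ fun i _ => ?_
    rcases lt_trichotomy i 0 with hi | hi | hi
    · have h3 := cp_neg 𝒜 hpos a i hi
      unfold cp at h3
      rw [h3]
      exact zero_mem _
    · subst hi
      unfold cp at h
      rw [h]
      exact zero_mem _
    · exact Ideal.subset_span (Set.mem_iUnion₂.2 ⟨i, hi, SetLike.coe_mem _⟩)

include hpos in
theorem sub_cp_zero_mem (a : R) : a - cp 𝒜 a 0 ∈ mm 𝒜 := by
  rw [mem_mm_iff 𝒜 hpos, cp_sub, cp_of_mem 𝒜 (cp_mem 𝒜 a 0), if_pos rfl, sub_self]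

variable (h0 : IsField (GrLC.deg0 𝒜))

include h0 in
/-- nonzero elements of degree zero are units -/
theorem exists_mul_eq_one_of_mem_zero {c : R} (hc : c ∈ 𝒜 0) (hne : c ≠ 0) :
    ∃ b : R, c * b = 1 := by
  have hne' : (⟨c, hc⟩ : GrLC.deg0 𝒜) ≠ 0 := by
    intro h
    exact hne (congrArg Subtype.val h)
  obtain ⟨b, hb⟩ := h0.mul_inv_cancel hne'
  exact ⟨(b : R), congrArg Subtype.val hb⟩

include hpos h0 in
theorem mm_isMaximal [Nontrivial R] : (mm 𝒜).IsMaximal := by
  rw [Ideal.isMaximal_iff]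
  constructor
  · rw [mem_mm_iff 𝒜 hpos, cp_of_mem 𝒜 (SetLike.GradedOne.one_mem (A := 𝒜)), if_pos rfl]
    exact one_ne_zero
  · intro J x hJ hx hxJ
    rw [mem_mm_iff 𝒜 hpos] at hx
    obtain ⟨b, hb⟩ := exists_mul_eq_one_of_mem_zero 𝒜 h0 (cp_mem 𝒜 x 0) hx
    have h1 : cp 𝒜 x 0 ∈ J := by
      have h2 : cp 𝒜 x 0 = x - (x - cp 𝒜 x 0) := by ring
      rw [h2]
      exact J.sub_mem hxJ (hJ (sub_cp_zero_mem 𝒜 hpos x))
    rw [← hb]
    exact J.mul_mem_right _ h1

include hpos h0 in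
theorem le_mm_of_isHomogeneous {J : Ideal R} (hJ : J.IsHomogeneous 𝒜) (hne : J ≠ ⊤) :
    J ≤ mm 𝒜 := by
  intro a ha
  rw [mem_mm_iff 𝒜 hpos]
  by_contra hc
  obtain ⟨b, hb⟩ := exists_mul_eq_one_of_mem_zero 𝒜 h0 (cp_mem 𝒜 a 0) hc
  apply hne
  rw [Ideal.eq_top_iff_one, ← hb]
  exact J.mul_mem_right _ (hJ 0 ha)

theorem isHomogeneous_of_mem_minimalPrimes {P : Ideal R} (hP : P ∈ minimalPrimes R) :
    P.IsHomogeneous 𝒜 := by
  haveI hprime : P.IsPrime := hP.1.1
  have hcp : (P.homogeneousCore 𝒜).toIdeal.IsPrime := Ideal.IsPrime.homogeneousCore hprime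
  have hle : (P.homogeneousCore 𝒜).toIdeal ≤ P := Ideal.toIdeal_homogeneousCore_le 𝒜 P
  have heq : P ≤ (P.homogeneousCore 𝒜).toIdeal := hP.2 ⟨hcp, bot_le⟩ hle
  have : (P.homogeneousCore 𝒜).toIdeal = P := le_antisymm hle heq
  rw [← this]
  exact (P.homogeneousCore 𝒜).isHomogeneous

include hpos h0 in
theorem one_le_height_mm [Nontrivial R] (hdim : 1 ≤ ringKrullDim R) :
    1 ≤ (mm 𝒜).height := by
  haveI hmax : (mm 𝒜).IsMaximal := mm_isMaximal 𝒜 hpos h0
  haveI hprime : (mm 𝒜).IsPrime := hmax.isPrime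
  rw [Order.one_le_iff_ne_zero]
  intro hzero
  rw [Ideal.height_eq_zero_iff] at hzero
  have hall : ∀ P : PrimeSpectrum R, P.asIdeal = mm 𝒜 := by
    intro P
    obtain ⟨P', hP'min, hP'le⟩ := Ideal.exists_minimalPrimes_le (I := ⊥) (J := P.asIdeal) bot_le
    have hP'hom : P'.IsHomogeneous 𝒜 := isHomogeneous_of_mem_minimalPrimes 𝒜 hP'min
    have hP'prime : P'.IsPrime := hP'min.1.1
    have hP'irr : P' ≤ mm 𝒜 := le_mm_of_isHomogeneous 𝒜 hpos h0 hP'hom hP'prime.ne_top
    have hirrP' : mm 𝒜 ≤ P' := hzero.2 ⟨hP'prime, bot_le⟩ hP'irr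
    exact (hmax.eq_of_le P.isPrime.ne_top (le_trans hirrP' hP'le)).symm
  haveI : Subsingleton (PrimeSpectrum R) :=
    ⟨fun P Q => PrimeSpectrum.ext ((hall P).trans (hall Q).symm)⟩
  have h1 : ringKrullDim R ≤ 0 := Order.krullDim_nonpos_of_subsingleton
  have h2 : (1 : WithBot ℕ∞) ≤ 0 := le_trans hdim h1
  exact absurd h2 (by decide)

include hpos h0 in
/-- an element killed by the irrelevant ideal of a graded CM ring of positive dimension is zero -/
theorem eq_zero_of_mm_mul [LocCoh.IsCohenMacaulayRing R] [Nontrivial R]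
    (hdim : 1 ≤ ringKrullDim R) (a : R) (ha : ∀ x ∈ mm 𝒜, x * a = 0) : a = 0 := by
  haveI hmax : (mm 𝒜).IsMaximal := mm_isMaximal 𝒜 hpos h0
  haveI hprime : (mm 𝒜).IsPrime := hmax.isPrime
  by_contra hne
  apply notMem_ass_of_one_le_height (mm 𝒜) (one_le_height_mm 𝒜 hpos h0 hdim)
  show IsAssociatedPrime (mm 𝒜) R
  rw [isAssociatedPrime_iff]
  refine ⟨hprime, a, ?_⟩
  have hle : mm 𝒜 ≤ (⊥ : Submodule R R).colon {a} := by
    intro x hx
    rw [Submodule.mem_colon_singleton, Submodule.mem_bot, smul_eq_mul]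
    exact ha x hx
  refine hmax.eq_of_le ?_ hle
  intro htop
  have h1 : (1 : R) ∈ (⊥ : Submodule R R).colon {a} := by
    rw [htop]; trivial
  rw [Submodule.mem_colon_singleton, Submodule.mem_bot, one_smul] at h1
  exact hne h1

end Graded

section Generic

variable {R : Type u} [CommRing R]

/-- the generic linear form `∑ x_i T^(i+1)` -/
noncomputable def ell {r : ℕ} (x : Fin r → R) : R[X] :=
  ∑ i : Fin r, monomial ((i : ℕ) + 1) (x i)

theorem coeff_ell {r : ℕ} (x : Fin r → R) (i : Fin r) : (ell x).coeff ((i : ℕ) + 1) = x i := by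
  unfold ell
  rw [Polynomial.finsetSum_coeff, Finset.sum_eq_single i]
  · rw [coeff_monomial, if_pos rfl]
  · intro j _ hj
    rw [coeff_monomial, if_neg]
    intro h
    apply hj
    ext
    omega
  · intro h
    exact absurd (Finset.mem_univ i) h

theorem natDegree_ell_le {r : ℕ} (x : Fin r → R) : (ell x).natDegree ≤ r := by
  unfold ell
  refine Polynomial.natDegree_sum_le_of_forall_le _ _ fun i _ => ?_
  exact (natDegree_monomial_le _).trans (by omega)

/-- McCoy: the generic linear form is a non-zero-divisor as soon as no nonzero element kills all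
the `x i`. -/
theorem ell_mem_nonZeroDivisors {r : ℕ} (x : Fin r → R)
    (h : ∀ a : R, (∀ i, a * x i = 0) → a = 0) : ell x ∈ R[X]⁰ := by
  by_contra hc
  obtain ⟨a, ha, hal⟩ := Polynomial.notMem_nonZeroDivisors_iff.1 hc
  apply ha
  apply h
  intro i
  have h1 := congrArg (fun p => p.coeff ((i : ℕ) + 1)) hal
  simpa [coeff_smul, coeff_ell] using h1

/-- the polynomial with prescribed coefficients -/
noncomputable def pv {N : ℕ} (v : Fin N → R) : R[X] := ∑ i : Fin N, monomial (i : ℕ) (v i)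

theorem coeff_pv {N : ℕ} (v : Fin N → R) (i : Fin N) : (pv v).coeff (i : ℕ) = v i := by
  unfold pv
  rw [Polynomial.finsetSum_coeff, Finset.sum_eq_single i]
  · rw [coeff_monomial, if_pos rfl]
  · intro j _ hj
    rw [coeff_monomial, if_neg]
    intro h
    apply hj
    ext
    omega
  · intro h
    exact absurd (Finset.mem_univ i) h

theorem natDegree_pv_le {N : ℕ} (v : Fin (N + 1) → R) : (pv v).natDegree ≤ N := by
  unfold pv
  refine Polynomial.natDegree_sum_le_of_forall_le _ _ fun i _ => ?_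
  exact (natDegree_monomial_le _).trans (by omega)

theorem pv_add {N : ℕ} (v w : Fin N → R) : pv (fun i => v i + w i) = pv v + pv w := by
  unfold pv
  rw [← Finset.sum_add_distrib]
  exact Finset.sum_congr rfl fun i _ => by rw [map_add]

theorem pv_mul {N : ℕ} (c : R) (v : Fin N → R) : pv (fun i => c * v i) = C c * pv v := by
  unfold pv
  rw [Finset.mul_sum]
  exact Finset.sum_congr rfl fun i _ => by rw [C_mul_monomial]

variable (𝒜 : ℤ → AddSubgroup R) [GradedRing 𝒜]

theorem coeff_ell_mem {r : ℕ} (x : Fin r → R) (hx : ∀ i, x i ∈ 𝒜 1) (j : ℕ) :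
    (ell x).coeff j ∈ 𝒜 1 := by
  unfold ell
  rw [Polynomial.finsetSum_coeff]
  refine sum_mem fun i _ => ?_
  rw [coeff_monomial]
  split_ifs
  · exact hx i
  · exact zero_mem _

theorem coeff_pv_mem {N : ℕ} (n : ℤ) (v : Fin N → R) (hv : ∀ i, v i ∈ 𝒜 n) (j : ℕ) :
    (pv v).coeff j ∈ 𝒜 n := by
  unfold pv
  rw [Polynomial.finsetSum_coeff]
  refine sum_mem fun i _ => ?_
  rw [coeff_monomial]
  split_ifs
  · exact hv i
  · exact zero_mem _

theorem coeff_ell_mul_pv_mem {r N : ℕ} (x : Fin r → R) (hx : ∀ i, x i ∈ 𝒜 1) (n : ℤ)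
    (v : Fin N → R) (hv : ∀ i, v i ∈ 𝒜 n) (j : ℕ) : (ell x * pv v).coeff j ∈ 𝒜 (n + 1) := by
  rw [coeff_mul]
  refine sum_mem fun p _ => ?_
  have h := SetLike.GradedMul.mul_mem (coeff_ell_mem 𝒜 x hx p.1) (coeff_pv_mem 𝒜 n v hv p.2)
  rw [add_comm] at h
  exact h

/-- multiplication by the generic linear form on polynomials with coefficients in degree `n` -/
noncomputable def Phi {r : ℕ} (x : Fin r → R) (hx : ∀ i, x i ∈ 𝒜 1) (n : ℤ) (D : ℕ) :
    (Fin (D + 1) → GrLC.comp 𝒜 𝒜 n) →ₗ[GrLC.deg0 𝒜]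
      (Fin (D + r + 1) → GrLC.comp 𝒜 𝒜 (n + 1)) where
  toFun v j := ⟨(ell x * pv (fun i => ((v i : GrLC.comp 𝒜 𝒜 n) : R))).coeff (j : ℕ),
    coeff_ell_mul_pv_mem 𝒜 x hx n _ (fun i => (v i).2) _⟩
  map_add' v w := by
    funext j
    apply Subtype.ext
    show (ell x * pv (fun i => (((v + w) i : GrLC.comp 𝒜 𝒜 n) : R))).coeff (j : ℕ) =
      (ell x * pv (fun i => ((v i : GrLC.comp 𝒜 𝒜 n) : R))).coeff (j : ℕ) +
      (ell x * pv (fun i => ((w i : GrLC.comp 𝒜 𝒜 n) : R))).coeff (j : ℕ)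
    rw [← coeff_add, ← mul_add, ← pv_add]
    rfl
  map_smul' c v := by
    funext j
    apply Subtype.ext
    show (ell x * pv (fun i => (((c • v) i : GrLC.comp 𝒜 𝒜 n) : R))).coeff (j : ℕ) =
      (c : R) * (ell x * pv (fun i => ((v i : GrLC.comp 𝒜 𝒜 n) : R))).coeff (j : ℕ)
    rw [← coeff_C_mul, mul_left_comm, ← pv_mul]
    rfl

theorem Phi_injective {r : ℕ} (x : Fin r → R) (hx : ∀ i, x i ∈ 𝒜 1) (n : ℤ) (D : ℕ)
    (hℓ : ell x ∈ R[X]⁰) : Function.Injective (Phi 𝒜 x hx n D) := by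
  rw [← LinearMap.ker_eq_bot, LinearMap.ker_eq_bot']
  intro v hv
  have hcoef : ∀ j : ℕ, (ell x * pv (fun i => ((v i : GrLC.comp 𝒜 𝒜 n) : R))).coeff j = 0 := by
    intro j
    by_cases hj : j < D + r + 1
    · have h1 := congrFun hv ⟨j, hj⟩
      exact congrArg Subtype.val h1
    · apply coeff_eq_zero_of_natDegree_lt
      refine lt_of_le_of_lt natDegree_mul_le ?_
      have h1 := natDegree_ell_le x
      have h2 := natDegree_pv_le (fun i => ((v i : GrLC.comp 𝒜 𝒜 n) : R))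
      omega
  have hzero : ell x * pv (fun i => ((v i : GrLC.comp 𝒜 𝒜 n) : R)) = 0 :=
    Polynomial.ext fun j => by rw [hcoef j, coeff_zero]
  have hp : pv (fun i => ((v i : GrLC.comp 𝒜 𝒜 n) : R)) = 0 :=
    (mul_right_mem_nonZeroDivisors_eq_zero_iff hℓ).1 (by rw [mul_comm]; exact hzero)
  funext i
  apply Subtype.ext
  have h3 := coeff_pv (fun i => ((v i : GrLC.comp 𝒜 𝒜 n) : R)) i
  rw [hp, coeff_zero] at h3
  exact h3.symm

end Generic

section Count

theorem mul_finrank_le {k : Type*} [CommRing k] (hk : IsField k) {V W : Type*} [AddCommGroup V]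
    [Module k V] [AddCommGroup W] [Module k W] [Module.Finite k V] [Module.Finite k W] {a b : ℕ}
    (f : (Fin a → V) →ₗ[k] (Fin b → W)) (hf : Function.Injective f) :
    a * Module.finrank k V ≤ b * Module.finrank k W := by
  letI := hk.toField
  have h := LinearMap.finrank_le_finrank_of_injective hf
  rw [Module.finrank_pi_fintype, Module.finrank_pi_fintype] at h
  simpa using h

end Count

section Main

variable {R : Type u} [CommRing R] (𝒜 : ℤ → AddSubgroup R) [GradedRing 𝒜]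

theorem finite_comp [IsNoetherianRing R] (n : ℤ) :
    Module.Finite (GrLC.deg0 𝒜) (GrLC.comp 𝒜 𝒜 n) := by
  haveI : IsNoetherian (GrLC.deg0 𝒜) (GrLC.comp 𝒜 𝒜 n) :=
    Groth.Agent.H98.GrCat.isNoetherian_piece_of_isNoetherian 𝒜 𝒜 n (GrLC.comp 𝒜 𝒜 n)
      (fun _ => Iff.rfl)
  infer_instance

theorem main [LocCoh.IsCohenMacaulayRing R] (hpos : ∀ n : ℤ, n < 0 → 𝒜 n = ⊥)
    (h0 : IsField (GrLC.deg0 𝒜))
    (hstd : Ideal.span (⋃ n ∈ Set.Ioi (0 : ℤ), (𝒜 n : Set R)) =
      Ideal.span ((𝒜 1 : AddSubgroup R) : Set R))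
    (h1 : 1 ≤ ringKrullDim R) (n : ℤ) :
    Module.finrank (GrLC.deg0 𝒜) (GrLC.comp 𝒜 𝒜 n) ≤
      Module.finrank (GrLC.deg0 𝒜) (GrLC.comp 𝒜 𝒜 (n + 1)) := by
  classical
  haveI : Nontrivial R := by
    by_contra hnt
    rw [not_nontrivial_iff_subsingleton] at hnt
    have h2 : ringKrullDim R = ⊥ := ringKrullDim_eq_bot_of_subsingleton
    rw [h2] at h1
    exact absurd h1 (by decide)
  -- finitely many generators of degree one
  have hfg : (Ideal.span ((𝒜 1 : AddSubgroup R) : Set R)).FG := IsNoetherian.noetherian _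
  obtain ⟨s', hs'sub, hs'span⟩ := (Submodule.fg_span_iff_fg_span_finset_subset _).1 hfg
  obtain ⟨r, x, hx, hrange⟩ : ∃ (r : ℕ) (x : Fin r → R), (∀ i, x i ∈ 𝒜 1) ∧
      Set.range x = (s' : Set R) := by
    refine ⟨s'.card, fun i => ((s'.equivFin.symm i : s') : R), fun i => ?_, ?_⟩
    · exact hs'sub (s'.equivFin.symm i).2
    · ext y
      constructor
      · rintro ⟨i, rfl⟩
        exact (s'.equivFin.symm i).2
      · intro hy
        refine ⟨s'.equivFin ⟨y, hy⟩, ?_⟩
        simp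
  have hmm : mm 𝒜 = Ideal.span (Set.range x) := by
    unfold mm
    rw [hstd, hrange]
    exact hs'span
  -- no nonzero element kills all the `x i`
  have hkill : ∀ a : R, (∀ i, a * x i = 0) → a = 0 := by
    intro a ha
    apply eq_zero_of_mm_mul 𝒜 hpos h0 h1 a
    intro z hz
    rw [hmm] at hz
    refine Submodule.span_induction (p := fun z _ => z * a = 0) ?_ ?_ ?_ ?_ hz
    · rintro _ ⟨i, rfl⟩
      rw [mul_comm]
      exact ha i
    · exact zero_mul a
    · intro y z _ _ hy hz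
      rw [add_mul, hy, hz, add_zero]
    · intro c y _ hy
      rw [smul_eq_mul, mul_assoc, hy, mul_zero]
  have hℓ : ell x ∈ R[X]⁰ := ell_mem_nonZeroDivisors x hkill
  haveI := finite_comp 𝒜 n
  haveI := finite_comp 𝒜 (n + 1)
  have hcount : ∀ D : ℕ, (D + 1) * Module.finrank (GrLC.deg0 𝒜) (GrLC.comp 𝒜 𝒜 n) ≤
      (D + r + 1) * Module.finrank (GrLC.deg0 𝒜) (GrLC.comp 𝒜 𝒜 (n + 1)) := fun D =>
    mul_finrank_le h0 (Phi 𝒜 x hx n D) (Phi_injective 𝒜 x hx n D hℓ)
  by_contra hlt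
  rw [not_le] at hlt
  have h2 := hcount (Module.finrank (GrLC.deg0 𝒜) (GrLC.comp 𝒜 𝒜 (n + 1)) * r)
  generalize Module.finrank (GrLC.deg0 𝒜) (GrLC.comp 𝒜 𝒜 (n + 1)) = b at h2 hlt
  generalize Module.finrank (GrLC.deg0 𝒜) (GrLC.comp 𝒜 𝒜 n) = a at h2 hlt
  have h3 : (b * r + 1) * (b + 1) ≤ (b * r + 1) * a := Nat.mul_le_mul_left _ hlt
  have h4 : (b * r + 1) * (b + 1) = (b * r + r + 1) * b + 1 := by ring
  omega

end Main

end Groth.Agent.H2.HilbMono
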