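import Mathlib
import Groth.Agent.S0389

/-!
# (N2) for helper38: non-nilpotence of `1 ⊗ u` spreads out from the generic geometric fibre
-/

set_option autoImplicit false
universe u
open TensorProduct

namespace Groth.Agent.H2.IrrN2

theorem away_subsingleton_iff {R : Type*} [CommRing R] (x : R) :
    Subsingleton (Localization.Away x) ↔ IsNilpotent x := by
  rw [IsLocalization.subsingleton_iff (M := Submonoid.powers x)]
  constructor
  · rintro ⟨n, hn⟩
    exact ⟨n, hn⟩
  · rintro ⟨n, hn⟩
    exact ⟨n, hn⟩

/-- Nontriviality of the generic geometric fibre of a finite type algebra spreads out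
(via generic freeness S0389). -/
theorem nontrivial_spread {A C : Type u} [CommRing A] [IsDomain A] [CommRing C] [Algebra A C]
    [Algebra.FiniteType A C] {Ω : Type u} [Field Ω] [Algebra A Ω]
    (hinj : Function.Injective (algebraMap A Ω)) (h : Nontrivial (Ω ⊗[A] C)) :
    ∃ a : A, a ≠ 0 ∧ ∀ (K : Type u) [Field K] [Algebra A K], algebraMap A K a ≠ 0 →
      Nontrivial (K ⊗[A] C) := by
  obtain ⟨f, hf0, -, hfree, -, -⟩ := Groth.Agent.S0389.result (R := A) (S := C) (M := C)
  refine ⟨f, hf0, ?_⟩
  have hT : Nontrivial (Localization.Away f ⊗[A] C) := by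
    by_contra hns
    rw [not_nontrivial_iff_subsingleton] at hns
    have hfΩ : IsUnit (algebraMap A Ω f) :=
      IsUnit.mk0 _ (fun h0 => hf0 (hinj (by rw [h0, map_zero])))
    have hunit : ∀ y : Submonoid.powers f, IsUnit ((Algebra.ofId A Ω) y) := by
      rintro ⟨y, n, rfl⟩
      change IsUnit (algebraMap A Ω (f ^ n))
      rw [map_pow]
      exact hfΩ.pow n
    let g : Localization.Away f →ₐ[A] Ω :=
      IsLocalization.liftAlgHom (M := Submonoid.powers f) (f := Algebra.ofId A Ω) hunit
    let G : Localization.Away f ⊗[A] C →ₐ[A] Ω ⊗[A] C :=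
      Algebra.TensorProduct.map g (AlgHom.id A C)
    have h10 : (1 : Ω ⊗[A] C) = 0 := by
      rw [← map_one G, Subsingleton.elim (1 : Localization.Away f ⊗[A] C) 0, map_zero]
    exact one_ne_zero h10
  intro K _ _ hK
  have hunitK : IsUnit (algebraMap A K f) := IsUnit.mk0 _ hK
  letI : Algebra (Localization.Away f) K := (IsLocalization.Away.lift f hunitK).toAlgebra
  haveI : IsScalarTower A (Localization.Away f) K := IsScalarTower.of_algebraMap_eq' (by
    rw [RingHom.algebraMap_toAlgebra, IsLocalization.Away.lift_comp])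
  haveI : Module.FaithfullyFlat (Localization.Away f) (Localization.Away f ⊗[A] C) := inferInstance
  haveI : Nontrivial ((Localization.Away f ⊗[A] C) ⊗[Localization.Away f] K) :=
    Module.FaithfullyFlat.lTensor_nontrivial (Localization.Away f) (Localization.Away f ⊗[A] C) K
  haveI : Nontrivial (K ⊗[Localization.Away f] (Localization.Away f ⊗[A] C)) :=
    (TensorProduct.comm (Localization.Away f) K (Localization.Away f ⊗[A] C)).toEquiv.nontrivial
  exact (TensorProduct.AlgebraTensorModule.cancelBaseChange A (Localization.Away f) K K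
    C).symm.toEquiv.nontrivial

/-- (N2) non-nilpotence spreads out. -/
theorem not_isNilpotent_spread {A B : Type u} [CommRing A] [IsDomain A] [CommRing B] [Algebra A B]
    [Algebra.FiniteType A B] (u : B) {Ω : Type u} [Field Ω] [Algebra A Ω]
    (hinj : Function.Injective (algebraMap A Ω)) (hu : ¬ IsNilpotent ((1 : Ω) ⊗ₜ[A] u)) :
    ∃ a : A, a ≠ 0 ∧ ∀ (K : Type u) [Field K] [Algebra A K], algebraMap A K a ≠ 0 →
      ¬ IsNilpotent ((1 : K) ⊗ₜ[A] u) := by
  haveI : Algebra.FiniteType A (Localization.Away u) := by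
    have : Algebra.FiniteType B (Localization.Away u) := inferInstance
    exact Algebra.FiniteType.trans ‹Algebra.FiniteType A B› this
  have hΩ : Nontrivial (Ω ⊗[A] Localization.Away u) := by
    have hnt : Nontrivial (Localization.Away ((1 : Ω) ⊗ₜ[A] u)) := by
      rw [← not_subsingleton_iff_nontrivial, away_subsingleton_iff]
      exact hu
    exact (IsLocalization.Away.tensorProductEquivTMulRight A Ω u
      (Localization.Away u)).toEquiv.nontrivial
  obtain ⟨a, ha, H⟩ := nontrivial_spread hinj hΩ
  refine ⟨a, ha, fun K _ _ hK hnil => ?_⟩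
  haveI := H K hK
  haveI : Subsingleton (Localization.Away ((1 : K) ⊗ₜ[A] u)) :=
    (away_subsingleton_iff _).mpr hnil
  exact not_subsingleton (K ⊗[A] Localization.Away u)
    (IsLocalization.Away.tensorProductEquivTMulRight A K u
      (Localization.Away u)).toEquiv.subsingleton

end Groth.Agent.H2.IrrN2

/-- verbatim check against helper38's request text -/
example {A B : Type u} [CommRing A] [IsDomain A] [CommRing B] [Algebra A B]
    [Algebra.FiniteType A B] (u : B) {Ω : Type u} [Field Ω] [Algebra A Ω]
    (hinj : Function.Injective (algebraMap A Ω)) (hu : ¬ IsNilpotent ((1 : Ω) ⊗ₜ[A] u)) :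
    ∃ a : A, a ≠ 0 ∧ ∀ (K : Type u) [Field K] [Algebra A K], algebraMap A K a ≠ 0 →
      ¬ IsNilpotent ((1 : K) ⊗ₜ[A] u) :=
  Groth.Agent.H2.IrrN2.not_isNilpotent_spread u hinj hu
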