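import Mathlib

/-!
# (N3) for helper38: descent of a nilpotent product to a finitely generated subalgebra
-/

set_option autoImplicit false
universe u
open TensorProduct

namespace Groth.Agent.H2.IrrN3

section
variable {A B Ω : Type u} [CommRing A] [CommRing B] [Algebra A B] [CommRing Ω] [Algebra A Ω]

theorem map_val_eq_rTensor (C : Subalgebra A Ω) (x : C ⊗[A] B) :
    Algebra.TensorProduct.map C.val (AlgHom.id A B) x = LinearMap.rTensor B C.val.toLinearMap x :=
  rfl

theorem map_incl_eq_rTensor {C D : Subalgebra A Ω} (h : C ≤ D) (x : C ⊗[A] B) :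
    Algebra.TensorProduct.map (Subalgebra.inclusion h) (AlgHom.id A B) x =
      LinearMap.rTensor B (Subalgebra.inclusion h).toLinearMap x :=
  rfl

theorem map_val_map_incl {C D : Subalgebra A Ω} (h : C ≤ D) (x : C ⊗[A] B) :
    Algebra.TensorProduct.map D.val (AlgHom.id A B)
      (Algebra.TensorProduct.map (Subalgebra.inclusion h) (AlgHom.id A B) x) =
    Algebra.TensorProduct.map C.val (AlgHom.id A B) x := by
  induction x with
  | zero => simp
  | tmul c b => simp
  | add x y hx hy => rw [map_add, map_add, map_add, hx, hy]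

/-- (N3) two elements of a base change with nilpotent product are defined, with nilpotent
product, over a finitely generated subalgebra. -/
theorem exists_fg_subalgebra_descent (u v : Ω ⊗[A] B) (hnil : IsNilpotent (u * v)) :
    ∃ (A₁ : Subalgebra A Ω) (u₁ v₁ : A₁ ⊗[A] B), A₁.FG ∧
      Algebra.TensorProduct.map A₁.val (AlgHom.id A B) u₁ = u ∧
      Algebra.TensorProduct.map A₁.val (AlgHom.id A B) v₁ = v ∧ IsNilpotent (u₁ * v₁) := by
  obtain ⟨Au, hAu, tu, htu⟩ := TensorProduct.Algebra.exists_of_fg u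
  obtain ⟨Av, hAv, tv, htv⟩ := TensorProduct.Algebra.exists_of_fg v
  obtain ⟨N, hN⟩ := hnil
  have hA₀ : (Au ⊔ Av).FG := Subalgebra.FG.sup hAu hAv
  set u₀ : (Au ⊔ Av : Subalgebra A Ω) ⊗[A] B :=
    Algebra.TensorProduct.map (Subalgebra.inclusion (le_sup_left : Au ≤ Au ⊔ Av)) (AlgHom.id A B) tu
    with hu₀
  set v₀ : (Au ⊔ Av : Subalgebra A Ω) ⊗[A] B :=
    Algebra.TensorProduct.map (Subalgebra.inclusion (le_sup_right : Av ≤ Au ⊔ Av)) (AlgHom.id A B) tv
    with hv₀
  have hu₀' : Algebra.TensorProduct.map (Au ⊔ Av).val (AlgHom.id A B) u₀ = u := by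
    rw [hu₀, map_val_map_incl, map_val_eq_rTensor]; exact htu
  have hv₀' : Algebra.TensorProduct.map (Au ⊔ Av).val (AlgHom.id A B) v₀ = v := by
    rw [hv₀, map_val_map_incl, map_val_eq_rTensor]; exact htv
  have hz : LinearMap.rTensor B (Au ⊔ Av).val.toLinearMap ((u₀ * v₀) ^ N) =
      LinearMap.rTensor B (Au ⊔ Av).val.toLinearMap 0 := by
    rw [← map_val_eq_rTensor, map_pow, map_mul, hu₀', hv₀', hN, map_zero]
  obtain ⟨A₁, hle, hA₁, hz'⟩ := TensorProduct.Algebra.eq_of_fg_of_subtype_eq hA₀ hz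
  rw [map_zero, ← map_incl_eq_rTensor] at hz'
  refine ⟨A₁, Algebra.TensorProduct.map (Subalgebra.inclusion hle) (AlgHom.id A B) u₀,
    Algebra.TensorProduct.map (Subalgebra.inclusion hle) (AlgHom.id A B) v₀, hA₁, ?_, ?_, N, ?_⟩
  · rw [map_val_map_incl, hu₀']
  · rw [map_val_map_incl, hv₀']
  · rw [← map_mul, ← map_pow, hz']

end

end Groth.Agent.H2.IrrN3

/-- verbatim check against helper38's request text -/
example {A B Ω : Type u} [CommRing A] [CommRing B] [Algebra A B]
    [CommRing Ω] [Algebra A Ω] (u v : Ω ⊗[A] B) (hnil : IsNilpotent (u * v)) :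
    ∃ (A₁ : Subalgebra A Ω) (u₁ v₁ : A₁ ⊗[A] B), A₁.FG ∧
      Algebra.TensorProduct.map A₁.val (AlgHom.id A B) u₁ = u ∧
      Algebra.TensorProduct.map A₁.val (AlgHom.id A B) v₁ = v ∧ IsNilpotent (u₁ * v₁) :=
  Groth.Agent.H2.IrrN3.exists_fg_subalgebra_descent u v hnil
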