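import Mathlib

/-! # (SUBLOC) for helper38 (EGA IV 9.7.7 cluster): two finitely generated subalgebras with the
same fraction field have a common principal localization. -/

set_option autoImplicit false
universe u
open TensorProduct

namespace Groth.Agent.H2.IrrSUBLOC

section
variable {A S L : Type u} [CommRing A] [CommRing S] [Field L] [Algebra A S] [Algebra A L]
  [Algebra S L] [IsScalarTower A S L] [IsFractionRing S L]

theorem algebraMap_ne_zero {s : S} (hs : s ≠ 0) : algebraMap S L s ≠ 0 := fun h =>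
  hs ((IsFractionRing.injective S L) (h.trans (map_zero _).symm))

/-- the canonical map `S[1/s] → L`. -/
noncomputable def awayToField (s : S) (hs : s ≠ 0) : Localization.Away s →ₐ[A] L :=
  IsLocalization.liftAlgHom (M := Submonoid.powers s) (f := IsScalarTower.toAlgHom A S L) (by
    rintro ⟨y, n, rfl⟩
    simp only [IsScalarTower.coe_toAlgHom', map_pow]
    exact (isUnit_iff_ne_zero.mpr (algebraMap_ne_zero hs)).pow n)

theorem awayToField_algebraMap (s : S) (hs : s ≠ 0) (x : S) :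
    awayToField (A := A) (L := L) s hs (algebraMap S (Localization.Away s) x) = algebraMap S L x := by
  unfold awayToField
  rw [IsLocalization.liftAlgHom_apply, IsLocalization.lift_eq]
  rfl

theorem awayToField_injective (s : S) (hs : s ≠ 0) :
    Function.Injective (awayToField (A := A) (L := L) s hs) := by
  unfold awayToField
  rw [IsLocalization.coe_liftAlgHom, IsLocalization.lift_injective_iff]
  intro x y
  constructor
  · intro h
    have := congrArg (awayToField (A := A) (L := L) s hs) h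
    rwa [awayToField_algebraMap, awayToField_algebraMap] at this
  · intro h
    have : x = y := IsFractionRing.injective S L h
    rw [this]

/-- the image of `S[1/s]` in `L`. -/
noncomputable def W (s : S) (hs : s ≠ 0) : Subalgebra A L := (awayToField (A := A) (L := L) s hs).range

theorem algebraMap_mem_W (s : S) (hs : s ≠ 0) (x : S) : algebraMap S L x ∈ W (A := A) s hs :=
  ⟨algebraMap S (Localization.Away s) x, awayToField_algebraMap s hs x⟩

theorem inv_mem_W (s : S) (hs : s ≠ 0) : (algebraMap S L s)⁻¹ ∈ W (A := A) s hs := by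
  refine ⟨IsLocalization.Away.invSelf s, ?_⟩
  have h1 : awayToField (A := A) (L := L) s hs (IsLocalization.Away.invSelf s) *
      algebraMap S L s = 1 := by
    rw [← awayToField_algebraMap (A := A) s hs s, ← map_mul]
    have : IsLocalization.Away.invSelf (S := Localization.Away s) s *
        algebraMap S (Localization.Away s) s = 1 := by
      rw [mul_comm]; exact IsLocalization.Away.mul_invSelf s
    rw [this, map_one]
  exact eq_inv_of_mul_eq_one_left h1

theorem exists_of_mem_W (s : S) (hs : s ≠ 0) {z : L} (hz : z ∈ W (A := A) s hs) :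
    ∃ (x : S) (n : ℕ), z = algebraMap S L x * ((algebraMap S L s)⁻¹) ^ n := by
  obtain ⟨w, rfl⟩ := hz
  obtain ⟨x, ⟨_, n, rfl⟩, rfl⟩ := IsLocalization.exists_mk'_eq (Submonoid.powers s) w
  refine ⟨x, n, ?_⟩
  change awayToField (A := A) (L := L) s hs _ = _
  have h0 := algebraMap_ne_zero (L := L) hs
  have key : awayToField (A := A) (L := L) s hs
      (IsLocalization.mk' (Localization.Away s) x (⟨s ^ n, n, rfl⟩ : Submonoid.powers s)) *
      (algebraMap S L s) ^ n = algebraMap S L x := by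
    rw [← map_pow, ← awayToField_algebraMap (A := A) s hs (s ^ n), ← map_mul,
      ← awayToField_algebraMap (A := A) s hs x]
    congr 1
    exact IsLocalization.mk'_spec _ x (⟨s ^ n, n, rfl⟩ : Submonoid.powers s)
  rw [inv_pow, ← key]
  field_simp

end

section
variable {A S S' L : Type u} [CommRing A] [CommRing S] [CommRing S'] [Field L] [Algebra A S]
  [Algebra A S'] [Algebra A L] [Algebra S L] [Algebra S' L] [IsScalarTower A S L]
  [IsScalarTower A S' L] [IsFractionRing S L] [IsFractionRing S' L]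

theorem W_le (s : S) (hs : s ≠ 0) (s' : S') (hs' : s' ≠ 0)
    (h1 : ∀ x : S, algebraMap S L x ∈ W (A := A) s' hs')
    (h2 : (algebraMap S L s)⁻¹ ∈ W (A := A) s' hs') :
    W (A := A) (L := L) s hs ≤ W (A := A) (L := L) s' hs' := by
  intro z hz
  obtain ⟨x, n, rfl⟩ := exists_of_mem_W (A := A) (L := L) s hs hz
  exact Subalgebra.mul_mem _ (h1 x) (Subalgebra.pow_mem _ h2 n)

/-- a common denominator. -/
theorem exists_cover [Algebra.FiniteType A S] :
    ∃ (h : S') (hh : h ≠ 0), ∀ x : S, algebraMap S L x ∈ W (A := A) h hh := by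
  obtain ⟨t, ht⟩ := (Algebra.FiniteType.out : (⊤ : Subalgebra A S).FG)
  classical
  haveI : IsDomain S' := (IsFractionRing.injective S' L).isDomain (algebraMap S' L)
  obtain ⟨b, hb⟩ := IsLocalization.exist_integer_multiples_of_finset (S := L) (nonZeroDivisors S')
    (t.image (algebraMap S L))
  have hb0 : (b : S') ≠ 0 := nonZeroDivisors.ne_zero b.2
  refine ⟨b, hb0, ?_⟩
  intro x
  have hx : x ∈ Algebra.adjoin A (t : Set S) := by rw [ht]; trivial
  induction hx using Algebra.adjoin_induction with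
  | mem x hx =>
    obtain ⟨r, hr⟩ := hb (algebraMap S L x) (Finset.mem_image_of_mem _ hx)
    have h0 := algebraMap_ne_zero (L := L) hb0
    have : algebraMap S L x = algebraMap S' L r * (algebraMap S' L (b : S'))⁻¹ := by
      rw [hr, Algebra.smul_def]
      field_simp
    rw [this]
    exact Subalgebra.mul_mem _ (algebraMap_mem_W _ hb0 r) (inv_mem_W _ hb0)
  | algebraMap r =>
    rw [← IsScalarTower.algebraMap_apply]
    exact Subalgebra.algebraMap_mem _ r
  | add x y _ _ hx hy => rw [map_add]; exact Subalgebra.add_mem _ hx hy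
  | mul x y _ _ hx hy => rw [map_mul]; exact Subalgebra.mul_mem _ hx hy

end

theorem inv1 {L : Type*} [Field L] (h g2 : L) (hh : h ≠ 0) (hg2 : g2 ≠ 0) :
    h⁻¹ = g2 * (h * g2)⁻¹ := by field_simp

theorem inv2 {L : Type*} [Field L] (g h g2 : L) (b : ℕ) (e2 : g = g2 * (h⁻¹) ^ b) (hh : h ≠ 0)
    (hg2 : g2 ≠ 0) : g⁻¹ = h ^ (b + 1) * (h * g2)⁻¹ := by
  rw [e2, inv_pow, mul_inv, mul_inv, inv_inv, pow_succ]
  field_simp

theorem inv3 {L : Type*} [Field L] (h h1 g : L) (a : ℕ) (e1 : h = h1 * (g⁻¹) ^ a) (hg : g ≠ 0)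
    (hh1 : h1 ≠ 0) : h1⁻¹ = h⁻¹ * (g⁻¹) ^ a := by
  rw [e1, inv_pow, mul_inv, inv_inv]
  field_simp

theorem exists_away_algEquiv_of_isFractionRing {A S₁ S₂ L : Type u} [CommRing A] [CommRing S₁]
    [CommRing S₂] [Field L] [Algebra A S₁] [Algebra A S₂] [Algebra A L] [Algebra S₁ L]
    [Algebra S₂ L] [IsScalarTower A S₁ L] [IsScalarTower A S₂ L] [IsFractionRing S₁ L]
    [IsFractionRing S₂ L] [Algebra.FiniteType A S₁] [Algebra.FiniteType A S₂] :
    ∃ (s₁ : S₁) (s₂ : S₂), s₁ ≠ 0 ∧ s₂ ≠ 0 ∧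
      Nonempty (Localization.Away s₁ ≃ₐ[A] Localization.Away s₂) := by
  obtain ⟨h, hh, hcov1⟩ := exists_cover (A := A) (S := S₁) (S' := S₂) (L := L)
  obtain ⟨g, hg, hcov2⟩ := exists_cover (A := A) (S := S₂) (S' := S₁) (L := L)
  obtain ⟨h₁, a, e1⟩ := exists_of_mem_W g hg (hcov2 h)
  obtain ⟨g₂, b, e2⟩ := exists_of_mem_W h hh (hcov1 g)
  have hgL := algebraMap_ne_zero (L := L) hg
  have hhL := algebraMap_ne_zero (L := L) hh
  have hh₁L : algebraMap S₁ L h₁ ≠ 0 := by
    intro h0; rw [h0, zero_mul] at e1; exact hhL e1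
  have hg₂L : algebraMap S₂ L g₂ ≠ 0 := by
    intro h0; rw [h0, zero_mul] at e2; exact hgL e2
  have hh₁ : h₁ ≠ 0 := fun h0 => hh₁L (by rw [h0, map_zero])
  have hg₂ : g₂ ≠ 0 := fun h0 => hg₂L (by rw [h0, map_zero])
  have hs₁ : g * h₁ ≠ 0 := by
    intro h0
    have := congrArg (algebraMap S₁ L) h0
    rw [map_mul, map_zero] at this
    exact mul_ne_zero hgL hh₁L this
  have hs₂ : h * g₂ ≠ 0 := by
    intro h0
    have := congrArg (algebraMap S₂ L) h0
    rw [map_mul, map_zero] at this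
    exact mul_ne_zero hhL hg₂L this
  refine ⟨g * h₁, h * g₂, hs₁, hs₂, ?_⟩
  -- abbreviations
  set gL := algebraMap S₁ L g with hgLdef
  set hL := algebraMap S₂ L h with hhLdef
  set h1L := algebraMap S₁ L h₁ with hh1Ldef
  set g2L := algebraMap S₂ L g₂ with hg2Ldef
  have es1 : algebraMap S₁ L (g * h₁) = gL * h1L := map_mul _ _ _
  have es2 : algebraMap S₂ L (h * g₂) = hL * g2L := map_mul _ _ _
  -- inverses in W₂ (h * g₂)
  have F0 : (hL * g2L)⁻¹ ∈ W (A := A) (h * g₂) hs₂ := by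
    rw [← es2]; exact inv_mem_W _ hs₂
  have F1 : hL⁻¹ ∈ W (A := A) (h * g₂) hs₂ := by
    have : hL⁻¹ = g2L * (hL * g2L)⁻¹ := inv1 hL g2L hhL hg₂L
    rw [this]
    exact Subalgebra.mul_mem _ (algebraMap_mem_W _ hs₂ g₂) F0
  have F2 : gL⁻¹ ∈ W (A := A) (h * g₂) hs₂ := by
    have : gL⁻¹ = hL ^ (b + 1) * (hL * g2L)⁻¹ := inv2 gL hL g2L b e2 hhL hg₂L
    rw [this]
    exact Subalgebra.mul_mem _ (Subalgebra.pow_mem _ (algebraMap_mem_W _ hs₂ h) _) F0
  have F3 : h1L⁻¹ ∈ W (A := A) (h * g₂) hs₂ := by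
    have : h1L⁻¹ = hL⁻¹ * (gL⁻¹) ^ a := inv3 hL h1L gL a e1 hgL hh₁L
    rw [this]
    exact Subalgebra.mul_mem _ F1 (Subalgebra.pow_mem _ F2 a)
  -- inverses in W₁ (g * h₁)
  have G0 : (gL * h1L)⁻¹ ∈ W (A := A) (g * h₁) hs₁ := by
    rw [← es1]; exact inv_mem_W _ hs₁
  have G1 : gL⁻¹ ∈ W (A := A) (g * h₁) hs₁ := by
    have : gL⁻¹ = h1L * (gL * h1L)⁻¹ := inv1 gL h1L hgL hh₁L
    rw [this]
    exact Subalgebra.mul_mem _ (algebraMap_mem_W _ hs₁ h₁) G0
  have G2 : hL⁻¹ ∈ W (A := A) (g * h₁) hs₁ := by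
    have : hL⁻¹ = gL ^ (a + 1) * (gL * h1L)⁻¹ := inv2 hL gL h1L a e1 hgL hh₁L
    rw [this]
    exact Subalgebra.mul_mem _ (Subalgebra.pow_mem _ (algebraMap_mem_W _ hs₁ g) _) G0
  have G3 : g2L⁻¹ ∈ W (A := A) (g * h₁) hs₁ := by
    have : g2L⁻¹ = gL⁻¹ * (hL⁻¹) ^ b := inv3 gL g2L hL b e2 hhL hg₂L
    rw [this]
    exact Subalgebra.mul_mem _ G1 (Subalgebra.pow_mem _ G2 b)
  have hle12 : W (A := A) (L := L) (g * h₁) hs₁ ≤ W (A := A) (L := L) (h * g₂) hs₂ := by
    refine W_le _ hs₁ _ hs₂ ?_ ?_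
    · intro x
      have hm : W (A := A) (L := L) h hh ≤ W (A := A) (L := L) (h * g₂) hs₂ :=
        W_le _ hh _ hs₂ (fun y => algebraMap_mem_W _ hs₂ y) F1
      exact hm (hcov1 x)
    · rw [es1, mul_inv]
      exact Subalgebra.mul_mem _ F2 F3
  have hle21 : W (A := A) (L := L) (h * g₂) hs₂ ≤ W (A := A) (L := L) (g * h₁) hs₁ := by
    refine W_le _ hs₂ _ hs₁ ?_ ?_
    · intro y
      have hm : W (A := A) (L := L) g hg ≤ W (A := A) (L := L) (g * h₁) hs₁ :=
        W_le _ hg _ hs₁ (fun x => algebraMap_mem_W _ hs₁ x) G1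
      exact hm (hcov2 y)
    · rw [es2, mul_inv]
      exact Subalgebra.mul_mem _ G2 G3
  have heq : W (A := A) (L := L) (g * h₁) hs₁ = W (A := A) (L := L) (h * g₂) hs₂ :=
    le_antisymm hle12 hle21
  let e1' : Localization.Away (g * h₁) ≃ₐ[A] W (A := A) (L := L) (g * h₁) hs₁ :=
    AlgEquiv.ofInjective _ (awayToField_injective _ hs₁)
  let e2' : Localization.Away (h * g₂) ≃ₐ[A] W (A := A) (L := L) (h * g₂) hs₂ :=
    AlgEquiv.ofInjective _ (awayToField_injective _ hs₂)
  exact ⟨(e1'.trans (Subalgebra.equivOfEq _ _ heq)).trans e2'.symm⟩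

end Groth.Agent.H2.IrrSUBLOC
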