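import Mathlib

set_option autoImplicit false
universe u
open CategoryTheory CategoryTheory.Limits TensorProduct

namespace Groth.Agent.H2.IsoDescFam

section Mod

variable {A : Type u} [CommRing A] {ι : Type} [Finite ι] (B : ι → Type u) [∀ i, CommRing (B i)]
  [∀ i, Algebra A (B i)]

theorem flat_pi [∀ i, Module.Flat A (B i)] : Module.Flat A (∀ i, B i) := by
  classical
  haveI := Fintype.ofFinite ι
  exact Module.Flat.of_linearEquiv (DirectSum.linearEquivFunOnFintype A ι B).symm

theorem faithfullyFlat_pi [∀ i, Module.Flat A (B i)]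
    (hcov : ∀ p : PrimeSpectrum A, ∃ i, ∃ q : PrimeSpectrum (B i),
      q.comap (algebraMap A (B i)) = p) : Module.FaithfullyFlat A (∀ i, B i) := by
  classical
  haveI := flat_pi (A := A) B
  refine ⟨fun m hm htop => ?_⟩
  obtain ⟨i, q, hq⟩ := hcov ⟨m, hm.isPrime⟩
  have h1 : (Pi.single i (1 : B i) : ∀ i, B i) ∈ m • (⊤ : Submodule A (∀ i, B i)) := by
    rw [htop]; trivial
  have h2 : (LinearMap.proj i : (∀ i, B i) →ₗ[A] B i) (Pi.single i (1 : B i)) ∈
      (m • (⊤ : Submodule A (∀ i, B i))).map (LinearMap.proj i) := Submodule.mem_map_of_mem h1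
  rw [Submodule.map_smul''] at h2
  have h3 : m • ((⊤ : Submodule A (∀ i, B i)).map (LinearMap.proj i)) ≤
      q.asIdeal.restrictScalars A := by
    rw [Submodule.smul_le]
    intro a ha b _
    show a • b ∈ q.asIdeal
    rw [Algebra.smul_def]
    apply Ideal.mul_mem_right
    have : a ∈ (q.comap (algebraMap A (B i))).asIdeal := by rw [hq]; exact ha
    exact this
  have h4 := h3 h2
  have h5 : (1 : B i) ∈ q.asIdeal := by simpa using h4
  exact q.isPrime.ne_top ((Ideal.eq_top_iff_one _).mpr h5)

theorem bijective_algebraMap_of_pi {A' : Type u} [CommRing A'] [Algebra A A']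
    [∀ i, Module.Flat A (B i)]
    (hcov : ∀ p : PrimeSpectrum A, ∃ i, ∃ q : PrimeSpectrum (B i),
      q.comap (algebraMap A (B i)) = p)
    (hR : ∀ i, Function.Bijective
      (Algebra.TensorProduct.includeRight : B i →ₐ[A] A' ⊗[A] B i)) :
    Function.Bijective (algebraMap A A') := by
  classical
  haveI := faithfullyFlat_pi (A := A) B hcov
  haveI := Fintype.ofFinite ι
  let f : A →ₗ[A] A' := Algebra.linearMap A A'
  suffices hb : Function.Bijective (f.lTensor (∀ i, B i)) from
    (Module.FaithfullyFlat.lTensor_bijective_iff_bijective A (∀ i, B i) f).mp hb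
  let Ψ : (∀ i, B i) ⊗[A] A' ≃ₗ[A] ∀ i, A' ⊗[A] B i :=
    (TensorProduct.comm A _ _).trans (TensorProduct.piRight A A A' B)
  let h : (∀ i, B i) →ₗ[A] ∀ i, A' ⊗[A] B i :=
    LinearMap.pi (fun i => (Algebra.TensorProduct.includeRight :
      B i →ₐ[A] A' ⊗[A] B i).toLinearMap.comp (LinearMap.proj i))
  have hh : Function.Bijective h := by
    constructor
    · intro x y hxy
      funext i
      exact (hR i).1 (congrFun hxy i)
    · intro z
      choose w hw using fun i => (hR i).2 (z i)
      exact ⟨w, funext hw⟩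
  have key : f.lTensor (∀ i, B i) =
      Ψ.symm.toLinearMap ∘ₗ h ∘ₗ (TensorProduct.rid A (∀ i, B i)).toLinearMap := by
    apply TensorProduct.ext'
    intro m a
    simp only [LinearMap.lTensor_tmul, LinearMap.comp_apply, LinearEquiv.coe_coe,
      TensorProduct.rid_tmul]
    rw [LinearEquiv.eq_symm_apply]
    funext i
    simp [Ψ, h, f, TensorProduct.piRight_apply, TensorProduct.piRightHom_tmul,
      Algebra.smul_def]
    rw [← Algebra.smul_def, ← TensorProduct.smul_tmul, Algebra.smul_def, mul_one]
  rw [key]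
  exact Ψ.symm.bijective.comp (hh.comp (TensorProduct.rid A (∀ i, B i)).bijective)

end Mod

/-- Faithfully flat descent of "is an isomorphism" along a finite jointly surjective flat
family. -/
theorem isIso_of_isPushout_family {A A' : CommRingCat.{u}} (φ : A ⟶ A') {ι : Type} [Finite ι]
    (B P : ι → CommRingCat.{u}) (β : ∀ i, A ⟶ B i) (inl : ∀ i, A' ⟶ P i) (inr : ∀ i, B i ⟶ P i)
    (hpo : ∀ i, IsPushout φ (β i) (inl i) (inr i)) (hflat : ∀ i, (β i).hom.Flat)
    (hcov : ∀ p : PrimeSpectrum A, ∃ i, ∃ q : PrimeSpectrum (B i), q.comap (β i).hom = p)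
    (hiso : ∀ i, IsIso (inr i)) : IsIso φ := by
  letI : Algebra A A' := φ.hom.toAlgebra
  letI : ∀ i, Algebra A (B i) := fun i => (β i).hom.toAlgebra
  haveI : ∀ i, Module.Flat A (B i) := fun i => hflat i
  have hR : ∀ i, Function.Bijective
      (Algebra.TensorProduct.includeRight : B i →ₐ[A] A' ⊗[A] B i) := by
    intro i
    have hpo' : IsPushout (CommRingCat.ofHom (algebraMap A A'))
        (CommRingCat.ofHom (algebraMap A (B i))) (inl i) (inr i) := hpo i
    let e := (CommRingCat.isPushout_tensorProduct A A' (B i)).isoIsPushout _ _ hpo'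
    have h1 : CommRingCat.ofHom (Algebra.TensorProduct.includeRight :
        B i →ₐ[A] A' ⊗[A] B i).toRingHom ≫ e.hom = inr i :=
      IsPushout.inr_isoIsPushout_hom _ _ (CommRingCat.isPushout_tensorProduct A A' (B i)) hpo'
    have h2 : CommRingCat.ofHom (Algebra.TensorProduct.includeRight :
        B i →ₐ[A] A' ⊗[A] B i).toRingHom = inr i ≫ e.inv := by
      rw [← h1, Category.assoc, Iso.hom_inv_id, Category.comp_id]
    haveI := hiso i
    have h3 : IsIso (CommRingCat.ofHom (Algebra.TensorProduct.includeRight :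
        B i →ₐ[A] A' ⊗[A] B i).toRingHom) := by
      rw [h2]; infer_instance
    exact (ConcreteCategory.isIso_iff_bijective _).mp h3
  have hb := bijective_algebraMap_of_pi (A := A) (fun i => B i) (A' := A') hcov hR
  exact (ConcreteCategory.isIso_iff_bijective φ).mpr hb

end Groth.Agent.H2.IsoDescFam
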