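import Groth.Agent.H5.KerDefs

/-! (K5) for helper5's S0834 squad. -/

set_option autoImplicit false
universe u
open CategoryTheory CategoryTheory.Limits AlgebraicGeometry Opposite
open Groth.Agent.S9528 Groth.Agent.H5.Ker

namespace Groth.Agent.H2.KerK5

variable {A : Type u} [CommRing A] {X : Scheme.{u}} [X.Over (Spec (CommRingCat.of A))] (I : Ideal A)

/-- (K5) -/
theorem eq_zero_of_comp_κ {F G : ℕᵒᵖ ⥤ X.Modules} {α : F ⟶ G} {c c' : ℕ} (D : ESys I α c c')
    {T : ℕᵒᵖ ⥤ X.Modules}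
    (hTepi : ∀ {n m : ℕ} (h : n ≤ m), Epi (T.map (homOfLE h).op))
    (δ : T ⟶ Θobj I (sh c') (sh_mono c') D.E)
    (κ : ∀ n : ℕ, θobj I (sh c') D.E n ⟶ F.obj (op n))
    (hκ : ∀ n : ℕ, θπ I (sh c') D.E n ≫ κ n =
      D.ι.app (op (sh c' n)) ≫ F.map (homOfLE (le_sh c' n)).op)
    (h0 : ∀ n : ℕ, δ.app (op n) ≫ κ n = 0) : δ = 0 := by
  apply NatTrans.ext
  funext ⟨n⟩
  have hnat := δ.naturality (homOfLE (le_sh c' n)).op
  haveI := hTepi (le_sh c' n)
  rw [← cancel_epi (T.map (homOfLE (le_sh c' n)).op), hnat]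
  simp only [NatTrans.app_zero, comp_zero]
  -- pull back `δ_m` along the epi `θπ m`, `m := sh c' n`
  let p : D.E.obj (op (sh c' (sh c' n))) ⟶ (Θobj I (sh c') (sh_mono c') D.E).obj (op (sh c' n)) :=
    θπ I (sh c') D.E (sh c' n)
  have hpdef : p = θπ I (sh c') D.E (sh c' n) := rfl
  haveI hp : Epi p := epi_θπ I (sh c') D.E (sh c' n)
  haveI : Epi (pullback.fst (δ.app (op (sh c' n))) p) := Abelian.epi_pullback_of_epi_g _ _
  let q : D.E.obj (op (sh c' n)) ⟶ (Θobj I (sh c') (sh_mono c') D.E).obj (op n) :=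
    θπ I (sh c') D.E n
  let κ' : (Θobj I (sh c') (sh_mono c') D.E).obj (op (sh c' n)) ⟶ F.obj (op (sh c' n)) :=
    κ (sh c' n)
  have h0' : δ.app (op (sh c' n)) ≫ κ' = 0 := h0 (sh c' n)
  have hmap : p ≫ (Θobj I (sh c') (sh_mono c') D.E).map (homOfLE (le_sh c' n)).op =
      D.E.map (homOfLE (sh_mono c' (le_sh c' n))).op ≫ q :=
    θπ_map_le I (sh c') (sh_mono c') D.E (le_sh c' n)
  rw [← cancel_epi (pullback.fst (δ.app (op (sh c' n))) p), comp_zero,
    ← Category.assoc, pullback.condition, Category.assoc, hmap]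
  -- `w' ≫ E.map = 0`
  haveI := D.mono (sh c' n)
  have hw : pullback.snd (δ.app (op (sh c' n))) p ≫
      D.E.map (homOfLE (sh_mono c' (le_sh c' n))).op = 0 := by
    rw [← cancel_mono (D.ι.app (op (sh c' n))), zero_comp, Category.assoc]
    have hn := D.ι.naturality (homOfLE (sh_mono c' (le_sh c' n))).op
    rw [hn]
    have hk : D.ι.app (op (sh c' (sh c' n))) ≫ F.map (homOfLE (sh_mono c' (le_sh c' n))).op =
        p ≫ κ' := (hκ (sh c' n)).symm
    rw [hk, ← Category.assoc, ← pullback.condition, Category.assoc, h0', comp_zero]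
  rw [← Category.assoc, hw, zero_comp]

end Groth.Agent.H2.KerK5
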