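import Groth.Agent.H2.Matlis4
import Groth.Agent.S0301
import Mathlib.Algebra.Category.ModuleCat.ChangeOfRings
import Mathlib.Algebra.Category.ModuleCat.Injective
import Mathlib.RingTheory.SimpleModule.InjectiveProjective
import Mathlib.LinearAlgebra.Dual.Lemmas

/-!
# Matlis duality, part 6: coextension of scalars and the topological dual
-/

set_option autoImplicit false

universe u

namespace Groth.Agent.H2.Matlis

open Function IsLocalRing CategoryTheory

/-- Coextension of scalars preserves injective modules. -/
theorem injective_coextendScalars {A B : Type u} [CommRing A] [CommRing B] (f : A →+* B)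
    (E : Type u) [AddCommGroup E] [Module A E] [Module.Injective A E] :
    Module.Injective B ((ModuleCat.coextendScalars f).obj (ModuleCat.of A E)) := by
  have h1 : CategoryTheory.Injective (ModuleCat.of A E) :=
    Module.injective_object_of_injective_module A E
  have h2 : CategoryTheory.Injective ((ModuleCat.coextendScalars f).obj (ModuleCat.of A E)) :=
    CategoryTheory.Injective.injective_of_adjoint (ModuleCat.restrictCoextendScalarsAdj f) _
  exact @Module.injective_module_of_injective_object B _ _ _ _ h2

/-- The union of the `Jⁿ`-torsion submodules is `J`-power torsion. -/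
theorem isPowerTorsion_iSup_torsionBySet {R : Type u} [CommRing R] (J : Ideal R) (M : Type u)
    [AddCommGroup M] [Module R M] :
    LocCoh.IsPowerTorsion J
      ↥(⨆ n : ℕ, Submodule.torsionBySet R M ((J ^ n : Ideal R) : Set R)) := by
  let c : ℕ →o Submodule R M :=
    ⟨fun n => Submodule.torsionBySet R M ((J ^ n : Ideal R) : Set R), fun n n' h =>
      Submodule.torsionBySet_le_torsionBySet_of_subset
        (fun x hx => Ideal.pow_le_pow_right h hx)⟩
  intro x
  obtain ⟨n, hn⟩ := (Submodule.mem_iSup_of_chain c x.1).mp x.2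
  refine ⟨n, fun a ha => Subtype.ext ?_⟩
  exact ((Submodule.mem_torsionBySet_iff _ _).mp hn) ⟨a, ha⟩

section Coext

variable (k₀ : Type u) [Field k₀] (A : Type u) [CommRing A] [Algebra k₀ A]

/-- The full linear dual `Hom_{k₀}(A, k₀)` as an `A`-module. -/
noncomputable abbrev CoH : ModuleCat A :=
  (ModuleCat.coextendScalars (algebraMap k₀ A)).obj (ModuleCat.of k₀ k₀)

variable {k₀ A}

lemma CoH.smul_apply (g : CoH k₀ A) (a s : A) : (a • g) s = g (s * a) := rfl

lemma CoH.add_apply (g g' : CoH k₀ A) (s : A) : (g + g') s = g s + g' s := rfl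

lemma CoH.ext' {g g' : CoH k₀ A} (h : ∀ s : A, g s = g' s) : g = g' :=
  ModuleCat.CoextendScalars.ext (LinearMap.ext h)

lemma CoH.map_algebraMap_mul (g : CoH k₀ A) (c : k₀) (s : A) :
    g (algebraMap k₀ A c * s) = c * g s :=
  (ModuleCat.CoextendScalars.equiv (algebraMap k₀ A) (ModuleCat.of k₀ k₀) g).map_smul c s

/-- Constructor for elements of the dual. -/
noncomputable def CoH.mk' (l : A → k₀) (hadd : ∀ s t, l (s + t) = l s + l t)
    (hsmul : ∀ (c : k₀) (s : A), l (algebraMap k₀ A c * s) = c * l s) : CoH k₀ A :=
  (ModuleCat.CoextendScalars.equiv (algebraMap k₀ A) (ModuleCat.of k₀ k₀)).symm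
    { toFun := l
      map_add' := hadd
      map_smul' := fun c s => hsmul c s }

lemma CoH.mk'_apply (l : A → k₀) (hadd : ∀ s t, l (s + t) = l s + l t)
    (hsmul : ∀ (c : k₀) (s : A), l (algebraMap k₀ A c * s) = c * l s) (s : A) :
    (CoH.mk' l hadd hsmul) s = l s := rfl

end Coext

section TopDual

variable (k₀ : Type u) [Field k₀] (A : Type u) [CommRing A] [IsLocalRing A] [IsNoetherianRing A]
  [Algebra k₀ A] [Module.Finite k₀ (A ⧸ maximalIdeal A)]

/-- The topological dual of a Noetherian local algebra with finite residue field over a field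
is an injective hull of the residue field. -/
theorem exists_isInjectiveHull_topologicalDual :
    ∃ f : ResidueField A →ₗ[A]
      ↥(⨆ n : ℕ, Submodule.torsionBySet A (CoH k₀ A) ((maximalIdeal A ^ n : Ideal A) : Set A)),
      InjHull.IsInjectiveHull f := by
  classical
  have hfin : Module.Finite k₀ (ResidueField A) := ‹Module.Finite k₀ (A ⧸ maximalIdeal A)›
  have hk₀inj : Module.Injective k₀ k₀ := Module.injective_of_isSemisimpleRing k₀ k₀
  have hHinj : Module.Injective A (CoH k₀ A) := injective_coextendScalars (algebraMap k₀ A) k₀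
  have hIinj := Groth.Agent.S0301.result A (CoH k₀ A) hHinj (maximalIdeal A)
  have hpt := isPowerTorsion_iSup_torsionBySet (maximalIdeal A) (CoH k₀ A)
  apply isInjectiveHull_of_simple_dual hIinj hpt
  -- abbreviations
  set I := ⨆ n : ℕ, Submodule.torsionBySet A (CoH k₀ A)
    ((maximalIdeal A ^ n : Ideal A) : Set A) with hIdef
  -- the evaluation attached to a homomorphism
  let ev : (ResidueField A →ₗ[A] ↥I) → ResidueField A → k₀ :=
    fun φ x => ((φ x : ↥I) : CoH k₀ A) (1 : A)
  have hev_add : ∀ φ x y, ev φ (x + y) = ev φ x + ev φ y := fun φ x y => by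
    show ((φ (x + y) : ↥I) : CoH k₀ A) (1 : A) = _
    rw [map_add]
    rfl
  have hev_mul : ∀ φ (a : A) x, ev φ (residue A a * x) = ((φ x : ↥I) : CoH k₀ A) a :=
    fun φ a x => by
      have h1 : residue A a * x = a • x := by
        rw [Algebra.smul_def, IsLocalRing.ResidueField.algebraMap_eq]
      show ((φ (residue A a * x) : ↥I) : CoH k₀ A) (1 : A) = _
      rw [h1, map_smul]
      show (a • ((φ x : ↥I) : CoH k₀ A)) (1 : A) = _
      rw [CoH.smul_apply, one_mul]
  have hev_inj : ∀ φ ψ, (∀ x, ev φ x = ev ψ x) → φ = ψ := fun φ ψ h => by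
    refine LinearMap.ext fun x => Subtype.ext (CoH.ext' fun a => ?_)
    rw [← hev_mul φ a x, ← hev_mul ψ a x, h]
  have hev_smul : ∀ (c : A) φ x, ev (c • φ) x = ev φ (residue A c * x) := fun c φ x => by
    rw [hev_mul]
    show (c • ((φ x : ↥I) : CoH k₀ A)) (1 : A) = _
    rw [CoH.smul_apply, one_mul]
  have hsmul_def : ∀ (c : k₀) (y : ResidueField A),
      c • y = residue A (algebraMap k₀ A c) * y := fun c y => by
    rw [Algebra.smul_def]
    rfl
  have hev_k₀ : ∀ φ (c : k₀) x, ev φ (c • x) = c * ev φ x :=
    fun φ c x => by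
      rw [hsmul_def, hev_mul]
      have := CoH.map_algebraMap_mul ((φ x : ↥I) : CoH k₀ A) c 1
      rw [mul_one] at this
      exact this
  let evL : (ResidueField A →ₗ[A] ↥I) → (ResidueField A →ₗ[k₀] k₀) := fun φ =>
    { toFun := fun x => ev φ x
      map_add' := fun x y => hev_add φ x y
      map_smul' := fun c x => hev_k₀ φ c x }
  have hevL : ∀ φ x, evL φ x = ev φ x := fun φ x => rfl
  rw [isSimpleModule_iff_toSpanSingleton_surjective]
  constructor
  · -- nontriviality
    have hfr : 0 < Module.finrank k₀ (Module.Dual k₀ (ResidueField A)) := by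
      rw [Subspace.dual_finrank_eq]
      exact Module.finrank_pos
    have hnt : Nontrivial (Module.Dual k₀ (ResidueField A)) :=
      Module.nontrivial_of_finrank_pos hfr
    obtain ⟨l, hl⟩ := exists_ne (0 : Module.Dual k₀ (ResidueField A))
    -- the functional on `A`
    let g : CoH k₀ A := CoH.mk' (fun a => l (residue A a))
      (fun s t => by rw [map_add, map_add])
      (fun c s => by
        rw [map_mul, ← hsmul_def, map_smul]
        rfl)
    have hg0 : ∀ a ∈ maximalIdeal A, ∀ s : A, (a • g) s = 0 := by
      intro a ha s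
      rw [CoH.smul_apply]
      show l (residue A (s * a)) = 0
      rw [(IsLocalRing.residue_eq_zero_iff _).mpr (Ideal.mul_mem_left _ s ha), map_zero]
    have hgI : g ∈ I := by
      refine Submodule.mem_iSup_of_mem 1 ?_
      rw [Submodule.mem_torsionBySet_iff]
      rintro ⟨a, ha⟩
      rw [pow_one] at ha
      exact CoH.ext' fun s => hg0 a ha s
    have hkill : ∀ a ∈ maximalIdeal A, a • (⟨g, hgI⟩ : ↥I) = 0 := by
      intro a ha
      exact Subtype.ext (CoH.ext' fun s => hg0 a ha s)
    let φ₀ : ResidueField A →ₗ[A] ↥I :=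
      (maximalIdeal A).liftQ (LinearMap.toSpanSingleton A ↥I ⟨g, hgI⟩) (fun a ha => hkill a ha)
    refine ⟨⟨φ₀, 0, fun h0 => hl ?_⟩⟩
    refine LinearMap.ext fun y => ?_
    obtain ⟨a, rfl⟩ := IsLocalRing.residue_surjective y
    have h1 : φ₀ (residue A a) = a • (⟨g, hgI⟩ : ↥I) := rfl
    have h2 := congrArg (fun z : ↥I => (z : CoH k₀ A) (1 : A))
      (h1.symm.trans (LinearMap.congr_fun h0 _))
    have h3 : (a • g) (1 : A) = 0 := h2
    rw [CoH.smul_apply, one_mul] at h3
    exact h3
  · -- every nonzero element generates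
    intro φ hφ χ
    let T : ResidueField A →ₗ[k₀] Module.Dual k₀ (ResidueField A) :=
      { toFun := fun y =>
          { toFun := fun x => evL φ (y * x)
            map_add' := fun x x' => by rw [mul_add, map_add]
            map_smul' := fun c x => by rw [mul_smul_comm, map_smul]; rfl }
        map_add' := fun y y' => by
          refine LinearMap.ext fun x => ?_
          show evL φ ((y + y') * x) = evL φ (y * x) + evL φ (y' * x)
          rw [add_mul, map_add]
        map_smul' := fun c y => by
          refine LinearMap.ext fun x => ?_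
          show evL φ ((c • y) * x) = c • evL φ (y * x)
          rw [smul_mul_assoc, map_smul] }
    have hT : ∀ y x, T y x = evL φ (y * x) := fun y x => rfl
    have hTinj : Injective T := by
      rw [injective_iff_map_eq_zero]
      intro y hy
      by_contra hy0
      apply hφ
      apply hev_inj
      intro x
      have h1 := LinearMap.congr_fun hy (y⁻¹ * x)
      rw [hT, ← mul_assoc, mul_inv_cancel₀ hy0, one_mul] at h1
      rw [← hevL, h1]
      rfl
    have hTsurj : Surjective T :=
      (LinearMap.injective_iff_surjective_of_finrank_eq_finrank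
        (Subspace.dual_finrank_eq (K := k₀) (V := ResidueField A)).symm).mp hTinj
    obtain ⟨y, hy⟩ := hTsurj (evL χ)
    obtain ⟨c, rfl⟩ := IsLocalRing.residue_surjective y
    refine ⟨c, ?_⟩
    show c • φ = χ
    apply hev_inj
    intro x
    rw [hev_smul]
    exact LinearMap.congr_fun hy x

end TopDual

end Groth.Agent.H2.Matlis
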