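import Groth.Agent.H2.LocalCriterionMain

/-!
# Flatness criterion for a nilpotent ideal
-/

set_option autoImplicit false

universe u

namespace Groth.Agent.H2

open TensorProduct Function

variable {S M : Type u} [CommRing S] [AddCommGroup M] [Module S M]

set_option maxHeartbeats 400000 in
theorem flat_of_nilpotent_criterion_aux {K : Type u} [AddCommGroup K] [Module S K]
    (ι : K →ₗ[S] (M →₀ S)) (π : (M →₀ S) →ₗ[S] M) (hex : Function.Exact ι π)
    (hπ : Surjective π) (hι : Injective ι) (J : Ideal S) (n : ℕ) (hJ : J ^ n = ⊥)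
    (h1 : Injective (LinearMap.rTensor M (Submodule.subtype J)))
    [Module.Flat (S ⧸ J) ((S ⧸ J) ⊗[S] M)] : Module.Flat S M := by
  have hTI : Injective (ι.lTensor (S ⧸ J)) := by
    have hginj : Injective (ι.lTensor S) :=
      Module.Flat.lTensor_preserves_injective_linearMap (M := S) ι hι
    have h2 := lTensor_injective_of_exact_of_exact_of_rTensor_injective
      (LinearMap.exact_subtype_mkQ J) (Submodule.mkQ_surjective J) hex hπ
    have h3 := h2 h1
    exact h3 hginj
  have hT := T_of_pow_smul_eq_zero hex hπ J hTI n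
  have hall : ∀ (Q : Type u) [AddCommGroup Q] [Module S Q], Injective (ι.lTensor Q) :=
    fun Q _ _ => hT Q (fun a ha q => by
      rw [hJ] at ha
      rw [(Submodule.mem_bot S).mp ha, zero_smul])
  rw [Module.Flat.iff_lTensor_injective']
  intro 𝔞
  exact lTensor_subtype_injective_of_T hex hπ 𝔞 (hall _)

set_option maxHeartbeats 400000 in
/-- If `J` is a nilpotent ideal of `S`, `J ⊗ M → M` is injective and `M/JM` is flat over `S/J`,
then `M` is flat over `S`. -/
theorem flat_of_nilpotent_criterion (J : Ideal S) (n : ℕ) (hJ : J ^ n = ⊥)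
    (h1 : Injective (LinearMap.rTensor M (Submodule.subtype J)))
    [Module.Flat (S ⧸ J) ((S ⧸ J) ⊗[S] M)] : Module.Flat S M := by
  obtain ⟨π, hπ⟩ : ∃ π : (M →₀ S) →ₗ[S] M, Surjective π :=
    ⟨Finsupp.linearCombination S id, fun m => ⟨Finsupp.single m 1, by simp⟩⟩
  exact flat_of_nilpotent_criterion_aux (K := ↥(LinearMap.ker π)) (LinearMap.ker π).subtype π
    (LinearMap.exact_subtype_ker_map π) hπ (Submodule.injective_subtype _) J n hJ h1

end Groth.Agent.H2
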