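import Mathlib.RingTheory.Flat.Equalizer
import Mathlib.RingTheory.Flat.Basic
import Mathlib.Algebra.Module.Projective
import Mathlib.LinearAlgebra.TensorProduct.RightExactness
import Mathlib.LinearAlgebra.TensorProduct.Tower
import Mathlib.RingTheory.Ideal.Quotient.Operations

/-!
# A flat module which is projective modulo a nilpotent ideal is projective
-/

set_option autoImplicit false

universe u

namespace Groth.Agent.H2.NilpProj

open TensorProduct

variable {R : Type u} [CommRing R] (I : Ideal R) {M : Type u} [AddCommGroup M] [Module R M]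

/-- If `E/K` is flat then `K ∩ IE = IK`. -/
lemma mem_smul_ker_of_flat [Module.Flat R M] {E : Type u} [AddCommGroup E] [Module R E]
    (g : E →ₗ[R] M) (hg : Function.Surjective g) {k : E} (hk : k ∈ LinearMap.ker g)
    (hkI : k ∈ I • (⊤ : Submodule R E)) : k ∈ I • LinearMap.ker g := by
  have hinj : Function.Injective ((LinearMap.ker g).subtype.lTensor (R ⧸ I)) :=
    LinearMap.lTensor_injective_of_exact_of_flat g hg (LinearMap.ker g).subtype
      (LinearMap.ker g).subtype_injective (LinearMap.exact_subtype_ker_map g) (R ⧸ I)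
  have h1 : (1 : R ⧸ I) ⊗ₜ[R] (⟨k, hk⟩ : LinearMap.ker g) = 0 := by
    apply hinj
    rw [LinearMap.lTensor_tmul, map_zero, Submodule.subtype_apply]
    rw [← LinearMap.ker_tensorProductMk, LinearMap.mem_ker] at hkI
    exact hkI
  have h2 : (⟨k, hk⟩ : LinearMap.ker g) ∈ I • (⊤ : Submodule R (LinearMap.ker g)) := by
    rw [← LinearMap.ker_tensorProductMk, LinearMap.mem_ker]
    exact h1
  have h3 := Submodule.mem_map_of_mem (f := (LinearMap.ker g).subtype) h2
  rw [Submodule.map_smul'', Submodule.map_top, Submodule.range_subtype] at h3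
  exact h3

/-- A surjection onto `M` whose kernel is killed by `I` splits. -/
lemma exists_section_of_smul_ker_eq_bot [Module.Flat R M]
    (hproj : Module.Projective (R ⧸ I) ((R ⧸ I) ⊗[R] M))
    {E : Type u} [AddCommGroup E] [Module R E] (g : E →ₗ[R] M) (hg : Function.Surjective g)
    (hK : ∀ a ∈ I, ∀ x ∈ LinearMap.ker g, a • x = 0) :
    ∃ s : M →ₗ[R] E, g ∘ₗ s = LinearMap.id := by
  have hgb : Function.Surjective (g.baseChange (R ⧸ I)) := by
    rw [LinearMap.baseChange_eq_ltensor]
    exact LinearMap.lTensor_surjective _ hg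
  obtain ⟨σ, hσ⟩ := Module.projective_lifting_property (g.baseChange (R ⧸ I)) LinearMap.id hgb
  let τE : E →ₗ[R] (R ⧸ I) ⊗[R] E := TensorProduct.mk R (R ⧸ I) E 1
  let τM : M →ₗ[R] (R ⧸ I) ⊗[R] M := TensorProduct.mk R (R ⧸ I) M 1
  let θ : E →ₗ[R] (R ⧸ I) ⊗[R] E := τE - (σ.restrictScalars R) ∘ₗ τM ∘ₗ g
  have hθ : ∀ e, (g.lTensor (R ⧸ I)) (θ e) = 0 := by
    intro e
    have h1 : (g.baseChange (R ⧸ I)) (σ (τM (g e))) = τM (g e) := LinearMap.congr_fun hσ _
    have h2 : (g.lTensor (R ⧸ I)) (τE e) = τM (g e) := by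
      simp only [τE, τM, TensorProduct.mk_apply, LinearMap.lTensor_tmul]
    have h3 : (g.lTensor (R ⧸ I)) ((σ.restrictScalars R) (τM (g e))) = τM (g e) := h1
    simp only [θ, LinearMap.sub_apply, LinearMap.comp_apply, map_sub]
    rw [h2, h3, sub_self]
  let lam : LinearMap.ker g →ₗ[R] (R ⧸ I) ⊗[R] E := τE ∘ₗ (LinearMap.ker g).subtype
  have hlam_inj : Function.Injective lam := by
    rw [← LinearMap.ker_eq_bot, LinearMap.ker_eq_bot']
    intro k hk
    have h1 : (k : E) ∈ I • (⊤ : Submodule R E) := by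
      rw [← LinearMap.ker_tensorProductMk, LinearMap.mem_ker]
      exact hk
    have h2 := mem_smul_ker_of_flat I g hg k.2 h1
    have h3 : I • LinearMap.ker g = ⊥ := by
      rw [eq_bot_iff, Submodule.smul_le]
      intro a ha x hx
      rw [Submodule.mem_bot]
      exact hK a ha x hx
    rw [h3, Submodule.mem_bot] at h2
    exact Subtype.ext h2
  have hlam_range : ∀ e, θ e ∈ LinearMap.range lam := by
    intro e
    have hex := _root_.lTensor_exact (R ⧸ I) (LinearMap.exact_subtype_ker_map g) hg
    obtain ⟨y, hy⟩ := (hex (θ e)).mp (hθ e)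
    obtain ⟨k, rfl⟩ := TensorProduct.mk_surjective R (LinearMap.ker g) (R ⧸ I)
      Ideal.Quotient.mk_surjective y
    refine ⟨k, ?_⟩
    rw [← hy]
    simp only [lam, τE, LinearMap.comp_apply, TensorProduct.mk_apply, LinearMap.lTensor_tmul]
  let ρ : E →ₗ[R] LinearMap.ker g :=
    (LinearEquiv.ofInjective lam hlam_inj).symm.toLinearMap ∘ₗ
      (θ.codRestrict (LinearMap.range lam) hlam_range)
  have hρ : ∀ k : LinearMap.ker g, ρ k = k := by
    intro k
    have h1 : θ (k : E) = lam k := by
      have h0 : g (k : E) = 0 := k.2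
      simp only [θ, LinearMap.sub_apply, LinearMap.comp_apply, h0, map_zero, sub_zero]
      rfl
    show (LinearEquiv.ofInjective lam hlam_inj).symm
      (θ.codRestrict _ hlam_range (k : E)) = k
    rw [LinearEquiv.symm_apply_eq]
    exact Subtype.ext h1
  let ζ : E →ₗ[R] E := LinearMap.id - (LinearMap.ker g).subtype ∘ₗ ρ
  have hζ : LinearMap.ker g ≤ LinearMap.ker ζ := by
    intro k hk
    rw [LinearMap.mem_ker]
    simp only [ζ, LinearMap.sub_apply, LinearMap.id_apply, LinearMap.comp_apply,
      Submodule.subtype_apply]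
    rw [hρ ⟨k, hk⟩, sub_self]
  refine ⟨((LinearMap.ker g).liftQ ζ hζ) ∘ₗ (g.quotKerEquivOfSurjective hg).symm.toLinearMap, ?_⟩
  ext m
  obtain ⟨e, rfl⟩ := hg m
  have h1 : (g.quotKerEquivOfSurjective hg).symm (g e) = (LinearMap.ker g).mkQ e := by
    rw [LinearEquiv.symm_apply_eq]
    rfl
  simp only [LinearMap.comp_apply, LinearEquiv.coe_coe, LinearMap.id_apply]
  rw [h1, Submodule.mkQ_apply, Submodule.liftQ_apply]
  simp only [ζ, LinearMap.sub_apply, LinearMap.id_apply, LinearMap.comp_apply,
    Submodule.subtype_apply, map_sub]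
  have h2 : g (ρ e : E) = 0 := (ρ e).2
  rw [h2, sub_zero]

/-- A surjection onto `M` whose kernel is killed by `I ^ n` splits. -/
lemma exists_section_of_pow_smul_ker_eq_bot [Module.Flat R M]
    (hproj : Module.Projective (R ⧸ I) ((R ⧸ I) ⊗[R] M)) (n : ℕ) :
    ∀ {E : Type u} [AddCommGroup E] [Module R E] (g : E →ₗ[R] M), Function.Surjective g →
      (∀ a ∈ I ^ n, ∀ x ∈ LinearMap.ker g, a • x = 0) →
      ∃ s : M →ₗ[R] E, g ∘ₗ s = LinearMap.id := by
  induction n with
  | zero =>
    intro E _ _ g hg hK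
    have hinj : Function.Injective g := by
      rw [← LinearMap.ker_eq_bot, LinearMap.ker_eq_bot']
      intro x hx
      have := hK 1 (by rw [pow_zero, Ideal.one_eq_top]; trivial) x hx
      rwa [one_smul] at this
    refine ⟨(LinearEquiv.ofBijective g ⟨hinj, hg⟩).symm.toLinearMap, ?_⟩
    ext m
    exact (LinearEquiv.ofBijective g ⟨hinj, hg⟩).apply_symm_apply m
  | succ n ih =>
    intro E _ _ g hg hK
    have hle : I • LinearMap.ker g ≤ LinearMap.ker g := Submodule.smul_le_right
    let g' : (E ⧸ I • LinearMap.ker g) →ₗ[R] M := (I • LinearMap.ker g).liftQ g hle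
    have hg' : Function.Surjective g' := fun m => by
      obtain ⟨e, rfl⟩ := hg m
      exact ⟨(I • LinearMap.ker g).mkQ e, rfl⟩
    have hK' : ∀ a ∈ I, ∀ x ∈ LinearMap.ker g', a • x = 0 := by
      intro a ha x hx
      obtain ⟨e, rfl⟩ := (I • LinearMap.ker g).mkQ_surjective x
      have he : e ∈ LinearMap.ker g := hx
      rw [← map_smul, Submodule.mkQ_apply, Submodule.Quotient.mk_eq_zero]
      exact Submodule.smul_mem_smul ha he
    obtain ⟨s', hs'⟩ := exists_section_of_smul_ker_eq_bot I hproj g' hg' hK'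
    let E'' : Submodule R E := (LinearMap.range s').comap (I • LinearMap.ker g).mkQ
    let g'' : E'' →ₗ[R] M := g ∘ₗ E''.subtype
    have hg'' : Function.Surjective g'' := by
      intro m
      obtain ⟨e, he⟩ := (I • LinearMap.ker g).mkQ_surjective (s' m)
      refine ⟨⟨e, ⟨m, he.symm⟩⟩, ?_⟩
      show g e = m
      have h1 : g' ((I • LinearMap.ker g).mkQ e) = m := by
        rw [he]
        exact LinearMap.congr_fun hs' m
      exact h1
    have hK'' : ∀ a ∈ I ^ n, ∀ x ∈ LinearMap.ker g'', a • x = 0 := by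
      intro a ha x hx
      have hx1 : g (x : E) = 0 := hx
      obtain ⟨m, hm⟩ : ∃ m, s' m = (I • LinearMap.ker g).mkQ (x : E) := x.2
      have hm0 : m = 0 := by
        have h1 : g' (s' m) = m := LinearMap.congr_fun hs' m
        rw [hm] at h1
        rw [← h1]
        exact hx1
      have hxK₁ : (x : E) ∈ I • LinearMap.ker g := by
        rw [← Submodule.Quotient.mk_eq_zero, ← Submodule.mkQ_apply, ← hm, hm0, map_zero]
      apply Subtype.ext
      show a • (x : E) = 0
      refine Submodule.smul_induction_on (p := fun y => a • y = 0) hxK₁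
        (fun b hb k hk => ?_) (fun y z hy hz => by rw [smul_add, hy, hz, add_zero])
      rw [smul_smul]
      exact hK (a * b) (by rw [pow_succ]; exact Ideal.mul_mem_mul ha hb) k hk
    obtain ⟨s'', hs''⟩ := ih g'' hg'' hK''
    refine ⟨E''.subtype ∘ₗ s'', ?_⟩
    rw [← LinearMap.comp_assoc]
    exact hs''

/-- A flat module which is projective modulo a nilpotent ideal is projective. -/
theorem projective_of_flat_of_projective_mod_nilpotent (hI : IsNilpotent I) [Module.Flat R M]
    (hproj : Module.Projective (R ⧸ I) ((R ⧸ I) ⊗[R] M)) : Module.Projective R M := by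
  obtain ⟨n, hn⟩ := hI
  let π : (M →₀ R) →ₗ[R] M := Finsupp.linearCombination R id
  have hπ : Function.Surjective π := fun m => ⟨Finsupp.single m 1, by simp [π]⟩
  obtain ⟨s, hs⟩ := exists_section_of_pow_smul_ker_eq_bot I hproj n π hπ (by
    intro a ha x _
    have ha0 : a = 0 := by simpa [hn] using ha
    rw [ha0, zero_smul])
  exact Module.Projective.of_split s π hs

end Groth.Agent.H2.NilpProj
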