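import Mathlib
import Groth.Prelude

/-!
# Transport of "ordinary double point" along a semilinear ring isomorphism
-/

set_option autoImplicit false
universe u

namespace Groth.Agent.H2.OdpTransport

open IsLocalRing

section AdicMap

variable {A B C : Type*} [CommRing A] [CommRing B] [CommRing C]

theorem pow_le_comap_pow {I : Ideal A} {J : Ideal B} (φ : A →+* B) (h : I ≤ J.comap φ) (n : ℕ) :
    I ^ n ≤ (J ^ n).comap φ :=
  (Ideal.pow_right_mono h n).trans (Ideal.le_comap_pow φ n)

theorem adicMap_compat (I : Ideal A) (J : Ideal B) (φ : A →+* B) (h : I ≤ J.comap φ)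
    {m n : ℕ} (hle : m ≤ n) :
    (Ideal.Quotient.factorPow J hle).comp ((Ideal.quotientMap (J ^ n) φ (pow_le_comap_pow φ h n)).comp
      (AdicCompletion.evalₐ I n : AdicCompletion I A →+* A ⧸ I ^ n)) =
    (Ideal.quotientMap (J ^ m) φ (pow_le_comap_pow φ h m)).comp
      (AdicCompletion.evalₐ I m : AdicCompletion I A →+* A ⧸ I ^ m) := by
  ext x
  obtain ⟨y, rfl⟩ := AdicCompletion.mk_surjective I A x
  simp [AdicCompletion.evalₐ_mk]
  rw [Ideal.Quotient.eq, ← map_sub]
  have h1 := y.property hle
  rw [SModEq.sub_mem] at h1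
  have h2 : (y n : A) - y m ∈ I ^ m := by
    have : (y m : A) - y n ∈ I ^ m := by simpa using h1
    have h3 := (I ^ m).neg_mem this
    simpa using h3
  exact pow_le_comap_pow φ h m h2

/-- Functoriality of the adic completion of a ring along a ring map. -/
noncomputable def adicMap (I : Ideal A) (J : Ideal B) (φ : A →+* B) (h : I ≤ J.comap φ) :
    AdicCompletion I A →+* AdicCompletion J B :=
  AdicCompletion.liftRingHom J
    (fun n => (Ideal.quotientMap (J ^ n) φ (pow_le_comap_pow φ h n)).comp
      (AdicCompletion.evalₐ I n : AdicCompletion I A →+* A ⧸ I ^ n))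
    (fun hle => adicMap_compat I J φ h hle)

theorem evalₐ_adicMap (I : Ideal A) (J : Ideal B) (φ : A →+* B) (h : I ≤ J.comap φ) (n : ℕ)
    (x : AdicCompletion I A) :
    AdicCompletion.evalₐ J n (adicMap I J φ h x) =
      Ideal.quotientMap (J ^ n) φ (pow_le_comap_pow φ h n) (AdicCompletion.evalₐ I n x) := by
  unfold adicMap
  rw [AdicCompletion.evalₐ_liftRingHom J _ (fun hle => adicMap_compat I J φ h hle)]
  rfl

theorem adicMap_of (I : Ideal A) (J : Ideal B) (φ : A →+* B) (h : I ≤ J.comap φ) (a : A) :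
    adicMap I J φ h (AdicCompletion.of I A a) = AdicCompletion.of J B (φ a) := by
  apply AdicCompletion.ext_evalₐ
  intro n
  rw [evalₐ_adicMap, AdicCompletion.evalₐ_of, AdicCompletion.evalₐ_of, Ideal.quotientMap_mk]

theorem adicMap_comp (I : Ideal A) (J : Ideal B) (L : Ideal C) (φ : A →+* B) (ψ : B →+* C)
    (h : I ≤ J.comap φ) (h' : J ≤ L.comap ψ) (h'' : I ≤ L.comap (ψ.comp φ))
    (x : AdicCompletion I A) :
    adicMap J L ψ h' (adicMap I J φ h x) = adicMap I L (ψ.comp φ) h'' x := by
  apply AdicCompletion.ext_evalₐ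
  intro n
  rw [evalₐ_adicMap, evalₐ_adicMap, evalₐ_adicMap]
  obtain ⟨a, ha⟩ := Ideal.Quotient.mk_surjective (AdicCompletion.evalₐ I n x)
  rw [← ha]
  simp [Ideal.quotientMap_mk]

theorem adicMap_id (I : Ideal A) (h : I ≤ I.comap (RingHom.id A)) (x : AdicCompletion I A) :
    adicMap I I (RingHom.id A) h x = x := by
  apply AdicCompletion.ext_evalₐ
  intro n
  rw [evalₐ_adicMap]
  obtain ⟨a, ha⟩ := Ideal.Quotient.mk_surjective (AdicCompletion.evalₐ I n x)
  rw [← ha]
  simp [Ideal.quotientMap_mk]

/-- The adic completion is functorial for ring isomorphisms matching the ideals. -/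
noncomputable def adicEquiv (I : Ideal A) (J : Ideal B) (φ : A ≃+* B)
    (h : I ≤ J.comap (φ : A →+* B)) (h' : J ≤ I.comap (φ.symm : B →+* A)) :
    AdicCompletion I A ≃+* AdicCompletion J B :=
  RingEquiv.ofRingHom (adicMap I J (φ : A →+* B) h) (adicMap J I (φ.symm : B →+* A) h')
    (RingHom.ext fun x => by
      simp only [RingHom.comp_apply, RingHom.id_apply]
      rw [adicMap_comp J I J _ _ h' h (by simp)]
      have : ((φ : A →+* B).comp (φ.symm : B →+* A)) = RingHom.id B := by ext; simp
      simp only [this]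
      exact adicMap_id J _ x)
    (RingHom.ext fun x => by
      simp only [RingHom.comp_apply, RingHom.id_apply]
      rw [adicMap_comp I J I _ _ h h' (by simp)]
      have : ((φ.symm : B →+* A).comp (φ : A →+* B)) = RingHom.id A := by ext; simp
      simp only [this]
      exact adicMap_id I _ x)

theorem adicEquiv_of (I : Ideal A) (J : Ideal B) (φ : A ≃+* B)
    (h : I ≤ J.comap (φ : A →+* B)) (h' : J ≤ I.comap (φ.symm : B →+* A)) (a : A) :
    adicEquiv I J φ h h' (AdicCompletion.of I A a) = AdicCompletion.of J B (φ a) := by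
  show adicMap I J (φ : A →+* B) h (AdicCompletion.of I A a) = _
  rw [adicMap_of]
  rfl

end AdicMap

section PS

variable {K : Type u} [Field K]

/-- The relation ideal `(xy)` of the node. -/
noncomputable abbrev nodeIdeal (K : Type u) [Field K] : Ideal (MvPowerSeries (Fin 2) K) :=
  Ideal.span {(MvPowerSeries.X 0 * MvPowerSeries.X 1 : MvPowerSeries (Fin 2) K)}

/-- Coefficientwise action of a field automorphism on power series, as a ring equivalence. -/
noncomputable def psMapEquiv (σ : K ≃+* K) :
    MvPowerSeries (Fin 2) K ≃+* MvPowerSeries (Fin 2) K :=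
  RingEquiv.ofRingHom (MvPowerSeries.map (σ : K →+* K)) (MvPowerSeries.map (σ.symm : K →+* K))
    (by
      rw [← MvPowerSeries.map_comp]
      have : ((σ : K →+* K).comp (σ.symm : K →+* K)) = RingHom.id K := by ext; simp
      rw [this, MvPowerSeries.map_id])
    (by
      rw [← MvPowerSeries.map_comp]
      have : ((σ.symm : K →+* K).comp (σ : K →+* K)) = RingHom.id K := by ext; simp
      rw [this, MvPowerSeries.map_id])

theorem psMapEquiv_apply (σ : K ≃+* K) (f : MvPowerSeries (Fin 2) K) :
    psMapEquiv σ f = MvPowerSeries.map (σ : K →+* K) f := rfl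

theorem nodeIdeal_map (σ : K ≃+* K) :
    nodeIdeal K = (nodeIdeal K).map (psMapEquiv σ : MvPowerSeries (Fin 2) K →+* _) := by
  unfold nodeIdeal
  rw [Ideal.map_span, Set.image_singleton]
  congr 2
  show _ = MvPowerSeries.map (σ : K →+* K) _
  rw [map_mul, MvPowerSeries.map_X, MvPowerSeries.map_X]

/-- Coefficientwise action of a field automorphism on `K[[x,y]]/(xy)`. -/
noncomputable def nodeEquiv (σ : K ≃+* K) :
    (MvPowerSeries (Fin 2) K ⧸ nodeIdeal K) ≃+* (MvPowerSeries (Fin 2) K ⧸ nodeIdeal K) :=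
  Ideal.quotientEquiv (nodeIdeal K) (nodeIdeal K) (psMapEquiv σ) (nodeIdeal_map σ)

theorem nodeEquiv_mk_C (σ : K ≃+* K) (c : K) :
    nodeEquiv σ (Ideal.Quotient.mk _ (MvPowerSeries.C c)) =
      Ideal.Quotient.mk _ (MvPowerSeries.C (σ c)) := by
  unfold nodeEquiv
  rw [Ideal.quotientEquiv_mk, psMapEquiv_apply, MvPowerSeries.map_C]
  rfl

end PS

section Main

variable {K : Type u} [Field K]

/-- Transport of the ordinary-double-point property along a ring isomorphism of local rings that is
semilinear for a field automorphism. -/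
theorem isOrdDoublePt_of_semilinear (σ : K ≃+* K) (A B : Type u) [CommRing A] [CommRing B]
    [Algebra K A] [Algebra K B] [IsLocalRing A] [IsLocalRing B] (φ : A ≃+* B)
    (hφ : ∀ c : K, φ (algebraMap K A c) = algebraMap K B (σ c))
    (hA : Curv2.IsOrdDoublePt K A) : Curv2.IsOrdDoublePt K B := by
  obtain ⟨e, he⟩ := hA
  have h1 : maximalIdeal B ≤ (maximalIdeal A).comap (φ.symm : B →+* A) := by
    intro b hb
    rw [Ideal.mem_comap, mem_maximalIdeal, mem_nonunits_iff] at *
    intro hu
    apply hb
    have := hu.map (φ : A →+* B)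
    simpa using this
  have h2 : maximalIdeal A ≤ (maximalIdeal B).comap (φ : A →+* B) := by
    intro a ha
    rw [Ideal.mem_comap, mem_maximalIdeal, mem_nonunits_iff] at *
    intro hu
    apply ha
    have := hu.map (φ.symm : B →+* A)
    simpa using this
  refine ⟨((adicEquiv (maximalIdeal A) (maximalIdeal B) φ h2 h1).symm.trans e).trans
    (nodeEquiv σ), ?_⟩
  intro c
  have h3 : (adicEquiv (maximalIdeal A) (maximalIdeal B) φ h2 h1).symm
      (algebraMap B (AdicCompletion (maximalIdeal B) B) (algebraMap K B c)) =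
      algebraMap A (AdicCompletion (maximalIdeal A) A) (algebraMap K A (σ.symm c)) := by
    rw [RingEquiv.symm_apply_eq]
    show _ = adicEquiv (maximalIdeal A) (maximalIdeal B) φ h2 h1
      (AdicCompletion.of (maximalIdeal A) A (algebraMap K A (σ.symm c)))
    rw [adicEquiv_of, hφ]
    simp
    rfl
  simp only [RingEquiv.trans_apply]
  rw [h3, he, nodeEquiv_mk_C]
  simp

end Main

end Groth.Agent.H2.OdpTransport
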