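import Mathlib
import Groth.Prelude
import Groth.Agent.H2.OdpTransport
import Groth.Agent.H37.GalTrans

set_option autoImplicit false
universe u
open CategoryTheory CategoryTheory.Limits AlgebraicGeometry

namespace Groth.Agent.H2.OdpGal

theorem toGlobal_comp_specMap {K : Type u} [CommRing K] {Y : Scheme.{u}}
    (fY : Y ⟶ Spec (CommRingCat.of K)) (τ : K →+* K) (c : K) :
    Coh.toGlobal (fY ≫ Spec.map (CommRingCat.ofHom τ)) c = Coh.toGlobal fY (τ c) := by
  have h := Scheme.ΓSpecIso_inv_naturality (CommRingCat.ofHom τ)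
  have h2 : (Scheme.ΓSpecIso (CommRingCat.of K)).inv.hom (τ c) =
      (Spec.map (CommRingCat.ofHom τ)).appTop.hom ((Scheme.ΓSpecIso (CommRingCat.of K)).inv.hom c) :=
    congrArg (fun f => f.hom c) h
  show (fY ≫ Spec.map (CommRingCat.ofHom τ)).appTop.hom ((Scheme.ΓSpecIso (CommRingCat.of K)).inv.hom c) =
    fY.appTop.hom ((Scheme.ΓSpecIso (CommRingCat.of K)).inv.hom (τ c))
  rw [h2, Scheme.Hom.comp_appTop]
  rfl

theorem stalkMap_semilinear {K : Type u} [Field K] (Y Z : Scheme.{u})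
    (fY : Y ⟶ Spec (CommRingCat.of K)) (fZ : Z ⟶ Spec (CommRingCat.of K)) (g : Y ⟶ Z)
    (τ : K →+* K) (hg : g ≫ fZ = fY ≫ Spec.map (CommRingCat.ofHom τ)) (y : Y) (c : K) :
    (g.stalkMap y).hom (@Curv2.stalkMap K _ Z ⟨fZ⟩ (g y) c) =
      @Curv2.stalkMap K _ Y ⟨fY⟩ y (τ c) := by
  have h1 := Scheme.Hom.germ_stalkMap g ⊤ y trivial
  have h2 : (g.stalkMap y).hom ((Z.presheaf.germ ⊤ (g y) trivial).hom (Coh.toGlobal fZ c)) =
      (Y.presheaf.germ (g ⁻¹ᵁ ⊤) y trivial).hom ((g.app ⊤).hom (Coh.toGlobal fZ c)) :=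
    congrArg (fun f => f.hom (Coh.toGlobal fZ c)) h1
  have h3 : (g.app ⊤).hom (Coh.toGlobal fZ c) = Coh.toGlobal fY (τ c) := by
    rw [← toGlobal_comp_specMap, ← hg]
    rfl
  show (g.stalkMap y).hom ((Z.presheaf.germ ⊤ (g y) trivial).hom (Coh.toGlobal fZ c)) =
    (Y.presheaf.germ ⊤ y trivial).hom (Coh.toGlobal fY (τ c))
  rw [h2, h3]
  rfl

section Gal

variable (k : Type u) [Field k] (X : Scheme.{u}) [X.Over (Spec (CommRingCat.of k))]
  (K : Type u) [Field K] [Algebra k K]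

/-- If the Galois translate `σ·xb` is an ordinary double point, so is `xb`. -/
theorem isOrdDoublePt_of_galAct (σ : K ≃ₐ[k] K) (xb : Curv2.bc k X K)
    (h : @Curv2.IsOrdDoublePt K _ ((Curv2.bc k X K).presheaf.stalk (Curv2.galAct k X K σ xb)) _
      (@Curv2.stalkAlgebra K _ (Curv2.bc k X K) ⟨Curv2.bcSnd k X K⟩ (Curv2.galAct k X K σ xb)) _) :
    @Curv2.IsOrdDoublePt K _ ((Curv2.bc k X K).presheaf.stalk xb) _
      (@Curv2.stalkAlgebra K _ (Curv2.bc k X K) ⟨Curv2.bcSnd k X K⟩ xb) _ := by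
  letI : (Curv2.bc k X K).Over (Spec (CommRingCat.of K)) := ⟨Curv2.bcSnd k X K⟩
  letI := Curv2.stalkAlgebra K (Curv2.bc k X K) xb
  letI := Curv2.stalkAlgebra K (Curv2.bc k X K) (Curv2.galAct k X K σ xb)
  haveI : IsIso (Curv2.galAct k X K σ) := Groth.Agent.H37.galAct_isIso k X K σ
  let φ : (Curv2.bc k X K).presheaf.stalk (Curv2.galAct k X K σ xb) ≃+*
      (Curv2.bc k X K).presheaf.stalk xb :=
    (asIso ((Curv2.galAct k X K σ).stalkMap xb)).commRingCatIsoToRingEquiv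
  refine Groth.Agent.H2.OdpTransport.isOrdDoublePt_of_semilinear (σ : K ≃+* K) _ _ φ ?_ h
  intro c
  exact stalkMap_semilinear (Curv2.bc k X K) (Curv2.bc k X K) (Curv2.bcSnd k X K)
    (Curv2.bcSnd k X K) (Curv2.galAct k X K σ) (σ : K →ₐ[k] K).toRingHom
    (Groth.Agent.H37.galAct_snd k X K σ) xb c

/-- All points of `X_K` over a given point of `X` are ordinary double points as soon as one is
(`K/k` normal). -/
theorem isOrdDoublePt_of_fibre [Normal k K] (xb xb' : Curv2.bc k X K)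
    (hfib : Curv2.bcFst k X K xb = Curv2.bcFst k X K xb')
    (h : @Curv2.IsOrdDoublePt K _ ((Curv2.bc k X K).presheaf.stalk xb') _
      (@Curv2.stalkAlgebra K _ (Curv2.bc k X K) ⟨Curv2.bcSnd k X K⟩ xb') _) :
    @Curv2.IsOrdDoublePt K _ ((Curv2.bc k X K).presheaf.stalk xb) _
      (@Curv2.stalkAlgebra K _ (Curv2.bc k X K) ⟨Curv2.bcSnd k X K⟩ xb) _ := by
  obtain ⟨σ, hσ⟩ := Groth.Agent.H37.exists_galAct_eq k X K xb xb' hfib
  subst hσ
  exact isOrdDoublePt_of_galAct k X K σ xb h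

end Gal

end Groth.Agent.H2.OdpGal
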