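import Groth.Agent.H88.Frame
import Groth.Agent.H88.PnGlobal
import Groth.Agent.H8.LocFreeNearFinite
import Groth.Agent.H8.LocFreeSections

/-! # (P1b) for helper88 (S7797): sections of a vector bundle over a standard chart of `P^1_k`
are free of rank `r`. -/

set_option autoImplicit false
universe u
open CategoryTheory CategoryTheory.Limits AlgebraicGeometry Opposite TopologicalSpace
open Groth.Agent.H88.Frame Groth.Agent.H88.PicPn Groth.Agent.H88.ProjChart

namespace Groth.Agent.H2.P1BasisChart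

/-- a polynomial ring in a variable set with exactly one element over a field is a PID. -/
theorem isPrincipalIdealRing_mvPolynomial_unique (k : Type u) [Field k] (σ : Type) [Unique σ] :
    IsPrincipalIdealRing (MvPolynomial σ k) := by
  let e : Polynomial k ≃+* MvPolynomial σ k := (MvPolynomial.uniqueAlgEquiv k σ).symm.toRingEquiv
  exact IsPrincipalIdealRing.of_surjective e.toRingHom e.surjective

theorem fin2_ne_unique : ∀ i j j' : Fin 2, j ≠ i → j' ≠ i → j = j' := by decide

theorem fin2_exists_ne : ∀ i : Fin 2, ∃ j : Fin 2, j ≠ i := by decide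

noncomputable def uniqueNe (i : Fin 2) : Unique {j : Fin 2 // j ≠ i} :=
  { default := ⟨(fin2_exists_ne i).choose, (fin2_exists_ne i).choose_spec⟩
    uniq := fun ⟨j, hj⟩ =>
      Subtype.ext (fin2_ne_unique i _ _ hj (fin2_exists_ne i).choose_spec) }

theorem exists_basis_chart (k : Type u) [Field k] (r : ℕ)
    (E : (Proj (CohB1.polyGrading 1 k)).Modules) (hE : FlatMod.IsFinLocFreeOfRank r E) (i : Fin 2) :
    Nonempty (Module.Basis (Fin r) Γ(Proj (CohB1.polyGrading 1 k), U 1 k i) Γ(E, U 1 k i)) := by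
  have hflf : FlatMod.IsFinLocFree E := fun x => by
    obtain ⟨V, hx, e⟩ := hE x
    exact ⟨V, r, hx, e⟩
  haveI : E.IsQuasicoherent := Groth.Agent.H8.isQuasicoherent_of_isFinLocFree E hflf
  have hU : IsAffineOpen (U 1 k i) :=
    Proj.isAffineOpen_basicOpen _ _ (hT 1 k i) Nat.one_pos
  obtain ⟨hfp, hproj⟩ :=
    Groth.Agent.H8.finitePresentation_projective_sections_of_isFinLocFree E hflf hU
  haveI := hfp
  haveI := hproj
  letI : Unique {j : Fin 2 // j ≠ i} := uniqueNe i
  haveI hpid0 : IsPrincipalIdealRing (MvPolynomial {j : Fin 2 // j ≠ i} k) :=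
    isPrincipalIdealRing_mvPolynomial_unique k _
  haveI hdom : IsDomain Γ(Proj (CohB1.polyGrading 1 k), U 1 k i) :=
    MulEquiv.isDomain (Q 1 k i) (Θ 1 k i).symm.toMulEquiv
  haveI hpid : IsPrincipalIdealRing Γ(Proj (CohB1.polyGrading 1 k), U 1 k i) :=
    IsPrincipalIdealRing.of_surjective (Θ 1 k i).toRingHom (Θ 1 k i).surjective
  haveI : Module.Finite Γ(Proj (CohB1.polyGrading 1 k), U 1 k i) Γ(E, U 1 k i) := inferInstance
  haveI : Module.Flat Γ(Proj (CohB1.polyGrading 1 k), U 1 k i) Γ(E, U 1 k i) := inferInstance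
  haveI : Module.Free Γ(Proj (CohB1.polyGrading 1 k), U 1 k i) Γ(E, U 1 k i) :=
    Module.free_of_finite_type_torsion_free'
  have hrank := Groth.Agent.H8.rankAtStalk_sections_of_isFinLocFreeOfRank E r hE hU
    (⟨⊥, Ideal.isPrime_bot⟩ : PrimeSpectrum Γ(Proj (CohB1.polyGrading 1 k), U 1 k i))
  rw [Module.rankAtStalk_eq_finrank_of_free] at hrank
  exact ⟨Module.finBasisOfFinrankEq _ _ hrank⟩

end Groth.Agent.H2.P1BasisChart
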