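import Mathlib
import Groth.Agent.S0389
import Groth.Agent.H57.RelAssGen.Defs

set_option autoImplicit false
universe u
open Groth.Agent.H57.RelAssGen

namespace Groth.Agent.H2.RA

/-- (RED) the socle condition passes to quotients. -/
theorem socAt_iff_of_surjective {B B' : Type u} [CommRing B] [CommRing B'] (π : B →+* B')
    (hπ : Function.Surjective π)
    {M M' : Type u} [AddCommGroup M] [Module B M] [AddCommGroup M'] [Module B' M']
    (πM : M →+ M') (hπM : Function.Surjective πM)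
    (hsl : ∀ (b : B) (m : M), πM (b • m) = π b • πM m)
    (hker : ∀ m : M, πM m = 0 ↔ m ∈ (RingHom.ker π) • (⊤ : Submodule B M))
    (I q : Ideal B) (hI : RingHom.ker π ≤ I) (hq : RingHom.ker π ≤ q) :
    SocAt (I.map π) (q.map π) M' ↔ SocAt I q M := by
  -- (a)
  have ha : ∀ b : B, π b ∈ q.map π ↔ b ∈ q := by
    intro b
    constructor
    · intro h
      obtain ⟨x, hx, hxb⟩ := (Ideal.mem_map_iff_of_surjective π hπ).mp h
      have : b - x ∈ RingHom.ker π := by rw [RingHom.mem_ker, map_sub, hxb, sub_self]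
      have := q.add_mem (hq this) hx
      simpa using this
    · exact fun h => Ideal.mem_map_of_mem π h
  -- image of I • ⊤
  have hb1 : ∀ m : M, m ∈ I • (⊤ : Submodule B M) → πM m ∈ (I.map π) • (⊤ : Submodule B' M') := by
    intro m hm
    induction hm using Submodule.smul_induction_on' with
    | smul r hr n _ =>
      rw [hsl]
      exact Submodule.smul_mem_smul (Ideal.mem_map_of_mem π hr) Submodule.mem_top
    | add x _ y _ hx hy =>
      rw [map_add]
      exact Submodule.add_mem _ hx hy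
  have hb2 : ∀ n' : M', n' ∈ (I.map π) • (⊤ : Submodule B' M') →
      ∃ m₁ : M, m₁ ∈ I • (⊤ : Submodule B M) ∧ πM m₁ = n' := by
    intro n' hn'
    induction hn' using Submodule.smul_induction_on' with
    | smul y hy n _ =>
      obtain ⟨x, hx, rfl⟩ := (Ideal.mem_map_iff_of_surjective π hπ).mp hy
      obtain ⟨n₀, rfl⟩ := hπM n
      exact ⟨x • n₀, Submodule.smul_mem_smul hx Submodule.mem_top, hsl x n₀⟩
    | add x _ y _ hx hy =>
      obtain ⟨m₁, hm₁, rfl⟩ := hx
      obtain ⟨m₂, hm₂, rfl⟩ := hy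
      exact ⟨m₁ + m₂, Submodule.add_mem _ hm₁ hm₂, map_add _ _ _⟩
  have hb : ∀ m : M, πM m ∈ (I.map π) • (⊤ : Submodule B' M') ↔ m ∈ I • (⊤ : Submodule B M) := by
    intro m
    refine ⟨fun h => ?_, hb1 m⟩
    obtain ⟨m₁, hm₁, hm₁eq⟩ := hb2 _ h
    have h0 : πM (m - m₁) = 0 := by rw [map_sub, hm₁eq, sub_self]
    have h1 : m - m₁ ∈ I • (⊤ : Submodule B M) :=
      Submodule.smul_mono_left hI ((hker _).mp h0)
    have := Submodule.add_mem _ h1 hm₁
    simpa using this
  constructor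
  · rintro ⟨m', h1, h2⟩
    obtain ⟨m, rfl⟩ := hπM m'
    refine ⟨m, fun s hs hsm => ?_, fun b hb' => ?_⟩
    · refine h1 (π s) (fun h => hs ((ha s).mp h)) ?_
      rw [← hsl]
      exact (hb _).mpr hsm
    · obtain ⟨s', hs', hs'm⟩ := h2 (π b) ((ha b).mpr hb')
      obtain ⟨s, rfl⟩ := hπ s'
      refine ⟨s, fun h => hs' ((ha s).mpr h), ?_⟩
      rw [← map_mul, ← hsl] at hs'm
      exact (hb _).mp hs'm
  · rintro ⟨m, h1, h2⟩
    refine ⟨πM m, fun s' hs' hs'm => ?_, fun b' hb' => ?_⟩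
    · obtain ⟨s, rfl⟩ := hπ s'
      rw [← hsl] at hs'm
      exact h1 s (fun h => hs' ((ha s).mpr h)) ((hb _).mp hs'm)
    · obtain ⟨b, hbq, rfl⟩ := (Ideal.mem_map_iff_of_surjective π hπ).mp hb'
      obtain ⟨s, hs, hsm⟩ := h2 b hbq
      refine ⟨π s, fun h => hs ((ha s).mp h), ?_⟩
      rw [← map_mul, ← hsl]
      exact (hb _).mpr hsm

end Groth.Agent.H2.RA
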