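import Mathlib

/-!
# (SA) for helper65 (S10259-P4): strong étale localisation with a unique point
Clone of Mathlib's `AlgebraicGeometry.exists_etale_isCompl_of_quasiFiniteAt` keeping the
uniqueness clause of `Algebra.exists_etale_isIdempotentElem_forall_liesOver_eq`.
-/

set_option autoImplicit false
universe u
open CategoryTheory CategoryTheory.Limits AlgebraicGeometry TensorProduct

namespace Groth.Agent.H2.SLP4SA

set_option backward.defeqAttrib.useBackward true in
set_option backward.isDefEq.respectTransparency false in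
theorem exists_etale_finite_unique {X S : Scheme.{u}} (f : X ⟶ S) [LocallyOfFiniteType f]
    [IsSeparated f] (x : X) (hx : f.QuasiFiniteAt x) :
    ∃ (U : Scheme.{u}) (g : U ⟶ S) (V : (pullback f g).Opens) (v : ↥(pullback f g)),
      IsAffine U ∧ Etale g ∧ v ∈ V ∧ IsFinite (V.ι ≫ pullback.snd f g) ∧
      pullback.fst f g v = x ∧
      ∀ v' ∈ V, pullback.snd f g v' = pullback.snd f g v → v' = v := by
  obtain ⟨_, ⟨U, hU, rfl⟩, hxU, -⟩ := S.isBasis_affineOpens.exists_subset_of_mem_open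
    (Set.mem_univ (f x)) isOpen_univ
  obtain ⟨_, ⟨V, hV, rfl⟩, hxV, hUV : V ≤ f ⁻¹ᵁ U⟩ :=
    X.isBasis_affineOpens.exists_subset_of_mem_open hxU (f ⁻¹ᵁ U).2
  have : (f.appLE U V hUV).hom.FiniteType := f.finiteType_appLE hU hV hUV
  algebraize [(f.appLE U V hUV).hom]
  have : (hV.primeIdealOf ⟨x, hxV⟩).asIdeal.LiesOver (hU.primeIdealOf ⟨f x, hxU⟩).asIdeal := by
    suffices hU.primeIdealOf ⟨f x, hxU⟩ = Spec.map (f.appLE U V hUV) (hV.primeIdealOf ⟨x, hxV⟩) from
      ⟨congr(($this).1)⟩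
    apply hU.isoSpec.inv.homeomorph.injective
    apply Subtype.ext
    simp only [IsAffineOpen.primeIdealOf, Scheme.Hom.homeomorph_apply,
      ← Scheme.Hom.comp_apply, ← Scheme.Opens.ι_apply, IsAffineOpen.isoSpec_hom]
    simp
  have : Algebra.QuasiFiniteAt Γ(S, U) (hV.primeIdealOf ⟨x, hxV⟩).asIdeal :=
    hx.quasiFiniteAt hV hU hUV hxV
  obtain ⟨R, _, _, _, P, _, _, e, _, P', _, _, hP', heP', -, _, huniq⟩ :=
    Algebra.exists_etale_isIdempotentElem_forall_liesOver_eq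
    (hU.primeIdealOf ⟨f x, hxU⟩).asIdeal (hV.primeIdealOf ⟨x, hxV⟩).asIdeal
  have : (algebraMap R (Localization.Away e)).Finite := RingHom.finite_algebraMap.mpr ‹_›
  let φ : Γ(S, U) ⟶ .of R := CommRingCat.ofHom <| algebraMap Γ(S, U) R
  have hφ : φ.hom.Etale := RingHom.etale_algebraMap.mpr ‹_›
  have : Etale (Spec.map φ) := HasRingHomProperty.Spec_iff.mpr hφ
  let e₁ : Spec (.of (R ⊗ Γ(X, V))) ≅ pullback (Spec.map (f.appLE U V hUV)) (Spec.map φ) :=
    (pullbackSpecIso _ _ _).symm ≪≫ pullbackSymmetry _ _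
  have he₁ : e₁.hom ≫ pullback.fst _ _ =
      Spec.map (CommRingCat.ofHom Algebra.TensorProduct.includeRight.toRingHom) := by
    dsimp [e₁, RingHom.algebraMap_toAlgebra]
    rw [Category.assoc, pullbackSymmetry_hom_comp_fst]
    exact pullbackSpecIso_inv_snd ..
  have he₂ : e₁.hom ≫ pullback.snd _ _ =
      Spec.map (CommRingCat.ofHom (algebraMap R (R ⊗[Γ(S, U)] Γ(X, V)))) := by
    dsimp [e₁, RingHom.algebraMap_toAlgebra]
    rw [Category.assoc, pullbackSymmetry_hom_comp_snd]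
    exact pullbackSpecIso_inv_fst ..
  let g : Spec (.of (R ⊗[Γ(S, U)] Γ(X, V))) ⟶ pullback f (Spec.map φ ≫ hU.fromSpec) :=
    e₁.hom ≫ pullback.map _ _ _ _ hV.fromSpec (𝟙 _) hU.fromSpec
      (IsAffineOpen.SpecMap_appLE_fromSpec ..) (by simp)
  have hgsnd : g ≫ pullback.snd f (Spec.map φ ≫ hU.fromSpec) =
      Spec.map (CommRingCat.ofHom (algebraMap R (R ⊗[Γ(S, U)] Γ(X, V)))) := by
    simp only [g, Category.assoc, pullback.lift_snd, pullback.map]
    rw [Category.comp_id, he₂]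
  let W₁ := g ''ᵁ PrimeSpectrum.basicOpen e
  have : IsFinite (W₁.ι ≫ pullback.snd f _) := by
    let ι : Spec (.of (Localization.Away e)) ⟶ pullback f (Spec.map φ ≫ hU.fromSpec) :=
      Spec.map (CommRingCat.ofHom <| algebraMap _ _) ≫ g
    have : ι.opensRange = W₁ := by
      simp only [Scheme.Hom.opensRange_comp, ι, W₁]
      congr 1
      exact TopologicalSpace.Opens.ext <| PrimeSpectrum.localization_away_comap_range _ _
    rw [← this, ← MorphismProperty.cancel_left_of_respectsIso @IsFinite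
      (Scheme.Hom.isoOpensRange _).hom]
    have H : (pullbackSpecIso _ R _).inv ≫ pullback.fst _ (Spec.map (f.appLE U V hUV)) = _ :=
      pullbackSpecIso_inv_fst ..
    simpa [Scheme.Hom.isoOpensRange, ι, g, e₁, RingHom.algebraMap_toAlgebra, φ, H,
      ← Spec.map_comp, IsFinite.SpecMap_iff]
  refine ⟨Spec (.of R), Spec.map φ ≫ hU.fromSpec, W₁, g ⟨P', ‹_›⟩, inferInstance, inferInstance,
    ⟨⟨P', ‹_›⟩, heP', rfl⟩, ‹_›, ?_, ?_⟩
  · trans hV.fromSpec ⟨P'.comap Algebra.TensorProduct.includeRight.toRingHom, inferInstance⟩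
    · simp [← Scheme.Hom.comp_apply, -Scheme.Hom.comp_base, g, reassoc_of% he₁]; rfl
    convert! hV.fromSpec_primeIdealOf ⟨x, hxV⟩
  · intro v' hv' hsnd
    obtain ⟨⟨P'', hP''⟩, heP'', hv'eq⟩ := hv'
    have hv'2 : g ⟨P'', hP''⟩ = v' := hv'eq
    rw [← hv'2] at hsnd ⊢
    rw [← Scheme.Hom.comp_apply, ← Scheme.Hom.comp_apply, hgsnd] at hsnd
    have hcomap : P''.comap (algebraMap R (R ⊗[Γ(S, U)] Γ(X, V))) =
        P'.comap (algebraMap R (R ⊗[Γ(S, U)] Γ(X, V))) := congr(($hsnd).1)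
    have hP'P : P'.comap (algebraMap R (R ⊗[Γ(S, U)] Γ(X, V))) = P := (P'.over_def P).symm
    have hLO : P''.LiesOver P := ⟨by rw [Ideal.under_def, hcomap, hP'P]⟩
    have := huniq P'' hP'' hLO heP''
    subst this
    rfl

end Groth.Agent.H2.SLP4SA
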