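import Groth.Agent.H43.TQ2Defs
import Groth.Agent.H43.MTLocSplit
import Groth.Agent.H43.TQKer
import Groth.Agent.H1.SplitTori.Basic
import Groth.Agent.H1.HomDiag.MonoTorus

/-! (T2-KI) for helper43 (S16617/S16616): the kernel arrow is an isomorphism iff the hom is trivial. -/

set_option autoImplicit false
universe u
open CategoryTheory Limits MonoidalCategory CartesianMonoidalCategory MonObj GrpObj AlgebraicGeometry
open Groth.Agent.H43.TQ Groth.Agent.H43.TQ2 Groth.Agent.H43.MT

namespace Groth.Agent.H2.T2_KI

/-- (T2-KI) -/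
theorem isIso_left_iff_eq_one {X : Scheme.{u}} {G B E : Over X} [GrpObj G] [GrpObj B]
    {u : G ⟶ B} {e : E ⟶ G} (he : AlgGrp.IsKernel e u) : IsIso e.left ↔ u = 1 := by
  constructor
  · intro h
    have : IsIso ((Over.forget X).map e) := h
    have he_iso : IsIso e := isIso_of_reflects_iso e (Over.forget X)
    have : u = inv e ≫ e ≫ u := by rw [IsIso.inv_hom_id_assoc]
    rw [this, he.w, ← Category.assoc, Hom.one_def]
    congr 1
    exact toUnit_unique _ _
  · intro h
    have h1 : 𝟙 G ≫ u = toUnit G ≫ η[B] := by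
      rw [Category.id_comp, h, Hom.one_def]
    have l1 : he.lift (𝟙 G) (toUnit G) h1 ≫ e = 𝟙 G := he.lift_fst _ _ _
    have he_iso : IsIso e := by
      refine ⟨he.lift (𝟙 G) (toUnit G) h1, ?_, l1⟩
      apply he.hom_ext
      · rw [Category.assoc, l1, Category.comp_id, Category.id_comp]
      · exact toUnit_unique _ _
    exact (inferInstance : IsIso ((Over.forget X).map e))

end Groth.Agent.H2.T2_KI
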