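import Groth.Agent.H43.TQ2Defs
import Groth.Agent.H43.MTLocSplit
import Groth.Agent.H43.TQKer
import Groth.Agent.H1.SplitTori.Basic
import Groth.Agent.H1.HomDiag.MonoTorus

/-! (T2-KT) for helper43 (S16617/S16616): kernels of group-isomorphic homomorphisms are isomorphic. -/

set_option autoImplicit false
universe u
open CategoryTheory Limits MonoidalCategory CartesianMonoidalCategory MonObj GrpObj AlgebraicGeometry
open Groth.Agent.H43.TQ Groth.Agent.H43.TQ2 Groth.Agent.H43.MT

namespace Groth.Agent.H2.T2_KT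

/-- (T2-KT) -/
theorem sim_of_isKernel {X : Scheme.{u}} {G B G' B' E E' : Over X} [GrpObj G] [GrpObj B]
    [GrpObj G'] [GrpObj B'] {u : G ⟶ B} {u' : G' ⟶ B'} (h : SimG u u') {e : E ⟶ G}
    {e' : E' ⟶ G'} (he : AlgGrp.IsKernel e u) (he' : AlgGrp.IsKernel e' u') : Sim e e' := by
  obtain ⟨α, β, hα, hβ, hcomm⟩ := h
  have hβinv : IsMonHom β.inv := inferInstance
  have hcomm' : u' ≫ β.inv = α.inv ≫ u := by
    rw [Iso.comp_inv_eq, Category.assoc, hcomm, Iso.inv_hom_id_assoc]
  have h1 : (e ≫ α.hom) ≫ u' = toUnit E ≫ η[B'] := by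
    rw [Category.assoc, ← hcomm, ← Category.assoc, he.w, Category.assoc, IsMonHom.one_hom]
  have h2 : (e' ≫ α.inv) ≫ u = toUnit E' ≫ η[B] := by
    rw [Category.assoc, ← hcomm', ← Category.assoc, he'.w, Category.assoc, IsMonHom.one_hom]
  have l1 : he'.lift (e ≫ α.hom) (toUnit E) h1 ≫ e' = e ≫ α.hom := he'.lift_fst _ _ _
  have l2 : he.lift (e' ≫ α.inv) (toUnit E') h2 ≫ e = e' ≫ α.inv := he.lift_fst _ _ _
  refine ⟨⟨he'.lift (e ≫ α.hom) (toUnit E) h1, he.lift (e' ≫ α.inv) (toUnit E') h2, ?_, ?_⟩, α, ?_⟩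
  · apply he.hom_ext
    · rw [Category.assoc, l2, ← Category.assoc, l1, Category.assoc, Iso.hom_inv_id,
        Category.comp_id, Category.id_comp]
    · exact toUnit_unique _ _
  · apply he'.hom_ext
    · rw [Category.assoc, l1, ← Category.assoc, l2, Category.assoc, Iso.inv_hom_id,
        Category.comp_id, Category.id_comp]
    · exact toUnit_unique _ _
  · exact l1.symm

end Groth.Agent.H2.T2_KT
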