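import Groth.Agent.H43.MTLocSplit

/-! (T3-MTBC) for helper43 (S16616): multiplicative type is stable under restriction to an open. -/

set_option autoImplicit false
universe u
open CategoryTheory Limits MonoidalCategory CartesianMonoidalCategory MonObj GrpObj AlgebraicGeometry
open Groth.Agent.H43.MT

namespace Groth.Agent.H2.T3_MTBC

open Groth.Agent.H37.ChowFormal (JIso J_isMonHom)

/-- (T3-MTBC) -/
theorem isMultTypeFT_bc_open {S : Scheme.{u}} (H : Over S) [GrpObj H] (hH : SGA3x.IsMultTypeFT H)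
    (U : S.Opens) : SGA3x.IsMultTypeFT (Red.bc U.ι H) := by
  obtain ⟨S', f, hfl, hsu, hcov, hch⟩ := hH
  have hpb := isPullback_morphismRestrict f U
  have hfl' : Flat (f ∣_ U) := MorphismProperty.of_isPullback (P := @Flat) hpb.flip hfl
  have hsu' : Surjective (f ∣_ U) := MorphismProperty.of_isPullback (P := @Surjective) hpb.flip hsu
  have hcoe : ∀ x : ↥(f ⁻¹ᵁ U), U.ι ((f ∣_ U) x) = f ((f ⁻¹ᵁ U).ι x) := by
    intro x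
    show ((f ∣_ U) ≫ U.ι) x = ((f ⁻¹ᵁ U).ι ≫ f) x
    rw [morphismRestrict_ι]
  refine ⟨(f ⁻¹ᵁ U).toScheme, f ∣_ U, hfl', hsu', ?_, ?_⟩
  · intro V hV
    have hV' : IsAffineOpen (U.ι ''ᵁ V) := hV.image_of_isOpenImmersion U.ι
    obtain ⟨W, hWc, hWV⟩ := hcov _ hV'
    have hWU : (W : Set S') ⊆ Set.range (f ⁻¹ᵁ U).ι := by
      intro w hw
      have h1 : f w ∈ f.base '' (W : Set S') := ⟨w, hw, rfl⟩
      rw [hWV] at h1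
      obtain ⟨v, -, hv⟩ := h1
      have h2 : w ∈ f ⁻¹ᵁ U := by
        show f w ∈ U
        rw [← hv]
        exact v.2
      exact ⟨⟨w, h2⟩, rfl⟩
    refine ⟨(f ⁻¹ᵁ U).ι ⁻¹ᵁ W, ?_, ?_⟩
    · exact ((f ⁻¹ᵁ U).ι.isOpenEmbedding.isInducing.isCompact_preimage_iff hWU).mpr hWc
    · ext v
      constructor
      · rintro ⟨x, hx, rfl⟩
        have h1 : f ((f ⁻¹ᵁ U).ι x) ∈ f.base '' (W : Set S') := ⟨_, hx, rfl⟩
        rw [hWV] at h1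
        obtain ⟨v', hv', hvv⟩ := h1
        have : v' = (f ∣_ U) x := U.ι.isOpenEmbedding.injective (hvv.trans (hcoe x).symm)
        rw [← this]
        exact hv'
      · intro hv
        have h1 : U.ι v ∈ f.base '' (W : Set S') := by
          rw [hWV]
          exact ⟨v, hv, rfl⟩
        obtain ⟨w, hw, hwv⟩ := h1
        obtain ⟨x, hx⟩ := hWU hw
        refine ⟨x, ?_, ?_⟩
        · show (f ⁻¹ᵁ U).ι x ∈ W
          rw [hx]; exact hw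
        · apply U.ι.isOpenEmbedding.injective
          exact Eq.trans (hcoe x) (Eq.trans (congrArg (fun y => f y) hx) hwv)
  · intro s''
    obtain ⟨O, hO, M, instM, hM, ⟨e⟩⟩ := hch ((f ⁻¹ᵁ U).ι s'')
    refine ⟨(f ⁻¹ᵁ U).ι ⁻¹ᵁ O, hO, M, instM, hM, ?_⟩
    have hr : Set.range (((f ⁻¹ᵁ U).ι ⁻¹ᵁ O).ι ≫ (f ⁻¹ᵁ U).ι).base ⊆ Set.range O.ι.base := by
      rintro _ ⟨x, rfl⟩
      exact ⟨⟨(f ⁻¹ᵁ U).ι x.1, x.2⟩, rfl⟩
    obtain ⟨k, hk⟩ : ∃ k : ((f ⁻¹ᵁ U).ι ⁻¹ᵁ O).toScheme ⟶ O.toScheme,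
        k ≫ O.ι = ((f ⁻¹ᵁ U).ι ⁻¹ᵁ O).ι ≫ (f ⁻¹ᵁ U).ι :=
      ⟨IsOpenImmersion.lift O.ι (((f ⁻¹ᵁ U).ι ⁻¹ᵁ O).ι ≫ (f ⁻¹ᵁ U).ι) hr,
        IsOpenImmersion.lift_fac _ _ _⟩
    obtain ⟨gY, hgY⟩ : ∃ gY : ((f ⁻¹ᵁ U).ι ⁻¹ᵁ O).toScheme ⟶ S,
        gY = ((f ⁻¹ᵁ U).ι ⁻¹ᵁ O).ι ≫ (f ⁻¹ᵁ U).ι ≫ f := ⟨_, rfl⟩
    have hk' : k ≫ (O.ι ≫ f) = gY := by
      rw [hgY, ← Category.assoc, hk, Category.assoc]
    obtain ⟨α, hα, -⟩ := split_bc H (O.ι ≫ f) M e k gY hk'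
    have hc : (((f ⁻¹ᵁ U).ι ⁻¹ᵁ O).ι ≫ (f ∣_ U)) ≫ U.ι = gY := by
      rw [hgY, Category.assoc, morphismRestrict_ι]
    let ε := JIso (((f ⁻¹ᵁ U).ι ⁻¹ᵁ O).ι ≫ (f ∣_ U)) U.ι gY hc H
    have hε : IsMonHom ε.hom := J_isMonHom _ U.ι gY hc H
    have hcomp : IsMonHom (ε ≪≫ α).hom := by
      show IsMonHom (ε.hom ≫ α.hom)
      infer_instance
    exact ⟨Grp.mkIso' (ε ≪≫ α)⟩

end Groth.Agent.H2.T3_MTBC
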