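import Groth.Agent.H43.TQClassify
import Groth.Agent.H33.TQ_QU
import Groth.Prelude.Def_AlgGrp

/-! (T4-KISO) for helper43 (S16612): kernels of group-isomorphic homs are isomorphic as groups. -/

set_option autoImplicit false
universe u
open CategoryTheory Limits MonoidalCategory CartesianMonoidalCategory MonObj GrpObj AlgebraicGeometry
open Groth.Agent.H43.TQ

namespace Groth.Agent.H2.T4_KISO

theorem mono_of_isKernel {X : Scheme.{u}} {G B E : Over X} [GrpObj B] {u : G ⟶ B} {e : E ⟶ G}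
    (he : AlgGrp.IsKernel e u) : Mono e :=
  ⟨fun _ _ hab => he.hom_ext hab (toUnit_unique _ _)⟩

theorem isMonHom_of_comp_mono {S : Scheme.{u}} {T T' G : Over S} [GrpObj T] [GrpObj T'] [GrpObj G]
    (g : T ⟶ T') (j' : T' ⟶ G) [IsMonHom j'] [Mono j'] (h : IsMonHom (g ≫ j')) : IsMonHom g where
  one_hom := by
    rw [← cancel_mono j', Category.assoc, h.one_hom, IsMonHom.one_hom]
  mul_hom := by
    rw [← cancel_mono j', Category.assoc, h.mul_hom, Category.assoc, IsMonHom.mul_hom,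
      ← Category.assoc, ← tensorHom_comp_tensorHom, Category.assoc]

/-- (T4-KISO) -/
theorem kernel_grpIso {X : Scheme.{u}} {G B G' B' E E' : Over X} [GrpObj G] [GrpObj B] [GrpObj G']
    [GrpObj B'] [GrpObj E] [GrpObj E'] {u : G ⟶ B} {u' : G' ⟶ B'} (h : SimG u u') {e : E ⟶ G}
    {e' : E' ⟶ G'} [IsMonHom e] [IsMonHom e'] (he : AlgGrp.IsKernel e u)
    (he' : AlgGrp.IsKernel e' u') : ∃ gam : E ≅ E', IsMonHom gam.hom := by
  obtain ⟨α, β, hα, hβ, hcomm⟩ := h
  have hβinv : IsMonHom β.inv := inferInstance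
  have hcomm' : u' ≫ β.inv = α.inv ≫ u := by
    rw [Iso.comp_inv_eq, Category.assoc, hcomm, Iso.inv_hom_id_assoc]
  have h1 : (e ≫ α.hom) ≫ u' = toUnit E ≫ η[B'] := by
    rw [Category.assoc, ← hcomm, ← Category.assoc, he.w, Category.assoc, IsMonHom.one_hom]
  have h2 : (e' ≫ α.inv) ≫ u = toUnit E' ≫ η[B] := by
    rw [Category.assoc, ← hcomm', ← Category.assoc, he'.w, Category.assoc, IsMonHom.one_hom]
  have l1 : he'.lift (e ≫ α.hom) (toUnit E) h1 ≫ e' = e ≫ α.hom := he'.lift_fst _ _ _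
  have l2 : he.lift (e' ≫ α.inv) (toUnit E') h2 ≫ e = e' ≫ α.inv := he.lift_fst _ _ _
  haveI : Mono e' := mono_of_isKernel he'
  refine ⟨⟨he'.lift (e ≫ α.hom) (toUnit E) h1, he.lift (e' ≫ α.inv) (toUnit E') h2, ?_, ?_⟩, ?_⟩
  · apply he.hom_ext
    · rw [Category.assoc, l2, ← Category.assoc, l1, Category.assoc, Iso.hom_inv_id,
        Category.comp_id, Category.id_comp]
    · exact toUnit_unique _ _
  · apply he'.hom_ext
    · rw [Category.assoc, l1, ← Category.assoc, l2, Category.assoc, Iso.inv_hom_id,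
        Category.comp_id, Category.id_comp]
    · exact toUnit_unique _ _
  · apply isMonHom_of_comp_mono (he'.lift (e ≫ α.hom) (toUnit E) h1) e'
    rw [l1]
    infer_instance

end Groth.Agent.H2.T4_KISO
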