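import Mathlib
import Groth.Agent.H34.TameLoc
set_option autoImplicit false
universe u
open IsLocalRing Groth.Agent.H34.TameLoc

namespace Groth.Agent.H2.TameP4

theorem norm_lf {A R S : Type u} [CommRing A] [IsLocalRing A] [CommRing R] [IsLocalRing R]
    [CommRing S] [IsLocalRing S] [Algebra A R] [Algebra R S] [Algebra A S] [IsScalarTower A R S]
    [IsLocalHom (algebraMap A R)] [IsLocalHom (algebraMap R S)] [IsLocalHom (algebraMap A S)]
    (π : S) (u v : Sˣ) (n m : ℕ) :
    Algebra.norm (ResidueField A) (lf (A := R) S π u v n m) = lf (A := A) S π u v n m := by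
  unfold lf
  rw [map_pow]
  congr 1
  haveI : IsScalarTower (ResidueField A) (ResidueField R) (ResidueField S) := by
    apply IsScalarTower.of_algebraMap_eq
    intro x
    obtain ⟨a, rfl⟩ := residue_surjective x
    show ResidueField.map (algebraMap A S) (residue A a) =
      ResidueField.map (algebraMap R S) (ResidueField.map (algebraMap A R) (residue A a))
    simp only [ResidueField.map_residue]
    rw [← IsScalarTower.algebraMap_apply]
  exact Algebra.norm_norm

end Groth.Agent.H2.TameP4
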