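import Mathlib
import Groth.Agent.H2.LocalCriterionMain

/-!
# Base change of `Tor₁(R/I, M)` when `M/IM` is flat over `R/I`, and a flatness criterion
-/

set_option autoImplicit false

universe u

namespace Groth.Agent.H2.TorBC

open TensorProduct Function

section naturality

variable {R : Type*} [CommRing R] {A : Type*} [CommRing A] [Algebra R A]
  {X Y : Type*} [AddCommGroup X] [Module R X] [Module A X] [IsScalarTower R A X]
  [AddCommGroup Y] [Module R Y] [Module A Y] [IsScalarTower R A Y]
  (M : Type*) [AddCommGroup M] [Module R M]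

open TensorProduct.AlgebraTensorModule in
lemma cancelBaseChange_rTensor (φ : X →ₗ[A] Y) (t : X ⊗[A] (A ⊗[R] M)) :
    cancelBaseChange R A A Y M (φ.rTensor (A ⊗[R] M) t) =
      (φ.restrictScalars R).rTensor M (cancelBaseChange R A A X M t) := by
  induction t using TensorProduct.induction_on with
  | zero => simp
  | add x y hx hy => simp only [map_add, hx, hy]
  | tmul x am =>
    induction am using TensorProduct.induction_on with
    | zero => simp
    | add a b ha hb => simp only [tmul_add, map_add, ha, hb]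
    | tmul a m => simp

lemma rTensor_injective_of_flat_baseChange [Module.Flat A (A ⊗[R] M)] (φ : X →ₗ[A] Y)
    (hφ : Injective φ) : Injective ((φ.restrictScalars R).rTensor M) := by
  have h1 : Injective (φ.rTensor (A ⊗[R] M)) :=
    Module.Flat.rTensor_preserves_injective_linearMap φ hφ
  intro t₁ t₂ h
  obtain ⟨s₁, rfl⟩ := (AlgebraTensorModule.cancelBaseChange R A A X M).surjective t₁
  obtain ⟨s₂, rfl⟩ := (AlgebraTensorModule.cancelBaseChange R A A X M).surjective t₂
  rw [← cancelBaseChange_rTensor, ← cancelBaseChange_rTensor] at h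
  rw [h1 ((AlgebraTensorModule.cancelBaseChange R A A Y M).injective h)]

lemma flat_baseChange_of_forall_rTensor_injective
    (h : ∀ 𝔟 : Ideal A, Injective (((Submodule.subtype 𝔟).restrictScalars R).rTensor M)) :
    Module.Flat A (A ⊗[R] M) := by
  rw [Module.Flat.iff_rTensor_injective']
  intro 𝔟 t₁ t₂ ht
  apply (AlgebraTensorModule.cancelBaseChange R A A 𝔟 M).injective
  apply h 𝔟
  rw [← cancelBaseChange_rTensor, ← cancelBaseChange_rTensor, ht]

/-- base change in two steps or in one step. -/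
theorem flat_tensor_of_tower (A A' C M : Type*) [CommRing A] [CommRing A'] [CommRing C]
    [Algebra A A'] [Algebra A' C] [Algebra A C] [IsScalarTower A A' C] [AddCommGroup M]
    [Module A M] :
    Module.Flat C (C ⊗[A'] (A' ⊗[A] M)) ↔ Module.Flat C (C ⊗[A] M) :=
  ⟨fun _ => Module.Flat.of_linearEquiv
      (AlgebraTensorModule.cancelBaseChange A A' C C M).symm,
    fun _ => Module.Flat.of_linearEquiv (AlgebraTensorModule.cancelBaseChange A A' C C M)⟩

lemma flat_lTensor_exact_ker {R : Type u} [CommRing R] {N' N'' : Type u} [AddCommGroup N']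
    [Module R N'] [AddCommGroup N''] [Module R N'']
    (E : Type u) [AddCommGroup E] [Module R E] [Module.Flat R E] (u' : N' →ₗ[R] N'') :
    Function.Exact ((LinearMap.ker u').subtype.lTensor E) (u'.lTensor E) :=
  Module.Flat.lTensor_exact E (LinearMap.exact_subtype_ker_map u')

end naturality

section BC

variable {R : Type u} [CommRing R] {R' : Type u} [CommRing R'] [Algebra R R'] (I : Ideal R)
  (M : Type u) [AddCommGroup M] [Module R M]
  {E : Type u} [AddCommGroup E] [Module R E]

local notation "IE" => (I • ⊤ : Submodule R E)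
local notation "IP" => (I • ⊤ : Submodule R R')
local notation "𝔞" => Ideal.map (algebraMap R R') I

set_option maxHeartbeats 800000 in
theorem mem_span_aux [Module.Flat R E] [Module.Flat (R ⧸ I) ((R ⧸ I) ⊗[R] M)]
    (π : E →ₗ[R] R') (hπ : Surjective π)
    (y : ↥𝔞 ⊗[R] M)
    (hy : ((Submodule.subtype 𝔞).restrictScalars R).rTensor M y = 0) :
    y ∈ Submodule.span R' ((Algebra.idealMap R' I).rTensor M ''
      {k | (Submodule.subtype I).rTensor M k = 0}) := by
  classical
  let ι : ↥𝔞 →ₗ[R] R' := (Submodule.subtype 𝔞).restrictScalars R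
  -- `mE : E ⊗ I → E`
  let mE : E ⊗[R] ↥I →ₗ[R] E :=
    (TensorProduct.rid R E).toLinearMap ∘ₗ (Submodule.subtype I).lTensor E
  have hmE : Injective mE := (TensorProduct.rid R E).injective.comp
    (Module.Flat.lTensor_preserves_injective_linearMap (Submodule.subtype I)
      (Submodule.injective_subtype I))
  have hmE_tmul : ∀ (e : E) (a : I), mE (e ⊗ₜ a) = (a : R) • e := fun e a => by simp [mE]
  -- `πX : E ⊗ I → I'`
  let L : R' ⊗[R] ↥I →ₗ[R'] ↥𝔞 := (Algebra.idealMap R' I).liftBaseChange R'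
  let πX : E ⊗[R] ↥I →ₗ[R] ↥𝔞 := (L.restrictScalars R) ∘ₗ π.rTensor ↥I
  have hπX_tmul : ∀ (e : E) (a : I), πX (e ⊗ₜ a) = π e • Algebra.idealMap R' I a :=
    fun e a => by simp [πX, L]
  have hcomm : ∀ x, ι (πX x) = π (mE x) := by
    intro x
    induction x using TensorProduct.induction_on with
    | zero => simp
    | add a b ha hb => simp only [map_add, ha, hb]
    | tmul e a =>
      rw [hπX_tmul, hmE_tmul]
      simp [ι, Algebra.smul_def, mul_comm]
  have hπX : Surjective πX := by
    have hL : Surjective L := by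
      rintro ⟨x, hx⟩
      have hle : 𝔞 ≤ LinearMap.range ((Submodule.subtype 𝔞) ∘ₗ L) := by
        rw [Ideal.map_le_iff_le_comap]
        intro a ha
        exact Ideal.mem_comap.mpr (LinearMap.mem_range.mpr ⟨1 ⊗ₜ ⟨a, ha⟩, by simp [L]⟩)
      obtain ⟨t, ht⟩ := hle hx
      exact ⟨t, Subtype.ext ht⟩
    exact hL.comp (LinearMap.rTensor_surjective _ hπ)
  have hrange_le : ∀ x, mE x ∈ IE := by
    intro x
    induction x using TensorProduct.induction_on with
    | zero => simp
    | add a b ha hb => rw [map_add]; exact Submodule.add_mem _ ha hb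
    | tmul e a => rw [hmE_tmul]; exact Submodule.smul_mem_smul a.2 Submodule.mem_top
  have hIE_le : IE ≤ LinearMap.range mE := by
    refine Submodule.smul_le.mpr fun a ha e _ => ?_
    exact ⟨e ⊗ₜ ⟨a, ha⟩, hmE_tmul e ⟨a, ha⟩⟩
  -- kernels and quotients
  let q : E →ₗ[R] E ⧸ IE := Submodule.mkQ IE
  let πbarR : E ⧸ IE →ₗ[R] R' ⧸ IP :=
    Submodule.mapQ IE IP π (Submodule.smul_top_le_comap_smul_top I π)
  let πbar : E ⧸ IE →ₗ[R ⧸ I] R' ⧸ IP :=
    πbarR.extendScalarsOfSurjective
      (by rw [Ideal.Quotient.algebraMap_eq]; exact Ideal.Quotient.mk_surjective)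
  have hπbar : ∀ e, πbar (q e) = Submodule.mkQ IP (π e) := fun e => by
    simp [πbar, πbarR, q]
  have hd : Injective (((LinearMap.ker πbar).subtype.restrictScalars R).rTensor M) :=
    rTensor_injective_of_flat_baseChange M (LinearMap.ker πbar).subtype
      (LinearMap.ker πbar).injective_subtype
  have hcmem : ∀ z : LinearMap.ker π, q z.1 ∈ LinearMap.ker πbar := fun z => by
    rw [LinearMap.mem_ker, hπbar, LinearMap.mem_ker.mp z.2, map_zero]
  let c : LinearMap.ker π →ₗ[R] LinearMap.ker πbar :=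
    { toFun := fun z => ⟨q z.1, hcmem z⟩
      map_add' := fun a b => Subtype.ext (by simp)
      map_smul' := fun r a => Subtype.ext (by simp) }
  have hφc : ((LinearMap.ker πbar).subtype.restrictScalars R) ∘ₗ c =
      q ∘ₗ (LinearMap.ker π).subtype := LinearMap.ext fun z => rfl
  have hc_surj : Surjective c := by
    rintro ⟨ebar, hebar⟩
    obtain ⟨e, rfl⟩ := Submodule.mkQ_surjective IE ebar
    have h1 : π e ∈ IP := by
      have h0 : πbar (q e) = 0 := LinearMap.mem_ker.mp hebar
      rw [hπbar] at h0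
      exact (Submodule.Quotient.mk_eq_zero IP).mp h0
    have h2 : IP = Submodule.map π IE := by
      rw [Submodule.map_smul'', Submodule.map_top, LinearMap.range_eq_top.mpr hπ]
    rw [h2] at h1
    obtain ⟨e', he', he'π⟩ := h1
    have hz : e - e' ∈ LinearMap.ker π :=
      LinearMap.mem_ker.mpr (by rw [map_sub, he'π, sub_self])
    refine ⟨⟨e - e', hz⟩, Subtype.ext ?_⟩
    show q (e - e') = q e
    rw [map_sub, show q e' = 0 from (Submodule.Quotient.mk_eq_zero IE).mpr he', sub_zero]
  have hkerc : ∀ z : LinearMap.ker c,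
      ((LinearMap.ker π).subtype ∘ₗ (LinearMap.ker c).subtype) z ∈ LinearMap.range mE := by
    intro z
    apply hIE_le
    have h0 : c z.1 = 0 := LinearMap.mem_ker.mp z.2
    have h1 : q z.1.1 = 0 := congrArg Subtype.val h0
    exact (Submodule.Quotient.mk_eq_zero IE).mp h1
  let eE := LinearEquiv.ofInjective mE hmE
  have hmE_symm : ∀ w : LinearMap.range mE, mE (eE.symm w) = w.1 := fun w =>
    (LinearEquiv.ofInjective_apply mE (eE.symm w)).symm.trans
      (congrArg Subtype.val (eE.apply_symm_apply w))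
  let r : LinearMap.ker c →ₗ[R] E ⊗[R] ↥I :=
    eE.symm.toLinearMap ∘ₗ LinearMap.codRestrict (LinearMap.range mE)
      ((LinearMap.ker π).subtype ∘ₗ (LinearMap.ker c).subtype) hkerc
  have hmr : mE ∘ₗ r = (LinearMap.ker π).subtype ∘ₗ (LinearMap.ker c).subtype :=
    LinearMap.ext fun z => hmE_symm _
  have hπr : πX ∘ₗ r = 0 := by
    refine LinearMap.ext fun z => ?_
    apply Subtype.ext
    show ι (πX (r z)) = 0
    rw [hcomm]
    have h0 : mE (r z) = z.1.1 := LinearMap.congr_fun hmr z
    rw [h0]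
    exact LinearMap.mem_ker.mp z.1.2
  -- the chase
  obtain ⟨x, hx⟩ := LinearMap.rTensor_surjective M hπX y
  have hcomm' : π ∘ₗ mE = ι ∘ₗ πX := LinearMap.ext fun x => (hcomm x).symm
  have hq0 : q ∘ₗ mE = 0 :=
    LinearMap.ext fun x => (Submodule.Quotient.mk_eq_zero IE).mpr (hrange_le x)
  have h1 : (π.rTensor M) ((mE.rTensor M) x) = 0 := by
    rw [← LinearMap.comp_apply, ← LinearMap.rTensor_comp, hcomm', LinearMap.rTensor_comp,
      LinearMap.comp_apply, hx]
    exact hy
  obtain ⟨ζ, hζ⟩ := (rTensor_exact M (LinearMap.exact_subtype_ker_map π) hπ _).mp h1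
  have h2 : (c.rTensor M) ζ = 0 := by
    apply hd
    rw [map_zero, ← LinearMap.comp_apply, ← LinearMap.rTensor_comp, hφc, LinearMap.rTensor_comp,
      LinearMap.comp_apply, hζ, ← LinearMap.comp_apply, ← LinearMap.rTensor_comp, hq0,
      LinearMap.rTensor_zero, LinearMap.zero_apply]
  obtain ⟨ζ', hζ'⟩ := (rTensor_exact M (LinearMap.exact_subtype_ker_map c) hc_surj _).mp h2
  have hx'1 : (mE.rTensor M) (x - (r.rTensor M) ζ') = 0 := by
    rw [map_sub, ← LinearMap.comp_apply (f := mE.rTensor M), ← LinearMap.rTensor_comp, hmr,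
      LinearMap.rTensor_comp M (LinearMap.ker π).subtype (LinearMap.ker c).subtype,
      LinearMap.comp_apply, hζ', hζ, sub_self]
  have hx'2 : (πX.rTensor M) (x - (r.rTensor M) ζ') = y := by
    rw [map_sub, ← LinearMap.comp_apply (f := πX.rTensor M), ← LinearMap.rTensor_comp, hπr,
      LinearMap.rTensor_zero, LinearMap.zero_apply, sub_zero, hx]
  -- step 5
  let u' : ↥I ⊗[R] M →ₗ[R] M :=
    (TensorProduct.lid R M).toLinearMap ∘ₗ (Submodule.subtype I).rTensor M
  have hassoc : mE.rTensor M =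
      (u'.lTensor E) ∘ₗ (TensorProduct.assoc R E ↥I M).toLinearMap := by
    apply TensorProduct.ext_threefold
    intro e a m
    simp [mE, u', TensorProduct.smul_tmul']
  have h5 : (u'.lTensor E) (TensorProduct.assoc R E ↥I M (x - (r.rTensor M) ζ')) = 0 := by
    have := hx'1
    rw [hassoc] at this
    exact this
  have hex3 : Function.Exact ((LinearMap.ker u').subtype.lTensor E) (u'.lTensor E) :=
    flat_lTensor_exact_ker E u'
  obtain ⟨κ, hκ⟩ := (hex3 _).mp h5
  have key : ∀ (e : E) (t : ↥I ⊗[R] M),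
      (πX.rTensor M) ((TensorProduct.assoc R E ↥I M).symm (e ⊗ₜ t)) =
        π e • (Algebra.idealMap R' I).rTensor M t := by
    intro e t
    induction t using TensorProduct.induction_on with
    | zero => simp
    | add a b ha hb => simp only [tmul_add, map_add, smul_add, ha, hb]
    | tmul a m => simp [hπX_tmul, TensorProduct.smul_tmul']
  have hall : ∀ κ : E ⊗[R] ↥(LinearMap.ker u'),
      (πX.rTensor M) ((TensorProduct.assoc R E ↥I M).symm
        (((LinearMap.ker u').subtype.lTensor E) κ)) ∈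
      Submodule.span R' ((Algebra.idealMap R' I).rTensor M ''
        {k | (Submodule.subtype I).rTensor M k = 0}) := by
    intro κ
    induction κ using TensorProduct.induction_on with
    | zero => simp
    | add a b ha hb =>
      simp only [map_add]
      exact Submodule.add_mem _ ha hb
    | tmul e k =>
      rw [LinearMap.lTensor_tmul, key]
      refine Submodule.smul_mem _ _ (Submodule.subset_span ⟨k.1, ?_, rfl⟩)
      have h0 : u' k.1 = 0 := LinearMap.mem_ker.mp k.2
      have h1 : (TensorProduct.lid R M) ((Submodule.subtype I).rTensor M k.1) = 0 := h0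
      exact (LinearEquiv.map_eq_zero_iff _).mp h1
  have hy_eq : y = (πX.rTensor M) ((TensorProduct.assoc R E ↥I M).symm
      (((LinearMap.ker u').subtype.lTensor E) κ)) := by
    rw [hκ, LinearEquiv.symm_apply_apply, hx'2]
  rw [hy_eq]
  exact hall κ

theorem mem_span_of_rTensor_eq_zero [Module.Flat (R ⧸ I) ((R ⧸ I) ⊗[R] M)]
    (y : ↥𝔞 ⊗[R] M)
    (hy : ((Submodule.subtype 𝔞).restrictScalars R).rTensor M y = 0) :
    y ∈ Submodule.span R' ((Algebra.idealMap R' I).rTensor M ''
      {k | (Submodule.subtype I).rTensor M k = 0}) :=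
  mem_span_aux I M (E := R' →₀ R) (Finsupp.linearCombination R (id : R' → R'))
    (fun r => ⟨Finsupp.single r 1, by simp⟩) y hy

end BC

section Main

variable {R S R' S' T : Type u} [CommRing R] [CommRing S] [CommRing R'] [CommRing S'] [CommRing T]
  [IsLocalRing R'] [IsLocalRing S'] [IsNoetherianRing R'] [IsNoetherianRing S']
  [Algebra R S] [Algebra R R'] [Algebra S S'] [Algebra R' S']
  [IsLocalHom (algebraMap R' S')]
  [Algebra R T] [Algebra S T] [Algebra R' T] [IsScalarTower R S T] [IsScalarTower R R' T]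
  [Algebra T S'] [IsScalarTower S T S'] [IsScalarTower R' T S']
  [Algebra.IsPushout R R' S T]
  (W : Submonoid T) [IsLocalization W S'] (I : Ideal R)
  {M : Type u} [AddCommGroup M] [Module S M] [Module R M] [IsScalarTower R S M] [Module.Finite S M]
  {M' : Type u} [AddCommGroup M'] [Module S' M'] [Module R' M'] [IsScalarTower R' S' M']
  [Module S M'] [IsScalarTower S S' M'] [Module R M'] [IsScalarTower R R' M'] [IsScalarTower R S M']
  [Module T M'] [IsScalarTower T S' M']

local notation "𝔞" => Ideal.map (algebraMap R R') I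
local notation "Ā" => R' ⧸ Ideal.map (algebraMap R R') I

include W in
set_option maxHeartbeats 1600000 in
theorem flat_of_tor_map_zero (hI' : 𝔞 ≠ ⊤)
    (f : M →ₗ[S] M') (hf : IsBaseChange S' f)
    [h2 : Module.Flat (R ⧸ I) ((R ⧸ I) ⊗[R] M)]
    (h3 : ∀ x : ↥I ⊗[R] M, (Submodule.subtype I).rTensor M x = 0 →
      (TensorProduct.mapOfCompatibleSMul R' R R ↥𝔞 M')
        ((TensorProduct.map (Algebra.idealMap R' I) (f.restrictScalars R)) x) = 0) :
    Module.Flat R' M' := by
  classical
  -- towers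
  have tST : IsScalarTower S T M' := ⟨fun s t m => by
    rw [← algebraMap_smul S' (s • t) m, ← algebraMap_smul S' t m,
      ← algebraMap_smul S' s (algebraMap T S' t • m), Algebra.smul_def s t, map_mul,
      ← IsScalarTower.algebraMap_apply S T S', mul_smul]⟩
  have tRT : IsScalarTower R' T M' := ⟨fun s t m => by
    rw [← algebraMap_smul S' (s • t) m, ← algebraMap_smul S' t m,
      ← algebraMap_smul S' s (algebraMap T S' t • m), Algebra.smul_def s t, map_mul,
      ← IsScalarTower.algebraMap_apply R' T S', mul_smul]⟩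
  -- the module `N = T ⊗[S] M`
  let j : M →ₗ[S] T ⊗[S] M := TensorProduct.mk S T M 1
  have hjT : IsBaseChange T j := TensorProduct.isBaseChange S M T
  let g₀ : T ⊗[S] M →ₗ[T] M' := hjT.lift f
  have hg₀j : ∀ m, g₀ (j m) = f m := hjT.lift_eq f
  have hg₀bc : IsBaseChange S' g₀ := by
    refine IsBaseChange.of_comp hjT ?_
    have h0 : (g₀.restrictScalars S) ∘ₗ j = f := hjT.lift_comp f
    rw [h0]
    exact hf
  have hloc : IsLocalizedModule W g₀ := (isLocalizedModule_iff_isBaseChange W S' g₀).mpr hg₀bc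
  have hj' : IsBaseChange R' (j.restrictScalars R) :=
    IsBaseChange.of_equiv (Algebra.IsPushout.cancelBaseChange R R' S T M).symm (fun m => by
      rw [Algebra.IsPushout.cancelBaseChange_symm_tmul, map_one]; rfl)
  -- flatness modulo `𝔞`
  have hflatN : Module.Flat Ā (Ā ⊗[R'] (T ⊗[S] M)) := by
    have hA : Module.Flat Ā (Ā ⊗[R ⧸ I] ((R ⧸ I) ⊗[R] M)) := inferInstance
    have hB : Module.Flat Ā (Ā ⊗[R] M) := (flat_tensor_of_tower R (R ⧸ I) Ā M).mp hA
    have hC : Module.Flat Ā (Ā ⊗[R'] (R' ⊗[R] M)) := (flat_tensor_of_tower R R' Ā M).mpr hB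
    exact Module.Flat.of_linearEquiv (TensorProduct.AlgebraTensorModule.congr
      (LinearEquiv.refl Ā Ā) (Algebra.IsPushout.cancelBaseChange R R' S T M))
  have hflatM' : Module.Flat Ā (Ā ⊗[R'] M') := by
    apply flat_baseChange_of_forall_rTensor_injective
    intro 𝔟
    have hN : Injective (((Submodule.subtype 𝔟).restrictScalars R').rTensor (T ⊗[S] M)) :=
      rTensor_injective_of_flat_baseChange (T ⊗[S] M) (Submodule.subtype 𝔟)
        (Submodule.injective_subtype 𝔟)
    rw [← LinearMap.lTensor_inj_iff_rTensor_inj] at hN ⊢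
    have key := IsLocalizedModule.map_lTensor (R := R') T W
      ((Submodule.subtype 𝔟).restrictScalars R') g₀
    have hinj := IsLocalizedModule.map_injective W
      (AlgebraTensorModule.rTensor R' ↥𝔟 g₀) (AlgebraTensorModule.rTensor R' Ā g₀)
      (AlgebraTensorModule.lTensor T (T ⊗[S] M) ((Submodule.subtype 𝔟).restrictScalars R')) hN
    rw [key] at hinj
    exact hinj
  -- the base change statement
  have hBC : ∀ y₂ : (T ⊗[S] M) ⊗[R'] ↥𝔞,
      (Submodule.subtype 𝔞).lTensor (T ⊗[S] M) y₂ = 0 →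
      (AlgebraTensorModule.rTensor R' ↥𝔞 g₀) y₂ = 0 := by
    intro y₂ hy₂
    let τ : (T ⊗[S] M) ⊗[R'] ↥𝔞 ≃ₗ[R'] ↥𝔞 ⊗[R] M :=
      (TensorProduct.comm R' (T ⊗[S] M) ↥𝔞) ≪≫ₗ hj'.tensorEquiv ↥𝔞
    let τ₀ : (T ⊗[S] M) ⊗[R'] R' ≃ₗ[R'] R' ⊗[R] M :=
      (TensorProduct.comm R' (T ⊗[S] M) R') ≪≫ₗ hj'.tensorEquiv R'
    have hτ : ∀ (a : ↥𝔞) (m : M), τ.symm (a ⊗ₜ m) = (j m) ⊗ₜ a := fun a m => by
      simp [τ, IsBaseChange.tensorEquiv, IsBaseChange.equiv_tmul]
    have hτ₀ : ∀ (a : R') (m : M), τ₀.symm (a ⊗ₜ m) = (j m) ⊗ₜ a := fun a m => by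
      simp [τ₀, IsBaseChange.tensorEquiv, IsBaseChange.equiv_tmul]
    have hnat : ∀ z : ↥𝔞 ⊗[R] M, (Submodule.subtype 𝔞).lTensor (T ⊗[S] M) (τ.symm z) =
        τ₀.symm ((((Submodule.subtype 𝔞).restrictScalars R).rTensor M) z) := by
      intro z
      induction z using TensorProduct.induction_on with
      | zero => simp
      | add a b ha hb => simp only [map_add, ha, hb]
      | tmul a m =>
        rw [hτ, LinearMap.rTensor_tmul, LinearMap.lTensor_tmul]
        exact (hτ₀ _ _).symm
    have hA : (((Submodule.subtype 𝔞).restrictScalars R).rTensor M) (τ y₂) = 0 := by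
      have h0 := hnat (τ y₂)
      rw [LinearEquiv.symm_apply_apply, hy₂] at h0
      exact τ₀.symm.injective (by rw [← h0, map_zero])
    have hB := mem_span_of_rTensor_eq_zero I M (τ y₂) hA
    let Φ : ↥𝔞 ⊗[R] M →ₗ[R'] M' ⊗[R'] ↥𝔞 :=
      ((g₀.restrictScalars R').rTensor ↥𝔞) ∘ₗ τ.symm.toLinearMap
    have hΦ : ∀ t : ↥I ⊗[R] M, Φ ((Algebra.idealMap R' I).rTensor M t) =
        TensorProduct.comm R' ↥𝔞 M' ((TensorProduct.mapOfCompatibleSMul R' R R ↥𝔞 M')
          ((TensorProduct.map (Algebra.idealMap R' I) (f.restrictScalars R)) t)) := by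
      intro t
      induction t using TensorProduct.induction_on with
      | zero => simp
      | add a b ha hb => simp only [map_add, ha, hb]
      | tmul a m => simp [Φ, hτ, hg₀j]
    have hker : Submodule.span R' ((Algebra.idealMap R' I).rTensor M ''
        {k | (Submodule.subtype I).rTensor M k = 0}) ≤ LinearMap.ker Φ := by
      rw [Submodule.span_le]
      rintro _ ⟨k, hk, rfl⟩
      rw [SetLike.mem_coe, LinearMap.mem_ker, hΦ, h3 k hk, map_zero]
    have h5 : Φ (τ y₂) = 0 := LinearMap.mem_ker.mp (hker hB)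
    simpa [Φ] using h5
  -- injectivity of `𝔞 ⊗ M' → M'`
  have hinj : Injective ((Submodule.subtype 𝔞).rTensor M') := by
    rw [← LinearMap.lTensor_inj_iff_rTensor_inj, injective_iff_map_eq_zero]
    intro ξ hξ
    obtain ⟨⟨y, w⟩, hyw⟩ := IsLocalizedModule.surj W (AlgebraTensorModule.rTensor R' ↥𝔞 g₀) ξ
    have hsq : ∀ y : (T ⊗[S] M) ⊗[R'] ↥𝔞,
        (AlgebraTensorModule.rTensor R' R' g₀) ((Submodule.subtype 𝔞).lTensor (T ⊗[S] M) y) =
          (Submodule.subtype 𝔞).lTensor M' ((AlgebraTensorModule.rTensor R' ↥𝔞 g₀) y) := by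
      intro y
      induction y using TensorProduct.induction_on with
      | zero => simp
      | add a b ha hb => simp only [map_add, ha, hb]
      | tmul n a => simp
    have hTlin : ∀ (t : T) (z : M' ⊗[R'] ↥𝔞), (Submodule.subtype 𝔞).lTensor M' (t • z) =
        t • (Submodule.subtype 𝔞).lTensor M' z :=
      fun t z => (AlgebraTensorModule.lTensor T M' (Submodule.subtype 𝔞)).map_smul t z
    have hTlinN : ∀ (t : T) (z : (T ⊗[S] M) ⊗[R'] ↥𝔞),
        (Submodule.subtype 𝔞).lTensor (T ⊗[S] M) (t • z) =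
        t • (Submodule.subtype 𝔞).lTensor (T ⊗[S] M) z :=
      fun t z => (AlgebraTensorModule.lTensor T (T ⊗[S] M) (Submodule.subtype 𝔞)).map_smul t z
    have hyw' : (w : T) • ξ = (AlgebraTensorModule.rTensor R' ↥𝔞 g₀) y := hyw
    have h0 : (AlgebraTensorModule.rTensor R' R' g₀)
        ((Submodule.subtype 𝔞).lTensor (T ⊗[S] M) y) = 0 := by
      rw [hsq, ← hyw', hTlin, hξ, smul_zero]
    obtain ⟨w₂, hw₂⟩ := (IsLocalizedModule.eq_zero_iff W (AlgebraTensorModule.rTensor R' R' g₀)).mp h0
    have hw₂' : (w₂ : T) • (Submodule.subtype 𝔞).lTensor (T ⊗[S] M) y = 0 := hw₂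
    have hy₂ : (Submodule.subtype 𝔞).lTensor (T ⊗[S] M) ((w₂ : T) • y) = 0 := by
      rw [hTlinN, hw₂']
    have hΘ : (AlgebraTensorModule.rTensor R' ↥𝔞 g₀) ((w₂ : T) • y) = 0 := hBC _ hy₂
    have h4 : (w₂ : T) • (w : T) • ξ = 0 := by
      rw [hyw', ← map_smul, hΘ]
    have hu : ∀ (w : W) (z : M' ⊗[R'] ↥𝔞), (w : T) • z = 0 → z = 0 := by
      intro w z hz
      have hunit : IsUnit (algebraMap T S' w) := IsLocalization.map_units S' w
      rw [← algebraMap_smul S' (w : T) z] at hz
      exact (hunit.smul_eq_zero).mp hz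
    exact hu w ξ (hu w₂ _ h4)
  have hfin : Module.Finite S' M' := Module.Finite.equiv hf.equiv
  exact Groth.Agent.H2.flat_of_local_criterion (S := S') 𝔞 hI' hinj

end Main

end Groth.Agent.H2.TorBC
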