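import Groth.Agent.H2.LDK
import Groth.Agent.H2.Watts
import Groth.Agent.H82.TorLib

/-!
# `Tor_j(E, M) ≃ Hom(Ext^j(M, A), E)` for `E` injective, `M` finite over Noetherian `A` (helper2)

Dimension shifting on finite modules: both sides are homological `δ`-functors vanishing on finite
free modules, and agree naturally in degree `0` by Eilenberg–Watts (`H2.Watts`).
-/

set_option autoImplicit false
universe u

namespace Groth.Agent.H2.TorExtDual

open CategoryTheory CategoryTheory.Abelian CategoryTheory.Limits MonoidalCategory TensorProduct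
  Groth.Agent.H82.LDer Groth.Agent.H72.LD

variable {A : Type u} [CommRing A]

/-- copied from `H12.TorSeq` (to avoid its imports) -/
theorem les_ker_equiv {T : ℕ → ModuleCat.{u} A ⥤ ModuleCat.{u} A} (h : HasLES T)
    (S : ShortComplex (ModuleCat.{u} A)) (hS : S.ShortExact) (n : ℕ)
    (hz : IsZero ((T (n + 1)).obj S.X₂)) :
    Nonempty (((T (n + 1)).obj S.X₃) ≃ₗ[A] LinearMap.ker ((T n).map S.f).hom) := by
  obtain ⟨-, -, δ, w₁, w₂, e1, e2⟩ := h S hS n
  rw [ShortComplex.ShortExact.moduleCat_exact_iff_function_exact] at e1 e2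
  haveI hsub : Subsingleton ((T (n + 1)).obj S.X₂) := ModuleCat.subsingleton_of_isZero hz
  have hδinj : Function.Injective δ.hom := by
    rw [injective_iff_map_eq_zero]
    intro x hx
    obtain ⟨y, rfl⟩ := (e1 x).mp hx
    rw [Subsingleton.elim y 0]
    exact map_zero _
  have hrange : LinearMap.range δ.hom = LinearMap.ker ((T n).map S.f).hom :=
    (LinearMap.exact_iff.mp e2).symm
  exact ⟨(LinearEquiv.ofInjective δ.hom hδinj) ≪≫ₗ (LinearEquiv.ofEq _ _ hrange)⟩

theorem les_equiv {T : ℕ → ModuleCat.{u} A ⥤ ModuleCat.{u} A} (h : HasLES T)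
    (S : ShortComplex (ModuleCat.{u} A)) (hS : S.ShortExact) (n : ℕ)
    (hz : IsZero ((T (n + 1)).obj S.X₂)) (hz' : IsZero ((T n).obj S.X₂)) :
    Nonempty (((T (n + 1)).obj S.X₃) ≃ₗ[A] ((T n).obj S.X₁)) := by
  obtain ⟨e⟩ := les_ker_equiv h S hS n hz
  haveI : Subsingleton ((T n).obj S.X₂) := ModuleCat.subsingleton_of_isZero hz'
  have hk : LinearMap.ker ((T n).map S.f).hom = ⊤ := by
    ext x
    simp only [LinearMap.mem_ker, Submodule.mem_top, iff_true]
    exact Subsingleton.elim _ _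
  exact ⟨e ≪≫ₗ LinearEquiv.ofEq _ _ hk ≪≫ₗ Submodule.topEquiv⟩

variable (E : Type u) [AddCommGroup E] [Module A E]

/-- `Tor_n(E, -)` -/
noncomputable abbrev T (n : ℕ) : ModuleCat.{u} A ⥤ ModuleCat.{u} A :=
  (Tor (ModuleCat.{u} A) n).obj (ModuleCat.of A E)

/-- `Tor_0(E, -) ≅ E ⊗ -` -/
noncomputable def η : T E 0 ≅ tensorLeft (ModuleCat.of A E) :=
  (tensorLeft (ModuleCat.of A E)).leftDerivedZeroIsoSelf

/-- `Tor_0(E, M) ≃ E ⊗ M` -/
noncomputable def θ0 (M : Type u) [AddCommGroup M] [Module A M] :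
    (T E 0).obj (ModuleCat.of A M) ≃ₗ[A] (E ⊗[A] M) :=
  ((η E).app (ModuleCat.of A M)).toLinearEquiv

lemma θ0_nat {M N : Type u} [AddCommGroup M] [Module A M] [AddCommGroup N] [Module A N]
    (g : M →ₗ[A] N) (x : (T E 0).obj (ModuleCat.of A M)) :
    θ0 E N (((T E 0).map (ModuleCat.ofHom g)).hom x) = (g.lTensor E) (θ0 E M x) := by
  have := congrArg (fun m => m.hom x) ((η E).hom.naturality (ModuleCat.ofHom g))
  exact this

variable [Module.Injective A E]

/-- `E ≃ Hom(Hom(A, A), E)` -/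
noncomputable def eE : E ≃ₗ[A] ((Groth.Agent.H2.Watts.homHom A E).obj (ModuleCat.of A A)) :=
  (LinearMap.ringLmapEquivSelf A A E).symm.trans
    (LinearEquiv.congrLeft E A (LinearMap.ringLmapEquivSelf A A A).symm)

variable [IsNoetherianRing A]

/-- `E ⊗ M ≃ Hom(Hom(M, A), E)` for finite `M` -/
noncomputable def Φ (M : Type u) [AddCommGroup M] [Module A M] [Module.Finite A M] :
    (E ⊗[A] M) ≃ₗ[A] ((M →ₗ[A] A) →ₗ[A] E) :=
  ((TensorProduct.comm A E M).trans (LinearEquiv.lTensor M (eE E))).trans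
    (LinearEquiv.ofBijective
      (Groth.Agent.H2.Watts.τ (Groth.Agent.H2.Watts.homHom A E) (ModuleCat.of A M))
      (Groth.Agent.H2.Watts.τ_bijective (Groth.Agent.H2.Watts.homHom A E) (ModuleCat.of A M)))

lemma Φ_tmul (M : Type u) [AddCommGroup M] [Module A M] [Module.Finite A M] (e : E) (m : M) :
    Φ E M (e ⊗ₜ m) = Groth.Agent.H2.Watts.τ (Groth.Agent.H2.Watts.homHom A E) (ModuleCat.of A M)
      (m ⊗ₜ eE E e) := rfl

lemma Φ_nat {M N : Type u} [AddCommGroup M] [Module A M] [Module.Finite A M] [AddCommGroup N]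
    [Module A N] [Module.Finite A N] (g : M →ₗ[A] N) (x : E ⊗[A] M) :
    Φ E N (g.lTensor E x) = Φ E M x ∘ₗ LinearMap.lcomp A A g := by
  induction x using TensorProduct.induction_on with
  | zero => simp
  | tmul e m =>
    rw [LinearMap.lTensor_tmul, Φ_tmul, Φ_tmul]
    have h := Groth.Agent.H2.Watts.τ_nat (Groth.Agent.H2.Watts.homHom A E)
      (X := ModuleCat.of A M) (Y := ModuleCat.of A N) g (m ⊗ₜ eE E e)
    rw [LinearMap.rTensor_tmul] at h
    exact h.symm
  | add w₁ w₂ h₁ h₂ => rw [map_add, map_add, h₁, h₂, map_add, LinearMap.add_comp]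

/-- the natural degree zero isomorphism -/
noncomputable def Θ (M : Type u) [AddCommGroup M] [Module A M] [Module.Finite A M] :
    (T E 0).obj (ModuleCat.of A M) ≃ₗ[A] ((M →ₗ[A] A) →ₗ[A] E) :=
  (θ0 E M).trans (Φ E M)

lemma Θ_nat {M N : Type u} [AddCommGroup M] [Module A M] [Module.Finite A M] [AddCommGroup N]
    [Module A N] [Module.Finite A N] (g : M →ₗ[A] N) (x : (T E 0).obj (ModuleCat.of A M)) :
    Θ E N (((T E 0).map (ModuleCat.ofHom g)).hom x) = Θ E M x ∘ₗ LinearMap.lcomp A A g := by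
  show Φ E N (θ0 E N _) = Φ E M (θ0 E M x) ∘ₗ _
  rw [θ0_nat, Φ_nat]

/-- **Tor–Ext duality**: `Tor_j(E, M) ≃ Hom(Ext^j(M, A), E)`. -/
theorem torExtDual : ∀ (j : ℕ) (M : Type u) [AddCommGroup M] [Module A M] [Module.Finite A M],
    Nonempty ((T E j).obj (ModuleCat.of A M) ≃ₗ[A]
      (Ext.{u} (ModuleCat.of A M) (ModuleCat.of A A) j →ₗ[A] E)) := by
  intro j
  induction j with
  | zero =>
    intro M _ _ _
    exact ⟨(Θ E M).trans (LinearEquiv.congrLeft E A (Groth.Agent.H2.LDK.e0 A M).symm)⟩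
  | succ j ih =>
    intro M _ _ _
    obtain ⟨r, ε, hε⟩ := Module.Finite.exists_fin' A M
    haveI : IsNoetherian A (Fin r → A) := inferInstance
    have hS := SC_shortExact ε hε
    haveI : Projective (SC ε).X₂ :=
      (inferInstance : Projective (ModuleCat.of A (Fin r → A)))
    have hv := Groth.Agent.H82.TorLib.vanish_tor (ModuleCat.of A E)
    have hles := Groth.Agent.H82.TorLib.hasLES_tor (ModuleCat.of A E)
    rcases Nat.eq_zero_or_pos j with hj0 | hjpos
    · subst hj0
      obtain ⟨E1⟩ := les_ker_equiv hles (SC ε) hS 0 (hv 0 _ inferInstance)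
      obtain ⟨E2⟩ := nonempty_ker_equiv (Θ E (LinearMap.ker ε))
        ((T E 0).map (SC ε).f).hom
        (LinearMap.lcomp A E (LinearMap.lcomp A A (LinearMap.ker ε).subtype))
        (fun x => by
          have h1 : LinearMap.lcomp A E (LinearMap.lcomp A A (LinearMap.ker ε).subtype)
              (Θ E (LinearMap.ker ε) x) =
              Θ E (Fin r → A) (((T E 0).map (SC ε).f).hom x) := by
            have := Θ_nat E (LinearMap.ker ε).subtype x
            rw [show ((T E 0).map (SC ε).f) =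
              (T E 0).map (ModuleCat.ofHom (LinearMap.ker ε).subtype) from rfl, this]
            rfl
          rw [h1]
          constructor
          · intro h; rw [h, map_zero]
          · intro h
            exact (Θ E (Fin r → A)).injective (h.trans (map_zero _).symm))
      obtain ⟨E3⟩ := nonempty_hom_equiv_ker (Q := E) (Groth.Agent.H2.LDK.cmap A ε hε)
        (Groth.Agent.H2.LDK.cmap_surjective A ε hε)
        (LinearMap.lcomp A A (LinearMap.ker ε).subtype)
        (Groth.Agent.H2.LDK.ker_cmap A ε hε)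
      exact ⟨(E1.trans E2).trans E3.symm⟩
    · obtain ⟨j', rfl⟩ : ∃ j', j = j' + 1 := ⟨j - 1, by omega⟩
      obtain ⟨E1⟩ := les_equiv hles (SC ε) hS (j' + 1) (hv (j' + 1) _ inferInstance)
        (hv j' _ inferInstance)
      obtain ⟨E2⟩ := ih (LinearMap.ker ε)
      have E3 : Ext.{u} (ModuleCat.of A (LinearMap.ker ε)) (ModuleCat.of A A) (j' + 1) ≃ₗ[A]
          Ext.{u} (ModuleCat.of A M) (ModuleCat.of A A) (j' + 1 + 1) :=
        LinearEquiv.ofBijective (Groth.Agent.H2.LDK.del A ε hε (j' + 1))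
          ⟨Groth.Agent.H2.LDK.del_injective A ε hε j',
            Groth.Agent.H2.LDK.del_surjective A ε hε (j' + 1)⟩
      exact ⟨(E1.trans E2).trans (LinearEquiv.congrLeft E A E3)⟩

end Groth.Agent.H2.TorExtDual
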