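import Mathlib
import Groth.Prelude.Def_Omega3
import Groth.Prelude.Def_CAlgX
import Groth.Agent.H70.UTTrans.Defs

/-! (K1) for helper70's S9772 squad: `R/K²` is the universal thickening of `R/K` over `R`. -/

set_option autoImplicit false
universe u
open Groth.Agent.H70.UTTrans

namespace Groth.Agent.H2.UTK

/-- (K1) -/
theorem univProp_quotient_sq {R B₀ : Type u} [CommRing R] [CommRing B₀] (ρ : R →+* B₀)
    (hρ : Function.Surjective ρ) :
    ∃ π : R ⧸ (RingHom.ker ρ) ^ 2 →+* B₀,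
      π.comp (Ideal.Quotient.mk ((RingHom.ker ρ) ^ 2)) = ρ ∧
      UnivProp (Ideal.Quotient.mk ((RingHom.ker ρ) ^ 2)) π := by
  have hK2 : ∀ x ∈ (RingHom.ker ρ) ^ 2, ρ x = 0 := fun x hx =>
    (RingHom.mem_ker).mp (Ideal.pow_le_self two_ne_zero hx)
  let π : R ⧸ (RingHom.ker ρ) ^ 2 →+* B₀ := Ideal.Quotient.lift _ ρ hK2
  have hπ : ∀ r, π (Ideal.Quotient.mk _ r) = ρ r := fun r => Ideal.Quotient.lift_mk _ _ _
  refine ⟨π, RingHom.ext hπ, ?_, ?_, ?_⟩
  · intro b
    obtain ⟨r, rfl⟩ := hρ b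
    exact ⟨Ideal.Quotient.mk _ r, hπ r⟩
  · have hle : RingHom.ker π ≤
        Ideal.map (Ideal.Quotient.mk ((RingHom.ker ρ) ^ 2)) (RingHom.ker ρ) := by
      intro x hx
      obtain ⟨r, rfl⟩ := Ideal.Quotient.mk_surjective x
      rw [RingHom.mem_ker, hπ] at hx
      exact Ideal.mem_map_of_mem _ ((RingHom.mem_ker).mpr hx)
    have := Ideal.pow_right_mono hle 2
    rw [← Ideal.map_pow, Ideal.map_quotient_self] at this
    exact le_bot_iff.mp this
  · intro D _ δ L hL a ha
    have haa : ∀ r, a (ρ r) = Ideal.Quotient.mk L (δ r) := by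
      intro r
      have := congrArg (fun g => g r) ha
      simp only [RingHom.comp_apply, hπ] at this
      exact this
    have hKL : Ideal.map δ (RingHom.ker ρ) ≤ L := by
      rw [Ideal.map_le_iff_le_comap]
      intro x hx
      rw [Ideal.mem_comap, ← Ideal.Quotient.eq_zero_iff_mem, ← haa, (RingHom.mem_ker).mp hx,
        map_zero]
    have hkill : ∀ x ∈ (RingHom.ker ρ) ^ 2, δ x = 0 := by
      intro x hx
      have h1 : δ x ∈ Ideal.map δ ((RingHom.ker ρ) ^ 2) := Ideal.mem_map_of_mem _ hx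
      rw [Ideal.map_pow] at h1
      have h2 := Ideal.pow_right_mono hKL 2 h1
      rw [hL] at h2
      exact (Ideal.mem_bot).mp h2
    refine ⟨Ideal.Quotient.lift _ δ hkill, ⟨?_, ?_⟩, ?_⟩
    · ext r
      simp only [RingHom.comp_apply]
      exact Ideal.Quotient.lift_mk _ _ _
    · apply Ideal.Quotient.ringHom_ext
      ext r
      simp only [RingHom.comp_apply]
      rw [Ideal.Quotient.lift_mk, hπ, haa]
    · rintro g ⟨hg1, -⟩
      apply Ideal.Quotient.ringHom_ext
      rw [hg1]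
      ext r
      simp only [RingHom.comp_apply]
      exact (Ideal.Quotient.lift_mk _ _ _).symm

end Groth.Agent.H2.UTK
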