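import Mathlib
import Groth.Prelude.Def_Omega3
import Groth.Prelude.Def_CAlgX
import Groth.Agent.H70.UTTrans.Defs
import Groth.Agent.H41.UTS_RS

/-! (KP) for helper70's S9772 squad: the conormal module of the universal thickening is a retract
of a finite free module. -/

set_option autoImplicit false
universe u
open Groth.Agent.H70.UTTrans

namespace Groth.Agent.H2.UTK

/-- For an `H₁`-regular sequence `g` generating `I`: if `∑ bₖ gₖ ∈ I²` then all `bₖ ∈ I`
(copy of `coeff_mem_of_sum_mem_sq`, to keep the imports light). -/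
lemma coeff_mem_of_sum_mem_sq {R : Type u} [CommRing R] {c : ℕ} (g : Fin c → R)
    (hg : CAlgX.IsH1Regular g) (b : Fin c → R)
    (h : ∑ k, b k * g k ∈ Ideal.span (Set.range g) ^ 2) (k : Fin c) :
    b k ∈ Ideal.span (Set.range g) := by
  set I := Ideal.span (Set.range g) with hI
  have h' : ∑ k, b k * g k ∈ I • Submodule.span R (Set.range g) := by
    rw [pow_two] at h
    exact h
  obtain ⟨a, ha, hab⟩ := (Submodule.mem_ideal_smul_span_iff_exists_sum I g _).mp h'
  have hfs := Finsupp.sum_fintype a (fun i c => c • g i) (fun i => zero_smul _ _)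
  rw [hfs] at hab
  have hrel : ∑ i, (b i - a i) * g i = 0 := by
    have : ∑ i, (b i - a i) * g i = ∑ i, b i * g i - ∑ i, a i • g i := by
      rw [← Finset.sum_sub_distrib]
      refine Finset.sum_congr rfl fun i _ => ?_
      rw [smul_eq_mul]; ring
    rw [this, hab, sub_self]
  have hmem := hg (fun i => b i - a i) hrel
  have hle : Submodule.span R {v : Fin c → R | ∃ i j : Fin c,
      v = Pi.single i (g j) - Pi.single j (g i)} ≤
      Submodule.pi Set.univ (fun _ : Fin c => I) := by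
    rw [Submodule.span_le]
    rintro v ⟨i, j, rfl⟩ m -
    have hs : ∀ (i' j' : Fin c), Pi.single (M := fun _ => R) i' (g j') m ∈ I := by
      intro i' j'
      by_cases hm : m = i'
      · subst hm
        rw [Pi.single_eq_same]
        exact Ideal.subset_span ⟨j', rfl⟩
      · rw [Pi.single_eq_of_ne hm]
        exact I.zero_mem
    rw [Pi.sub_apply]
    exact I.sub_mem (hs i j) (hs j i)
  have hk : b k - a k ∈ I := hle hmem k (Set.mem_univ k)
  have : b k = (b k - a k) + a k := by ring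
  rw [this]
  exact I.add_mem hk (ha k)

set_option maxHeartbeats 1000000 in
/-- (KP) -/
theorem finite_projective_of_retraction {B' B₀ R : Type u} [CommRing B'] [CommRing B₀]
    [CommRing R] (π'' : B' →+* B₀) (hπ : Function.Surjective π'')
    (ρ : R →+* B₀) (hρ : Function.Surjective ρ) (rs : List R) (hrs : CAlgX.IsH1Regular rs.get)
    (hker : RingHom.ker ρ = Ideal.ofList rs)
    (κ : B' →+* R ⧸ (RingHom.ker ρ) ^ 2) (σ : R ⧸ (RingHom.ker ρ) ^ 2 →+* B')
    (hσκ : ∀ x, σ (κ x) = x)
    (hκ : ∀ x, ∃ r : R, κ x = Ideal.Quotient.mk ((RingHom.ker ρ) ^ 2) r ∧ ρ r = π'' x)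
    (hσ : ∀ r : R, π'' (σ (Ideal.Quotient.mk ((RingHom.ker ρ) ^ 2) r)) = ρ r)
    (M : Type u) [AddCommGroup M] [Module B₀ M]
    (Θ : M ≃+ (RingHom.ker π'').Cotangent)
    (hΘ : ∀ (b : B') (m : M), Θ (π'' b • m) = b • Θ m) :
    Module.Finite B₀ M ∧ Module.Projective B₀ M := by
  classical
  have hkerI : RingHom.ker ρ = Ideal.span (Set.range rs.get) := by
    rw [hker, Set.range_list_get]
  have hgK : ∀ k, rs.get k ∈ RingHom.ker ρ := by
    intro k; rw [hkerI]; exact Ideal.subset_span ⟨k, rfl⟩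
  -- `σ (mk y) ∈ J` for `y ∈ K`
  have hσJ : ∀ y : R, y ∈ RingHom.ker ρ →
      σ (Ideal.Quotient.mk ((RingHom.ker ρ) ^ 2) y) ∈ RingHom.ker π'' := by
    intro y hy
    rw [RingHom.mem_ker, hσ]
    exact hy
  -- the generators of `M`
  let q : Fin rs.length → M := fun k =>
    Θ.symm (Ideal.toCotangent _ ⟨σ (Ideal.Quotient.mk _ (rs.get k)), hσJ _ (hgK k)⟩)
  have hΘq : ∀ k, Θ (q k) =
      Ideal.toCotangent _ ⟨σ (Ideal.Quotient.mk _ (rs.get k)), hσJ _ (hgK k)⟩ :=
    fun k => Θ.apply_symm_apply _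
  let r : (Fin rs.length → B₀) →ₗ[B₀] M := Fintype.linearCombination B₀ q
  have hr : ∀ c, r c = ∑ k, c k • q k := fun c => Fintype.linearCombination_apply B₀ q c
  -- the relation
  let Good : M → (Fin rs.length → B₀) → Prop := fun m c =>
    ∃ (x : RingHom.ker π'') (b : Fin rs.length → R), Θ m = Ideal.toCotangent _ x ∧
      κ x = Ideal.Quotient.mk _ (∑ k, b k * rs.get k) ∧ c = fun k => ρ (b k)
  have hex : ∀ m, ∃ c, Good m c := by
    intro m
    obtain ⟨x, hx⟩ := Ideal.toCotangent_surjective _ (Θ m)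
    obtain ⟨y, hy1, hy2⟩ := hκ x
    have hyK : y ∈ Ideal.span (Set.range rs.get) := by
      rw [← hkerI, RingHom.mem_ker, hy2]
      exact x.2
    obtain ⟨b, hb⟩ := (Ideal.mem_span_range_iff_exists_fun).mp hyK
    exact ⟨_, x, b, hx.symm, by rw [hy1, hb], rfl⟩
  -- `κ` kills `J²`
  have hκJ2 : ∀ z ∈ (RingHom.ker π'') ^ 2, κ z = 0 := by
    intro z hz
    have h1 : Ideal.map κ (RingHom.ker π'') ≤
        Ideal.map (Ideal.Quotient.mk ((RingHom.ker ρ) ^ 2)) (RingHom.ker ρ) := by
      rw [Ideal.map_le_iff_le_comap]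
      intro x hx
      obtain ⟨y, hy1, hy2⟩ := hκ x
      rw [Ideal.mem_comap, hy1]
      apply Ideal.mem_map_of_mem
      rw [RingHom.mem_ker, hy2]
      exact hx
    have h2 : κ z ∈ Ideal.map κ ((RingHom.ker π'') ^ 2) := Ideal.mem_map_of_mem _ hz
    rw [Ideal.map_pow] at h2
    have h3 := Ideal.pow_right_mono h1 2 h2
    rw [← Ideal.map_pow, Ideal.map_quotient_self] at h3
    exact (Ideal.mem_bot).mp h3
  have huniq : ∀ m c c', Good m c → Good m c' → c = c' := by
    rintro m c c' ⟨x, b, hx, hxb, rfl⟩ ⟨x', b', hx', hxb', rfl⟩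
    have h1 : ((x : B') - (x' : B')) ∈ (RingHom.ker π'') ^ 2 := by
      rw [← Ideal.toCotangent_eq, ← hx, ← hx']
    have h2 := hκJ2 _ h1
    rw [map_sub, hxb, hxb', ← map_sub, Ideal.Quotient.eq_zero_iff_mem] at h2
    have h3 : ∑ k, (b k - b' k) * rs.get k ∈ Ideal.span (Set.range rs.get) ^ 2 := by
      rw [← hkerI]
      convert h2 using 1
      rw [← Finset.sum_sub_distrib]
      exact Finset.sum_congr rfl fun k _ => sub_mul _ _ _
    funext k
    have h4 := coeff_mem_of_sum_mem_sq rs.get hrs (fun k => b k - b' k)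
      h3 k
    rw [← hkerI, RingHom.mem_ker, map_sub, sub_eq_zero] at h4
    exact h4
  have hadd : ∀ m m' c c', Good m c → Good m' c' → Good (m + m') (c + c') := by
    rintro m m' c c' ⟨x, b, hx, hxb, rfl⟩ ⟨x', b', hx', hxb', rfl⟩
    refine ⟨x + x', fun k => b k + b' k, ?_, ?_, ?_⟩
    · rw [map_add, map_add, hx, hx']
    · rw [Submodule.coe_add, map_add, hxb, hxb', ← map_add, ← Finset.sum_add_distrib]
      congr 1
      exact Finset.sum_congr rfl fun k _ => (add_mul _ _ _).symm
    · funext k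
      simp only [Pi.add_apply, map_add]
  have hsmul : ∀ (β : B₀) m c, Good m c → Good (β • m) (β • c) := by
    rintro β m c ⟨x, b, hx, hxb, rfl⟩
    obtain ⟨t, rfl⟩ := hπ β
    obtain ⟨u, hu1, hu2⟩ := hκ t
    refine ⟨t • x, fun k => u * b k, ?_, ?_, ?_⟩
    · rw [hΘ, hx, map_smul]
    · rw [Submodule.coe_smul, smul_eq_mul, map_mul, hxb, hu1, ← map_mul, Finset.mul_sum]
      congr 1
      exact Finset.sum_congr rfl fun k _ => (mul_assoc _ _ _).symm
    · funext k
      simp only [Pi.smul_apply, smul_eq_mul, map_mul, hu2]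
  -- the section
  choose s0 hs0 using hex
  let s : M →ₗ[B₀] (Fin rs.length → B₀) :=
    { toFun := s0
      map_add' := fun m m' => huniq _ _ _ (hs0 (m + m')) (hadd _ _ _ _ (hs0 m) (hs0 m'))
      map_smul' := fun β m => huniq _ _ _ (hs0 (β • m)) (hsmul β _ _ (hs0 m)) }
  have hrs' : ∀ m c, Good m c → r c = m := by
    rintro m c ⟨x, b, hx, hxb, rfl⟩
    apply Θ.injective
    rw [hr, map_sum, hx]
    have h1 : ∀ k, Θ (ρ (b k) • q k) = Ideal.toCotangent _
        (⟨σ (Ideal.Quotient.mk _ (b k * rs.get k)),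
          hσJ _ (Ideal.mul_mem_left _ _ (hgK k))⟩ : RingHom.ker π'') := by
      intro k
      rw [← hσ (b k), hΘ, hΘq, ← map_smul]
      congr 1
      apply Subtype.ext
      rw [Submodule.coe_smul, smul_eq_mul]
      simp only
      rw [← map_mul, ← map_mul]
    rw [Finset.sum_congr rfl (fun k _ => h1 k), ← map_sum]
    congr 1
    apply Subtype.ext
    rw [Submodule.coe_sum]
    simp only
    rw [← map_sum, ← map_sum, ← hxb, hσκ]
  have hsplit : r.comp s = LinearMap.id := by
    ext m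
    exact hrs' m (s0 m) (hs0 m)
  have hsurj : Function.Surjective r := fun m => ⟨s0 m, hrs' m (s0 m) (hs0 m)⟩
  exact ⟨Module.Finite.of_surjective r hsurj, Module.Projective.of_split s r hsplit⟩

end Groth.Agent.H2.UTK
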