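import Mathlib
import Groth.Prelude.Def_Omega3
import Groth.Agent.H70.UTTrans.Defs

/-! (R2) for helper70's S9784 squad: uniqueness of the universal first order thickening
(unbundled form), plus the reformulated lifting property. -/

set_option autoImplicit false
universe u
open AlgebraicGeometry CategoryTheory Limits
open Groth.Agent.H70.UTTrans

namespace Groth.Agent.H2.UTT

/-- the lifting property of `UnivProp` against an arbitrary square-zero surjection `π₂ : Q → C`. -/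
theorem existsUnique_lift {B P Q C : Type u} [CommRing B] [CommRing P] [CommRing Q] [CommRing C]
    {ε₁ : B →+* P} {π₁ : P →+* C} (h₁ : UnivProp ε₁ π₁) (ε₂ : B →+* Q) (π₂ : Q →+* C)
    (hs : Function.Surjective π₂) (hsq : RingHom.ker π₂ ^ 2 = ⊥)
    (hc : π₁.comp ε₁ = π₂.comp ε₂) :
    ∃! f : P →+* Q, f.comp ε₁ = ε₂ ∧ π₂.comp f = π₁ := by
  let e := RingHom.quotientKerEquivOfSurjective hs
  have he : ∀ q, e (Ideal.Quotient.mk _ q) = π₂ q :=
    fun q => RingHom.quotientKerEquivOfSurjective_apply_mk hs q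
  have key : ∀ f : P →+* Q, (Ideal.Quotient.mk (RingHom.ker π₂)).comp f =
      (e.symm : C →+* Q ⧸ RingHom.ker π₂).comp π₁ ↔ π₂.comp f = π₁ := by
    intro f
    constructor
    · intro h
      ext p
      have := congrArg (fun g => e (g p)) h
      simp only [RingHom.comp_apply, he, RingHom.coe_coe, RingEquiv.apply_symm_apply] at this
      exact this
    · intro h
      ext p
      apply e.injective
      simp only [RingHom.comp_apply, he, RingHom.coe_coe, RingEquiv.apply_symm_apply]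
      rw [← h]; rfl
  have hcond : ((e.symm : C →+* Q ⧸ RingHom.ker π₂)).comp (π₁.comp ε₁) =
      (Ideal.Quotient.mk (RingHom.ker π₂)).comp ε₂ := by
    ext b
    apply e.injective
    simp only [RingHom.comp_apply, he, RingHom.coe_coe, RingEquiv.apply_symm_apply]
    exact congrArg (fun g => g b) hc
  obtain ⟨f, ⟨hf1, hf2⟩, hfu⟩ := h₁.2.2 Q ε₂ (RingHom.ker π₂) hsq _ hcond
  refine ⟨f, ⟨hf1, (key f).mp hf2⟩, ?_⟩
  rintro g ⟨hg1, hg2⟩
  exact hfu g ⟨hg1, (key g).mpr hg2⟩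

/-- (R2) -/
theorem univProp_unique {B P Q C : Type u} [CommRing B] [CommRing P] [CommRing Q] [CommRing C]
    {ε₁ : B →+* P} {π₁ : P →+* C} {ε₂ : B →+* Q} {π₂ : Q →+* C}
    (h₁ : UnivProp ε₁ π₁) (h₂ : UnivProp ε₂ π₂) (hc : π₁.comp ε₁ = π₂.comp ε₂) :
    ∃ u : P ≃+* Q, (u : P →+* Q).comp ε₁ = ε₂ ∧ π₂.comp (u : P →+* Q) = π₁ := by
  obtain ⟨f, ⟨hf1, hf2⟩, -⟩ := existsUnique_lift h₁ ε₂ π₂ h₂.1 h₂.2.1 hc
  obtain ⟨g, ⟨hg1, hg2⟩, -⟩ := existsUnique_lift h₂ ε₁ π₁ h₁.1 h₁.2.1 hc.symm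
  have hgf : g.comp f = RingHom.id P := by
    obtain ⟨k, -, hku⟩ := existsUnique_lift h₁ ε₁ π₁ h₁.1 h₁.2.1 rfl
    rw [hku (g.comp f) ⟨by rw [RingHom.comp_assoc, hf1, hg1], by rw [← RingHom.comp_assoc, hg2, hf2]⟩,
      hku (RingHom.id P) ⟨RingHom.id_comp _, RingHom.comp_id _⟩]
  have hfg : f.comp g = RingHom.id Q := by
    obtain ⟨k, -, hku⟩ := existsUnique_lift h₂ ε₂ π₂ h₂.1 h₂.2.1 rfl
    rw [hku (f.comp g) ⟨by rw [RingHom.comp_assoc, hg1, hf1], by rw [← RingHom.comp_assoc, hf2, hg2]⟩,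
      hku (RingHom.id Q) ⟨RingHom.id_comp _, RingHom.comp_id _⟩]
  refine ⟨RingEquiv.ofRingHom f g hfg hgf, ?_, ?_⟩
  · ext b; exact congrArg (fun k => k b) hf1
  · ext p; exact congrArg (fun k => k p) hf2

end Groth.Agent.H2.UTT
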