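import Mathlib
import Groth.Prelude.Def_Omega3
import Groth.Prelude.Def_CAlgX
import Groth.Agent.H70.UTTrans.Defs
import Groth.Agent.H41.UTS_RS
import Groth.Agent.H2.UTT_R2
import Groth.Agent.H2.UTK_K1

/-! (KQ) for helper70's S9772 squad. -/

set_option autoImplicit false
universe u
open Groth.Agent.H70.UTTrans

namespace Groth.Agent.H2.UTK

/-- (KQ) -/
theorem exists_kappa_sigma {A B' B₀ R : Type u} [CommRing A] [CommRing B'] [CommRing B₀]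
    [CommRing R] {α : A →+* B'} {π'' : B' →+* B₀} (hU : UnivProp α π'') (φ : A →+* R)
    (hlift : ∀ (D : Type u) [CommRing D] (L : Ideal D), L ^ 2 = ⊥ →
      ∀ (β : R →+* D ⧸ L) (a : A →+* D), (Ideal.Quotient.mk L).comp a = β.comp φ →
        ∃ l : R →+* D, (Ideal.Quotient.mk L).comp l = β ∧ l.comp φ = a)
    (ρ : R →+* B₀) (hρ : Function.Surjective ρ) (hcomm : ρ.comp φ = π''.comp α) :
    ∃ (κ : B' →+* R ⧸ (RingHom.ker ρ) ^ 2) (σ : R ⧸ (RingHom.ker ρ) ^ 2 →+* B'),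
      (∀ x, σ (κ x) = x) ∧
      (∀ x, ∃ r : R, κ x = Ideal.Quotient.mk ((RingHom.ker ρ) ^ 2) r ∧ ρ r = π'' x) ∧
      (∀ r : R, π'' (σ (Ideal.Quotient.mk ((RingHom.ker ρ) ^ 2) r)) = ρ r) := by
  obtain ⟨π, hπ, hUP⟩ := univProp_quotient_sq ρ hρ
  have hπa : ∀ r, π (Ideal.Quotient.mk _ r) = ρ r := fun r => congrArg (fun g => g r) hπ
  have hc : π''.comp α = π.comp ((Ideal.Quotient.mk ((RingHom.ker ρ) ^ 2)).comp φ) := by
    rw [← RingHom.comp_assoc, hπ, hcomm]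
  obtain ⟨κ, ⟨hκ1, hκ2⟩, -⟩ := Groth.Agent.H2.UTT.existsUnique_lift hU
    ((Ideal.Quotient.mk ((RingHom.ker ρ) ^ 2)).comp φ) π hUP.1 hUP.2.1 hc
  obtain ⟨σ, hσ1, hσ2⟩ := Groth.Agent.H41.UTS_RS.exists_retraction (φ := φ) hUP hU κ hκ1 hκ2 hlift
  refine ⟨κ, σ, fun x => congrArg (fun g => g x) hσ1, ?_, ?_⟩
  · intro x
    obtain ⟨r, hr⟩ := Ideal.Quotient.mk_surjective (κ x)
    refine ⟨r, hr.symm, ?_⟩
    rw [← hπa, hr]
    exact congrArg (fun g => g x) hκ2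
  · intro r
    rw [← hπa]
    exact congrArg (fun g => g (Ideal.Quotient.mk ((RingHom.ker ρ) ^ 2) r)) hσ2

end Groth.Agent.H2.UTK
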