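import Mathlib
import Groth.Prelude.Def_Omega3
import Groth.Agent.H70.UTTrans.Defs

/-! (R1) for helper70's S9784 squad: the quotient of the universal thickening of `C/A` by the
extended kernel of the universal thickening of `B/A` is the universal thickening of `C/B`. -/

set_option autoImplicit false
universe u
open AlgebraicGeometry CategoryTheory Limits
open Groth.Agent.H70.UTTrans

namespace Groth.Agent.H2.UTT

/-- (R1) -/
theorem univProp_quotient {A B' B C' C : Type u} [CommRing A] [CommRing B'] [CommRing B]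
    [CommRing C'] [CommRing C]
    {α : A →+* B'} {πB : B' →+* B} {γ : A →+* C'} {πC : C' →+* C}
    (hB : UnivProp α πB) (hC : UnivProp γ πC)
    (μ : B' →+* C') (β : B →+* C) (hμ : μ.comp α = γ) (hβ : πC.comp μ = β.comp πB) :
    ∃ (ε₀ : B →+* C' ⧸ Ideal.map μ (RingHom.ker πB))
      (π₀ : C' ⧸ Ideal.map μ (RingHom.ker πB) →+* C),
      ε₀.comp πB = (Ideal.Quotient.mk (Ideal.map μ (RingHom.ker πB))).comp μ ∧
      π₀.comp (Ideal.Quotient.mk (Ideal.map μ (RingHom.ker πB))) = πC ∧ UnivProp ε₀ π₀ := by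
  classical
  have hμa : ∀ x, μ (α x) = γ x := fun x => congrArg (fun g => g x) hμ
  have hβa : ∀ x, πC (μ x) = β (πB x) := fun x => congrArg (fun g => g x) hβ
  have hker1 : RingHom.ker πB ≤
      RingHom.ker ((Ideal.Quotient.mk (Ideal.map μ (RingHom.ker πB))).comp μ) := by
    intro x hx
    rw [RingHom.mem_ker, RingHom.comp_apply, Ideal.Quotient.eq_zero_iff_mem]
    exact Ideal.mem_map_of_mem μ hx
  have hker2 : ∀ x ∈ Ideal.map μ (RingHom.ker πB), πC x = 0 := by
    intro x hx
    have : Ideal.map μ (RingHom.ker πB) ≤ RingHom.ker πC := by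
      rw [Ideal.map_le_iff_le_comap]
      intro y hy
      rw [Ideal.mem_comap, RingHom.mem_ker, hβa, (RingHom.mem_ker).mp hy, map_zero]
    exact this hx
  let ε₀ : B →+* C' ⧸ Ideal.map μ (RingHom.ker πB) :=
    πB.liftOfSurjective hB.1 ⟨(Ideal.Quotient.mk (Ideal.map μ (RingHom.ker πB))).comp μ, hker1⟩
  let π₀ : C' ⧸ Ideal.map μ (RingHom.ker πB) →+* C :=
    Ideal.Quotient.lift (Ideal.map μ (RingHom.ker πB)) πC hker2
  have hε₀ : ∀ x, ε₀ (πB x) = Ideal.Quotient.mk (Ideal.map μ (RingHom.ker πB)) (μ x) := fun x =>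
    πB.liftOfSurjective_comp_apply hB.1 _ x
  have hπ₀ : ∀ c, π₀ (Ideal.Quotient.mk (Ideal.map μ (RingHom.ker πB)) c) = πC c := fun c =>
    Ideal.Quotient.lift_mk _ _ _
  have hπε : ∀ b, π₀ (ε₀ b) = β b := by
    intro b
    obtain ⟨b', rfl⟩ := hB.1 b
    rw [hε₀, hπ₀, hβa]
  refine ⟨ε₀, π₀, RingHom.ext hε₀, RingHom.ext hπ₀, ?_, ?_, ?_⟩
  · intro c
    obtain ⟨c', rfl⟩ := hC.1 c
    exact ⟨Ideal.Quotient.mk _ c', hπ₀ c'⟩
  · have hle : RingHom.ker π₀ ≤
        Ideal.map (Ideal.Quotient.mk (Ideal.map μ (RingHom.ker πB))) (RingHom.ker πC) := by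
      intro x hx
      obtain ⟨c, rfl⟩ := Ideal.Quotient.mk_surjective x
      rw [RingHom.mem_ker, hπ₀] at hx
      exact Ideal.mem_map_of_mem _ ((RingHom.mem_ker).mpr hx)
    have := Ideal.pow_right_mono hle 2
    rw [← Ideal.map_pow, hC.2.1, Ideal.map_bot] at this
    exact le_bot_iff.mp this
  · intro D _ δ L hL a ha
    have haa : ∀ b, a (β b) = Ideal.Quotient.mk L (δ b) := by
      intro b
      have := congrArg (fun g => g b) ha
      simp only [RingHom.comp_apply, hπε] at this
      exact this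
    have ha' : a.comp (πC.comp γ) = (Ideal.Quotient.mk L).comp ((δ.comp πB).comp α) := by
      ext x
      simp only [RingHom.comp_apply]
      rw [← hμa, hβa, haa]
    obtain ⟨a', ⟨ha'1, ha'2⟩, ha'u⟩ := hC.2.2 D ((δ.comp πB).comp α) L hL a ha'
    have ha'1a : ∀ x, a' (γ x) = δ (πB (α x)) := fun x => congrArg (fun g => g x) ha'1
    have ha'2a : ∀ c, Ideal.Quotient.mk L (a' c) = a (πC c) := fun c =>
      congrArg (fun g => g c) ha'2
    -- `a' ∘ μ = δ ∘ πB` by the uniqueness in `hB`
    have hB' : (a.comp β).comp (πB.comp α) = (Ideal.Quotient.mk L).comp ((δ.comp πB).comp α) := by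
      ext x
      simp only [RingHom.comp_apply]
      rw [haa]
    obtain ⟨k, -, hku⟩ := hB.2.2 D ((δ.comp πB).comp α) L hL (a.comp β) hB'
    have hkey : a'.comp μ = δ.comp πB := by
      rw [hku (a'.comp μ) ⟨by rw [RingHom.comp_assoc, hμ, ha'1], by
          ext x
          simp only [RingHom.comp_apply]
          rw [ha'2a, hβa]⟩,
        hku (δ.comp πB) ⟨rfl, by
          ext x
          simp only [RingHom.comp_apply]
          rw [haa]⟩]
    have hkeya : ∀ x, a' (μ x) = δ (πB x) := fun x => congrArg (fun g => g x) hkey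
    have hkill : ∀ x ∈ Ideal.map μ (RingHom.ker πB), a' x = 0 := by
      intro x hx
      have : Ideal.map μ (RingHom.ker πB) ≤ RingHom.ker a' := by
        rw [Ideal.map_le_iff_le_comap]
        intro y hy
        rw [Ideal.mem_comap, RingHom.mem_ker, hkeya, (RingHom.mem_ker).mp hy, map_zero]
      exact this hx
    refine ⟨Ideal.Quotient.lift _ a' hkill, ⟨?_, ?_⟩, ?_⟩
    · ext b
      obtain ⟨b', rfl⟩ := hB.1 b
      simp only [RingHom.comp_apply]
      rw [hε₀, Ideal.Quotient.lift_mk, hkeya]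
    · apply Ideal.Quotient.ringHom_ext
      ext c
      simp only [RingHom.comp_apply]
      rw [Ideal.Quotient.lift_mk, hπ₀, ha'2a]
    · rintro g ⟨hg1, hg2⟩
      have hg1a : ∀ b, g (ε₀ b) = δ b := fun b => congrArg (fun k => k b) hg1
      have hg2a : ∀ x, Ideal.Quotient.mk L (g x) = a (π₀ x) := fun x =>
        congrArg (fun k => k x) hg2
      have : g.comp (Ideal.Quotient.mk (Ideal.map μ (RingHom.ker πB))) = a' := by
        apply ha'u
        constructor
        · ext x
          simp only [RingHom.comp_apply]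
          rw [← hμa, ← hε₀, hg1a]
        · ext c
          simp only [RingHom.comp_apply]
          rw [hg2a, hπ₀]
      apply Ideal.Quotient.ringHom_ext
      rw [this]
      ext c
      simp only [RingHom.comp_apply]
      rw [Ideal.Quotient.lift_mk]

end Groth.Agent.H2.UTT
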