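import Groth.Prelude.Def_Pi1
import Mathlib.LinearAlgebra.TensorProduct.Finiteness
import Mathlib.LinearAlgebra.TensorProduct.RightExactness
import Mathlib.RingTheory.TensorProduct.Basic

set_option autoImplicit false
universe u
open scoped TensorProduct

namespace Groth.Agent.H2

variable {R S : Type u} [CommRing R] [CommRing S] [Algebra R S]

/-- For a universally injective `R → S`, the map `P → S ⊗ P` is injective. -/
theorem injective_one_tmul (h : Pi1.UnivInjective R S) (P : Type u) [AddCommGroup P] [Module R P] :
    Function.Injective (fun p : P => (1 : S) ⊗ₜ[R] p) := by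
  have h1 := h P
  intro p q hpq
  have h2 : (LinearMap.lTensor P (Algebra.linearMap R S)) (p ⊗ₜ 1) =
      (LinearMap.lTensor P (Algebra.linearMap R S)) (q ⊗ₜ 1) := by
    simp only [LinearMap.lTensor_tmul, Algebra.linearMap_apply, map_one]
    have := congrArg (TensorProduct.comm R S P) hpq
    simpa using this
  have h3 := h1 h2
  have h4 := congrArg (TensorProduct.rid R P) h3
  simpa using h4

/-- If `S ⊗ M' → S ⊗ M` is surjective for a submodule `M'`, and `R → S` is universally injective,
then `M' = ⊤`. -/
theorem eq_top_of_lTensor_surjective (h : Pi1.UnivInjective R S) {M : Type u} [AddCommGroup M]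
    [Module R M] (M' : Submodule R M)
    (hsurj : Function.Surjective (LinearMap.lTensor S M'.subtype)) : M' = ⊤ := by
  have hQ : Subsingleton (S ⊗[R] (M ⧸ M')) := by
    refine subsingleton_of_forall_eq 0 (fun z => ?_)
    obtain ⟨x, rfl⟩ := LinearMap.lTensor_surjective S (M'.mkQ_surjective) z
    obtain ⟨w, rfl⟩ := hsurj x
    rw [← LinearMap.comp_apply, ← LinearMap.lTensor_comp]
    have : M'.mkQ ∘ₗ M'.subtype = 0 := by ext; simp
    rw [this, LinearMap.lTensor_zero, LinearMap.zero_apply]
  have hQ' : Subsingleton (M ⧸ M') := (injective_one_tmul h (M ⧸ M')).subsingleton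
  exact Submodule.Quotient.subsingleton_iff.mp hQ'

/-- If `S ⊗ N → S ⊗ M` is surjective and `R → S` is universally injective, then `N → M` is
surjective. -/
theorem surjective_of_lTensor_surjective (h : Pi1.UnivInjective R S) {M N : Type u}
    [AddCommGroup M] [Module R M] [AddCommGroup N] [Module R N] (g : N →ₗ[R] M)
    (hsurj : Function.Surjective (LinearMap.lTensor S g)) : Function.Surjective g := by
  have h1 : Function.Surjective (LinearMap.lTensor S (LinearMap.range g).subtype) := by
    intro x
    obtain ⟨y, rfl⟩ := hsurj x
    refine ⟨LinearMap.lTensor S g.rangeRestrict y, ?_⟩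
    rw [← LinearMap.comp_apply, ← LinearMap.lTensor_comp]
    rfl
  have h2 := eq_top_of_lTensor_surjective h _ h1
  exact LinearMap.range_eq_top.mp h2

end Groth.Agent.H2
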