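import Groth.Agent.H98.GrCanon
import Groth.Agent.H60.Soc

/-!
# Helper library (helper2): the socle of an Artinian quotient of a Veronese subring

`TypeOneUp J m`: the quotient `A/J` has a simple socle with respect to `m` (stated in `A`).
`typeOneUp_ver`: if `R/J` (`J` homogeneous, `R` positively graded over a field) has a simple socle,
living in a degree divisible by `q`, then so has `R^(q)/(J ∩ R^(q))`.
-/

set_option autoImplicit false
universe u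

namespace Groth.Agent.H2.VerSoc

open Groth.Agent.H98.GrHt Groth.Agent.H98.GrCanon Groth.Agent.H60

/-- "upstairs" form of: `A/J` has a simple socle with respect to the ideal `m` -/
def TypeOneUp {A : Type u} [CommRing A] (J m : Ideal A) : Prop :=
  ∃ s, s ∉ J ∧ (∀ a ∈ m, a * s ∈ J) ∧ ∀ x, (∀ a ∈ m, a * x ∈ J) → ∃ c, x - c * s ∈ J

section LocalQuot

variable {A : Type u} [CommRing A] (J m : Ideal A)

theorem isMaximal_map_mk [hm : m.IsMaximal] (hJm : J ≤ m) :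
    (m.map (Ideal.Quotient.mk J)).IsMaximal :=
  Ideal.IsMaximal.map_of_surjective_of_ker_le Ideal.Quotient.mk_surjective
    (by rw [Ideal.mk_ker]; exact hJm)

/-- a quotient by an ideal between a power of a maximal ideal and that maximal ideal is local -/
theorem isLocalRing_quot [hm : m.IsMaximal] (hJm : J ≤ m) (N : ℕ) (hN : m ^ N ≤ J) :
    IsLocalRing (A ⧸ J) := by
  have hmax := isMaximal_map_mk J m hJm
  refine IsLocalRing.of_unique_max_ideal ⟨m.map (Ideal.Quotient.mk J), hmax, ?_⟩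
  intro M' hM'
  haveI := hM'.isPrime
  have hprime : (M'.comap (Ideal.Quotient.mk J)).IsPrime := Ideal.comap_isPrime _ _
  have hJM : J ≤ M'.comap (Ideal.Quotient.mk J) := by
    intro x hx
    rw [Ideal.mem_comap, Ideal.Quotient.eq_zero_iff_mem.2 hx]
    exact zero_mem _
  have hmle : m ≤ M'.comap (Ideal.Quotient.mk J) := Ideal.IsPrime.le_of_pow_le (hN.trans hJM)
  have heq : m = M'.comap (Ideal.Quotient.mk J) := hm.eq_of_le hprime.ne_top hmle
  rw [heq, Ideal.map_comap_of_surjective _ Ideal.Quotient.mk_surjective]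

theorem mem_maximalIdeal_quot [hm : m.IsMaximal] (hJm : J ≤ m) [IsLocalRing (A ⧸ J)] (x : A) :
    Ideal.Quotient.mk J x ∈ IsLocalRing.maximalIdeal (A ⧸ J) ↔ x ∈ m := by
  have hmax := isMaximal_map_mk J m hJm
  rw [← IsLocalRing.eq_maximalIdeal hmax]
  constructor
  · intro h
    have h2 : x ∈ (m.map (Ideal.Quotient.mk J)).comap (Ideal.Quotient.mk J) := h
    rw [Ideal.comap_map_of_surjective _ Ideal.Quotient.mk_surjective, ← RingHom.ker_eq_comap_bot,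
      Ideal.mk_ker, sup_of_le_left hJm] at h2
    exact h2
  · exact Ideal.mem_map_of_mem _

theorem typeOneUp_of_typeOne [hm : m.IsMaximal] (hJm : J ≤ m) [IsLocalRing (A ⧸ J)]
    (h : Soc.TypeOne (A ⧸ J)) : TypeOneUp J m := by
  obtain ⟨sb, hs0, hsoc, hgen⟩ := h
  obtain ⟨s, rfl⟩ := Ideal.Quotient.mk_surjective sb
  refine ⟨s, fun hs => hs0 (Ideal.Quotient.eq_zero_iff_mem.2 hs), fun a ha => ?_, fun x hx => ?_⟩
  · have h1 := hsoc (Ideal.Quotient.mk J a) ((mem_maximalIdeal_quot J m hJm a).2 ha)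
    rw [← map_mul] at h1
    exact Ideal.Quotient.eq_zero_iff_mem.1 h1
  · have hx' : Soc.InSoc (Ideal.Quotient.mk J x) := by
      intro ab hab
      obtain ⟨a, rfl⟩ := Ideal.Quotient.mk_surjective ab
      rw [← map_mul]
      exact Ideal.Quotient.eq_zero_iff_mem.2 (hx a ((mem_maximalIdeal_quot J m hJm a).1 hab))
    obtain ⟨cb, hc⟩ := hgen _ hx'
    obtain ⟨c, rfl⟩ := Ideal.Quotient.mk_surjective cb
    refine ⟨c, ?_⟩
    rw [← Ideal.Quotient.eq, map_mul]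
    exact hc

theorem typeOne_of_typeOneUp [hm : m.IsMaximal] (hJm : J ≤ m) [IsLocalRing (A ⧸ J)]
    (h : TypeOneUp J m) : Soc.TypeOne (A ⧸ J) := by
  obtain ⟨s, hs0, hsoc, hgen⟩ := h
  refine ⟨Ideal.Quotient.mk J s, fun h0 => hs0 (Ideal.Quotient.eq_zero_iff_mem.1 h0), ?_, ?_⟩
  · intro ab hab
    obtain ⟨a, rfl⟩ := Ideal.Quotient.mk_surjective ab
    rw [← map_mul]
    exact Ideal.Quotient.eq_zero_iff_mem.2 (hsoc a ((mem_maximalIdeal_quot J m hJm a).1 hab))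
  · intro xb hxb
    obtain ⟨x, rfl⟩ := Ideal.Quotient.mk_surjective xb
    have hx : ∀ a ∈ m, a * x ∈ J := by
      intro a ha
      have h1 := hxb (Ideal.Quotient.mk J a) ((mem_maximalIdeal_quot J m hJm a).2 ha)
      rw [← map_mul] at h1
      exact Ideal.Quotient.eq_zero_iff_mem.1 h1
    obtain ⟨c, hc⟩ := hgen x hx
    refine ⟨Ideal.Quotient.mk J c, ?_⟩
    rw [← map_mul]
    exact (Ideal.Quotient.eq).2 hc

/-- every element outside `J` has a multiple in the socle and outside `J` -/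
theorem exists_soc_mul (N : ℕ) (hN : m ^ N ≤ J) (x : A) (hx : x ∉ J) :
    ∃ z, z * x ∉ J ∧ ∀ a ∈ m, a * (z * x) ∈ J := by
  have key : ∀ k : ℕ, ∀ x : A, x ∉ J → (∀ r ∈ m ^ k, r * x ∈ J) →
      ∃ z, z * x ∉ J ∧ ∀ a ∈ m, a * (z * x) ∈ J := by
    intro k
    induction k with
    | zero =>
      intro x hx h
      have h1 := h 1 (by rw [pow_zero, Ideal.one_eq_top]; trivial)
      rw [one_mul] at h1
      exact absurd h1 hx
    | succ k ih =>
      intro x hx h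
      by_cases hall : ∀ a ∈ m, a * x ∈ J
      · exact ⟨1, by rwa [one_mul], fun a ha => by rw [one_mul]; exact hall a ha⟩
      · push Not at hall
        obtain ⟨a, ha, hax⟩ := hall
        obtain ⟨z, hz1, hz2⟩ := ih (a * x) hax (fun r hr => by
          rw [← mul_assoc]
          exact h (r * a) (by rw [pow_succ]; exact Ideal.mul_mem_mul hr ha))
        refine ⟨z * a, by rwa [mul_assoc], fun b hb => ?_⟩
        rw [mul_assoc]
        exact hz2 b hb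
  exact key N x hx (fun r hr => J.mul_mem_right _ (hN hr))

end LocalQuot

section Graded

variable {R : Type u} [CommRing R] (𝒜 : ℤ → AddSubgroup R) [GradedRing 𝒜]

theorem exists_inv_deg0 (h0 : IsField (GrLC.deg0 𝒜)) {c : R} (hc : c ∈ 𝒜 0) (hc0 : c ≠ 0) :
    ∃ d ∈ 𝒜 0, c * d = 1 := by
  obtain ⟨b, hb⟩ := h0.mul_inv_cancel (a := (⟨c, hc⟩ : GrLC.deg0 𝒜))
    (fun h => hc0 (congrArg Subtype.val h))
  exact ⟨b, b.2, congrArg Subtype.val hb⟩

variable (hpos : ∀ n : ℤ, n < 0 → 𝒜 n = ⊥)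

include hpos in
theorem mem_irr_iff (x : R) : x ∈ (irr 𝒜).toIdeal ↔ cp 𝒜 x 0 = 0 :=
  ⟨cp_zero_of_mem_irr 𝒜 hpos, mem_irr_of_cp_zero 𝒜 hpos⟩

variable (J : Ideal R) (hJ : J.IsHomogeneous 𝒜)

include hpos hJ in
/-- elements of the top degree of `R/J` are socle elements -/
theorem top_mul_mem (s₁ : ℤ) (htop : ∀ j, s₁ < j → ∀ x ∈ 𝒜 j, x ∈ J) {t : R} (ht : t ∈ 𝒜 s₁)
    {a : R} (ha : cp 𝒜 a 0 = 0) : a * t ∈ J := by
  rw [mem_iff_cp 𝒜 hJ]
  intro j
  rw [mul_comm, cp_mul_left 𝒜 ht]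
  rcases lt_trichotomy j s₁ with h | h | h
  · have h1 : cp 𝒜 a (j - s₁) = 0 := by
      have h2 := cp_mem 𝒜 a (j - s₁)
      rw [hpos _ (by omega)] at h2
      exact AddSubgroup.mem_bot.1 h2
    rw [h1, mul_zero]
    exact zero_mem _
  · rw [h, sub_self, ha, mul_zero]
    exact zero_mem _
  · refine htop j h _ ?_
    have h1 := SetLike.mul_mem_graded ht (cp_mem 𝒜 a (j - s₁))
    rwa [add_sub_cancel] at h1

/-- modulo `J`, a multiple of a socle element only depends on the degree-zero component of the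
coefficient -/
theorem mul_sub_cp_zero_mem {t : R} (hsoc : ∀ a, cp 𝒜 a 0 = 0 → a * t ∈ J) (c : R) :
    c * t - cp 𝒜 c 0 * t ∈ J := by
  rw [← sub_mul]
  apply hsoc
  rw [cp_sub, cp_of_mem 𝒜 (cp_mem 𝒜 c 0), if_pos rfl, sub_self]

variable {R' : Type u} [CommRing R'] (𝒜' : ℤ → AddSubgroup R') [GradedRing 𝒜']
  (φ : R' →+* R) (q : ℕ)

theorem map_mem_of_hdeg (hdeg : ∀ j : ℤ, (𝒜' j).map (φ : R' →+ R) = 𝒜 (j * q)) (j : ℤ) (r : R')
    (hr : r ∈ 𝒜' j) : φ r ∈ 𝒜 (j * q) := by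
  rw [← hdeg j]
  exact ⟨r, hr, rfl⟩

theorem exists_preimage_of_hdeg (hdeg : ∀ j : ℤ, (𝒜' j).map (φ : R' →+ R) = 𝒜 (j * q)) (j : ℤ)
    (w : R) (hw : w ∈ 𝒜 (j * q)) : ∃ w' ∈ 𝒜' j, φ w' = w := by
  rw [← hdeg j] at hw
  obtain ⟨w', h1, h2⟩ := hw
  exact ⟨w', h1, h2⟩

include hpos in
theorem hpos_ver (hq : 0 < q) (hφ : Function.Injective φ)
    (hdeg : ∀ j : ℤ, (𝒜' j).map (φ : R' →+ R) = 𝒜 (j * q)) : ∀ n : ℤ, n < 0 → 𝒜' n = ⊥ := by
  intro n hn
  rw [eq_bot_iff]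
  intro x hx
  have h1 := map_mem_of_hdeg 𝒜 𝒜' φ q hdeg n x hx
  have hqz : (0 : ℤ) < (q : ℤ) := by exact_mod_cast hq
  rw [hpos _ (mul_neg_of_neg_of_pos hn hqz)] at h1
  rw [AddSubgroup.mem_bot]
  exact hφ (by rw [AddSubgroup.mem_bot.1 h1, map_zero])

theorem cp_map (hq : 0 < q) (hdeg : ∀ j : ℤ, (𝒜' j).map (φ : R' →+ R) = 𝒜 (j * q)) (a : R')
    (j : ℤ) : cp 𝒜 (φ a) (j * q) = φ (cp 𝒜' a j) := by
  classical
  have hqz : ((q : ℤ)) ≠ 0 := by exact_mod_cast hq.ne'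
  induction a using DirectSum.Decomposition.inductionOn 𝒜' with
  | zero => rw [map_zero, cp_zero, cp_zero, map_zero]
  | @homogeneous i x =>
    rw [cp_of_mem 𝒜 (map_mem_of_hdeg 𝒜 𝒜' φ q hdeg i x x.2), cp_of_mem 𝒜' x.2]
    by_cases h : j = i
    · subst h
      rw [if_pos rfl, if_pos rfl]
    · rw [if_neg h, if_neg (fun h' => h (mul_right_cancel₀ hqz h')), map_zero]
  | add x y hx hy => rw [map_add, cp_add, cp_add, map_add, hx, hy]

include hpos in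
/-- **the socle of the Veronese of an Artinian graded Gorenstein quotient** -/
theorem typeOneUp_ver (hq : 0 < q) (hφ : Function.Injective φ)
    (hdeg : ∀ j : ℤ, (𝒜' j).map (φ : R' →+ R) = 𝒜 (j * q))
    (h0 : IsField (GrLC.deg0 𝒜))
    (J : Ideal R) (hJ : J.IsHomogeneous 𝒜) (N : ℕ) (hN : (irr 𝒜).toIdeal ^ N ≤ J)
    (hT : TypeOneUp J (irr 𝒜).toIdeal)
    (s₁ s' : ℤ) (htop : ∀ j, s₁ < j → ∀ x ∈ 𝒜 j, x ∈ J) (hs₁ : ∃ x ∈ 𝒜 s₁, x ∉ J)
    (hs' : s₁ = s' * q) :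
    TypeOneUp (J.comap φ) (irr 𝒜').toIdeal := by
  classical
  have hqz : (0 : ℤ) < (q : ℤ) := by exact_mod_cast hq
  have hpos' := hpos_ver 𝒜 hpos 𝒜' φ q hq hφ hdeg
  have hmem := mem_irr_iff 𝒜 hpos
  have hmem' := mem_irr_iff 𝒜' hpos'
  have hφdeg := map_mem_of_hdeg 𝒜 𝒜' φ q hdeg
  obtain ⟨t, ht, htJ⟩ := hs₁
  have htsoc : ∀ a, cp 𝒜 a 0 = 0 → a * t ∈ J := fun a ha =>
    top_mul_mem 𝒜 hpos J hJ s₁ htop ht ha
  -- generation by `t`, with coefficients of degree zero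
  have hgen : ∀ x, (∀ a ∈ (irr 𝒜).toIdeal, a * x ∈ J) → ∃ c ∈ 𝒜 0, x - c * t ∈ J := by
    obtain ⟨s, hsJ, hssoc, hsgen⟩ := hT
    obtain ⟨c, hc⟩ := hsgen t (fun a ha => htsoc a ((hmem a).1 ha))
    have hssoc' : ∀ a, cp 𝒜 a 0 = 0 → a * s ∈ J := fun a ha => hssoc a ((hmem a).2 ha)
    have h1 := mul_sub_cp_zero_mem 𝒜 J hssoc' c
    have h2 : t - cp 𝒜 c 0 * s ∈ J := by
      have e : t - cp 𝒜 c 0 * s = (t - c * s) + (c * s - cp 𝒜 c 0 * s) := by ring
      rw [e]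
      exact add_mem hc h1
    have hc0 : cp 𝒜 c 0 ≠ 0 := by
      intro h
      rw [h, zero_mul, sub_zero] at h2
      exact htJ h2
    obtain ⟨d, hd, hcd⟩ := exists_inv_deg0 𝒜 h0 (cp_mem 𝒜 c 0) hc0
    have h3 : s - d * t ∈ J := by
      have e : s - d * t = -(d * (t - cp 𝒜 c 0 * s)) + (1 - cp 𝒜 c 0 * d) * s := by ring
      rw [e, hcd, sub_self, zero_mul, add_zero]
      exact neg_mem (J.mul_mem_left _ h2)
    intro x hx
    obtain ⟨c', hc'⟩ := hsgen x hx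
    have h4 : x - (c' * d) * t ∈ J := by
      have e : x - (c' * d) * t = (x - c' * s) + c' * (s - d * t) := by ring
      rw [e]
      exact add_mem hc' (J.mul_mem_left _ h3)
    have h5 := mul_sub_cp_zero_mem 𝒜 J htsoc (c' * d)
    refine ⟨cp 𝒜 (c' * d) 0, cp_mem _ _ _, ?_⟩
    have e : x - cp 𝒜 (c' * d) 0 * t =
        (x - (c' * d) * t) + ((c' * d) * t - cp 𝒜 (c' * d) 0 * t) := by ring
    rw [e]
    exact add_mem h4 h5
  obtain ⟨t', ht', hφt'⟩ : ∃ t' ∈ 𝒜' s', φ t' = t :=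
    exists_preimage_of_hdeg 𝒜 𝒜' φ q hdeg s' t (hs' ▸ ht)
  have hJ' : (J.comap φ).IsHomogeneous 𝒜' := by
    intro j x hx
    have hx' : φ x ∈ J := hx
    have h1 : cp 𝒜 (φ x) (j * q) ∈ J := hJ (j * q) hx'
    rw [cp_map 𝒜 𝒜' φ q hq hdeg] at h1
    exact h1
  have hφm : ∀ a ∈ (irr 𝒜').toIdeal, φ a ∈ (irr 𝒜).toIdeal := by
    intro a ha
    rw [hmem]
    have h1 := cp_map 𝒜 𝒜' φ q hq hdeg a 0
    rw [zero_mul] at h1
    rw [h1, (hmem' a).1 ha, map_zero]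
  refine ⟨t', fun h => htJ (hφt' ▸ h), fun a ha => ?_, fun x hx => ?_⟩
  · show φ (a * t') ∈ J
    rw [map_mul, hφt']
    exact htsoc _ ((hmem _).1 (hφm a ha))
  · have hcomp : ∀ j, ∀ a ∈ (irr 𝒜').toIdeal, a * cp 𝒜' x j ∈ J.comap φ := by
      intro j a ha
      rw [mem_iff_cp 𝒜' hJ']
      intro i
      have hae : cp 𝒜' a (i - j) ∈ (irr 𝒜').toIdeal := (irr 𝒜').isHomogeneous (i - j) ha
      have h1 := hx _ hae
      have h2 : cp 𝒜' (cp 𝒜' a (i - j) * x) i ∈ J.comap φ := hJ' i h1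
      have h3 : cp 𝒜' (cp 𝒜' a (i - j) * x) i = cp 𝒜' a (i - j) * cp 𝒜' x j := by
        rw [cp_mul_left 𝒜' (cp_mem 𝒜' a (i - j))]
        congr 2
        ring
      rw [mul_comm, cp_mul_left 𝒜' (cp_mem 𝒜' x j), mul_comm, ← h3]
      exact h2
    have hA : ∀ j, j ≠ s' → cp 𝒜' x j ∈ J.comap φ := by
      intro j hj
      by_contra hnot
      have hnot' : φ (cp 𝒜' x j) ∉ J := hnot
      have hdegj : φ (cp 𝒜' x j) ∈ 𝒜 (j * q) := hφdeg j _ (cp_mem 𝒜' x j)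
      obtain ⟨z, hz1, hz2⟩ := exists_soc_mul J (irr 𝒜).toIdeal N hN _ hnot'
      obtain ⟨c₀, hc₀, hc⟩ := hgen _ hz2
      have hc₀t : c₀ * t ∈ 𝒜 s₁ := by
        have h1 := SetLike.mul_mem_graded hc₀ ht
        rwa [zero_add] at h1
      have h1' : cp 𝒜 (z * φ (cp 𝒜' x j) - c₀ * t) s₁ ∈ J := hJ s₁ hc
      rw [cp_sub, mul_comm z, cp_mul_left 𝒜 hdegj, cp_of_mem 𝒜 hc₀t, if_pos rfl] at h1'
      obtain ⟨w, hwdef⟩ : ∃ w, w = cp 𝒜 z (s₁ - j * q) := ⟨_, rfl⟩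
      rw [← hwdef] at h1'
      have hc₀tJ : c₀ * t ∉ J := by
        intro h
        apply hz1
        have e : z * φ (cp 𝒜' x j) = (z * φ (cp 𝒜' x j) - c₀ * t) + c₀ * t := by ring
        rw [e]
        exact add_mem hc h
      have hw : φ (cp 𝒜' x j) * w ∉ J := by
        intro h
        apply hc₀tJ
        have e : c₀ * t = φ (cp 𝒜' x j) * w - (φ (cp 𝒜' x j) * w - c₀ * t) := by ring
        rw [e]
        exact sub_mem h h1'
      have hwdeg : w ∈ 𝒜 ((s' - j) * q) := by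
        have h1 := cp_mem 𝒜 z (s₁ - j * q)
        rw [hs', ← sub_mul] at h1
        rw [hwdef, hs', ← sub_mul]
        exact h1
      rcases lt_or_gt_of_ne hj with hlt | hgt
      · obtain ⟨w', hw', hφw'⟩ := exists_preimage_of_hdeg 𝒜 𝒜' φ q hdeg (s' - j) w hwdeg
        have hw'm : w' ∈ (irr 𝒜').toIdeal := by
          rw [hmem', cp_of_mem 𝒜' hw', if_neg (by omega)]
        have h9 : φ (w' * cp 𝒜' x j) ∈ J := hcomp j w' hw'm
        rw [map_mul, hφw', mul_comm] at h9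
        exact hw h9
      · have hw0 : w = 0 := by
          have h2 := hwdeg
          rw [hpos _ (mul_neg_of_neg_of_pos (by omega) hqz)] at h2
          exact AddSubgroup.mem_bot.1 h2
        apply hw
        rw [hw0, mul_zero]
        exact zero_mem _
    have hB : ∃ c' ∈ 𝒜' 0, cp 𝒜' x s' - c' * t' ∈ J.comap φ := by
      have hdegs : φ (cp 𝒜' x s') ∈ 𝒜 s₁ := by
        rw [hs']
        exact hφdeg s' _ (cp_mem 𝒜' x s')
      obtain ⟨c₀, hc₀, hc⟩ := hgen (φ (cp 𝒜' x s')) (fun a ha =>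
        top_mul_mem 𝒜 hpos J hJ s₁ htop hdegs ((hmem a).1 ha))
      obtain ⟨c', hc', hφc'⟩ := exists_preimage_of_hdeg 𝒜 𝒜' φ q hdeg 0 c₀
        (by rw [zero_mul]; exact hc₀)
      refine ⟨c', hc', ?_⟩
      show φ (cp 𝒜' x s' - c' * t') ∈ J
      rw [map_sub, map_mul, hφc', hφt']
      exact hc
    obtain ⟨c', hc', hcB⟩ := hB
    refine ⟨c', ?_⟩
    rw [mem_iff_cp 𝒜' hJ']
    intro j
    have hct : c' * t' ∈ 𝒜' s' := by
      have h1 := SetLike.mul_mem_graded hc' ht'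
      rwa [zero_add] at h1
    rw [cp_sub, cp_of_mem 𝒜' hct]
    by_cases hj : j = s'
    · rw [if_pos hj, hj]
      exact hcB
    · rw [if_neg hj, sub_zero]
      exact hA j hj

end Graded

end Groth.Agent.H2.VerSoc
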