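import Groth.Agent.H59.Goren4
import Groth.Agent.H2.GrGor2
import Groth.Agent.H2.VerSoc

/-!
# Helper library (helper2): lifting the Gorenstein property from a quotient by a regular sequence

* `gor_of_quot_weaklyRegular`: a Noetherian local ring whose quotient by a weakly regular sequence
  in the maximal ideal is Gorenstein, is Gorenstein (list version of the converse half of S0343).
* `gor_atPrime_maximalIdeal_iff`: a local ring is Gorenstein iff its localization at its maximal
  ideal is.
* `gor_atPrime_of_quot`: if `C/(l)` is a Gorenstein local ring for a weakly regular sequence `l` in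
  a maximal ideal `m` of a Noetherian ring `C`, then `C_m` is Gorenstein.
-/

set_option autoImplicit false
set_option linter.style.haveILetI false
set_option linter.unusedSectionVars false
universe u
open IsLocalRing
open scoped Pointwise

namespace Groth.Agent.H2.VerGor

open Groth.Agent.H60.GorTransfer Groth.Agent.H59.Goren4

/-- list version of the converse half of S0343 -/
theorem gor_of_quot_weaklyRegular : ∀ (n : ℕ) (A : Type u) [CommRing A] [IsLocalRing A]
    [IsNoetherianRing A] (rs : List A), rs.length = n → (∀ r ∈ rs, r ∈ maximalIdeal A) →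
    RingTheory.Sequence.IsWeaklyRegular A rs →
    LocCoh.IsGorensteinLocalRing (A ⧸ Ideal.ofList rs) → LocCoh.IsGorensteinLocalRing A := by
  intro n
  induction n with
  | zero =>
    intro A _ _ _ rs hlen _ _ hG
    have hrs : rs = [] := List.length_eq_zero_iff.mp hlen
    subst hrs
    have e : A ≃+* A ⧸ Ideal.ofList ([] : List A) :=
      (RingEquiv.quotientBot A).symm.trans (Ideal.quotEquivOfEq Ideal.ofList_nil.symm)
    exact gor_of_ringEquiv e.symm hG
  | succ n ih =>
    intro A _ _ _ rs hlen hmem hreg hG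
    obtain ⟨x, xs, rfl⟩ : ∃ x xs, rs = x :: xs := by
      cases rs with
      | nil => simp at hlen
      | cons x xs => exact ⟨x, xs, rfl⟩
    have hlen' : xs.length = n := by simpa using hlen
    obtain ⟨hx, hxs⟩ := (RingTheory.Sequence.isWeaklyRegular_cons_iff' A x xs).mp hreg
    have hxm : x ∈ maximalIdeal A := hmem x (List.mem_cons_self)
    have hne : Ideal.span {x} ≠ (⊤ : Ideal A) := by
      intro h
      have h1 : Ideal.span {x} ≤ maximalIdeal A := by
        rw [Ideal.span_le]
        intro y hy
        rw [Set.mem_singleton_iff.1 hy]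
        exact hxm
      exact (maximalIdeal.isMaximal A).ne_top (eq_top_iff.2 (h ▸ h1))
    haveI : Nontrivial (A ⧸ Ideal.span {x}) := Ideal.Quotient.nontrivial_iff.2 hne
    haveI : IsLocalRing (A ⧸ Ideal.span {x}) :=
      IsLocalRing.of_surjective' (Ideal.Quotient.mk (Ideal.span {x})) Ideal.Quotient.mk_surjective
    haveI : IsLocalHom (Ideal.Quotient.mk (Ideal.span {x})) :=
      IsLocalHom.of_surjective _ Ideal.Quotient.mk_surjective
    have hmem' : ∀ r ∈ xs.map (Ideal.Quotient.mk (Ideal.span {x})),
        r ∈ maximalIdeal (A ⧸ Ideal.span {x}) := by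
      intro r hr
      obtain ⟨r0, hr0, rfl⟩ := List.mem_map.mp hr
      have h0 : r0 ∈ maximalIdeal A := hmem r0 (List.mem_cons_of_mem _ hr0)
      rw [mem_maximalIdeal, mem_nonunits_iff] at h0 ⊢
      intro hu
      exact h0 (isUnit_of_map_unit (Ideal.Quotient.mk (Ideal.span {x})) r0 hu)
    have heq : (x • (⊤ : Submodule A A)) = (Ideal.span {x} : Ideal A) := by
      rw [← Submodule.ideal_span_singleton_smul, smul_eq_mul, Ideal.mul_top]
    let e : QuotSMulTop x A ≃ₗ[A] A ⧸ Ideal.span {x} := Submodule.quotEquivOfEq _ _ heq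
    have hxs' : RingTheory.Sequence.IsWeaklyRegular (A ⧸ Ideal.span {x})
        (xs.map (Ideal.Quotient.mk (Ideal.span {x}))) := by
      refine (AddEquiv.isWeaklyRegular_congr (e := e.toAddEquiv) ?_).mp hxs
      refine List.forall₂_same.mpr fun r' _ m => ?_
      obtain ⟨r, rfl⟩ := Ideal.Quotient.mk_surjective r'
      obtain ⟨m, rfl⟩ := Submodule.Quotient.mk_surjective _ m
      rfl
    have hI : (Ideal.ofList xs).map (Ideal.Quotient.mk (Ideal.span {x})) =
        Ideal.ofList (xs.map (Ideal.Quotient.mk (Ideal.span {x}))) := Ideal.map_ofList _ _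
    have e2 : ((A ⧸ Ideal.span {x}) ⧸ Ideal.ofList (xs.map (Ideal.Quotient.mk (Ideal.span {x}))))
        ≃+* A ⧸ Ideal.ofList (x :: xs) :=
      (Ideal.quotEquivOfEq hI.symm).trans
        ((DoubleQuot.quotQuotEquivQuotSup (Ideal.span {x}) (Ideal.ofList xs)).trans
          (Ideal.quotEquivOfEq (Ideal.ofList_cons x xs).symm))
    have hG'' := gor_of_ringEquiv e2.symm hG
    have hG' : LocCoh.IsGorensteinLocalRing (A ⧸ Ideal.span {x}) :=
      ih (A ⧸ Ideal.span {x}) (xs.map (Ideal.Quotient.mk (Ideal.span {x})))
        (by simpa using hlen') hmem' hxs' hG''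
    exact (Groth.Agent.S0343.result A x hxm hx).mpr hG'

/-- a local ring is isomorphic to its localization at the maximal ideal -/
theorem gor_atPrime_maximalIdeal_iff (B : Type u) [CommRing B] [IsLocalRing B] :
    LocCoh.IsGorensteinLocalRing (Localization.AtPrime (maximalIdeal B)) ↔
      LocCoh.IsGorensteinLocalRing B := by
  have H : (maximalIdeal B).primeCompl ≤ IsUnit.submonoid B := by
    intro x hx
    have hx' : x ∉ maximalIdeal B := hx
    rw [mem_maximalIdeal, mem_nonunits_iff, not_not] at hx'
    exact hx'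
  have e : B ≃ₐ[B] Localization.AtPrime (maximalIdeal B) :=
    IsLocalization.atUnits B (maximalIdeal B).primeCompl H
  exact ⟨gor_of_ringEquiv e.symm.toRingEquiv, gor_of_ringEquiv e.toRingEquiv⟩

theorem gor_atPrime_aux {C : Type u} [CommRing C] [IsNoetherianRing C] (P : Ideal C) [P.IsPrime]
    (l : List C) (hlP : ∀ r ∈ l, r ∈ P) (hreg : RingTheory.Sequence.IsWeaklyRegular C l)
    (B : Type u) [CommRing B]
    (e : (Localization.AtPrime P ⧸ (Ideal.ofList l).map (algebraMap C (Localization.AtPrime P)))
      ≃+* B) (hB : LocCoh.IsGorensteinLocalRing B) :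
    LocCoh.IsGorensteinLocalRing (Localization.AtPrime P) := by
  have hGA : LocCoh.IsGorensteinLocalRing (Localization.AtPrime P ⧸
      (Ideal.ofList l).map (algebraMap C (Localization.AtPrime P))) :=
    gor_of_ringEquiv e.symm hB
  have hI : (Ideal.ofList l).map (algebraMap C (Localization.AtPrime P)) =
      Ideal.ofList (l.map (algebraMap C (Localization.AtPrime P))) := Ideal.map_ofList _ _
  have hreg'' : RingTheory.Sequence.IsWeaklyRegular (Localization.AtPrime P)
      (l.map (algebraMap C (Localization.AtPrime P))) :=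
    RingTheory.Sequence.IsWeaklyRegular.of_isLocalization (Localization.AtPrime P) P.primeCompl hreg
  have hmem'' : ∀ r ∈ l.map (algebraMap C (Localization.AtPrime P)),
      r ∈ maximalIdeal (Localization.AtPrime P) := by
    intro r hr
    obtain ⟨r0, hr0, rfl⟩ := List.mem_map.mp hr
    exact (IsLocalization.AtPrime.to_map_mem_maximal_iff (Localization.AtPrime P) P r0).mpr
      (hlP r0 hr0)
  exact gor_of_quot_weaklyRegular _ (Localization.AtPrime P) _ rfl hmem'' hreg''
    (gor_of_ringEquiv (Ideal.quotEquivOfEq hI) hGA)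

/-- lifting the Gorenstein property from `C/(l)` to `C_m` -/
theorem gor_atPrime_of_quot {C : Type u} [CommRing C] [IsNoetherianRing C] (m : Ideal C)
    [hm : m.IsMaximal] (l : List C) (hlm : ∀ r ∈ l, r ∈ m)
    (hreg : RingTheory.Sequence.IsWeaklyRegular C l) [IsLocalRing (C ⧸ Ideal.ofList l)]
    (hG : LocCoh.IsGorensteinLocalRing (C ⧸ Ideal.ofList l)) :
    LocCoh.IsGorensteinLocalRing (Localization.AtPrime m) := by
  have hIm : Ideal.ofList l ≤ m := by
    rw [Ideal.ofList, Ideal.span_le]
    intro r hr
    exact hlm r hr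
  have hPb : (maximalIdeal (C ⧸ Ideal.ofList l)).comap (Ideal.Quotient.mk (Ideal.ofList l)) = m := by
    have hmax := Groth.Agent.H2.VerSoc.isMaximal_map_mk (Ideal.ofList l) m hIm
    rw [← IsLocalRing.eq_maximalIdeal hmax,
      Ideal.comap_map_of_surjective _ Ideal.Quotient.mk_surjective, ← RingHom.ker_eq_comap_bot,
      Ideal.mk_ker, sup_of_le_left hIm]
  obtain ⟨e⟩ := exists_quot_loc_equiv (Ideal.ofList l) (maximalIdeal (C ⧸ Ideal.ofList l))
  have hGP := gor_atPrime_aux
    ((maximalIdeal (C ⧸ Ideal.ofList l)).comap (Ideal.Quotient.mk (Ideal.ofList l))) l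
    (fun r hr => by rw [hPb]; exact hlm r hr) hreg _ e ((gor_atPrime_maximalIdeal_iff _).2 hG)
  haveI : m.IsPrime := hm.isPrime
  exact Groth.Agent.H2.GrGor2.gor_of_eq _ m hPb hGP

end Groth.Agent.H2.VerGor
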