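import Groth.Agent.H98.GrPolyArt
import Groth.Agent.H2.VerSoc

/-!
# Helper library (helper2): small pieces of a standard graded ring over a field

`Dep 𝒜 i`: the piece `𝒜 i` is spanned over `𝒜 0` by one element.
* `cp_eq_zero_of_mem_span`: an ideal generated by homogeneous elements of degrees `≥ q` has no
  components in degrees `< q`.
* `dep_succ`, `dep_of_le`: in a standard graded ring whose nonzero degree-zero elements are units,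
  `Dep i` for some `i ≥ 1` propagates to all larger degrees.
* `dep_one_of_dep`: a homogeneous nonzerodivisor pulls `Dep (1 + t e)` back to `Dep 1`.
* `finrank_le_one_of_dep`: `Dep 1` bounds the rank of `𝒜 1` over `𝒜 0` by one.
-/

set_option autoImplicit false
universe u

namespace Groth.Agent.H2.VerHilb

open Groth.Agent.H98.GrHt Groth.Agent.H98.GrCanon Groth.Agent.H2.VerSoc

variable {R : Type u} [CommRing R] (𝒜 : ℤ → AddSubgroup R) [GradedRing 𝒜]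

/-- the piece `𝒜 i` is spanned over `𝒜 0` by one element -/
def Dep (i : ℤ) : Prop := ∃ u ∈ 𝒜 i, ∀ v ∈ 𝒜 i, ∃ c ∈ 𝒜 0, v = c * u

theorem mul_mem_zero_left {c v : R} {i : ℤ} (hc : c ∈ 𝒜 0) (hv : v ∈ 𝒜 i) : c * v ∈ 𝒜 i := by
  have h := SetLike.mul_mem_graded hc hv
  rwa [zero_add] at h

theorem mul_mem_zero_zero {c d : R} (hc : c ∈ 𝒜 0) (hd : d ∈ 𝒜 0) : c * d ∈ 𝒜 0 :=
  mul_mem_zero_left 𝒜 hc hd

/-- an ideal generated by homogeneous elements of degrees `≥ q` has no components in degrees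
`< q` -/
theorem cp_eq_zero_of_mem_span (hpos : ∀ n : ℤ, n < 0 → 𝒜 n = ⊥) (S : Set R) (q : ℤ)
    (hS : ∀ x ∈ S, ∃ e, q ≤ e ∧ x ∈ 𝒜 e) (x : R) (hx : x ∈ Ideal.span S) :
    ∀ j, j < q → cp 𝒜 x j = 0 := by
  classical
  have hneg : ∀ (z : R) (i : ℤ), i < 0 → cp 𝒜 z i = 0 := by
    intro z i hi
    have h2 := cp_mem 𝒜 z i
    rw [hpos i hi] at h2
    exact AddSubgroup.mem_bot.1 h2
  refine Submodule.span_induction (p := fun x _ => ∀ j, j < q → cp 𝒜 x j = 0) ?_ ?_ ?_ ?_ hx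
  · intro y hy j hj
    obtain ⟨e, he, hye⟩ := hS y hy
    rw [cp_of_mem 𝒜 hye, if_neg (by omega)]
  · intro j _
    exact cp_zero 𝒜 j
  · intro y z _ _ hy hz j hj
    rw [cp_add, hy j hj, hz j hj, add_zero]
  · intro a y _ hy j hj
    rw [smul_eq_mul, cp_mul]
    refine Finset.sum_eq_zero (fun i _ => ?_)
    by_cases hi : i < 0
    · rw [hneg a i hi, zero_mul]
    · rw [hy (j - i) (by omega), mul_zero]

variable (hstd : Ideal.span (⋃ n ∈ Set.Ioi (0 : ℤ), (𝒜 n : Set R)) =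
    Ideal.span ((𝒜 1 : AddSubgroup R) : Set R))

include hstd in
/-- in a standard graded ring, `𝒜 (i+1)` is additively generated by `𝒜 1 * 𝒜 i` -/
theorem std_decomp (i : ℤ) (hi : 0 ≤ i) (x : R) (hx : x ∈ 𝒜 (i + 1)) :
    x ∈ AddSubgroup.closure {y : R | ∃ ℓ ∈ 𝒜 1, ∃ v ∈ 𝒜 i, y = ℓ * v} := by
  classical
  have hx1 : x ∈ Ideal.span ((𝒜 1 : AddSubgroup R) : Set R) := by
    rw [← hstd]
    exact Ideal.subset_span (Set.mem_biUnion (Set.mem_Ioi.2 (by omega)) hx)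
  obtain ⟨f, t, hts, -, hsum⟩ := Submodule.mem_span_iff_exists_finset_subset.1 hx1
  have hx2 : x = cp 𝒜 x (i + 1) := by rw [cp_of_mem 𝒜 hx, if_pos rfl]
  rw [hx2, ← hsum, cp_sum']
  refine AddSubgroup.sum_mem _ (fun a ha => ?_)
  have ha1 : a ∈ 𝒜 1 := hts ha
  rw [smul_eq_mul, mul_comm, cp_mul_left 𝒜 ha1]
  refine AddSubgroup.subset_closure ⟨a, ha1, cp 𝒜 (f a) (i + 1 - 1), ?_, rfl⟩
  have e : i + 1 - 1 = i := by ring
  rw [e]
  exact cp_mem 𝒜 (f a) i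

variable (hunit : ∀ c ∈ 𝒜 0, c ≠ 0 → ∃ d ∈ 𝒜 0, c * d = 1)

include hstd hunit in
theorem dep_succ (i : ℤ) (hi : 1 ≤ i) (h : Dep 𝒜 i) : Dep 𝒜 (i + 1) := by
  classical
  obtain ⟨u, hu, hspan⟩ := h
  by_cases hu0 : u = 0
  · -- everything vanishes
    have hz : ∀ v ∈ 𝒜 i, v = 0 := by
      intro v hv
      obtain ⟨c, -, rfl⟩ := hspan v hv
      rw [hu0, mul_zero]
    refine ⟨0, zero_mem _, fun x hx => ⟨0, zero_mem _, ?_⟩⟩
    rw [mul_zero]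
    have hx' := std_decomp 𝒜 hstd i (by omega) x hx
    refine AddSubgroup.closure_induction (p := fun y _ => y = 0) ?_ rfl ?_ ?_ hx'
    · rintro y ⟨ℓ, -, v, hv, rfl⟩
      rw [hz v hv, mul_zero]
    · intro a b _ _ ha hb
      rw [ha, hb, add_zero]
    · intro a _ ha
      rw [ha, neg_zero]
  · -- a nonzero product `ℓ₁ * M₁` in `𝒜 i`
    have hu' := std_decomp 𝒜 hstd (i - 1) (by omega) u (by rwa [sub_add_cancel])
    obtain ⟨ℓ₁, hℓ₁, M₁, hM₁, hne⟩ : ∃ ℓ₁ ∈ 𝒜 1, ∃ M₁ ∈ 𝒜 (i - 1), ℓ₁ * M₁ ≠ 0 := by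
      by_contra hall
      push Not at hall
      apply hu0
      refine AddSubgroup.closure_induction (p := fun y _ => y = 0) ?_ rfl ?_ ?_ hu'
      · rintro y ⟨ℓ, hℓ, v, hv, rfl⟩
        exact hall ℓ hℓ v hv
      · intro a b _ _ ha hb
        rw [ha, hb, add_zero]
      · intro a _ ha
        rw [ha, neg_zero]
    have hmem1 : ∀ ℓ ∈ 𝒜 1, ℓ * M₁ ∈ 𝒜 i := by
      intro ℓ hℓ
      have h := SetLike.mul_mem_graded hℓ hM₁
      rwa [add_sub_cancel] at h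
    obtain ⟨u₁, hu₁def⟩ : ∃ u₁, u₁ = ℓ₁ * M₁ := ⟨_, rfl⟩
    have hu₁ : u₁ ∈ 𝒜 i := hu₁def ▸ hmem1 ℓ₁ hℓ₁
    -- `u₁` spans `𝒜 i`
    have hspan₁ : ∀ v ∈ 𝒜 i, ∃ c ∈ 𝒜 0, v = c * u₁ := by
      obtain ⟨c₁, hc₁, hc₁u⟩ := hspan u₁ hu₁
      have hc₁0 : c₁ ≠ 0 := by
        intro h0
        apply hne
        rw [← hu₁def, hc₁u, h0, zero_mul]
      obtain ⟨d₁, hd₁, hcd⟩ := hunit c₁ hc₁ hc₁0
      intro v hv
      obtain ⟨c, hc, rfl⟩ := hspan v hv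
      refine ⟨c * d₁, mul_mem_zero_zero 𝒜 hc hd₁, ?_⟩
      rw [hc₁u]
      have e : c * d₁ * (c₁ * u) = c * (c₁ * d₁) * u := by ring
      rw [e, hcd, mul_one]
    have hU : ℓ₁ * u₁ ∈ 𝒜 (i + 1) := by
      have h := SetLike.mul_mem_graded hℓ₁ hu₁
      rwa [add_comm] at h
    refine ⟨ℓ₁ * u₁, hU, fun x hx => ?_⟩
    have hx' := std_decomp 𝒜 hstd i (by omega) x hx
    refine AddSubgroup.closure_induction (p := fun y _ => ∃ c ∈ 𝒜 0, y = c * (ℓ₁ * u₁))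
      ?_ ⟨0, zero_mem _, by rw [zero_mul]⟩ ?_ ?_ hx'
    · rintro y ⟨ℓ, hℓ, v, hv, rfl⟩
      obtain ⟨c, hc, rfl⟩ := hspan₁ v hv
      obtain ⟨cℓ, hcℓ, hcℓu⟩ := hspan₁ (ℓ * M₁) (hmem1 ℓ hℓ)
      refine ⟨c * cℓ, mul_mem_zero_zero 𝒜 hc hcℓ, ?_⟩
      have e1 : ℓ * (c * u₁) = c * (ℓ₁ * (ℓ * M₁)) := by
        rw [hu₁def]
        ring
      rw [e1, hcℓu]
      ring
    · rintro a b _ _ ⟨c, hc, rfl⟩ ⟨d, hd, rfl⟩
      exact ⟨c + d, add_mem hc hd, by ring⟩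
    · rintro a _ ⟨c, hc, rfl⟩
      exact ⟨-c, neg_mem hc, by ring⟩

include hstd hunit in
theorem dep_of_le (r : ℤ) (hr : 1 ≤ r) (h : Dep 𝒜 r) : ∀ i, r ≤ i → Dep 𝒜 i := by
  intro i hi
  induction i, hi using Int.leInduction with
  | base => exact h
  | succ k hk ih => exact dep_succ 𝒜 hstd hunit k (by omega) ih

include hunit in
/-- pairwise dependence gives a spanning element -/
theorem dep_of_pairwise (i : ℤ)
    (h : ∀ v ∈ 𝒜 i, ∀ w ∈ 𝒜 i, ∃ c ∈ 𝒜 0, ∃ d ∈ 𝒜 0, (c ≠ 0 ∨ d ≠ 0) ∧ c * v + d * w = 0) :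
    Dep 𝒜 i := by
  by_cases hex : ∃ u ∈ 𝒜 i, u ≠ 0
  · obtain ⟨u, hu, hu0⟩ := hex
    refine ⟨u, hu, fun v hv => ?_⟩
    obtain ⟨c, hc, d, hd, hcd, hrel⟩ := h v hv u hu
    have hc0 : c ≠ 0 := by
      intro h0
      rcases hcd with h1 | h1
      · exact h1 h0
      · rw [h0, zero_mul, zero_add] at hrel
        obtain ⟨d', -, hdd'⟩ := hunit d hd h1
        apply hu0
        calc u = (d * d') * u := by rw [hdd', one_mul]
          _ = d' * (d * u) := by ring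
          _ = 0 := by rw [hrel, mul_zero]
    obtain ⟨c', hc', hcc'⟩ := hunit c hc hc0
    refine ⟨-(c' * d), neg_mem (mul_mem_zero_zero 𝒜 hc' hd), ?_⟩
    have e : v = (c * c') * v := by rw [hcc', one_mul]
    have e2 : (c * c') * v = c' * (c * v + d * u) - c' * d * u := by ring
    rw [e, e2, hrel, mul_zero, zero_sub]
    ring
  · push Not at hex
    exact ⟨0, zero_mem _, fun v hv => ⟨0, zero_mem _, by rw [hex v hv, mul_zero]⟩⟩

include hunit in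
/-- a homogeneous nonzerodivisor pulls `Dep` back to degree one -/
theorem dep_one_of_dep {e : ℤ} {z : R} (hz : z ∈ 𝒜 e) (hzreg : IsSMulRegular R z) (t : ℕ)
    (h : Dep 𝒜 (1 + t * e)) : Dep 𝒜 1 := by
  obtain ⟨U, hU, hspan⟩ := h
  have hzt : z ^ t ∈ 𝒜 (t * e) := by
    have h1 := SetLike.pow_mem_graded t hz
    rwa [nsmul_eq_mul] at h1
  have hreg : ∀ x : R, z ^ t * x = 0 → x = 0 := by
    intro x hx
    exact (isSMulRegular_iff_right_eq_zero_of_smul.mp (hzreg.pow t)) x hx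
  have hmem : ∀ x ∈ 𝒜 1, z ^ t * x ∈ 𝒜 (1 + t * e) := by
    intro x hx
    have h1 := SetLike.mul_mem_graded hzt hx
    rwa [add_comm] at h1
  by_cases hex : ∃ x ∈ 𝒜 1, x ≠ 0
  · obtain ⟨x, hx, hx0⟩ := hex
    refine ⟨x, hx, fun v hv => ?_⟩
    obtain ⟨c₁, hc₁, hc₁U⟩ := hspan _ (hmem x hx)
    have hc₁0 : c₁ ≠ 0 := by
      intro h0
      rw [h0, zero_mul] at hc₁U
      exact hx0 (hreg x hc₁U)
    obtain ⟨d₁, hd₁, hcd⟩ := hunit c₁ hc₁ hc₁0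
    obtain ⟨c₂, hc₂, hc₂U⟩ := hspan _ (hmem v hv)
    refine ⟨c₂ * d₁, mul_mem_zero_zero 𝒜 hc₂ hd₁, ?_⟩
    have hU' : U = d₁ * (z ^ t * x) := by
      rw [hc₁U]
      have e1 : d₁ * (c₁ * U) = (c₁ * d₁) * U := by ring
      rw [e1, hcd, one_mul]
    have h0 : z ^ t * (v - c₂ * d₁ * x) = 0 := by
      rw [mul_sub, hc₂U]
      have e1 : z ^ t * (c₂ * d₁ * x) = c₂ * (d₁ * (z ^ t * x)) := by ring
      rw [e1, ← hU', sub_self]
    exact sub_eq_zero.1 (hreg _ h0)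
  · push Not at hex
    exact ⟨0, zero_mem _, fun v hv => ⟨0, zero_mem _, by rw [hex v hv, mul_zero]⟩⟩

/-- `Dep 1` bounds the rank of `𝒜 1` over `𝒜 0` by one -/
theorem finrank_le_one_of_dep [Nontrivial R] (h : Dep 𝒜 1) :
    Module.finrank (GrLC.deg0 𝒜) (GrLC.comp 𝒜 𝒜 1) ≤ 1 := by
  obtain ⟨u, hu, hspan⟩ := h
  refine finrank_le_one (⟨u, hu⟩ : GrLC.comp 𝒜 𝒜 1) (fun w => ?_)
  obtain ⟨c, hc, hcw⟩ := hspan w.1 w.2
  refine ⟨⟨c, hc⟩, Subtype.ext ?_⟩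
  exact hcw.symm

end Groth.Agent.H2.VerHilb
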