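import Groth.Agent.H98.GrVer
import Groth.Agent.H98.GrConv
import Groth.Agent.H98.GrHt

/-!
# Helper library (helper2): construction of the Veronese grading on a ring `R'` presented by an
injective ring map `φ : R' → R` into a `ℤ`-graded ring whose range is the Veronese subgroup
(the elements all of whose components have degree divisible by `q`).
-/

set_option autoImplicit false
universe u

open DirectSum

namespace Groth.Agent.H2.VerMk

open Groth.Agent.H98.GrCat Groth.Agent.H98.GrConv Groth.Agent.H98.GrVer Groth.Agent.H98.GrHt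

section Comap

variable {N N' : Type u} [AddCommGroup N] [AddCommGroup N'] (𝒩 : ℤ → AddSubgroup N)
  [DirectSum.Decomposition 𝒩] (e : N' ≃+ N)

/-- pieces pulled back along an additive equivalence -/
def comapGr (i : ℤ) : AddSubgroup N' := (𝒩 i).comap e.toAddMonoidHom

omit [DirectSum.Decomposition 𝒩] in
theorem mem_comapGr {i : ℤ} {x : N'} : x ∈ comapGr 𝒩 e i ↔ e x ∈ 𝒩 i := Iff.rfl

open Classical in
/-- a decomposition pulled back along an additive equivalence -/
@[reducible] noncomputable def comapDec : DirectSum.Decomposition (comapGr 𝒩 e) :=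
  decompOfProj (comapGr 𝒩 e)
    (fun i => e.symm.toAddMonoidHom.comp ((compH 𝒩 i).comp e.toAddMonoidHom))
    (fun x => (decompose 𝒩 (e x)).support)
    (fun i x => by
      show e (e.symm (compH 𝒩 i (e x))) ∈ 𝒩 i
      rw [e.apply_symm_apply, compH_apply]
      exact SetLike.coe_mem _)
    (fun x i hi => by
      show e.symm (compH 𝒩 i (e x)) = 0
      rw [compH_apply, DFinsupp.notMem_support_iff.1 hi, ZeroMemClass.coe_zero, map_zero])
    (fun x => by
      apply e.injective
      rw [map_sum]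
      show ∑ i ∈ _, e (e.symm (compH 𝒩 i (e x))) = e x
      simp only [e.apply_symm_apply, compH_apply]
      exact sum_support_decompose 𝒩 (e x))
    (fun i x hx => by
      show e.symm (compH 𝒩 i (e x)) = x
      rw [compH_apply, decompose_of_mem_same 𝒩 ((mem_comapGr 𝒩 e).1 hx), e.symm_apply_apply])
    (fun i j x hij hx => by
      show e.symm (compH 𝒩 i (e x)) = 0
      rw [compH_apply, decompose_of_mem_ne 𝒩 ((mem_comapGr 𝒩 e).1 hx) (Ne.symm hij), map_zero])

end Comap

section VerSubIff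

variable {X : Type u} [AddCommGroup X] (𝒳 : ℤ → AddSubgroup X) [DirectSum.Decomposition 𝒳]
  (q : ℕ)

/-- membership in the Veronese subgroup through the vanishing of components -/
theorem mem_verSub_iff (x : X) : x ∈ verSub 𝒳 q ↔
    ∀ i : ℤ, ¬ (q : ℤ) ∣ i → ((decompose 𝒳 x i : 𝒳 i) : X) = 0 := by
  classical
  constructor
  · intro hx i hi
    exact proj_eq_zero_of_mem_verSub 𝒳 q hx hi
  · intro h
    rw [mem_verSub]
    conv_lhs => rw [← sum_support_decompose 𝒳 x]
    conv_rhs => rw [← sum_support_decompose 𝒳 x]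
    rw [map_sum]
    refine Finset.sum_congr rfl fun i _ => ?_
    by_cases hi : (q : ℤ) ∣ i
    · exact verPi_of_dvd 𝒳 q (decompose 𝒳 x i).2 hi
    · rw [h i hi, map_zero]

end VerSubIff

section Ring

variable {R : Type u} [CommRing R] (𝒜 : ℤ → AddSubgroup R) [GradedRing 𝒜]
variable {R' : Type u} [CommRing R'] (φ : R' →+* R) (q : ℕ) (hq : 0 < q)
  (hφ : Function.Injective φ) (hr : ∀ p : R, p ∈ φ.range ↔ p ∈ verSub 𝒜 q)

/-- the additive equivalence of `R'` with the Veronese subgroup -/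
noncomputable def verE : R' ≃+ ↥(verSub 𝒜 q) :=
  AddEquiv.ofBijective ((φ : R' →+ R).codRestrict (verSub 𝒜 q) (fun x => (hr _).1 ⟨x, rfl⟩))
    ⟨fun x y h => hφ (congrArg Subtype.val h), fun y => by
      obtain ⟨x, hx⟩ := (hr _).2 y.2
      exact ⟨x, Subtype.ext hx⟩⟩

theorem verE_coe (x : R') : ((verE 𝒜 φ q hφ hr x : ↥(verSub 𝒜 q)) : R) = φ x := rfl

/-- the Veronese grading on `R'` -/
noncomputable def vGr (j : ℤ) : AddSubgroup R' := comapGr (verGr q 𝒜) (verE 𝒜 φ q hφ hr) j

theorem mem_vGr {j : ℤ} {x : R'} : x ∈ vGr 𝒜 φ q hφ hr j ↔ φ x ∈ 𝒜 (j * q) := Iff.rfl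

/-- the Veronese grading makes `R'` a graded ring -/
@[reducible] noncomputable def vGradedRing : GradedRing (vGr 𝒜 φ q hφ hr) :=
  letI := verDec q 𝒜 hq
  { toDecomposition := comapDec (verGr q 𝒜) (verE 𝒜 φ q hφ hr)
    one_mem := by
      show φ 1 ∈ 𝒜 (0 * q)
      rw [zero_mul, map_one]
      exact SetLike.GradedOne.one_mem
    mul_mem := by
      intro i j x y hx hy
      show φ (x * y) ∈ 𝒜 ((i + j) * q)
      rw [map_mul, add_mul]
      exact SetLike.GradedMul.mul_mem ((mem_vGr 𝒜 φ q hφ hr).1 hx) ((mem_vGr 𝒜 φ q hφ hr).1 hy) }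

theorem vGr_map (j : ℤ) :
    (vGr 𝒜 φ q hφ hr j).map (φ : R' →+ R) = 𝒜 (j * q) := by
  apply le_antisymm
  · rintro _ ⟨x, hx, rfl⟩
    exact hx
  · intro y hy
    obtain ⟨x, hx⟩ := (hr y).2 (mem_verSub_of_mem 𝒜 q hy)
    refine ⟨x, ?_, hx⟩
    show φ x ∈ 𝒜 (j * q)
    have hx' : φ x = y := hx
    rw [hx']
    exact hy

end Ring

end Groth.Agent.H2.VerMk
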