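import Groth.Agent.H98.GrVer
import Groth.Agent.H2.VerSoc

/-!
# Helper library (helper2): the Veronese subring of a positively graded ring over a field is *local,
regular sequences descend to the Veronese subring, Artinian quotients.
-/

set_option autoImplicit false
universe u

namespace Groth.Agent.H2.VerReg

open Groth.Agent.H98.GrHt Groth.Agent.H98.GrCanon Groth.Agent.H2.VerSoc

theorem smul_top_eq {A : Type u} [CommRing A] (I : Ideal A) : (I • ⊤ : Submodule A A) = I := by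
  rw [smul_eq_mul, Ideal.mul_top]

theorem isArtinianRing_quot {A : Type u} [CommRing A] [IsNoetherianRing A] (J m : Ideal A)
    [hm : m.IsMaximal] (hJm : J ≤ m) (N : ℕ) (hN : m ^ N ≤ J) [IsLocalRing (A ⧸ J)] :
    IsArtinianRing (A ⧸ J) := by
  rw [isArtinianRing_iff_isNilpotent_maximalIdeal]
  refine ⟨N, ?_⟩
  rw [← IsLocalRing.eq_maximalIdeal (isMaximal_map_mk J m hJm), ← Ideal.map_pow,
    Ideal.zero_eq_bot, eq_bot_iff]
  calc (m ^ N).map (Ideal.Quotient.mk J) ≤ J.map (Ideal.Quotient.mk J) := Ideal.map_mono hN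
    _ = ⊥ := Ideal.map_quotient_self J

section Star

variable {R : Type u} [CommRing R] (𝒜 : ℤ → AddSubgroup R) [GradedRing 𝒜]

/-- a positively graded ring whose nonzero elements of degree zero are units is *local, with
*maximal ideal the irrelevant ideal -/
theorem isStarLocal_irr [Nontrivial R] (hpos : ∀ n : ℤ, n < 0 → 𝒜 n = ⊥)
    (hunit : ∀ c ∈ 𝒜 0, c ≠ 0 → ∃ d, c * d = 1) : GrLC.IsStarLocal 𝒜 (irr 𝒜) := by
  have hmem := mem_irr_iff 𝒜 hpos
  have hne : irr 𝒜 ≠ ⊤ := by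
    intro h
    have h1 : (1 : R) ∈ (irr 𝒜).toIdeal := by
      rw [h]
      trivial
    rw [hmem, cp_of_mem 𝒜 (SetLike.GradedOne.one_mem (A := 𝒜)), if_pos rfl] at h1
    exact one_ne_zero h1
  have key : ∀ n : HomogeneousIdeal 𝒜, n ≠ ⊤ → n ≤ irr 𝒜 := by
    intro n hn
    show n.toIdeal ≤ (irr 𝒜).toIdeal
    intro x hx
    rw [hmem]
    by_contra hc
    obtain ⟨d, hd⟩ := hunit (cp 𝒜 x 0) (cp_mem 𝒜 x 0) hc
    have h1 : cp 𝒜 x 0 ∈ n.toIdeal := n.isHomogeneous 0 hx
    have h2 : (1 : R) ∈ n.toIdeal := hd ▸ n.toIdeal.mul_mem_right d h1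
    exact hn (HomogeneousIdeal.toIdeal_injective ((Ideal.eq_top_iff_one _).2 h2))
  refine ⟨⟨hne, fun b hb => ?_⟩, fun n hn => ?_⟩
  · by_contra hbt
    exact absurd (key b hbt) (not_le_of_gt hb)
  · exact (eq_or_lt_of_le (key n hn.1)).resolve_right (fun hlt => hne (hn.2 _ hlt))

variable {R' : Type u} [CommRing R'] (𝒜' : ℤ → AddSubgroup R') [GradedRing 𝒜']
  (φ : R' →+* R) (q : ℕ)

theorem exists_inv_deg0_ver (hφ : Function.Injective φ)
    (hdeg : ∀ j : ℤ, (𝒜' j).map (φ : R' →+ R) = 𝒜 (j * q)) (h0 : IsField (GrLC.deg0 𝒜))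
    {c : R'} (hc : c ∈ 𝒜' 0) (hc0 : c ≠ 0) : ∃ d, c * d = 1 := by
  have h1 : φ c ∈ 𝒜 0 := by
    have h := map_mem_of_hdeg 𝒜 𝒜' φ q hdeg 0 c hc
    rwa [zero_mul] at h
  have h2 : φ c ≠ 0 := fun h => hc0 (hφ (by rw [h, map_zero]))
  obtain ⟨d, hd, hcd⟩ := exists_inv_deg0 𝒜 h0 h1 h2
  obtain ⟨d', -, hφd'⟩ := exists_preimage_of_hdeg 𝒜 𝒜' φ q hdeg 0 d (by rw [zero_mul]; exact hd)
  exact ⟨d', hφ (by rw [map_mul, hφd', hcd, map_one])⟩

/-- weakly regular sequences of the ambient ring made of elements of the Veronese subring are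
weakly regular on the Veronese subring -/
theorem isWeaklyRegular_ver (hq : 0 < q) (hφ : Function.Injective φ)
    (hdeg : ∀ j : ℤ, (𝒜' j).map (φ : R' →+ R) = 𝒜 (j * q)) (l' : List R')
    (hreg : RingTheory.Sequence.IsWeaklyRegular R (l'.map φ)) :
    RingTheory.Sequence.IsWeaklyRegular R' l' := by
  refine ⟨fun i hi => ?_⟩
  rw [isSMulRegular_iff_right_eq_zero_of_smul]
  intro xb hxb
  obtain ⟨x, rfl⟩ := Submodule.Quotient.mk_surjective _ xb
  have hi' : i < (l'.map φ).length := by rw [List.length_map]; exact hi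
  have h1 := hreg.regular_mod_prev i hi'
  rw [isSMulRegular_iff_right_eq_zero_of_smul] at h1
  have h2 : l'[i] * x ∈ Ideal.ofList (l'.take i) := by
    have h3 : Submodule.Quotient.mk (l'[i] • x) =
        (0 : R' ⧸ (Ideal.ofList (l'.take i) • ⊤ : Submodule R' R')) := hxb
    have h4 := (Submodule.Quotient.mk_eq_zero _).1 h3
    rwa [smul_top_eq] at h4
  have h5 : φ (l'[i] * x) ∈ Ideal.ofList ((l'.map φ).take i) := by
    rw [← List.map_take, ← Ideal.map_ofList]
    exact Ideal.mem_map_of_mem φ h2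
  have h6 := h1 (Submodule.Quotient.mk (φ x)) (by
    rw [← Submodule.Quotient.mk_smul]
    refine (Submodule.Quotient.mk_eq_zero _).2 ?_
    rw [smul_top_eq, List.getElem_map, smul_eq_mul, ← map_mul]
    exact h5)
  have h7 : φ x ∈ Ideal.ofList ((l'.map φ).take i) := by
    have h := (Submodule.Quotient.mk_eq_zero _).1 h6
    rwa [smul_top_eq] at h
  rw [← List.map_take, ← Ideal.map_ofList] at h7
  have h8 : x ∈ ((Ideal.ofList (l'.take i)).map φ).comap φ := h7
  rw [Groth.Agent.H98.GrVer.comap_map_eq 𝒜 𝒜' φ q hq hdeg hφ] at h8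
  refine (Submodule.Quotient.mk_eq_zero _).2 ?_
  rw [smul_top_eq]
  exact h8

end Star

end Groth.Agent.H2.VerReg
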