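import Groth.Agent.H98.GrPoly
import Groth.Agent.H98.GrABPoly
import Groth.Agent.H2.VerReg
import Groth.Agent.H2.VerMk

/-!
# Helper library (helper2): the standard graded polynomial ring `k[x_0, …, x_r]` as a graded ring
defined over a field: degree-zero part, *locality, `a`-invariant `-(r+1)`, dimensions of the pieces,
components versus `MvPolynomial.homogeneousComponent`.
-/

set_option autoImplicit false
universe u

open DirectSum

namespace Groth.Agent.H2.VerPolyF

open Groth.Agent.H98.GrCat Groth.Agent.H98.GrConv Groth.Agent.H98.GrVer Groth.Agent.H98.GrHt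
  Groth.Agent.H98.GrCanon Groth.Agent.H2.VerSoc Groth.Agent.H2.VerReg Groth.Agent.H2.VerMk

section Poly

variable (k : Type u) [Field k] (r : ℕ)

theorem weight_eq (m : Fin (r + 1) →₀ ℕ) :
    Finsupp.weight (fun _ : Fin (r + 1) => (1 : ℤ)) m = ((Finsupp.degree m : ℕ) : ℤ) := by
  rw [Finsupp.weight_apply, Finsupp.sum, Finsupp.degree_apply, Nat.cast_sum]
  refine Finset.sum_congr rfl fun i _ => ?_
  rw [nsmul_eq_mul, mul_one]

theorem mem_PA_iff (p : MvPolynomial (Fin (r + 1)) k) (j : ℕ) :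
    p ∈ PA k r (j : ℤ) ↔ p.IsHomogeneous j := by
  show p.IsWeightedHomogeneous (fun _ : Fin (r + 1) => (1 : ℤ)) (j : ℤ) ↔
    p.IsWeightedHomogeneous (1 : Fin (r + 1) → ℕ) j
  constructor
  · intro h d hd
    have h1 := h hd
    rw [weight_eq] at h1
    have h2 : Finsupp.degree d = j := by exact_mod_cast h1
    rw [← h2, Finsupp.degree_eq_weight_one]
    rfl
  · intro h d hd
    have h1 := h hd
    rw [weight_eq]
    have h2 : Finsupp.degree d = j := by
      rw [← h1, Finsupp.degree_eq_weight_one]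
      rfl
    rw [h2]

theorem cp_neg (p : MvPolynomial (Fin (r + 1)) k) (i : ℤ) (hi : i < 0) : cp (PA k r) p i = 0 := by
  have h1 := cp_mem (PA k r) p i
  have h0 := stdGr_neg k (Fin (r + 1)) i hi
  have h2 : cp (PA k r) p i ∈ toAS (GrSyz.stdGr k (Fin (r + 1))) i := h1
  rw [h0] at h2
  exact AddSubgroup.mem_bot.1 h2

theorem cp_sum {κ : Type*} (s : Finset κ) (g : κ → MvPolynomial (Fin (r + 1)) k) (j : ℤ) :
    cp (PA k r) (∑ i ∈ s, g i) j = ∑ i ∈ s, cp (PA k r) (g i) j := by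
  show compH (PA k r) j (∑ i ∈ s, g i) = ∑ i ∈ s, compH (PA k r) j (g i)
  rw [map_sum]

/-- components for the standard grading are Mathlib's homogeneous components -/
theorem cp_eq (p : MvPolynomial (Fin (r + 1)) k) (j : ℕ) :
    cp (PA k r) p (j : ℤ) = MvPolynomial.homogeneousComponent j p := by
  classical
  conv_lhs => rw [← MvPolynomial.sum_homogeneousComponent p]
  rw [cp_sum]
  have h1 : ∀ i ∈ Finset.range (p.totalDegree + 1),
      cp (PA k r) (MvPolynomial.homogeneousComponent i p) (j : ℤ) =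
        if j = i then MvPolynomial.homogeneousComponent i p else 0 := by
    intro i _
    rw [cp_of_mem (PA k r) ((mem_PA_iff k r _ i).2
      (MvPolynomial.homogeneousComponent_isHomogeneous i p))]
    by_cases h : j = i
    · rw [if_pos h, if_pos (by rw [h])]
    · rw [if_neg h, if_neg (fun h' => h (by exact_mod_cast h'))]
  rw [Finset.sum_congr rfl h1, Finset.sum_ite_eq]
  split_ifs with h
  · rfl
  · rw [Finset.mem_range, not_lt] at h
    rw [MvPolynomial.homogeneousComponent_eq_zero j p (by omega)]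

/-- the Veronese subgroup of the polynomial ring through homogeneous components -/
theorem mem_verSub_iff_hc (d : ℕ) (p : MvPolynomial (Fin (r + 1)) k) :
    p ∈ verSub (PA k r) d ↔
      ∀ j : ℕ, ¬ d ∣ j → MvPolynomial.homogeneousComponent j p = 0 := by
  rw [mem_verSub_iff]
  constructor
  · intro h j hj
    rw [← cp_eq]
    exact h (j : ℤ) (fun h' => hj (Int.natCast_dvd_natCast.1 h'))
  · intro h i hi
    show cp (PA k r) p i = 0
    rcases lt_or_ge i 0 with h0 | h0
    · exact cp_neg k r p i h0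
    · obtain ⟨j, rfl⟩ := Int.eq_ofNat_of_zero_le h0
      rw [cp_eq]
      exact h j (fun h' => hi (Int.natCast_dvd_natCast.2 h'))

theorem mem_PA_zero_iff (p : MvPolynomial (Fin (r + 1)) k) :
    p ∈ PA k r 0 ↔ ∃ c : k, p = MvPolynomial.C c := by
  have e0 : ((0 : ℕ) : ℤ) = 0 := rfl
  rw [← e0, mem_PA_iff]
  constructor
  · intro h
    by_cases hp : p = 0
    · exact ⟨0, by rw [hp, map_zero]⟩
    · exact ⟨_, MvPolynomial.totalDegree_eq_zero_iff_eq_C.1 (h.totalDegree hp)⟩
  · rintro ⟨c, rfl⟩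
    exact MvPolynomial.isHomogeneous_C _ c

theorem C_mem_PA_zero (c : k) : (MvPolynomial.C c : MvPolynomial (Fin (r + 1)) k) ∈ PA k r 0 :=
  (mem_PA_zero_iff k r _).2 ⟨c, rfl⟩

theorem hunit_PA : ∀ c ∈ PA k r 0, c ≠ 0 → ∃ d ∈ PA k r 0, c * d = 1 := by
  intro c hc hc0
  obtain ⟨a, rfl⟩ := (mem_PA_zero_iff k r c).1 hc
  have ha : a ≠ 0 := fun h => hc0 (by rw [h, map_zero])
  refine ⟨MvPolynomial.C a⁻¹, C_mem_PA_zero k r _, ?_⟩
  rw [← map_mul, mul_inv_cancel₀ ha, map_one]

theorem isField_deg0_PA : IsField (GrLC.deg0 (PA k r)) := by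
  refine ⟨⟨0, 1, fun h => ?_⟩, fun a b => mul_comm a b, fun {a} ha => ?_⟩
  · have h1 : ((0 : GrLC.deg0 (PA k r)) : MvPolynomial (Fin (r + 1)) k) =
        ((1 : GrLC.deg0 (PA k r)) : MvPolynomial (Fin (r + 1)) k) := congrArg Subtype.val h
    exact zero_ne_one h1
  · obtain ⟨d, hd, hcd⟩ := hunit_PA k r a.1 a.2 (fun h => ha (Subtype.ext h))
    exact ⟨⟨d, hd⟩, Subtype.ext hcd⟩

theorem Pm_eq_irr : Pm k r = irr (PA k r) := by
  apply HomogeneousIdeal.toIdeal_injective
  rw [irr_toIdeal]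
  show Ideal.span {p : MvPolynomial (Fin (r + 1)) k |
    ∃ n : ℤ, 0 < n ∧ p ∈ GrSyz.stdGr k (Fin (r + 1)) n} = _
  congr 1
  ext p
  simp only [Set.mem_setOf_eq, Set.mem_iUnion, Set.mem_Ioi, SetLike.mem_coe, exists_prop]
  rfl

theorem isStarLocal_Pm : GrLC.IsStarLocal (PA k r) (Pm k r) := by
  rw [Pm_eq_irr]
  exact isStarLocal_irr (PA k r) (stdGr_neg k (Fin (r + 1)))
    (fun c hc hc0 => (hunit_PA k r c hc hc0).imp fun d hd => hd.2)

theorem Pm_toIdeal : (Pm k r).toIdeal =
    Ideal.span (⋃ n ∈ Set.Ioi (0 : ℤ), (PA k r n : Set (MvPolynomial (Fin (r + 1)) k))) := by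
  rw [Pm_eq_irr, irr_toIdeal]

theorem hstd_PA : Ideal.span (⋃ n ∈ Set.Ioi (0 : ℤ),
      (PA k r n : Set (MvPolynomial (Fin (r + 1)) k))) =
    Ideal.span ((PA k r 1 : AddSubgroup (MvPolynomial (Fin (r + 1)) k)) :
      Set (MvPolynomial (Fin (r + 1)) k)) := by
  apply le_antisymm
  · rw [← Pm_toIdeal, pm_eq_span_X, Ideal.span_le]
    rintro _ ⟨i, rfl⟩
    exact Ideal.subset_span
      (MvPolynomial.isWeightedHomogeneous_X k (fun _ : Fin (r + 1) => (1 : ℤ)) i)
  · apply Ideal.span_mono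
    intro p hp
    exact Set.mem_biUnion (Set.mem_Ioi.2 zero_lt_one) hp

/-- the `a`-invariant of the polynomial ring in `r + 1` variables is `-(r + 1)` -/
theorem ainv_PA (I : GrLC.StarInjRes (PA k r) (PA k r)) :
    GrLC.endDeg (I.Hgr (Pm k r) (r + 1)) =
      (((-((r + 1 : ℕ) : ℤ) : ℤ) : WithTop ℤ) : WithBot (WithTop ℤ)) := by
  apply le_antisymm
  · rw [endDeg_le_iff]
    intro e he
    by_contra hne
    exact (hgr_ne_bot_iff I (Pm k r) (r + 1) e).1 hne
      (vn_top k r I e (by push_cast at he; omega))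
  · have h1 : I.Hgr (Pm k r) (r + 1) (-((r + 1 : ℕ) : ℤ)) ≠ ⊥ :=
      (hgr_ne_bot_iff I (Pm k r) (r + 1) _).2 (fun hV => poly_hPnv k r (hv_of_vn I hV))
    exact le_iSup₂ (f := fun (m : ℤ) (_ : I.Hgr (Pm k r) (r + 1) m ≠ ⊥) =>
      ((m : WithTop ℤ) : WithBot (WithTop ℤ))) _ h1

/-- the dimension of the piece of degree `ρ` of the polynomial ring in `r + 1` variables -/
theorem finrank_comp_PA (ρ : ℕ) :
    Module.finrank (GrLC.deg0 (PA k r)) (GrLC.comp (PA k r) (PA k r) (ρ : ℤ)) =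
      (r + ρ).choose r := by
  classical
  have h1 : Module.rank k ↥(GrSyz.stdGr k (Fin (r + 1)) (ρ : ℤ)) =
      Module.rank (GrLC.deg0 (PA k r)) ↥(GrLC.comp (PA k r) (PA k r) (ρ : ℤ)) := by
    refine rank_eq_of_equiv_equiv
      (fun c => (⟨MvPolynomial.C c, C_mem_PA_zero k r c⟩ : GrLC.deg0 (PA k r)))
      { toFun := fun x => ⟨x.1, x.2⟩
        invFun := fun y => ⟨y.1, y.2⟩
        left_inv := fun _ => rfl
        right_inv := fun _ => rfl
        map_add' := fun _ _ => rfl } ⟨?_, ?_⟩ ?_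
    · intro a b h
      exact MvPolynomial.C_injective _ _ (congrArg Subtype.val h)
    · rintro ⟨p, hp⟩
      obtain ⟨c, rfl⟩ := (mem_PA_zero_iff k r p).1 hp
      exact ⟨c, rfl⟩
    · intro c x
      apply Subtype.ext
      show c • (x : MvPolynomial (Fin (r + 1)) k) =
        MvPolynomial.C c * (x : MvPolynomial (Fin (r + 1)) k)
      exact MvPolynomial.smul_eq_C_mul _ _
  have h2 : Module.finrank k ↥(GrSyz.stdGr k (Fin (r + 1)) (ρ : ℤ)) = (r + ρ).choose r := by
    obtain ⟨S, hSdef⟩ : ∃ S : Set (Fin (r + 1) →₀ ℕ),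
        S = {d | Finsupp.weight (fun _ : Fin (r + 1) => (1 : ℤ)) d = (ρ : ℤ)} := ⟨_, rfl⟩
    have hS : GrSyz.stdGr k (Fin (r + 1)) (ρ : ℤ) = AddMonoidAlgebra.supported k k S := by
      rw [hSdef]
      exact MvPolynomial.weightedHomogeneousSubmodule_eq_finsupp_supported k _ _
    have hmem : ∀ d, d ∈ (Finset.univ : Finset (Fin (r + 1))).finsuppAntidiag ρ ↔ d ∈ S := by
      intro d
      rw [Finset.mem_finsuppAntidiag, hSdef]
      show _ ↔ Finsupp.weight _ d = (ρ : ℤ)
      rw [weight_eq, Finsupp.degree_eq_sum]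
      constructor
      · rintro ⟨h, -⟩
        rw [h]
      · intro h
        exact ⟨by exact_mod_cast h, Finset.subset_univ _⟩
    haveI : Fintype ↥S := Fintype.ofFinset _ hmem
    rw [hS, LinearEquiv.finrank_eq (AddMonoidAlgebra.supportedEquivFinsupp S),
      Module.finrank_finsupp_self, Fintype.card_eq_nat_card, Nat.subtype_card _ hmem,
      Finset.card_finsuppAntidiag_nat_eq_choose, Finset.card_univ, Fintype.card_fin]
    have e1 : r + 1 + ρ - 1 = ρ + r := by omega
    rw [e1, Nat.choose_symm_add, add_comm]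
  show Cardinal.toNat (Module.rank _ _) = _
  rw [← h1]
  exact h2

end Poly

section Ver

variable (k : Type u) [Field k] (r : ℕ)
variable {R' : Type u} [CommRing R'] (𝒜' : ℤ → AddSubgroup R') [GradedRing 𝒜']
  (φ : R' →+* MvPolynomial (Fin (r + 1)) k) (q : ℕ) (hq : 0 < q) (hφ : Function.Injective φ)
  (hdeg : ∀ j : ℤ, (𝒜' j).map (φ : R' →+ MvPolynomial (Fin (r + 1)) k) = PA k r (j * q))

include hq hφ hdeg in
/-- the irrelevant ideal of a Veronese subring of the polynomial ring is the ideal of elements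
with zero constant term -/
theorem comap_ker_eq :
    Ideal.comap φ (RingHom.ker
      (MvPolynomial.constantCoeff : MvPolynomial (Fin (r + 1)) k →+* k)) = (irr 𝒜').toIdeal := by
  ext x
  rw [mem_irr_iff 𝒜' (hpos_ver (PA k r) (stdGr_neg k (Fin (r + 1))) 𝒜' φ q hq hφ hdeg),
    Ideal.mem_comap, RingHom.mem_ker]
  have h1 := cp_map (PA k r) 𝒜' φ q hq hdeg x 0
  rw [zero_mul] at h1
  have h3 : cp (PA k r) (φ x) 0 = MvPolynomial.C (MvPolynomial.coeff 0 (φ x)) := by
    have h4 := cp_eq k r (φ x) 0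
    rw [MvPolynomial.homogeneousComponent_zero] at h4
    exact_mod_cast h4
  rw [h3] at h1
  constructor
  · intro h
    apply hφ
    rw [map_zero, ← h1]
    have h2 : MvPolynomial.coeff 0 (φ x) = 0 := h
    rw [h2, map_zero]
  · intro h
    rw [h, map_zero] at h1
    have h2 := MvPolynomial.C_injective (Fin (r + 1)) k (h1.trans (map_zero _).symm)
    exact h2

end Ver

end Groth.Agent.H2.VerPolyF
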