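import Groth.Agent.H98.GrPolyArt
import Groth.Agent.H2.VerSoc

/-!
# Helper library (helper2): homogeneous regular sequences coming from a Veronese subring, and the
top degree of the quotient of a Cohen–Macaulay graded ring by a homogeneous system of parameters.
-/

set_option autoImplicit false
universe u

open DirectSum

namespace Groth.Agent.H2.VerSeq

open Groth.Agent.H98.GrCat Groth.Agent.H98.GrHt Groth.Agent.H98.GrLin Groth.Agent.H98.GrConv
open Groth.Agent.H2.VerSoc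

theorem ne_bot_of_endDeg_eq {X : Type u} [AddCommGroup X] (𝒢 : ℤ → AddSubgroup X) (a : ℤ)
    (h : GrLC.endDeg 𝒢 = ((a : WithTop ℤ) : WithBot (WithTop ℤ))) : 𝒢 a ≠ ⊥ := by
  intro hbot
  have hle : GrLC.endDeg 𝒢 ≤ (((a - 1 : ℤ) : WithTop ℤ) : WithBot (WithTop ℤ)) := by
    refine iSup₂_le fun n hn => ?_
    have h1 : ((n : WithTop ℤ) : WithBot (WithTop ℤ)) ≤ GrLC.endDeg 𝒢 :=
      le_iSup₂ (f := fun (m : ℤ) (_ : 𝒢 m ≠ ⊥) => ((m : WithTop ℤ) : WithBot (WithTop ℤ))) n hn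
    rw [h, WithBot.coe_le_coe, WithTop.coe_le_coe] at h1
    rw [WithBot.coe_le_coe, WithTop.coe_le_coe]
    have hna : n ≠ a := fun e => hn (e ▸ hbot)
    omega
  rw [h, WithBot.coe_le_coe, WithTop.coe_le_coe] at hle
  omega

section Seq

variable {R : Type u} [CommRing R] [LocCoh.IsCohenMacaulayRing R] (𝒜 : ℤ → AddSubgroup R)
  [GradedRing 𝒜]
variable {R' : Type u} [CommRing R'] (𝒜' : ℤ → AddSubgroup R') [GradedRing 𝒜']
  (φ : R' →+* R) (q : ℕ)

/-- **regular sequences from the Veronese subring**: in a Cohen–Macaulay positively graded *local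
ring of dimension `d` there is, for every `s ≤ d`, a regular sequence of `s` homogeneous elements
of positive degree of the Veronese subring -/
theorem exists_ver_seq (hpos : ∀ n : ℤ, n < 0 → 𝒜 n = ⊥)
    (m : HomogeneousIdeal 𝒜) (hm : GrLC.IsStarLocal 𝒜 m)
    (hmsp : m.toIdeal = Ideal.span (⋃ n ∈ Set.Ioi (0 : ℤ), (𝒜 n : Set R)))
    (d : ℕ) (hd : ringKrullDim R = d) (I : GrLC.StarInjRes 𝒜 𝒜)
    (hdeg : ∀ j : ℤ, (𝒜' j).map (φ : R' →+ R) = 𝒜 (j * q)) :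
    ∀ s : ℕ, s ≤ d → ∃ l' : List R', l'.length = s ∧ (∀ r ∈ l', ∃ e : ℤ, 0 < e ∧ r ∈ 𝒜' e) ∧
      RingTheory.Sequence.IsWeaklyRegular R (l'.map φ) := by
  classical
  intro s
  induction s with
  | zero => exact fun _ => ⟨[], rfl, fun r hr => absurd hr (List.not_mem_nil), .nil R R⟩
  | succ s ih =>
    intro hs
    obtain ⟨l', hlen, hl1, hreg⟩ := ih (by omega)
    obtain ⟨l, hl⟩ : ∃ l : List R, l = l'.map φ := ⟨_, rfl⟩
    rw [← hl] at hreg
    have hllen : l.length = s := by rw [hl, List.length_map, hlen]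
    have hlhom : ∀ r ∈ l, ∃ j, r ∈ 𝒜 j := by
      intro r hr
      rw [hl] at hr
      obtain ⟨r0, hr0, rfl⟩ := List.mem_map.1 hr
      obtain ⟨e, -, he⟩ := hl1 r0 hr0
      exact ⟨e * q, map_mem_of_hdeg 𝒜 𝒜' φ q hdeg e r0 he⟩
    have hB := bq_isHomogeneous (𝒜 := 𝒜) l hlhom l.length
    obtain ⟨E, -⟩ : ∃ E : GrLC.StarInjRes 𝒜 (quotG 𝒜 𝒜 (Bq l l.length) hB).gr, True :=
      ⟨starInjRes 𝒜 _, trivial⟩
    have hV : ∀ j, Vn E m 0 j :=
      vn_quot_list m I d (fun i hi j => vn_of_cm hpos m hm d hd I i hi j) l hlhom hreg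
        l.length le_rfl E 0 (by omega)
    have htor := torsionSub_eq_bot_of_vn_zero E m hV
    have hfin : Module.Finite R (quotG 𝒜 𝒜 (Bq l l.length) hB).carrier :=
      inferInstanceAs (Module.Finite R (R ⧸ Bq l l.length))
    obtain ⟨e, x, he, hx, hxreg⟩ := exists_homog_regular 𝒜 hpos m hmsp
      (quotG 𝒜 𝒜 (Bq l l.length) hB).carrier htor
    have hxq : x ^ q ∈ 𝒜 (e * q) := by
      have h1 := SetLike.pow_mem_graded q hx
      rwa [nsmul_eq_mul, mul_comm] at h1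
    obtain ⟨y', hy', hφy'⟩ := exists_preimage_of_hdeg 𝒜 𝒜' φ q hdeg e (x ^ q) hxq
    have hxreg' : IsSMulRegular (R ⧸ (Ideal.ofList l • ⊤ : Submodule R R)) (x ^ q) := by
      have h1 : IsSMulRegular (R ⧸ Bq l l.length) x := hxreg
      unfold Bq at h1
      rw [List.take_length] at h1
      exact h1.pow q
    refine ⟨l' ++ [y'], by rw [List.length_append, List.length_singleton, hlen], ?_, ?_⟩
    · intro r hr
      rcases List.mem_append.1 hr with h | h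
      · exact hl1 r h
      · rw [List.mem_singleton.1 h]
        exact ⟨e, he, hy'⟩
    · rw [List.map_append, ← hl, List.map_singleton, hφy']
      exact (RingTheory.Sequence.isWeaklyRegular_append_iff R l [x ^ q]).2
        ⟨hreg, (RingTheory.Sequence.isWeaklyRegular_singleton_iff _ (x ^ q)).2 hxreg'⟩

/-- **the top degree of the quotient by a homogeneous system of parameters** -/
theorem top_facts (hpos : ∀ n : ℤ, n < 0 → 𝒜 n = ⊥)
    (m : HomogeneousIdeal 𝒜) (hm : GrLC.IsStarLocal 𝒜 m)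
    (hmsp : m.toIdeal = Ideal.span (⋃ n ∈ Set.Ioi (0 : ℤ), (𝒜 n : Set R)))
    (I : GrLC.StarInjRes 𝒜 𝒜) (a : ℤ) (l : List R) (hd : ringKrullDim R = l.length)
    (ha : GrLC.endDeg (I.Hgr m l.length) = ((a : WithTop ℤ) : WithBot (WithTop ℤ)))
    (deg : Fin l.length → ℤ) (hldeg : ∀ i, l.get i ∈ 𝒜 (deg i))
    (hlm : ∀ r ∈ l, r ∈ m.toIdeal) (hreg : RingTheory.Sequence.IsWeaklyRegular R l) :
    (∀ j, a + ∑ i, deg i < j → ∀ x ∈ 𝒜 j, x ∈ Ideal.ofList l) ∧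
      (∃ x ∈ 𝒜 (a + ∑ i, deg i), x ∉ Ideal.ofList l) ∧
      ∃ N : ℕ, m.toIdeal ^ N ≤ Ideal.ofList l := by
  classical
  obtain ⟨y, hy⟩ : ∃ y : Fin l.length → R, y = l.get := ⟨_, rfl⟩
  have hofFn : List.ofFn y = l := by rw [hy]; exact List.ofFn_get l
  have hydeg : ∀ i, y i ∈ 𝒜 (deg i) := fun i => by rw [hy]; exact hldeg i
  have hym : ∀ i, y i ∈ m.toIdeal := fun i => by rw [hy]; exact hlm _ (List.get_mem l i)
  have hmax : m.toIdeal.IsMaximal := isMaximal_of_isCoatom 𝒜 hpos m hm.1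
  obtain ⟨B, hBdef⟩ : ∃ B : Submodule R R, B = Ideal.span (Set.range y) := ⟨_, rfl⟩
  have hBl' : B = Ideal.ofList l := by
    rw [hBdef, hy, Set.range_list_get]
  have hBl : B = (Ideal.ofList l • ⊤ : Submodule R R) := by
    rw [hBl', smul_eq_mul, Ideal.mul_top]
  have hBhom : B.IsHomogeneous 𝒜 := by
    rw [hBdef]
    exact Ideal.homogeneous_span 𝒜 _ (by rintro _ ⟨i, rfl⟩; exact ⟨deg i, hydeg i⟩)
  have hBm : B ≤ m.toIdeal := by
    rw [hBdef]
    exact Ideal.span_le.2 (by rintro _ ⟨i, rfl⟩; exact hym i)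
  have hregular : RingTheory.Sequence.IsRegular R (List.ofFn y) := by
    rw [hofFn]
    refine ⟨hreg, ?_⟩
    rw [← hBl]
    intro h
    exact hmax.ne_top (eq_top_iff.2 (h.le.trans hBm))
  obtain ⟨π, hπ⟩ : ∃ π : R →ₗ[R] (quotG 𝒜 𝒜 B hBhom).carrier, ∀ r, π r = B.mkQ r :=
    ⟨B.mkQ, fun _ => rfl⟩
  have hπg : GrLC.IsGrHom 𝒜 (quotG 𝒜 𝒜 B hBhom).gr π := by
    intro j r hr
    rw [hπ]
    exact (mem_quotGr' 𝒜 B).2 ⟨r, hr, rfl⟩
  have hπs : Function.Surjective π := by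
    intro z
    obtain ⟨r, rfl⟩ := B.mkQ_surjective z
    exact ⟨r, hπ r⟩
  have hπk : LinearMap.ker π = Ideal.span (Set.range y) := by
    rw [← hBdef]
    ext r
    rw [LinearMap.mem_ker, hπ]
    exact Submodule.Quotient.mk_eq_zero _
  obtain ⟨F, -⟩ : ∃ F : GrLC.StarInjRes 𝒜 (quotG 𝒜 𝒜 B hBhom).gr, True :=
    ⟨starInjRes 𝒜 _, trivial⟩
  have hend := endDeg_quot_seq hpos m I l.length
    (fun i hi j => vn_of_cm hpos m hm l.length hd I i hi j) l.length le_rfl y deg hydeg hym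
    hregular π hπg hπs hπk F
  rw [Nat.sub_self, ha, ← WithBot.coe_add, ← WithTop.coe_add] at hend
  have hV0 : ∀ j : ℤ, a + ∑ i, deg i < j → Vn F m 0 j := fun j hj =>
    vn_of_Hgr_eq_bot ((endDeg_le_iff _ _).1 (le_of_eq hend) j hj)
  have hfin : Module.Finite R (quotG 𝒜 𝒜 B hBhom).carrier :=
    inferInstanceAs (Module.Finite R (R ⧸ B))
  have hdim : Module.supportDim R (quotG 𝒜 𝒜 B hBhom).carrier ≤ 0 := by
    have h1 := supportDim_add_length_le R l hreg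
    rw [Module.supportDim_self_eq_ringKrullDim, hd, ← hBl] at h1
    exact withBot_enat_le_zero_of_add_le _ _ h1
  have htorI : GrLC.gam (irr 𝒜).toIdeal (quotG 𝒜 𝒜 B hBhom).carrier = ⊤ :=
    gam_eq_top_of_supportDim_le_zero 𝒜 hpos _ (quotG 𝒜 𝒜 B hBhom).gr hdim
  have htor : GrLC.gam m.toIdeal (quotG 𝒜 𝒜 B hBhom).carrier = ⊤ := by
    rw [hmsp]
    exact htorI
  have hpiece : ∀ j : ℤ, a + ∑ i, deg i < j → (quotG 𝒜 𝒜 B hBhom).gr j = ⊥ := fun j hj =>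
    piece_eq_bot_of_vn_zero F m j htor (hV0 j hj)
  refine ⟨?_, ?_, ?_⟩
  · intro j hj x hx
    rw [← hBl']
    have h1 : B.mkQ x ∈ (quotG 𝒜 𝒜 B hBhom).gr j := (mem_quotGr' 𝒜 B).2 ⟨x, hx, rfl⟩
    have h2 : (B.mkQ x : (quotG 𝒜 𝒜 B hBhom).carrier) ∈
        (⊥ : AddSubgroup (quotG 𝒜 𝒜 B hBhom).carrier) := by
      rw [← hpiece j hj]
      exact h1
    exact (Submodule.Quotient.mk_eq_zero _).1 (AddSubgroup.mem_bot.1 h2)
  · have hne : F.Hgr m 0 (a + ∑ i, deg i) ≠ ⊥ := ne_bot_of_endDeg_eq _ _ hend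
    have hnV : ¬ Vn F m 0 (a + ∑ i, deg i) := (hgr_ne_bot_iff F m 0 _).1 hne
    have hpne : (quotG 𝒜 𝒜 B hBhom).gr (a + ∑ i, deg i) ≠ ⊥ := fun h =>
      hnV (vn_zero_of_piece_eq_bot F m _ h)
    obtain ⟨⟨z, hz⟩, hz0⟩ := AddSubgroup.ne_bot_iff_exists_ne_zero.1 hpne
    obtain ⟨x, hx, hxz⟩ := (mem_quotGr' 𝒜 B).1 hz
    refine ⟨x, hx, fun hxB => hz0 (Subtype.ext ?_)⟩
    have hxB' : x ∈ B := by
      rw [hBl']
      exact hxB
    have h3 : B.mkQ x = 0 := (Submodule.Quotient.mk_eq_zero B).2 hxB'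
    rw [h3] at hxz
    exact hxz.symm
  · have h1 : (B.mkQ (1 : R) : (quotG 𝒜 𝒜 B hBhom).carrier) ∈
        GrLC.gam m.toIdeal (quotG 𝒜 𝒜 B hBhom).carrier := by
      rw [htor]
      trivial
    obtain ⟨N, hN⟩ := h1
    refine ⟨N, fun r hr => ?_⟩
    rw [← hBl']
    have h2 := hN r hr
    have h3 : B.mkQ (r • (1 : R)) = 0 := (map_smul B.mkQ r (1 : R)).trans h2
    rw [smul_eq_mul, mul_one] at h3
    exact (Submodule.Quotient.mk_eq_zero B).1 h3

end Seq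

end Groth.Agent.H2.VerSeq
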