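import Groth.Agent.H71.BassRees
import Groth.Agent.H71.BassLoc
import Groth.Agent.H71.SocleCount
import Groth.Agent.H2.VerGor

/-!
# Helper library (helper2): the type of a Noetherian ring at a maximal ideal via an Artinian
quotient by a regular sequence

* `bassNumLocal_quot_weaklyRegular`: iterated Rees shift for the Bass numbers of a local ring.
* `bassNumLocal_zero_eq_length_soc`: `μ^0(B) = length (0 :_B m_B)` for a local ring `B`.
* `bassNum_eq_length_soc_quot`: for a weakly regular sequence `l` in a maximal ideal `m` of a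
  Noetherian ring `C` with `C/(l)` local, `μ^{|l|}(m, C) = length (socle of C/(l))`.
-/

set_option autoImplicit false
set_option linter.style.haveILetI false
set_option linter.unusedSectionVars false
universe u
open IsLocalRing CategoryTheory Abelian
open scoped Pointwise

namespace Groth.Agent.H2.VerType1

open Groth.Agent.H60.GorTransfer Groth.Agent.H59.Goren4 Groth.Agent.H60.Rees Groth.Agent.H71

/-- the Rees datum of the ring itself -/
noncomputable def selfData {S : Type u} [CommRing S] (x : S) (hx : IsSMulRegular S x) :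
    ReesMod.Data x where
  M := ModuleCat.of S S
  Mb := ModuleCat.of (S ⧸ Ideal.span {x}) (S ⧸ Ideal.span {x})
  q := ModuleCat.ofHom (πlin x)
  hreg := hx
  hsurj := Ideal.Quotient.mk_surjective
  hker := fun m => by
    show Ideal.Quotient.mk (Ideal.span {x}) m = 0 ↔ _
    rw [Ideal.Quotient.eq_zero_iff_mem, Ideal.mem_span_singleton']
    constructor
    · rintro ⟨a, rfl⟩
      exact ⟨a, by rw [smul_eq_mul, mul_comm]⟩
    · rintro ⟨a, rfl⟩
      exact ⟨a, by rw [smul_eq_mul, mul_comm]⟩

theorem bassNumLocal_succ_self (S : Type u) [CommRing S] [IsLocalRing S] [IsNoetherianRing S]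
    (x : S) [IsLocalRing (S ⧸ Ideal.span {x})] (hx : IsSMulRegular S x) (i : ℕ) :
    GrLC.bassNumLocal S S (i + 1) =
      GrLC.bassNumLocal (S ⧸ Ideal.span {x}) (S ⧸ Ideal.span {x}) i :=
  (BassRees.bassNumLocal_rees S x hx (selfData x hx)).2 i

theorem bassNumLocal_ringEquiv_self {A₁ A₂ : Type u} [CommRing A₁] [CommRing A₂] [IsLocalRing A₁]
    [IsLocalRing A₂] [IsNoetherianRing A₁] (e : A₁ ≃+* A₂) (i : ℕ) :
    GrLC.bassNumLocal A₂ A₂ i = GrLC.bassNumLocal A₁ A₁ i :=
  BassLoc.bassNumLocal_of_ringEquiv e e.toAddEquiv (fun a m => by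
    show e (a * m) = e a * e m
    exact map_mul e a m) i

/-- iterated Rees shift -/
theorem bassNumLocal_quot_weaklyRegular : ∀ (n : ℕ) (A : Type u) [CommRing A] [IsLocalRing A]
    [IsNoetherianRing A] (rs : List A), rs.length = n → (∀ r ∈ rs, r ∈ maximalIdeal A) →
    RingTheory.Sequence.IsWeaklyRegular A rs →
    ∀ (hloc : IsLocalRing (A ⧸ Ideal.ofList rs)) (i : ℕ),
      GrLC.bassNumLocal A A (i + n) =
        GrLC.bassNumLocal (A ⧸ Ideal.ofList rs) (A ⧸ Ideal.ofList rs) i := by
  intro n
  induction n with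
  | zero =>
    intro A _ _ _ rs hlen _ _ hloc i
    have hrs : rs = [] := List.length_eq_zero_iff.mp hlen
    subst hrs
    have e : A ≃+* A ⧸ Ideal.ofList ([] : List A) :=
      (RingEquiv.quotientBot A).symm.trans (Ideal.quotEquivOfEq Ideal.ofList_nil.symm)
    rw [add_zero]
    exact (bassNumLocal_ringEquiv_self e i).symm
  | succ n ih =>
    intro A _ _ _ rs hlen hmem hreg hloc i
    obtain ⟨x, xs, rfl⟩ : ∃ x xs, rs = x :: xs := by
      cases rs with
      | nil => simp at hlen
      | cons x xs => exact ⟨x, xs, rfl⟩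
    have hlen' : xs.length = n := by simpa using hlen
    obtain ⟨hx, hxs⟩ := (RingTheory.Sequence.isWeaklyRegular_cons_iff' A x xs).mp hreg
    have hxm : x ∈ maximalIdeal A := hmem x (List.mem_cons_self)
    have hne : Ideal.span {x} ≠ (⊤ : Ideal A) := by
      intro h
      have h1 : Ideal.span {x} ≤ maximalIdeal A := by
        rw [Ideal.span_le]
        intro y hy
        rw [Set.mem_singleton_iff.1 hy]
        exact hxm
      exact (maximalIdeal.isMaximal A).ne_top (eq_top_iff.2 (h ▸ h1))
    haveI : Nontrivial (A ⧸ Ideal.span {x}) := Ideal.Quotient.nontrivial_iff.2 hne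
    haveI : IsLocalRing (A ⧸ Ideal.span {x}) :=
      IsLocalRing.of_surjective' (Ideal.Quotient.mk (Ideal.span {x})) Ideal.Quotient.mk_surjective
    haveI : IsLocalHom (Ideal.Quotient.mk (Ideal.span {x})) :=
      IsLocalHom.of_surjective _ Ideal.Quotient.mk_surjective
    have hmem' : ∀ r ∈ xs.map (Ideal.Quotient.mk (Ideal.span {x})),
        r ∈ maximalIdeal (A ⧸ Ideal.span {x}) := by
      intro r hr
      obtain ⟨r0, hr0, rfl⟩ := List.mem_map.mp hr
      have h0 : r0 ∈ maximalIdeal A := hmem r0 (List.mem_cons_of_mem _ hr0)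
      rw [mem_maximalIdeal, mem_nonunits_iff] at h0 ⊢
      intro hu
      exact h0 (isUnit_of_map_unit (Ideal.Quotient.mk (Ideal.span {x})) r0 hu)
    have heq : (x • (⊤ : Submodule A A)) = (Ideal.span {x} : Ideal A) := by
      rw [← Submodule.ideal_span_singleton_smul, smul_eq_mul, Ideal.mul_top]
    let e : QuotSMulTop x A ≃ₗ[A] A ⧸ Ideal.span {x} := Submodule.quotEquivOfEq _ _ heq
    have hxs' : RingTheory.Sequence.IsWeaklyRegular (A ⧸ Ideal.span {x})
        (xs.map (Ideal.Quotient.mk (Ideal.span {x}))) := by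
      refine (AddEquiv.isWeaklyRegular_congr (e := e.toAddEquiv) ?_).mp hxs
      refine List.forall₂_same.mpr fun r' _ m => ?_
      obtain ⟨r, rfl⟩ := Ideal.Quotient.mk_surjective r'
      obtain ⟨m, rfl⟩ := Submodule.Quotient.mk_surjective _ m
      rfl
    have hI : (Ideal.ofList xs).map (Ideal.Quotient.mk (Ideal.span {x})) =
        Ideal.ofList (xs.map (Ideal.Quotient.mk (Ideal.span {x}))) := Ideal.map_ofList _ _
    have e2 : ((A ⧸ Ideal.span {x}) ⧸ Ideal.ofList (xs.map (Ideal.Quotient.mk (Ideal.span {x}))))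
        ≃+* A ⧸ Ideal.ofList (x :: xs) :=
      (Ideal.quotEquivOfEq hI.symm).trans
        ((DoubleQuot.quotQuotEquivQuotSup (Ideal.span {x}) (Ideal.ofList xs)).trans
          (Ideal.quotEquivOfEq (Ideal.ofList_cons x xs).symm))
    haveI hloc2 : IsLocalRing ((A ⧸ Ideal.span {x}) ⧸
        Ideal.ofList (xs.map (Ideal.Quotient.mk (Ideal.span {x})))) := e2.symm.isLocalRing
    have h1 : GrLC.bassNumLocal A A (i + (n + 1)) =
        GrLC.bassNumLocal (A ⧸ Ideal.span {x}) (A ⧸ Ideal.span {x}) (i + n) := by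
      rw [← add_assoc]
      exact bassNumLocal_succ_self A x hx (i + n)
    have h2 := ih (A ⧸ Ideal.span {x}) (xs.map (Ideal.Quotient.mk (Ideal.span {x})))
      (by simpa using hlen') hmem' hxs' hloc2 i
    rw [h1, h2]
    exact (bassNumLocal_ringEquiv_self e2 i).symm

/-- `μ^0` of a local ring is the length of its socle -/
theorem bassNumLocal_zero_eq_length_soc (B : Type u) [CommRing B] [IsLocalRing B] :
    GrLC.bassNumLocal B B 0 =
      Module.length B ↥(Submodule.torsionBySet B B (maximalIdeal B : Set B)) := by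
  show Module.length B (Ext.{u} (ModuleCat.of B (ResidueField B)) (ModuleCat.of B B) 0) = _
  let θ₀ : Ext.{u} (ModuleCat.of B (ResidueField B)) (ModuleCat.of B B) 0 →ₗ[B] B :=
    (LinearMap.applyₗ (1 : ResidueField B)) ∘ₗ (ModuleCat.homLinearEquiv (S := B)).toLinearMap ∘ₗ
      (Ext.linearEquiv₀ (R := B)).toLinearMap
  have hθ₀ : ∀ ψ : ModuleCat.of B (ResidueField B) ⟶ ModuleCat.of B B,
      θ₀ (Ext.mk₀ ψ) = ψ.hom 1 := by
    intro ψ
    have : Ext.linearEquiv₀ (R := B) (Ext.mk₀ ψ) = ψ := by
      apply (Ext.mk₀_bijective _ _).1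
      rw [Ext.mk₀_linearEquiv₀_apply]
    show (ModuleCat.homLinearEquiv (S := B) (Ext.linearEquiv₀ (R := B) (Ext.mk₀ ψ))) 1 = _
    rw [this]
    rfl
  have hres : ∀ a ∈ maximalIdeal B, a • (1 : ResidueField B) = 0 := by
    intro a ha
    show a • (residue B 1) = 0
    rw [Algebra.smul_def, ResidueField.algebraMap_eq, (residue_eq_zero_iff a).2 ha, zero_mul]
  let θ : Ext.{u} (ModuleCat.of B (ResidueField B)) (ModuleCat.of B B) 0 →ₗ[B]
      ↥(Submodule.torsionBySet B B (maximalIdeal B : Set B)) :=
    θ₀.codRestrict _ (fun x => by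
      obtain ⟨ψ, rfl⟩ := (Ext.mk₀_bijective _ _).2 x
      rw [hθ₀, Submodule.mem_torsionBySet_iff]
      rintro ⟨a, ha⟩
      show a • ψ.hom 1 = 0
      rw [← map_smul, hres a ha, map_zero])
  have hext : ∀ φ ψ : ResidueField B →ₗ[B] B, φ 1 = ψ 1 → φ = ψ := by
    intro φ ψ h
    refine LinearMap.ext fun a => ?_
    obtain ⟨a, rfl⟩ := residue_surjective a
    have h3 : residue B a = a • (1 : ResidueField B) := by
      rw [Algebra.smul_def, mul_one]
      rfl
    rw [h3, map_smul, map_smul, h]
  have hinj : Function.Injective θ := by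
    rw [← LinearMap.ker_eq_bot, LinearMap.ker_eq_bot']
    intro x hx
    obtain ⟨ψ, rfl⟩ := (Ext.mk₀_bijective _ _).2 x
    have h1 : ψ.hom 1 = 0 := by
      have := congrArg Subtype.val hx
      rw [← hθ₀]
      exact this
    have h2 : ψ = 0 := by
      refine ModuleCat.hom_ext (hext _ _ ?_)
      rw [h1]
      rfl
    rw [h2, Ext.mk₀_zero]
  have hsurj : Function.Surjective θ := by
    intro y
    have hy : ∀ t ∈ maximalIdeal B, t • (y : B) = 0 := fun t ht =>
      (Submodule.mem_torsionBySet_iff _ _).mp y.2 ⟨t, ht⟩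
    let g : ResidueField B →ₗ[B] B :=
      Submodule.liftQ (maximalIdeal B) (LinearMap.toSpanSingleton B B (y : B)) (fun r hr => by
        rw [LinearMap.mem_ker, LinearMap.toSpanSingleton_apply]
        exact hy r hr)
    refine ⟨Ext.mk₀ (ModuleCat.ofHom g), ?_⟩
    apply Subtype.ext
    show θ₀ _ = _
    rw [hθ₀]
    show Submodule.liftQ (maximalIdeal B) (LinearMap.toSpanSingleton B B (y : B)) _
      (Submodule.Quotient.mk 1) = _
    rw [Submodule.liftQ_apply, LinearMap.toSpanSingleton_apply, one_smul]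
  exact (LinearEquiv.ofBijective θ ⟨hinj, hsurj⟩).length_eq

theorem bassNum_congr_ideal {C : Type u} [CommRing C] (P m : Ideal C) [P.IsPrime] [m.IsPrime]
    (h : P = m) (n : ℕ) : GrLC.bassNum P C n = GrLC.bassNum m C n := by
  subst h
  rfl

/-- the type at a maximal ideal through an Artinian quotient -/
theorem bassNum_eq_quot {C : Type u} [CommRing C] [IsNoetherianRing C] (m : Ideal C)
    [hm : m.IsMaximal] (l : List C) (hlm : ∀ r ∈ l, r ∈ m)
    (hreg : RingTheory.Sequence.IsWeaklyRegular C l) [IsLocalRing (C ⧸ Ideal.ofList l)] :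
    GrLC.bassNum m C l.length =
      GrLC.bassNumLocal (C ⧸ Ideal.ofList l) (C ⧸ Ideal.ofList l) 0 := by
  have hIm : Ideal.ofList l ≤ m := by
    rw [Ideal.ofList, Ideal.span_le]
    intro r hr
    exact hlm r hr
  have hPb : (maximalIdeal (C ⧸ Ideal.ofList l)).comap (Ideal.Quotient.mk (Ideal.ofList l)) = m := by
    have hmax := Groth.Agent.H2.VerSoc.isMaximal_map_mk (Ideal.ofList l) m hIm
    rw [← IsLocalRing.eq_maximalIdeal hmax,
      Ideal.comap_map_of_surjective _ Ideal.Quotient.mk_surjective, ← RingHom.ker_eq_comap_bot,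
      Ideal.mk_ker, sup_of_le_left hIm]
  obtain ⟨e⟩ := exists_quot_loc_equiv (Ideal.ofList l) (maximalIdeal (C ⧸ Ideal.ofList l))
  have H : (maximalIdeal (C ⧸ Ideal.ofList l)).primeCompl ≤
      IsUnit.submonoid (C ⧸ Ideal.ofList l) := by
    intro x hx
    have hx' : x ∉ maximalIdeal (C ⧸ Ideal.ofList l) := hx
    rw [mem_maximalIdeal, mem_nonunits_iff, not_not] at hx'
    exact hx'
  have e0 : (C ⧸ Ideal.ofList l) ≃ₐ[C ⧸ Ideal.ofList l]
      Localization.AtPrime (maximalIdeal (C ⧸ Ideal.ofList l)) :=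
    IsLocalization.atUnits _ (maximalIdeal (C ⧸ Ideal.ofList l)).primeCompl H
  haveI : m.IsPrime := hm.isPrime
  rw [← bassNum_congr_ideal _ m hPb]
  exact aux _ l (fun r hr => by rw [hPb]; exact hlm r hr) hreg _ (e.trans e0.symm.toRingEquiv)
where
  aux {C : Type u} [CommRing C] [IsNoetherianRing C] (P : Ideal C) [P.IsPrime]
      (l : List C) (hlP : ∀ r ∈ l, r ∈ P) (hreg : RingTheory.Sequence.IsWeaklyRegular C l)
      (B : Type u) [CommRing B] [IsLocalRing B]
      (e : (Localization.AtPrime P ⧸ (Ideal.ofList l).map (algebraMap C (Localization.AtPrime P)))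
        ≃+* B) : GrLC.bassNum P C l.length = GrLC.bassNumLocal B B 0 := by
    have hI : (Ideal.ofList l).map (algebraMap C (Localization.AtPrime P)) =
        Ideal.ofList (l.map (algebraMap C (Localization.AtPrime P))) := Ideal.map_ofList _ _
    have hreg'' : RingTheory.Sequence.IsWeaklyRegular (Localization.AtPrime P)
        (l.map (algebraMap C (Localization.AtPrime P))) :=
      RingTheory.Sequence.IsWeaklyRegular.of_isLocalization (Localization.AtPrime P) P.primeCompl
        hreg
    have hmem'' : ∀ r ∈ l.map (algebraMap C (Localization.AtPrime P)),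
        r ∈ maximalIdeal (Localization.AtPrime P) := by
      intro r hr
      obtain ⟨r0, hr0, rfl⟩ := List.mem_map.mp hr
      exact (IsLocalization.AtPrime.to_map_mem_maximal_iff (Localization.AtPrime P) P r0).mpr
        (hlP r0 hr0)
    have e' : (Localization.AtPrime P ⧸
        Ideal.ofList (l.map (algebraMap C (Localization.AtPrime P)))) ≃+* B :=
      (Ideal.quotEquivOfEq hI.symm).trans e
    haveI hloc : IsLocalRing (Localization.AtPrime P ⧸
        Ideal.ofList (l.map (algebraMap C (Localization.AtPrime P)))) := e'.symm.isLocalRing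
    have h1 := bassNumLocal_quot_weaklyRegular (l.map (algebraMap C (Localization.AtPrime P))).length
      (Localization.AtPrime P) _ rfl hmem'' hreg'' hloc 0
    rw [zero_add, List.length_map] at h1
    have h2 : GrLC.bassNumLocal (Localization.AtPrime P) (Localization.AtPrime P) l.length =
        GrLC.bassNum P C l.length :=
      BassLoc.bassNumLocal_eq_bassNum P (Localization.AtPrime P) (Localization.AtPrime P)
        (Algebra.linearMap C (Localization.AtPrime P)) l.length
    rw [← h2, h1]
    exact (bassNumLocal_ringEquiv_self e' 0).symm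

end Groth.Agent.H2.VerType1
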