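import Groth.Agent.H98.GrSerre
import Groth.Agent.H2.VerHilb
import Groth.Agent.H2.HilbMono

/-!
# Helper library (helper2): the socle of the Veronese of a graded Artinian Gorenstein quotient of a
standard graded ring, and its dimension.
-/

set_option autoImplicit false
universe u

namespace Groth.Agent.H2.VerType2

open Groth.Agent.H98.GrHt Groth.Agent.H98.GrCanon Groth.Agent.H2.VerSoc Groth.Agent.H2.VerHilb

section Gen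

variable {R : Type u} [CommRing R] (𝒜 : ℤ → AddSubgroup R) [GradedRing 𝒜]
  (hpos : ∀ n : ℤ, n < 0 → 𝒜 n = ⊥)
  (hunit : ∀ c ∈ 𝒜 0, c ≠ 0 → ∃ d ∈ 𝒜 0, c * d = 1)
  (J : Ideal R) (hJ : J.IsHomogeneous 𝒜)

include hpos hunit hJ in
/-- the socle of `R/J` is spanned over `𝒜 0` by any element of the top degree outside `J` -/
theorem gen_top (hT : TypeOneUp J (irr 𝒜).toIdeal) (s₁ : ℤ)
    (htop : ∀ j, s₁ < j → ∀ x ∈ 𝒜 j, x ∈ J) {t : R} (ht : t ∈ 𝒜 s₁) (htJ : t ∉ J) :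
    ∀ x, (∀ a ∈ (irr 𝒜).toIdeal, a * x ∈ J) → ∃ c ∈ 𝒜 0, x - c * t ∈ J := by
  have hmem := mem_irr_iff 𝒜 hpos
  have htsoc : ∀ a, cp 𝒜 a 0 = 0 → a * t ∈ J := fun a ha =>
    top_mul_mem 𝒜 hpos J hJ s₁ htop ht ha
  obtain ⟨s, hsJ, hssoc, hsgen⟩ := hT
  obtain ⟨c, hc⟩ := hsgen t (fun a ha => htsoc a ((hmem a).1 ha))
  have hssoc' : ∀ a, cp 𝒜 a 0 = 0 → a * s ∈ J := fun a ha => hssoc a ((hmem a).2 ha)
  have h1 := mul_sub_cp_zero_mem 𝒜 J hssoc' c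
  have h2 : t - cp 𝒜 c 0 * s ∈ J := by
    have e : t - cp 𝒜 c 0 * s = (t - c * s) + (c * s - cp 𝒜 c 0 * s) := by ring
    rw [e]
    exact add_mem hc h1
  have hc0 : cp 𝒜 c 0 ≠ 0 := by
    intro h
    rw [h, zero_mul, sub_zero] at h2
    exact htJ h2
  obtain ⟨d, hd, hcd⟩ := hunit _ (cp_mem 𝒜 c 0) hc0
  have h3 : s - d * t ∈ J := by
    have e : s - d * t = -(d * (t - cp 𝒜 c 0 * s)) + (1 - cp 𝒜 c 0 * d) * s := by ring
    rw [e, hcd, sub_self, zero_mul, add_zero]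
    exact neg_mem (J.mul_mem_left _ h2)
  intro x hx
  obtain ⟨c', hc'⟩ := hsgen x hx
  have h4 : x - (c' * d) * t ∈ J := by
    have e : x - (c' * d) * t = (x - c' * s) + c' * (s - d * t) := by ring
    rw [e]
    exact add_mem hc' (J.mul_mem_left _ h3)
  have h5 := mul_sub_cp_zero_mem 𝒜 J htsoc (c' * d)
  refine ⟨cp 𝒜 (c' * d) 0, cp_mem _ _ _, ?_⟩
  have e : x - cp 𝒜 (c' * d) 0 * t =
      (x - (c' * d) * t) + ((c' * d) * t - cp 𝒜 (c' * d) 0 * t) := by ring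
  rw [e]
  exact add_mem h4 h5

include hpos hunit hJ in
/-- **perfect pairing**: a homogeneous element outside `J` has a homogeneous multiple of the
socle degree outside `J` -/
theorem exists_dual (hT : TypeOneUp J (irr 𝒜).toIdeal) (N : ℕ) (hN : (irr 𝒜).toIdeal ^ N ≤ J)
    (s₁ : ℤ) (htop : ∀ j, s₁ < j → ∀ x ∈ 𝒜 j, x ∈ J) (hs₁ : ∃ x ∈ 𝒜 s₁, x ∉ J)
    {d : ℤ} {y : R} (hy : y ∈ 𝒜 d) (hyJ : y ∉ J) : ∃ w ∈ 𝒜 (s₁ - d), y * w ∉ J := by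
  obtain ⟨t, ht, htJ⟩ := hs₁
  have hgen := gen_top 𝒜 hpos hunit J hJ hT s₁ htop ht htJ
  obtain ⟨z, hz1, hz2⟩ := exists_soc_mul J (irr 𝒜).toIdeal N hN y hyJ
  obtain ⟨c₀, hc₀, hc⟩ := hgen _ hz2
  have hc₀t : c₀ * t ∈ 𝒜 s₁ := mul_mem_zero_left 𝒜 hc₀ ht
  have h1' : cp 𝒜 (z * y - c₀ * t) s₁ ∈ J := hJ s₁ hc
  rw [cp_sub, mul_comm z, cp_mul_left 𝒜 hy, cp_of_mem 𝒜 hc₀t, if_pos rfl] at h1'
  have hc₀tJ : c₀ * t ∉ J := by
    intro h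
    apply hz1
    have e : z * y = (z * y - c₀ * t) + c₀ * t := by ring
    rw [e]
    exact add_mem hc h
  refine ⟨cp 𝒜 z (s₁ - d), cp_mem 𝒜 z _, fun h => hc₀tJ ?_⟩
  have e : c₀ * t = y * cp 𝒜 z (s₁ - d) - (y * cp 𝒜 z (s₁ - d) - c₀ * t) := by ring
  rw [e]
  exact sub_mem h h1'

include hJ in
/-- the components of a socle element are socle elements -/
theorem soc_comp (x : R) (hx : ∀ a ∈ (irr 𝒜).toIdeal, a * x ∈ J) (j : ℤ) :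
    ∀ a ∈ (irr 𝒜).toIdeal, a * cp 𝒜 x j ∈ J := by
  intro a ha
  rw [mem_iff_cp 𝒜 hJ]
  intro i
  have hae : cp 𝒜 a (i - j) ∈ (irr 𝒜).toIdeal := (irr 𝒜).isHomogeneous (i - j) ha
  have h1 := hx _ hae
  have h2 : cp 𝒜 (cp 𝒜 a (i - j) * x) i ∈ J := hJ i h1
  have h3 : cp 𝒜 (cp 𝒜 a (i - j) * x) i = cp 𝒜 a (i - j) * cp 𝒜 x j := by
    rw [cp_mul_left 𝒜 (cp_mem 𝒜 a (i - j))]
    congr 2
    ring
  rw [mul_comm, cp_mul_left 𝒜 (cp_mem 𝒜 x j), mul_comm, ← h3]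
  exact h2

variable (hstd : Ideal.span (⋃ n ∈ Set.Ioi (0 : ℤ), (𝒜 n : Set R)) =
    Ideal.span ((𝒜 1 : AddSubgroup R) : Set R))

include hstd in
/-- in a standard graded ring: if `𝒜 i * y ⊆ J` then `𝒜 (i + k) * y ⊆ J` -/
theorem mul_mem_of_forall (i : ℤ) (hi : 0 ≤ i) (y : R) (h : ∀ u ∈ 𝒜 i, u * y ∈ J) :
    ∀ k : ℕ, ∀ z ∈ 𝒜 (i + k), z * y ∈ J := by
  intro k
  induction k with
  | zero =>
    intro z hz
    rw [Nat.cast_zero, add_zero] at hz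
    exact h z hz
  | succ k ih =>
    intro z hz
    have hz' : z ∈ 𝒜 (i + k + 1) := by
      rw [Nat.cast_succ, ← add_assoc] at hz
      exact hz
    have hdec := std_decomp 𝒜 hstd (i + k) (by positivity) z hz'
    refine AddSubgroup.closure_induction (p := fun z _ => z * y ∈ J) ?_ ?_ ?_ ?_ hdec
    · rintro _ ⟨ℓ, -, w, hw, rfl⟩
      rw [mul_assoc]
      exact J.mul_mem_left _ (ih w hw)
    · rw [zero_mul]
      exact zero_mem _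
    · intro a b _ _ ha hb
      rw [add_mul]
      exact add_mem ha hb
    · intro a _ ha
      rw [neg_mul]
      exact neg_mem ha

end Gen

section Ver

variable {R : Type u} [CommRing R] (𝒜 : ℤ → AddSubgroup R) [GradedRing 𝒜]
variable {R' : Type u} [CommRing R'] (𝒜' : ℤ → AddSubgroup R') [GradedRing 𝒜']
  (φ : R' →+* R) (q : ℕ)

theorem comap_isHomogeneous (hq : 0 < q)
    (hdeg : ∀ j : ℤ, (𝒜' j).map (φ : R' →+ R) = 𝒜 (j * q)) (J : Ideal R)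
    (hJ : J.IsHomogeneous 𝒜) : (J.comap φ).IsHomogeneous 𝒜' := by
  intro j x hx
  have hx' : φ x ∈ J := hx
  have h1 : cp 𝒜 (φ x) (j * q) ∈ J := hJ (j * q) hx'
  rw [cp_map 𝒜 𝒜' φ q hq hdeg] at h1
  exact h1

/-- **the socle of the Veronese of an Artinian graded Gorenstein quotient of a standard graded
ring** is its top degree piece -/
theorem soc_ver (hpos : ∀ n : ℤ, n < 0 → 𝒜 n = ⊥) (hq : 0 < q) (hφ : Function.Injective φ)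
    (hdeg : ∀ j : ℤ, (𝒜' j).map (φ : R' →+ R) = 𝒜 (j * q))
    (hunit : ∀ c ∈ 𝒜 0, c ≠ 0 → ∃ d ∈ 𝒜 0, c * d = 1)
    (hstd : Ideal.span (⋃ n ∈ Set.Ioi (0 : ℤ), (𝒜 n : Set R)) =
      Ideal.span ((𝒜 1 : AddSubgroup R) : Set R))
    (J : Ideal R) (hJ : J.IsHomogeneous 𝒜) (N : ℕ) (hN : (irr 𝒜).toIdeal ^ N ≤ J)
    (hT : TypeOneUp J (irr 𝒜).toIdeal) (s₁ j₀ ρ : ℤ)
    (htop : ∀ j, s₁ < j → ∀ x ∈ 𝒜 j, x ∈ J) (hs₁ : ∃ x ∈ 𝒜 s₁, x ∉ J)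
    (hs : s₁ = j₀ * q + ρ) (hρ0 : 0 ≤ ρ) (hρq : ρ < q) (x : R') :
    (∀ a ∈ (irr 𝒜').toIdeal, a * x ∈ J.comap φ) ↔ ∀ j, j ≠ j₀ → cp 𝒜' x j ∈ J.comap φ := by
  classical
  have hqz : (0 : ℤ) < (q : ℤ) := by exact_mod_cast hq
  have hpos' := hpos_ver 𝒜 hpos 𝒜' φ q hq hφ hdeg
  have hJ' := comap_isHomogeneous 𝒜 𝒜' φ q hq hdeg J hJ
  have htop' : ∀ j, j₀ < j → ∀ y ∈ 𝒜' j, y ∈ J.comap φ := by
    intro j hj y hy
    refine htop (j * q) ?_ (φ y) (map_mem_of_hdeg 𝒜 𝒜' φ q hdeg j y hy)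
    have h1 : (j - j₀ - 1) * (q : ℤ) ≥ 0 := mul_nonneg (by omega) hqz.le
    have e : j * (q : ℤ) = (j - j₀ - 1) * q + q + j₀ * q := by ring
    rw [hs, e]
    linarith
  constructor
  · intro hx j hj
    by_contra hnot
    have hnot' : φ (cp 𝒜' x j) ∉ J := hnot
    have hdegj : φ (cp 𝒜' x j) ∈ 𝒜 (j * q) :=
      map_mem_of_hdeg 𝒜 𝒜' φ q hdeg j _ (cp_mem 𝒜' x j)
    have hcomp := soc_comp 𝒜' (J.comap φ) hJ' x hx j
    obtain ⟨w, hw, hwJ⟩ := exists_dual 𝒜 hpos hunit J hJ hT N hN s₁ htop hs₁ hdegj hnot'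
    rcases lt_or_gt_of_ne hj with hlt | hgt
    · have hall : ∀ u ∈ 𝒜 ((j₀ - j) * q), u * φ (cp 𝒜' x j) ∈ J := by
        intro u hu
        obtain ⟨u', hu', rfl⟩ := exists_preimage_of_hdeg 𝒜 𝒜' φ q hdeg (j₀ - j) u hu
        have hu'm : u' ∈ (irr 𝒜').toIdeal := by
          rw [mem_irr_iff 𝒜' hpos', cp_of_mem 𝒜' hu', if_neg (by omega)]
        have h9 : φ (u' * cp 𝒜' x j) ∈ J := hcomp u' hu'm
        rwa [map_mul] at h9
      have e : (j₀ - j) * (q : ℤ) + ((ρ.toNat : ℕ) : ℤ) = s₁ - j * q := by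
        rw [Int.toNat_of_nonneg hρ0, hs]
        ring
      have hw' : w ∈ 𝒜 ((j₀ - j) * (q : ℤ) + ((ρ.toNat : ℕ) : ℤ)) := by
        rw [e]
        exact hw
      have h10 := mul_mem_of_forall 𝒜 J hstd ((j₀ - j) * q) (mul_nonneg (by omega) hqz.le)
        (φ (cp 𝒜' x j)) hall ρ.toNat w hw'
      rw [mul_comm] at h10
      exact hwJ h10
    · have hneg : s₁ - j * q < 0 := by
        have h1 : (j - j₀ - 1) * (q : ℤ) ≥ 0 := mul_nonneg (by omega) hqz.le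
        have e : s₁ - j * (q : ℤ) = -((j - j₀ - 1) * q) - q + ρ := by
          rw [hs]
          ring
        rw [e]
        linarith
      have hw0 : w = 0 := by
        have h2 := hw
        rw [hpos _ hneg] at h2
        exact AddSubgroup.mem_bot.1 h2
      apply hwJ
      rw [hw0, mul_zero]
      exact zero_mem _
  · intro h a ha
    have hx0 : x - cp 𝒜' x j₀ ∈ J.comap φ := by
      rw [mem_iff_cp 𝒜' hJ']
      intro j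
      rw [cp_sub, cp_of_mem 𝒜' (cp_mem 𝒜' x j₀)]
      by_cases hj : j = j₀
      · rw [if_pos hj, hj, sub_self]
        exact zero_mem _
      · rw [if_neg hj, sub_zero]
        exact h j hj
    have h1 : a * cp 𝒜' x j₀ ∈ J.comap φ :=
      top_mul_mem 𝒜' hpos' (J.comap φ) hJ' j₀ htop' (cp_mem 𝒜' x j₀)
        ((mem_irr_iff 𝒜' hpos' a).1 ha)
    have e : a * x = a * (x - cp 𝒜' x j₀) + a * cp 𝒜' x j₀ := by ring
    rw [e]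
    exact add_mem ((J.comap φ).mul_mem_left _ hx0) h1

end Ver

section Pair

variable {R : Type u} [CommRing R] (𝒜 : ℤ → AddSubgroup R) [GradedRing 𝒜] (J : Ideal R)

/-- the quotient map as a map of `𝒜 0`-modules -/
noncomputable def mkK : R →ₗ[GrLC.deg0 𝒜] (R ⧸ J) :=
  (Submodule.mkQ J).restrictScalars (GrLC.deg0 𝒜)

/-- the image of the piece of degree `d` in `R/J` -/
noncomputable def Sd (d : ℤ) : Submodule (GrLC.deg0 𝒜) (R ⧸ J) :=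
  (GrLC.comp 𝒜 𝒜 d).map (mkK 𝒜 J)

theorem mem_Sd {d : ℤ} {s : R ⧸ J} :
    s ∈ Sd 𝒜 J d ↔ ∃ u ∈ 𝒜 d, Ideal.Quotient.mk J u = s := by
  constructor
  · rintro ⟨u, hu, rfl⟩
    exact ⟨u, hu, rfl⟩
  · rintro ⟨u, hu, rfl⟩
    exact ⟨u, hu, rfl⟩

theorem mul_mem_Sd {d e f : ℤ} (h : d + e = f) {s s' : R ⧸ J} (hs : s ∈ Sd 𝒜 J d)
    (hs' : s' ∈ Sd 𝒜 J e) : s * s' ∈ Sd 𝒜 J f := by
  obtain ⟨u, hu, rfl⟩ := (mem_Sd 𝒜 J).1 hs
  obtain ⟨v, hv, rfl⟩ := (mem_Sd 𝒜 J).1 hs'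
  refine (mem_Sd 𝒜 J).2 ⟨u * v, h ▸ SetLike.mul_mem_graded hu hv, map_mul _ _ _⟩

/-- multiplication `S_d × S_e → S_f`, `d + e = f` -/
noncomputable def pair {d e f : ℤ} (h : d + e = f) :
    Sd 𝒜 J d →ₗ[GrLC.deg0 𝒜] Sd 𝒜 J e →ₗ[GrLC.deg0 𝒜] Sd 𝒜 J f :=
  LinearMap.mk₂ (GrLC.deg0 𝒜) (fun s s' => ⟨s.1 * s'.1, mul_mem_Sd 𝒜 J h s.2 s'.2⟩)
    (fun s₁ s₂ s' => Subtype.ext (add_mul _ _ _))
    (fun c s s' => Subtype.ext (smul_mul_assoc c s.1 s'.1))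
    (fun s s₁ s₂ => Subtype.ext (mul_add _ _ _))
    (fun c s s' => Subtype.ext (mul_smul_comm c s.1 s'.1))

theorem pair_apply {d e f : ℤ} (h : d + e = f) (s : Sd 𝒜 J d) (s' : Sd 𝒜 J e) :
    ((pair 𝒜 J h s s' : Sd 𝒜 J f) : R ⧸ J) = s.1 * s'.1 := rfl

end Pair

section Theta

theorem length_eq_of_semilinear {A B : Type*} [Ring A] [Ring B] {σ : A →+* B}
    [RingHomSurjective σ] {M N : Type*} [AddCommGroup M] [Module A M] [AddCommGroup N]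
    [Module B N] (f : M →ₛₗ[σ] N) (hf : Function.Bijective f) :
    Module.length A M = Module.length B N := by
  rw [Module.length, Module.length, WithBot.unbot_inj,
    Order.krullDim_eq_of_orderIso (Submodule.orderIsoMapComapOfBijective f hf)]

theorem mem_soc_iff {A : Type u} [CommRing A] (J' m' : Ideal A) [IsLocalRing (A ⧸ J')]
    (hmaxB : ∀ x : A, Ideal.Quotient.mk J' x ∈ IsLocalRing.maximalIdeal (A ⧸ J') ↔ x ∈ m')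
    (x : A) :
    Ideal.Quotient.mk J' x ∈ Submodule.torsionBySet (A ⧸ J') (A ⧸ J')
      (IsLocalRing.maximalIdeal (A ⧸ J') : Set (A ⧸ J')) ↔ ∀ a ∈ m', a * x ∈ J' := by
  rw [Submodule.mem_torsionBySet_iff]
  constructor
  · intro h a ha
    have h1 := h ⟨Ideal.Quotient.mk J' a, (hmaxB a).2 ha⟩
    have h2 : Ideal.Quotient.mk J' (a * x) = 0 := by
      rw [map_mul]
      exact h1
    exact Ideal.Quotient.eq_zero_iff_mem.1 h2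
  · rintro h ⟨ab, hab⟩
    obtain ⟨a, rfl⟩ := Ideal.Quotient.mk_surjective ab
    show Ideal.Quotient.mk J' a * Ideal.Quotient.mk J' x = 0
    rw [← map_mul]
    exact Ideal.Quotient.eq_zero_iff_mem.2 (h a ((hmaxB a).1 hab))

variable {R : Type u} [CommRing R] (𝒜 : ℤ → AddSubgroup R) [GradedRing 𝒜]
variable {R' : Type u} [CommRing R'] (𝒜' : ℤ → AddSubgroup R') [GradedRing 𝒜']
  (φ : R' →+* R) (q : ℕ)

/-- the degree zero component of the image, as a ring homomorphism to `R₀` -/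
noncomputable def tau (hpos : ∀ n : ℤ, n < 0 → 𝒜 n = ⊥) : R' →+* GrLC.deg0 𝒜 where
  toFun r := ⟨cp 𝒜 (φ r) 0, cp_mem 𝒜 _ 0⟩
  map_one' := Subtype.ext (by
    show cp 𝒜 (φ 1) 0 = 1
    rw [map_one, cp_of_mem 𝒜 (SetLike.GradedOne.one_mem : (1 : R) ∈ 𝒜 0), if_pos rfl])
  map_mul' r r' := Subtype.ext (by
    show cp 𝒜 (φ (r * r')) 0 = cp 𝒜 (φ r) 0 * cp 𝒜 (φ r') 0
    rw [map_mul, cp_mul_zero 𝒜 hpos])
  map_zero' := Subtype.ext (by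
    show cp 𝒜 (φ 0) 0 = 0
    rw [map_zero, cp_zero])
  map_add' r r' := Subtype.ext (by
    show cp 𝒜 (φ (r + r')) 0 = cp 𝒜 (φ r) 0 + cp 𝒜 (φ r') 0
    rw [map_add, cp_add])

theorem tau_apply (hpos : ∀ n : ℤ, n < 0 → 𝒜 n = ⊥) (r : R') :
    ((tau 𝒜 φ hpos r : GrLC.deg0 𝒜) : R) = cp 𝒜 (φ r) 0 := rfl

/-- **the socle of the Veronese of an Artinian graded Gorenstein quotient**, as a vector space,
is the top-degree piece of the quotient `R/J` -/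
theorem length_soc_ver (hpos : ∀ n : ℤ, n < 0 → 𝒜 n = ⊥) (hq : 0 < q)
    (hφ : Function.Injective φ)
    (hdeg : ∀ j : ℤ, (𝒜' j).map (φ : R' →+ R) = 𝒜 (j * q))
    (hunit : ∀ c ∈ 𝒜 0, c ≠ 0 → ∃ d ∈ 𝒜 0, c * d = 1)
    (hstd : Ideal.span (⋃ n ∈ Set.Ioi (0 : ℤ), (𝒜 n : Set R)) =
      Ideal.span ((𝒜 1 : AddSubgroup R) : Set R))
    (J : Ideal R) (hJ : J.IsHomogeneous 𝒜) (N : ℕ) (hN : (irr 𝒜).toIdeal ^ N ≤ J)
    (hJirr : J ≤ (irr 𝒜).toIdeal)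
    (hT : TypeOneUp J (irr 𝒜).toIdeal) (s₁ j₀ ρ : ℤ)
    (htop : ∀ j, s₁ < j → ∀ x ∈ 𝒜 j, x ∈ J) (hs₁ : ∃ x ∈ 𝒜 s₁, x ∉ J)
    (hs : s₁ = j₀ * q + ρ) (hρ0 : 0 ≤ ρ) (hρq : ρ < q)
    (J' : Ideal R') (hJ' : J' = J.comap φ) [IsLocalRing (R' ⧸ J')]
    (hmaxB : ∀ x : R', Ideal.Quotient.mk J' x ∈ IsLocalRing.maximalIdeal (R' ⧸ J') ↔
      x ∈ (irr 𝒜').toIdeal) :
    Module.length (R' ⧸ J') ↥(Submodule.torsionBySet (R' ⧸ J') (R' ⧸ J')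
      (IsLocalRing.maximalIdeal (R' ⧸ J') : Set (R' ⧸ J'))) =
      Module.length (GrLC.deg0 𝒜) ↥(Sd 𝒜 J (j₀ * q)) := by
  classical
  subst hJ'
  have hpos' := hpos_ver 𝒜 hpos 𝒜' φ q hq hφ hdeg
  have hJ'hom := comap_isHomogeneous 𝒜 𝒜' φ q hq hdeg J hJ
  have hsv := soc_ver 𝒜 𝒜' φ q hpos hq hφ hdeg hunit hstd J hJ N hN hT s₁ j₀ ρ htop hs₁ hs
    hρ0 hρq
  have hsoc := mem_soc_iff (J.comap φ) (irr 𝒜').toIdeal hmaxB
  -- the ring homomorphism `σ : R'/J' → R₀`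
  have hτker : ∀ x ∈ J.comap φ, tau 𝒜 φ hpos x = 0 := by
    intro x hx
    apply Subtype.ext
    rw [tau_apply]
    exact cp_zero_of_mem_irr 𝒜 hpos (hJirr hx)
  let σ : R' ⧸ J.comap φ →+* GrLC.deg0 𝒜 := Ideal.Quotient.lift _ (tau 𝒜 φ hpos) hτker
  have hσmk : ∀ r : R', σ (Ideal.Quotient.mk _ r) = tau 𝒜 φ hpos r := fun r =>
    Ideal.Quotient.lift_mk _ _ _
  have hσsurj : Function.Surjective σ := by
    rintro ⟨c, hc⟩
    have hc' : c ∈ 𝒜 ((0 : ℤ) * q) := by rwa [zero_mul]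
    obtain ⟨x, hx, rfl⟩ := exists_preimage_of_hdeg 𝒜 𝒜' φ q hdeg 0 c hc'
    refine ⟨Ideal.Quotient.mk _ x, ?_⟩
    rw [hσmk]
    apply Subtype.ext
    rw [tau_apply, cp_of_mem 𝒜 hc, if_pos rfl]
  haveI : RingHomSurjective σ := ⟨hσsurj⟩
  let φb : R' ⧸ J.comap φ →+* R ⧸ J := Ideal.quotientMap J φ le_rfl
  have hφbmk : ∀ r : R', φb (Ideal.Quotient.mk _ r) = Ideal.Quotient.mk J (φ r) := fun r =>
    Ideal.quotientMap_mk
  have hφbinj : Function.Injective φb := Ideal.quotientMap_injective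
  -- socle elements are represented by elements of degree `j₀`
  have hrep : ∀ x : R', (∀ a ∈ (irr 𝒜').toIdeal, a * x ∈ J.comap φ) →
      x - cp 𝒜' x j₀ ∈ J.comap φ := by
    intro x hx
    rw [mem_iff_cp 𝒜' hJ'hom]
    intro j
    rw [cp_sub, cp_of_mem 𝒜' (cp_mem 𝒜' x j₀)]
    by_cases hj : j = j₀
    · rw [if_pos hj, hj, sub_self]
      exact zero_mem _
    · rw [if_neg hj, sub_zero]
      exact (hsv x).1 hx j hj
  have hmemSd : ∀ s ∈ Submodule.torsionBySet (R' ⧸ J.comap φ) (R' ⧸ J.comap φ)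
      (IsLocalRing.maximalIdeal (R' ⧸ J.comap φ) : Set (R' ⧸ J.comap φ)),
      φb s ∈ Sd 𝒜 J (j₀ * q) := by
    intro s hs'
    obtain ⟨x, rfl⟩ := Ideal.Quotient.mk_surjective s
    have hx := (hsoc x).1 hs'
    have h1 := hrep x hx
    have h2 : Ideal.Quotient.mk (J.comap φ) x = Ideal.Quotient.mk (J.comap φ) (cp 𝒜' x j₀) :=
      Ideal.Quotient.eq.2 h1
    rw [h2, hφbmk]
    exact (mem_Sd 𝒜 J).2 ⟨φ (cp 𝒜' x j₀),
      map_mem_of_hdeg 𝒜 𝒜' φ q hdeg j₀ _ (cp_mem 𝒜' x j₀), rfl⟩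
  let Θ : ↥(Submodule.torsionBySet (R' ⧸ J.comap φ) (R' ⧸ J.comap φ)
      (IsLocalRing.maximalIdeal (R' ⧸ J.comap φ) : Set (R' ⧸ J.comap φ))) →ₛₗ[σ]
      ↥(Sd 𝒜 J (j₀ * q)) :=
    { toFun := fun s => ⟨φb s.1, hmemSd s.1 s.2⟩
      map_add' := fun s s' => Subtype.ext (map_add φb s.1 s'.1)
      map_smul' := fun b s => Subtype.ext (by
        obtain ⟨s, hs'⟩ := s
        obtain ⟨r, rfl⟩ := Ideal.Quotient.mk_surjective b
        obtain ⟨x, rfl⟩ := Ideal.Quotient.mk_surjective s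
        have hx := (hsoc x).1 hs'
        show φb (Ideal.Quotient.mk _ r * Ideal.Quotient.mk _ x) =
          ((σ (Ideal.Quotient.mk _ r) : GrLC.deg0 𝒜) : R) • φb (Ideal.Quotient.mk _ x)
        rw [← map_mul, hφbmk, hφbmk, hσmk, tau_apply, map_mul]
        show _ = Ideal.Quotient.mk J (cp 𝒜 (φ r) 0 * φ x)
        rw [Ideal.Quotient.eq, ← sub_mul]
        have h0q : cp 𝒜 (φ r) 0 = φ (cp 𝒜' r 0) := by
          have := cp_map 𝒜 𝒜' φ q hq hdeg r 0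
          rwa [zero_mul] at this
        rw [h0q, ← map_sub, ← map_mul]
        exact hx _ (sub_cp_zero_mem_irr 𝒜' hpos' r)) }
  have hΘinj : Function.Injective Θ := by
    intro s s' h
    apply Subtype.ext
    apply hφbinj
    exact congrArg Subtype.val h
  have hΘsurj : Function.Surjective Θ := by
    rintro ⟨t, ht⟩
    obtain ⟨u, hu, rfl⟩ := (mem_Sd 𝒜 J).1 ht
    obtain ⟨x, hx, rfl⟩ := exists_preimage_of_hdeg 𝒜 𝒜' φ q hdeg j₀ u hu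
    have hxsoc : ∀ a ∈ (irr 𝒜').toIdeal, a * x ∈ J.comap φ := by
      rw [hsv x]
      intro j hj
      rw [cp_of_mem 𝒜' hx, if_neg hj]
      exact zero_mem _
    refine ⟨⟨Ideal.Quotient.mk _ x, (hsoc x).2 hxsoc⟩, ?_⟩
    apply Subtype.ext
    exact hφbmk x
  exact length_eq_of_semilinear Θ ⟨hΘinj, hΘsurj⟩

end Theta

section LemA

variable {R : Type u} [CommRing R] [IsNoetherianRing R] (𝒜 : ℤ → AddSubgroup R) [GradedRing 𝒜]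
  (hpos : ∀ n : ℤ, n < 0 → 𝒜 n = ⊥) (h0 : IsField (GrLC.deg0 𝒜))
  (J : Ideal R) (hJ : J.IsHomogeneous 𝒜)

include h0 in
theorem finLen_Sd (d : ℤ) : IsFiniteLength (GrLC.deg0 𝒜) (Sd 𝒜 J d) := by
  haveI : IsArtinianRing (GrLC.deg0 𝒜) := by
    let _ := h0.toField
    infer_instance
  have h1 := Groth.Agent.H98.GrCat.finLen_comp 𝒜 R 𝒜 d
  let f : GrLC.comp 𝒜 𝒜 d →ₗ[GrLC.deg0 𝒜] Sd 𝒜 J d :=
    (mkK 𝒜 J).submoduleMap (GrLC.comp 𝒜 𝒜 d)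
  exact h1.of_surjective (f := f) ((mkK 𝒜 J).submoduleMap_surjective _)

include hpos h0 hJ in
theorem length_Sd_le (hT : TypeOneUp J (irr 𝒜).toIdeal) (N : ℕ)
    (hN : (irr 𝒜).toIdeal ^ N ≤ J) (s₁ : ℤ)
    (htop : ∀ j, s₁ < j → ∀ x ∈ 𝒜 j, x ∈ J) (hs₁ : ∃ x ∈ 𝒜 s₁, x ∉ J) {d e : ℤ}
    (hde : d + e = s₁) :
    Module.length (GrLC.deg0 𝒜) (Sd 𝒜 J d) ≤ Module.length (GrLC.deg0 𝒜) (Sd 𝒜 J e) := by
  have hunit : ∀ c ∈ 𝒜 0, c ≠ 0 → ∃ d ∈ 𝒜 0, c * d = 1 := fun c hc hc0 =>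
    exists_inv_deg0 𝒜 h0 hc hc0
  obtain ⟨t, ht, htJ⟩ := hs₁
  have hgen := gen_top 𝒜 hpos hunit J hJ hT s₁ htop ht htJ
  have hBinj : Function.Injective (pair 𝒜 J hde) := by
    rw [injective_iff_map_eq_zero]
    rintro ⟨w, hw⟩ hB
    obtain ⟨u, hu, rfl⟩ := (mem_Sd 𝒜 J).1 hw
    by_contra hne
    have huJ : u ∉ J := fun h => hne (Subtype.ext (Ideal.Quotient.eq_zero_iff_mem.2 h))
    obtain ⟨v, hv, huv⟩ := exists_dual 𝒜 hpos hunit J hJ hT N hN s₁ htop ⟨t, ht, htJ⟩ hu huJ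
    have hv' : v ∈ 𝒜 e := by
      have he : s₁ - d = e := by omega
      rwa [he] at hv
    have h1 : ((pair 𝒜 J hde ⟨Ideal.Quotient.mk J u, hw⟩
        ⟨Ideal.Quotient.mk J v, (mem_Sd 𝒜 J).2 ⟨v, hv', rfl⟩⟩ : Sd 𝒜 J s₁) : R ⧸ J) = 0 := by
      rw [hB]
      rfl
    rw [pair_apply] at h1
    have h2 : Ideal.Quotient.mk J (u * v) = 0 := by
      rw [map_mul]
      exact h1
    exact huv (Ideal.Quotient.eq_zero_iff_mem.1 h2)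
  have hεmem : Ideal.Quotient.mk J t ∈ Sd 𝒜 J s₁ := (mem_Sd 𝒜 J).2 ⟨t, ht, rfl⟩
  have hεne : (⟨Ideal.Quotient.mk J t, hεmem⟩ : Sd 𝒜 J s₁) ≠ 0 := by
    intro h
    have h1 : Ideal.Quotient.mk J t = 0 := congrArg Subtype.val h
    exact htJ (Ideal.Quotient.eq_zero_iff_mem.1 h1)
  have hspan : ∀ l : Sd 𝒜 J s₁, ∃ c : GrLC.deg0 𝒜,
      c • (⟨Ideal.Quotient.mk J t, hεmem⟩ : Sd 𝒜 J s₁) = l := by
    rintro ⟨l, hl⟩
    obtain ⟨x, hx, rfl⟩ := (mem_Sd 𝒜 J).1 hl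
    have hxsoc : ∀ a ∈ (irr 𝒜).toIdeal, a * x ∈ J := fun a ha =>
      top_mul_mem 𝒜 hpos J hJ s₁ htop hx ((mem_irr_iff 𝒜 hpos a).1 ha)
    obtain ⟨c, hc, hcx⟩ := hgen x hxsoc
    refine ⟨⟨c, hc⟩, Subtype.ext ?_⟩
    show c • Ideal.Quotient.mk J t = Ideal.Quotient.mk J x
    have h3 : c • Ideal.Quotient.mk J t = Ideal.Quotient.mk J (c * t) := by
      rw [map_mul]
      rfl
    rw [h3]
    exact (Ideal.Quotient.eq.2 hcx).symm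
  exact @length_le_of_pairing (GrLC.deg0 𝒜) h0.toField _ _ _ _ _ _ _ _ _ (pair 𝒜 J hde) hBinj
    ⟨Ideal.Quotient.mk J t, hεmem⟩ hεne hspan (finLen_Sd 𝒜 h0 J e)

include hpos h0 hJ in
/-- **symmetry of the Hilbert function of a graded Artinian Gorenstein quotient** -/
theorem length_Sd_eq (hT : TypeOneUp J (irr 𝒜).toIdeal) (N : ℕ)
    (hN : (irr 𝒜).toIdeal ^ N ≤ J) (s₁ : ℤ)
    (htop : ∀ j, s₁ < j → ∀ x ∈ 𝒜 j, x ∈ J) (hs₁ : ∃ x ∈ 𝒜 s₁, x ∉ J) {d e : ℤ}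
    (hde : d + e = s₁) :
    Module.length (GrLC.deg0 𝒜) (Sd 𝒜 J d) = Module.length (GrLC.deg0 𝒜) (Sd 𝒜 J e) :=
  le_antisymm (length_Sd_le 𝒜 hpos h0 J hJ hT N hN s₁ htop hs₁ hde)
    (length_Sd_le 𝒜 hpos h0 J hJ hT N hN s₁ htop hs₁ (by rw [add_comm]; exact hde))

omit [IsNoetherianRing R] in
theorem length_Sd_eq_comp (d : ℤ) (hd : ∀ x ∈ J, cp 𝒜 x d = 0) :
    Module.length (GrLC.deg0 𝒜) (Sd 𝒜 J d) =
      Module.length (GrLC.deg0 𝒜) (GrLC.comp 𝒜 𝒜 d) := by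
  let f : GrLC.comp 𝒜 𝒜 d →ₗ[GrLC.deg0 𝒜] Sd 𝒜 J d :=
    (mkK 𝒜 J).submoduleMap (GrLC.comp 𝒜 𝒜 d)
  have hinj : Function.Injective f := by
    rw [injective_iff_map_eq_zero]
    rintro ⟨u, hu⟩ h
    have h1 : Ideal.Quotient.mk J u = 0 := congrArg Subtype.val h
    have h2 := hd u (Ideal.Quotient.eq_zero_iff_mem.1 h1)
    have hu' : u ∈ 𝒜 d := hu
    rw [cp_of_mem 𝒜 hu', if_pos rfl] at h2
    exact Subtype.ext h2
  exact (LinearEquiv.ofBijective f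
    ⟨hinj, (mkK 𝒜 J).submoduleMap_surjective _⟩).length_eq.symm

include h0 in
theorem length_comp_eq_finrank (d : ℤ) :
    Module.length (GrLC.deg0 𝒜) (GrLC.comp 𝒜 𝒜 d) =
      (Module.finrank (GrLC.deg0 𝒜) (GrLC.comp 𝒜 𝒜 d) : ℕ∞) := by
  haveI := Groth.Agent.H2.HilbMono.finite_comp 𝒜 d
  exact @Module.length_eq_finrank (GrLC.deg0 𝒜) (GrLC.comp 𝒜 𝒜 d) h0.toField.toDivisionRing _ _ _

end LemA

end Groth.Agent.H2.VerType2
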