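import Mathlib

set_option autoImplicit false
universe u v
open CategoryTheory CategoryTheory.Limits AlgebraicGeometry
open Matrix

namespace Groth.Agent.H2.WFALT

/-- (ALT) -/
theorem even_finrank_of_skew {K : Type v} {V : Type*} [Field K] [CharZero K] [AddCommGroup V]
    [Module K V] [Module.Finite K V] (B : V →ₗ[K] V →ₗ[K] K) (hB : B.IsPerfPair)
    (h : ∀ v w, B v w = - B w v) : Even (Module.finrank K V) := by
  classical
  let b := Module.finBasis K V
  have hnd : LinearMap.BilinForm.Nondegenerate B := by
    refine ⟨fun x hx => ?_, fun y hy => ?_⟩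
    · apply hB.bijective_left.injective
      rw [map_zero]
      exact LinearMap.ext hx
    · apply hB.bijective_right.injective
      rw [map_zero]
      exact LinearMap.ext hy
  have hdet : (LinearMap.BilinForm.toMatrix b B).det ≠ 0 :=
    (LinearMap.BilinForm.nondegenerate_iff_det_ne_zero b).mp hnd
  have hT : Matrix.transpose (LinearMap.BilinForm.toMatrix b B) =
      -(LinearMap.BilinForm.toMatrix b B) := by
    ext i j
    simp only [Matrix.transpose_apply, LinearMap.BilinForm.toMatrix_apply, Matrix.neg_apply]
    exact h (b j) (b i)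
  have h1 : (LinearMap.BilinForm.toMatrix b B).det =
      (-1 : K) ^ (Module.finrank K V) * (LinearMap.BilinForm.toMatrix b B).det := by
    conv_lhs => rw [← Matrix.det_transpose, hT, Matrix.det_neg, Fintype.card_fin]
  have h2 : (-1 : K) ^ (Module.finrank K V) = 1 := by
    have h3 : (-1 : K) ^ (Module.finrank K V) * (LinearMap.BilinForm.toMatrix b B).det =
        1 * (LinearMap.BilinForm.toMatrix b B).det := by rw [one_mul]; exact h1.symm
    exact mul_right_cancel₀ hdet h3
  by_contra hodd
  rw [Nat.not_even_iff_odd] at hodd
  rw [hodd.neg_one_pow] at h2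
  have h4 : (2 : K) = 0 := by linear_combination -h2
  exact two_ne_zero h4

end Groth.Agent.H2.WFALT
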