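import Mathlib

/-! # Algebra for S1421: length under flat unramified local maps; inseparable degree towers -/

set_option autoImplicit false
universe u
open IsLocalRing TensorProduct

namespace Groth.Agent.H2.WtAlg

theorem length_residue_self (A : Type*) [CommRing A] [IsLocalRing A] :
    Module.length A (A ⧸ maximalIdeal A) = 1 := by
  rw [Module.length_eq_one_iff]
  exact isSimpleModule_iff_quot_maximal.mpr
    ⟨maximalIdeal A, inferInstance, ⟨LinearEquiv.refl _ _⟩⟩

/-- flat local `β : A → B` with `m_A B = m_B`: `length_B (B / I B) = length_A (A / I)`. -/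
theorem length_quot_map_eq {A B : Type u} [CommRing A] [CommRing B] [IsLocalRing A] [IsLocalRing B]
    (β : A →+* B) [IsLocalHom β] (hflat : β.Flat)
    (hm : Ideal.map β (maximalIdeal A) = maximalIdeal B) (I : Ideal A) :
    Module.length B (B ⧸ Ideal.map β I) = Module.length A (A ⧸ I) := by
  letI := β.toAlgebra
  haveI : Module.Flat A B := hflat
  haveI : IsLocalHom (algebraMap A B) := ‹IsLocalHom β›
  have h1 := IsLocalRing.length_baseChange A B (A ⧸ I)
  have h2 : Module.length B (B ⧸ (maximalIdeal A).map (algebraMap A B)) = 1 := by
    have : (maximalIdeal A).map (algebraMap A B) = maximalIdeal B := hm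
    rw [this]; exact length_residue_self B
  rw [h2, mul_one] at h1
  rw [← h1]
  exact (Algebra.TensorProduct.quotIdealMapEquivTensorQuot B I).toLinearEquiv.length_eq

end Groth.Agent.H2.WtAlg
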