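import Mathlib
import Groth.Prelude.Def_MoreMor

/-! # The weight `length × inseparable degree` (for S1421) -/

set_option autoImplicit false
universe u
open AlgebraicGeometry CategoryTheory Limits

namespace Groth.Agent.H2.WtDef

/-- `ℓ_f(x) = length_{O_x}(O_x / m_{f x} O_x)` (as a natural number; `0` if infinite). -/
noncomputable def ell {X Y : Scheme.{u}} (f : X ⟶ Y) (x : X) : ℕ :=
  (Module.length ↑(X.presheaf.stalk x) (↑(X.presheaf.stalk x) ⧸
    Ideal.map (f.stalkMap x).hom (IsLocalRing.maximalIdeal ↑(Y.presheaf.stalk (f x))))).toNat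

/-- `[κ(x) : κ(f x)]_i`. -/
noncomputable def insep {X Y : Scheme.{u}} (f : X ⟶ Y) (x : X) : ℕ :=
  letI := (f.residueFieldMap x).hom.toAlgebra
  Field.finInsepDegree (Y.residueField (f x)) (X.residueField x)

/-- `[κ(x) : κ(f x)]_s`. -/
noncomputable def sep {X Y : Scheme.{u}} (f : X ⟶ Y) (x : X) : ℕ :=
  letI := (f.residueFieldMap x).hom.toAlgebra
  Field.finSepDegree (Y.residueField (f x)) (X.residueField x)

/-- the weight of S1421. -/
noncomputable def wt {X Y : Scheme.{u}} (f : X ⟶ Y) (x : X) : ℤ :=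
  (ell f x : ℤ) * (insep f x : ℤ)

theorem wt_def {X Y : Scheme.{u}} (f : X ⟶ Y) (x : X) :
    wt f x = (Module.length ↑(X.presheaf.stalk x) (↑(X.presheaf.stalk x) ⧸ Ideal.map (f.stalkMap x).hom (IsLocalRing.maximalIdeal ↑(Y.presheaf.stalk (f x))))).toNat *
      (letI := (f.residueFieldMap x).hom.toAlgebra
       (Field.finInsepDegree (Y.residueField (f x)) (X.residueField x) : ℤ)) := rfl

theorem fibreIntegral_def {U V : Scheme.{u}} (π : U ⟶ V) (w : U → ℤ) (v : V) :
    MoreMor.fibreIntegral π w v = ∑ᶠ u : {u : U // π u = v}, w u.1 * (sep π u.1 : ℤ) := rfl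

end Groth.Agent.H2.WtDef
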