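import Mathlib
import Groth.Agent.H2.WtDef
import Groth.Agent.H2.WtAlg
import Groth.Agent.H7.GeomFibre

/-! # Étale invariance of the weight `length × inseparable degree` (for S1421) -/

set_option autoImplicit false
universe u
open AlgebraicGeometry CategoryTheory Limits IsLocalRing

namespace Groth.Agent.H2.WtEtale
open Groth.Agent.H2.WtDef Groth.Agent.H2.WtAlg

/-- the ideal `m_{g u} O_u`. -/
noncomputable def fibId {U Y : Scheme.{u}} (g : U ⟶ Y) (u : U) : Ideal (U.presheaf.stalk u) :=
  Ideal.map (g.stalkMap u).hom (maximalIdeal (Y.presheaf.stalk (g u)))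

theorem ell_eq {U Y : Scheme.{u}} (g : U ⟶ Y) (u : U) :
    ell g u = (Module.length (U.presheaf.stalk u) (U.presheaf.stalk u ⧸ fibId g u)).toNat := rfl

theorem fibId_congr {U Y : Scheme.{u}} {g g' : U ⟶ Y} (h : g = g') (u : U) :
    fibId g u = fibId g' u := by subst h; rfl

theorem insep_congr {U Y : Scheme.{u}} {g g' : U ⟶ Y} (h : g = g') (u : U) :
    insep g u = insep g' u := by subst h; rfl

theorem fibId_comp {U X Y : Scheme.{u}} (a : U ⟶ X) (f : X ⟶ Y) (u : U) :
    fibId (a ≫ f) u = Ideal.map (a.stalkMap u).hom (fibId f (a u)) := by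
  unfold fibId
  rw [Ideal.map_map]
  have h := Scheme.Hom.stalkMap_comp a f u
  have h2 : ((a ≫ f).stalkMap u).hom = ((a.stalkMap u).hom).comp (f.stalkMap (a u)).hom := by
    rw [h]; rfl
  rw [h2]
  rfl

theorem insep_comp {U X Y : Scheme.{u}} (a : U ⟶ X) (f : X ⟶ Y) (u : U)
    (hf : (f.residueFieldMap (a u)).hom.Finite) :
    insep (a ≫ f) u = insep f (a u) * insep a u := by
  unfold insep
  letI i1 : Algebra (Y.residueField (f (a u))) (X.residueField (a u)) :=
    (f.residueFieldMap (a u)).hom.toAlgebra
  letI i2 : Algebra (X.residueField (a u)) (U.residueField u) :=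
    (a.residueFieldMap u).hom.toAlgebra
  letI i3 : Algebra (Y.residueField (f (a u))) (U.residueField u) :=
    ((a ≫ f).residueFieldMap u).hom.toAlgebra
  haveI : IsScalarTower (Y.residueField (f (a u))) (X.residueField (a u)) (U.residueField u) := by
    refine IsScalarTower.of_algebraMap_eq' ?_
    have h := Scheme.residueFieldMap_comp a f u
    change ((a ≫ f).residueFieldMap u).hom = ((a.residueFieldMap u).hom).comp (f.residueFieldMap (a u)).hom
    rw [h]; rfl
  haveI : Module.Finite (Y.residueField (f (a u))) (X.residueField (a u)) := hf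
  exact (Field.finInsepDegree_mul_finInsepDegree_of_isAlgebraic
    (Y.residueField (f (a u))) (X.residueField (a u)) (U.residueField u)).symm

/-- étale stalk facts. -/
theorem etale_stalk_facts {U X : Scheme.{u}} (a : U ⟶ X) [Etale a] (u : U) :
    fibId a u = maximalIdeal (U.presheaf.stalk u) ∧
    (a.residueFieldMap u).hom.Finite ∧ insep a u = 1 := by
  letI := (a.stalkMap u).hom.toAlgebra
  haveI : IsLocalHom (algebraMap (X.presheaf.stalk (a u)) (U.presheaf.stalk u)) :=
    inferInstanceAs <| IsLocalHom (a.stalkMap u).hom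
  haveI : Algebra.EssFiniteType (X.presheaf.stalk (a u)) (U.presheaf.stalk u) := by
    rw [← RingHom.essFiniteType_algebraMap, RingHom.algebraMap_toAlgebra]
    exact LocallyOfFiniteType.stalkMap a u
  haveI : Algebra.FormallyUnramified (X.presheaf.stalk (a u)) (U.presheaf.stalk u) := by
    rw [← RingHom.formallyUnramified_algebraMap, RingHom.algebraMap_toAlgebra]
    exact FormallyUnramified.stalkMap a u
  refine ⟨?_, ?_, ?_⟩
  · exact Algebra.FormallyUnramified.map_maximalIdeal
  · have h : Module.Finite (ResidueField (X.presheaf.stalk (a u)))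
        (ResidueField (U.presheaf.stalk u)) := inferInstance
    have key : (algebraMap (ResidueField (X.presheaf.stalk (a u)))
        (ResidueField (U.presheaf.stalk u))).Finite := RingHom.finite_algebraMap.mpr h
    exact key
  · unfold insep
    letI : Algebra (X.residueField (a u)) (U.residueField u) :=
      (a.residueFieldMap u).hom.toAlgebra
    haveI : Algebra.IsSeparable (X.residueField (a u)) (U.residueField u) := inferInstance
    exact Algebra.IsSeparable.finInsepDegree_eq _ _

/-- étale invariance of `ell` and `insep` in a commutative square with étale horizontal maps. -/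
theorem ell_insep_eq_of_etale_square {X Y U V : Scheme.{u}} (f : X ⟶ Y) (π : U ⟶ V)
    (a : U ⟶ X) (b : V ⟶ Y) [Etale a] [Etale b] (comm : a ≫ f = π ≫ b) (u : U)
    (hf : (f.residueFieldMap (a u)).hom.Finite) :
    ell π u = ell f (a u) ∧ insep π u = insep f (a u) := by
  obtain ⟨ha1, ha2, ha3⟩ := etale_stalk_facts a u
  obtain ⟨hb1, hb2, hb3⟩ := etale_stalk_facts b (π u)
  constructor
  · rw [ell_eq, ell_eq]
    have h1 : fibId π u = Ideal.map (a.stalkMap u).hom (fibId f (a u)) := by
      rw [← fibId_comp, fibId_congr comm, fibId_comp, hb1]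
      rfl
    rw [h1]
    congr 1
    haveI : IsLocalHom (a.stalkMap u).hom := inferInstance
    exact length_quot_map_eq (a.stalkMap u).hom (Flat.stalkMap a u) ha1 _
  · have h1 := insep_comp a f u hf
    have h2 := insep_comp π b u hb2
    rw [insep_congr comm, h2, hb3, ha3, one_mul, mul_one] at h1
    exact h1

theorem wt_eq_of_etale_square {X Y U V : Scheme.{u}} (f : X ⟶ Y) (π : U ⟶ V)
    (a : U ⟶ X) (b : V ⟶ Y) [Etale a] [Etale b] (comm : a ≫ f = π ≫ b) (u : U)
    (hf : (f.residueFieldMap (a u)).hom.Finite) :
    wt π u = wt f (a u) := by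
  obtain ⟨h1, h2⟩ := ell_insep_eq_of_etale_square f π a b comm u hf
  unfold wt
  rw [h1, h2]

end Groth.Agent.H2.WtEtale
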