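import Mathlib
import Groth.Agent.H2.WtDef
import Groth.Agent.H2.WtAlg
import Groth.Agent.H2.WtEtale
import Groth.Agent.H7.SpecResidue

/-! # The affine core of S1421: Σ e·f = rank for `Spec.map φ` -/

set_option autoImplicit false
universe u
open AlgebraicGeometry CategoryTheory Limits IsLocalRing

namespace Groth.Agent.H2.WtSpec
open Groth.Agent.H2.WtDef Groth.Agent.H2.WtAlg Groth.Agent.H2.WtEtale

/-- a bijective ring hom of local rings maps the maximal ideal onto the maximal ideal -/
theorem map_maximalIdeal_of_bijective {A B : Type*} [CommRing A] [CommRing B] [IsLocalRing A]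
    [IsLocalRing B] (e : A →+* B) (he : Function.Bijective e) :
    Ideal.map e (maximalIdeal A) = maximalIdeal B :=
  IsLocalRing.eq_maximalIdeal (Ideal.IsMaximal.map_bijective e he inferInstance)

theorem isLocalHom_of_bijective {A B : Type*} [CommRing A] [CommRing B]
    (e : A →+* B) (he : Function.Bijective e) : IsLocalHom e := by
  have : IsLocalHom (RingEquiv.ofBijective e he) := inferInstance
  exact ⟨fun a ha => this.map_nonunit a ha⟩

theorem ell_SpecMap {R B : CommRingCat.{u}} (φ : R ⟶ B) (q : Spec B) :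
    letI := φ.hom.toAlgebra
    ell (Spec.map φ) q = (PrimeSpectrum.asIdeal q).ramificationIdx R := by
  letI := φ.hom.toAlgebra
  haveI hq : (PrimeSpectrum.asIdeal q).IsPrime := PrimeSpectrum.isPrime q
  rw [Ideal.ramificationIdx_def]
  change (Module.length ((Spec B).presheaf.stalk q)
    ((Spec B).presheaf.stalk q ⧸ fibId (Spec.map φ) q)).toNat = _
  congr 1
  let β : ↑((Spec B).presheaf.stalk q) →+* Localization.AtPrime q.asIdeal :=
    (Spec.stalkIso B q).hom.hom
  have hβ : Function.Bijective β := ConcreteCategory.bijective_of_isIso (Spec.stalkIso B q).hom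
  haveI : IsLocalHom β := isLocalHom_of_bijective β hβ
  have h1 := length_quot_map_eq β (RingHom.Flat.of_bijective hβ)
    (map_maximalIdeal_of_bijective β hβ) (fibId (Spec.map φ) q)
  rw [← h1]
  haveI hp' : (PrimeSpectrum.asIdeal ((Spec.map φ) q)).IsPrime := PrimeSpectrum.isPrime _
  let γ : ↑((Spec R).presheaf.stalk ((Spec.map φ) q)) →+*
      Localization.AtPrime (PrimeSpectrum.asIdeal ((Spec.map φ) q)) :=
    (Spec.stalkIso R ((Spec.map φ) q)).hom.hom
  have hγ : Function.Bijective γ :=
    ConcreteCategory.bijective_of_isIso (Spec.stalkIso R ((Spec.map φ) q)).hom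
  have hcomp : β.comp ((Spec.map φ).stalkMap q).hom =
      (Localization.localRingHom (PrimeSpectrum.asIdeal ((Spec.map φ) q)) (PrimeSpectrum.asIdeal q)
        φ.hom rfl).comp γ := by
    have h := Scheme.localRingHom_comp_stalkIso φ q
    have h' := ((Iso.comp_inv_eq _).mp ((Category.assoc _ _ _).trans h)).symm
    exact congrArg CommRingCat.Hom.hom h'
  have hI : Ideal.map β (fibId (Spec.map φ) q) =
      Ideal.map (algebraMap R (Localization.AtPrime q.asIdeal)) (q.asIdeal.under R) := by
    unfold fibId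
    rw [Ideal.map_map]
    rw [hcomp, ← Ideal.map_map, map_maximalIdeal_of_bijective γ hγ,
      ← Localization.AtPrime.map_eq_maximalIdeal, Ideal.map_map]
    have e2 : (Localization.localRingHom (PrimeSpectrum.asIdeal ((Spec.map φ) q))
          (PrimeSpectrum.asIdeal q)
          φ.hom rfl).comp (algebraMap R (Localization.AtPrime (PrimeSpectrum.asIdeal ((Spec.map φ) q))))
        = algebraMap R (Localization.AtPrime q.asIdeal) := by
      ext x
      rw [RingHom.comp_apply, IsScalarTower.algebraMap_apply R B (Localization.AtPrime q.asIdeal)]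
      exact Localization.localRingHom_to_map _ _ _ _ x
    rw [e2]
    rfl
  rw [hI]

theorem finrank_SpecMap {R B : CommRingCat.{u}} (φ : R ⟶ B) (q : Spec B) :
    letI := φ.hom.toAlgebra
    (letI := ((Spec.map φ).residueFieldMap q).hom.toAlgebra
     Module.finrank ((Spec R).residueField ((Spec.map φ) q)) ((Spec B).residueField q)) =
      (PrimeSpectrum.asIdeal q).inertiaDeg R := by
  letI := φ.hom.toAlgebra
  haveI hq : (PrimeSpectrum.asIdeal q).IsPrime := PrimeSpectrum.isPrime q
  letI alg1 := Localization.AtPrime.algebraOfLiesOver ((PrimeSpectrum.asIdeal q).under R)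
    (PrimeSpectrum.asIdeal q)
  rw [Ideal.inertiaDeg_def]
  letI := ((Spec.map φ).residueFieldMap q).hom.toAlgebra
  refine Algebra.finrank_eq_of_equiv_equiv
    (Scheme.Spec.residueFieldIso R ((Spec.map φ) q)).commRingCatIsoToRingEquiv
    (Scheme.Spec.residueFieldIso B q).commRingCatIsoToRingEquiv ?_
  have h := Groth.Agent.H7.Spec_residueFieldMap_eq φ q
  haveI hp' : (PrimeSpectrum.asIdeal ((Spec.map φ) q)).IsPrime := PrimeSpectrum.isPrime _
  have h' : (Spec.map φ).residueFieldMap q ≫ (Scheme.Spec.residueFieldIso B q).hom =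
      (Scheme.Spec.residueFieldIso R ((Spec.map φ) q)).hom ≫
        CommRingCat.ofHom (Ideal.ResidueField.map (PrimeSpectrum.asIdeal ((Spec.map φ) q))
          (PrimeSpectrum.asIdeal q) φ.hom rfl) :=
    (Iso.inv_comp_eq _).mp h
  have h'' := congrArg CommRingCat.Hom.hom h'
  ext x
  have h3 := DFunLike.congr_fun h'' x
  exact h3.symm

theorem term_SpecMap {R B : CommRingCat.{u}} (φ : R ⟶ B) (q : Spec B) :
    letI := φ.hom.toAlgebra
    wt (Spec.map φ) q * (sep (Spec.map φ) q : ℤ) =
      (((PrimeSpectrum.asIdeal q).ramificationIdx R * (PrimeSpectrum.asIdeal q).inertiaDeg R : ℕ) : ℤ) := by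
  letI := φ.hom.toAlgebra
  have h1 := ell_SpecMap φ q
  have h2 := finrank_SpecMap φ q
  have h3 : sep (Spec.map φ) q * insep (Spec.map φ) q =
      (letI := ((Spec.map φ).residueFieldMap q).hom.toAlgebra
       Module.finrank ((Spec R).residueField ((Spec.map φ) q)) ((Spec B).residueField q)) := by
    unfold sep insep
    letI := ((Spec.map φ).residueFieldMap q).hom.toAlgebra
    exact Field.finSepDegree_mul_finInsepDegree _ _
  unfold wt
  rw [h1, ← h2, ← h3]
  push_cast
  ring

theorem fibreIntegral_SpecMap {R B : CommRingCat.{u}} (φ : R ⟶ B) (hfin : φ.hom.Finite)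
    (hflat : φ.hom.Flat) (p : Spec R) :
    MoreMor.fibreIntegral (Spec.map φ) (wt (Spec.map φ)) p = (φ.hom.finrank p : ℤ) := by
  letI := φ.hom.toAlgebra
  haveI : Module.Finite R B := hfin
  haveI : Module.Flat R B := hflat
  haveI hp : (PrimeSpectrum.asIdeal p).IsPrime := PrimeSpectrum.isPrime p
  haveI : Fintype ((PrimeSpectrum.asIdeal p).primesOver B) :=
    (Algebra.QuasiFinite.finite_primesOver (PrimeSpectrum.asIdeal p)).fintype
  have hsum := Ideal.sum_ramification_inertia_eq_finrank_fiber (PrimeSpectrum.asIdeal p) B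
  rw [Ideal.finrank_fiber_eq_rankAtStalk] at hsum
  rw [fibreIntegral_def]
  let e : {q : Spec B // (Spec.map φ) q = p} → (PrimeSpectrum.asIdeal p).primesOver B :=
    fun q => ⟨PrimeSpectrum.asIdeal q.1, PrimeSpectrum.isPrime q.1, ⟨(congrArg PrimeSpectrum.asIdeal q.2.symm : _)⟩⟩
  have he : Function.Bijective e := by
    constructor
    · intro q q' h
      apply Subtype.ext
      exact PrimeSpectrum.ext (congrArg Subtype.val h)
    · rintro ⟨Q, hQ, hQo⟩
      refine ⟨⟨(⟨Q, hQ⟩ : PrimeSpectrum B), ?_⟩, rfl⟩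
      exact PrimeSpectrum.ext hQo.over.symm
  rw [finsum_eq_of_bijective e he
    (g := fun Q => (((Q.1.ramificationIdx R * Q.1.inertiaDeg R : ℕ)) : ℤ))
    (fun q => term_SpecMap φ q.1)]
  rw [finsum_eq_sum_of_fintype]
  have : (φ.hom.finrank p : ℤ) = ((Module.rankAtStalk (R := R) B ⟨PrimeSpectrum.asIdeal p, hp⟩ : ℕ) : ℤ) := rfl
  rw [this, ← hsum]
  push_cast
  rfl

end Groth.Agent.H2.WtSpec
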