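import Mathlib
import Groth.Agent.H2.WtDef
import Groth.Agent.H2.WtEtale
import Groth.Agent.H54.WtPos
import Groth.Agent.H2.WtSpec
import Groth.Agent.H7.GeomFibre

/-! # S1421 assembly: `length × insep degree` is a weighting for flat lqf lfp morphisms -/

set_option autoImplicit false
universe u
open AlgebraicGeometry CategoryTheory Limits

namespace Groth.Agent.H2.WtMain
open Groth.Agent.H2.WtDef Groth.Agent.H2.WtEtale Groth.Agent.H2.WtSpec

theorem fibreIntegral_wt_eq_finrank {U V : Scheme.{u}} (π : U ⟶ V) [IsFinite π] [Flat π] (v : V) :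
    MoreMor.fibreIntegral π (wt π) v = (π.finrank v : ℤ) := by
  obtain ⟨R, j, _, v', rfl⟩ := V.exists_Spec_apply_eq v
  haveI : IsAffine (pullback π j) := isAffine_of_isAffineHom (pullback.snd π j)
  obtain ⟨φ, hφ⟩ := Spec.map_surjective ((pullback π j).isoSpec.inv ≫ pullback.snd π j)
  have hc : IsPullback ((pullback π j).isoSpec.inv ≫ pullback.fst π j) (Spec.map φ) π j := by
    rw [hφ]
    exact IsPullback.of_iso (IsPullback.of_hasPullback π j) (pullback π j).isoSpec (Iso.refl _)
      (Iso.refl _) (Iso.refl _) (by simp) (by simp) (by simp) (by simp)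
  haveI : IsFinite (Spec.map φ) := MorphismProperty.of_isPullback (P := @IsFinite) hc inferInstance
  haveI : Flat (Spec.map φ) := MorphismProperty.of_isPullback (P := @Flat) hc inferInstance
  have hfin : φ.hom.Finite := (IsFinite.SpecMap_iff φ).mp inferInstance
  have hflat : φ.hom.Flat := Flat.SpecMap_iff.mp inferInstance
  have hfib : (π ⁻¹' {j v'}).Finite := π.finite_preimage_singleton _
  obtain ⟨-, hI⟩ := Groth.Agent.H7.fibreIntegral_baseChange π (Spec.map φ) _ j hc (wt π) v' hfib
  haveI : Etale ((pullback π j).isoSpec.inv ≫ pullback.fst π j) := inferInstance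
  have hw : wt π ∘ ⇑((pullback π j).isoSpec.inv ≫ pullback.fst π j) = wt (Spec.map φ) := by
    funext q
    exact (wt_eq_of_etale_square π (Spec.map φ) _ j hc.w q
      (Groth.Agent.H7.finite_residueFieldMap π _ (π.quasiFiniteAt _))).symm
  rw [← hI, hw, fibreIntegral_SpecMap φ hfin hflat v']
  congr 1
  rw [← Scheme.Hom.finrank_of_isPullback _ _ _ _ hc v',
    Scheme.Hom.finrank_SpecMap_eq_finrank hfin hflat]

theorem isWeighting_wt {X Y : Scheme.{u}} (f : X ⟶ Y) [LocallyQuasiFinite f] [Flat f]
    [LocallyOfFinitePresentation f] : MoreMor.IsWeighting f (wt f) := by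
  intro V g _ U hfin
  haveI : IsFinite (U.ι ≫ pullback.snd f g) := hfin
  haveI : Flat (U.ι ≫ pullback.snd f g) := inferInstance
  haveI : LocallyOfFinitePresentation (U.ι ≫ pullback.snd f g) := inferInstance
  haveI : Etale (U.ι ≫ pullback.fst f g) := inferInstance
  have hw : (fun u => wt f (pullback.fst f g (U.ι u))) = wt (U.ι ≫ pullback.snd f g) := by
    funext u
    exact (wt_eq_of_etale_square f (U.ι ≫ pullback.snd f g) (U.ι ≫ pullback.fst f g) g
      (by simp [pullback.condition]) u
      (Groth.Agent.H7.finite_residueFieldMap f _ (f.quasiFiniteAt _))).symm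
  rw [hw]
  have h2 : MoreMor.fibreIntegral (U.ι ≫ pullback.snd f g) (wt (U.ι ≫ pullback.snd f g)) =
      (fun n : ℕ => (n : ℤ)) ∘ (U.ι ≫ pullback.snd f g).finrank := by
    funext v
    exact fibreIntegral_wt_eq_finrank _ v
  rw [h2]
  exact (Scheme.Hom.isLocallyConstant_finrank _).comp _

theorem main {X Y : Scheme.{u}} (f : X ⟶ Y) [LocallyQuasiFinite f] [Flat f]
    [LocallyOfFinitePresentation f] :
    MoreMor.IsWeighting f (wt f) ∧ ∀ x, 0 < wt f x := by
  refine ⟨isWeighting_wt f, fun x => ?_⟩
  obtain ⟨h1, h2⟩ := Groth.Agent.H54.WtPos.wt_pos f x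
  have h1' : 0 < ell f x := h1
  have h2' : 0 < insep f x := h2
  unfold wt
  positivity

end Groth.Agent.H2.WtMain
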