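import Mathlib

/-! # (G1) for helper74 (S13086/S13084): closed points of a scheme locally of finite type over `ℤ`
have finite residue fields. -/

set_option autoImplicit false
universe u
open CategoryTheory AlgebraicGeometry

namespace Groth.Agent.H2.ZetaG1

theorem int_isJacobsonRing : IsJacobsonRing ℤ := by
  rw [isJacobsonRing_iff_prime_eq]
  intro P hP
  by_cases h0 : P = ⊥
  · subst h0
    refine le_antisymm ?_ Ideal.le_jacobson
    intro x hx
    rw [Ideal.mem_jacobson_bot] at hx
    have h := hx x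
    rw [Int.isUnit_iff] at h
    have hx0 : x = 0 := by
      rcases h with h | h
      · have : x * x = 0 := by linarith
        simpa using this
      · nlinarith [mul_self_nonneg x]
    simp [hx0]
  · haveI := hP.isMaximal h0
    exact Ideal.jacobson_eq_self_of_isMaximal

/-- a field which is a finitely generated `ℤ`-algebra is finite. -/
theorem finite_of_field_finiteType_int (K : Type*) [Field K] [Algebra.FiniteType ℤ K] :
    Finite K := by
  haveI := int_isJacobsonRing
  haveI hfin : Module.Finite ℤ K := finite_of_finite_type_of_isJacobsonRing ℤ K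
  haveI : Algebra.IsIntegral ℤ K := inferInstance
  obtain ⟨p, hp⟩ := CharP.exists K
  have hp0 : p ≠ 0 := by
    rintro rfl
    haveI : CharZero K := CharP.charP_to_charZero K
    have hinj : Function.Injective (algebraMap ℤ K) := by
      intro a b hab
      have h1 : ((a : ℤ) : K) = ((b : ℤ) : K) := by simpa using hab
      exact Int.cast_injective h1
    exact Int.not_isField (isField_of_isIntegral_of_isField hinj (Field.toIsField K))
  haveI : NeZero p := ⟨hp0⟩
  haveI : Fact p.Prime := ⟨(CharP.char_is_prime_or_zero K p).resolve_right hp0⟩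
  letI := ZMod.algebra K p
  haveI : Module.Finite (ZMod p) K := Module.Finite.of_restrictScalars_finite ℤ (ZMod p) K
  exact Module.finite_of_finite (ZMod p)

theorem finite_residueField_of_isClosed {X : Scheme.{u}}
    (f : X ⟶ Spec (CommRingCat.of (ULift.{u} ℤ))) [LocallyOfFiniteType f] (x : X)
    (hx : IsClosed ({x} : Set X)) : Finite (X.residueField x) := by
  obtain ⟨_, ⟨U, hU : IsAffineOpen U, rfl⟩, hxU, -⟩ :=
    X.isBasis_affineOpens.exists_subset_of_mem_open (Set.mem_univ x) isOpen_univ
  have h1 : RingHom.FiniteType (f.appLE ⊤ U le_top).hom :=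
    HasRingHomProperty.appLE (P := @LocallyOfFiniteType) (f := f) inferInstance
      ⟨⊤, isAffineOpen_top _⟩ ⟨U, hU⟩ le_top
  have h2 : RingHom.FiniteType (((Scheme.ΓSpecIso (CommRingCat.of (ULift.{u} ℤ))).inv ≫
      f.appLE ⊤ U le_top).hom.comp (ULift.ringEquiv (R := ℤ)).symm.toRingHom) := by
    rw [CommRingCat.hom_comp]
    refine RingHom.FiniteType.comp (RingHom.FiniteType.comp h1
      (RingHom.FiniteType.of_surjective _ ?_)) (RingHom.FiniteType.of_surjective _ ?_)
    · exact (ConcreteCategory.bijective_of_isIso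
        (Scheme.ΓSpecIso (CommRingCat.of (ULift.{u} ℤ))).inv).surjective
    · exact (ULift.ringEquiv (R := ℤ)).symm.surjective
  haveI hft : Algebra.FiniteType ℤ Γ(X, U) := by
    have : algebraMap ℤ Γ(X, U) = (((Scheme.ΓSpecIso (CommRingCat.of (ULift.{u} ℤ))).inv ≫
      f.appLE ⊤ U le_top).hom.comp (ULift.ringEquiv (R := ℤ)).symm.toRingHom) :=
      RingHom.ext_int _ _
    have h3 : (algebraMap ℤ Γ(X, U)).FiniteType := this ▸ h2
    exact RingHom.finiteType_algebraMap.mp h3
  have hcl2 : IsClosed ({hU.primeIdealOf ⟨x, hxU⟩} : Set (PrimeSpectrum Γ(X, U))) := by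
    have h0 : ({hU.primeIdealOf ⟨x, hxU⟩} : Set (PrimeSpectrum Γ(X, U))) =
        hU.fromSpec.base ⁻¹' {x} := by
      ext y
      simp only [Set.mem_singleton_iff, Set.mem_preimage]
      constructor
      · rintro rfl
        exact hU.fromSpec_primeIdealOf ⟨x, hxU⟩
      · intro hy
        apply hU.fromSpec.isOpenEmbedding.injective
        rw [hy]
        exact (hU.fromSpec_primeIdealOf ⟨x, hxU⟩).symm
    rw [h0]
    exact hx.preimage hU.fromSpec.continuous
  haveI hmax : (hU.primeIdealOf ⟨x, hxU⟩).asIdeal.IsMaximal :=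
    (PrimeSpectrum.isClosed_singleton_iff_isMaximal _).mp hcl2
  have hft2 : Algebra.FiniteType ℤ (Γ(X, U) ⧸ (hU.primeIdealOf ⟨x, hxU⟩).asIdeal) :=
    Algebra.FiniteType.of_surjective (Ideal.Quotient.mkₐ ℤ _) Ideal.Quotient.mk_surjective
  haveI hfinq : Finite (Γ(X, U) ⧸ (hU.primeIdealOf ⟨x, hxU⟩).asIdeal) :=
    @finite_of_field_finiteType_int _
      (Ideal.Quotient.field (hU.primeIdealOf ⟨x, hxU⟩).asIdeal) hft2
  have bij := Ideal.bijective_algebraMap_quotient_residueField (hU.primeIdealOf ⟨x, hxU⟩).asIdeal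
  haveI : Finite (hU.primeIdealOf ⟨x, hxU⟩).asIdeal.ResidueField :=
    Finite.of_surjective _ bij.surjective
  letI algx : Algebra Γ(X, U) (X.presheaf.stalk x) :=
    TopCat.Presheaf.algebra_section_stalk X.presheaf ⟨x, hxU⟩
  haveI hlx : IsLocalization.AtPrime (X.presheaf.stalk x) (hU.primeIdealOf ⟨x, hxU⟩).asIdeal :=
    hU.isLocalization_stalk ⟨x, hxU⟩
  let ψ : Localization.AtPrime (hU.primeIdealOf ⟨x, hxU⟩).asIdeal ≃ₐ[Γ(X, U)] X.presheaf.stalk x :=
    IsLocalization.algEquiv (hU.primeIdealOf ⟨x, hxU⟩).asIdeal.primeCompl _ _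
  let φ : (hU.primeIdealOf ⟨x, hxU⟩).asIdeal.ResidueField ≃+* X.residueField x :=
    IsLocalRing.ResidueField.mapEquiv ψ.toRingEquiv
  exact Finite.of_equiv _ φ.toEquiv

end Groth.Agent.H2.ZetaG1
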